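import Cfsg.Statements.S0496
import Cfsg.Agent.H58.Sieve2

set_option autoImplicit false
open Cfsg

namespace Cfsg.Agent.S0496

def certs : List H58.Cert := [
  .bur 2 0 2 0, .bur 2 1 2 0, .bur 3 1 2 0, .bur 2 2 2 0, .bur 5 1 2 0, .bur 2 1 3 1, 
  .bur 7 1 2 0, .bur 2 3 2 0, .bur 3 2 2 0, .bur 2 1 5 1, .bur 11 1 2 0, .bur 2 2 3 1, 
  .bur 13 1 2 0, .bur 2 1 7 1, .bur 3 1 5 1, .bur 2 4 2 0, .bur 17 1 2 0, .bur 2 1 3 2, 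
  .bur 19 1 2 0, .bur 2 2 5 1, .bur 3 1 7 1, .bur 2 1 11 1, .bur 23 1 2 0, .bur 2 3 3 1, 
  .bur 5 2 2 0, .bur 2 1 13 1, .bur 3 3 2 0, .bur 2 2 7 1, .bur 29 1 2 0, .br 3 [], 
  .bur 31 1 2 0, .bur 2 5 2 0, .bur 3 1 11 1, .bur 2 1 17 1, .bur 5 1 7 1, .bur 2 2 3 2, 
  .bur 37 1 2 0, .bur 2 1 19 1, .bur 3 1 13 1, .bur 2 3 5 1, .bur 41 1 2 0, .br 7 [], 
  .bur 43 1 2 0, .bur 2 2 11 1, .bur 3 2 5 1, .bur 2 1 23 1, .bur 47 1 2 0, .bur 2 4 3 1, 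
  .bur 7 2 2 0, .bur 2 1 5 2, .bur 3 1 17 1, .bur 2 2 13 1, .bur 53 1 2 0, .bur 2 1 3 3, 
  .bur 5 1 11 1, .bur 2 3 7 1, .bur 3 1 19 1, .bur 2 1 29 1, .bur 59 1 2 0, .exc, .bur 61 1 2 0, 
  .bur 2 1 31 1, .bur 3 2 7 1, .bur 2 6 2 0, .bur 5 1 13 1, .br 11 [], .bur 67 1 2 0, 
  .bur 2 2 17 1, .bur 3 1 23 1, .br 7 [], .bur 71 1 2 0, .bur 2 3 3 2, .bur 73 1 2 0, 
  .bur 2 1 37 1, .bur 3 1 5 2, .bur 2 2 19 1, .bur 7 1 11 1, .br 13 [], .bur 79 1 2 0, 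
  .bur 2 4 5 1, .bur 3 4 2 0, .bur 2 1 41 1, .bur 83 1 2 0, .br 7 [], .bur 5 1 17 1, 
  .bur 2 1 43 1, .bur 3 1 29 1, .bur 2 3 11 1, .bur 89 1 2 0, .br 5 [], .bur 7 1 13 1, 
  .bur 2 2 23 1, .bur 3 1 31 1, .bur 2 1 47 1, .bur 5 1 19 1, .bur 2 5 3 1, .bur 97 1 2 0, 
  .bur 2 1 7 2, .bur 3 2 11 1, .bur 2 2 5 2, .bur 101 1 2 0, .br 17 [], .bur 103 1 2 0, 
  .bur 2 3 13 1, .br 5 [], .bur 2 1 53 1, .bur 107 1 2 0, .bur 2 2 3 3, .bur 109 1 2 0, 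
  .br 11 [], .bur 3 1 37 1, .bur 2 4 7 1, .bur 113 1 2 0, .br 19 [], .bur 5 1 23 1, 
  .bur 2 2 29 1, .bur 3 2 13 1, .bur 2 1 59 1, .bur 7 1 17 1, .syl 2 3, .bur 11 2 2 0, 
  .bur 2 1 61 1, .bur 3 1 41 1, .bur 2 2 31 1, .bur 5 3 2 0, .br 7 [], .bur 127 1 2 0, 
  .bur 2 7 2 0, .bur 3 1 43 1, .br 13 [], .bur 131 1 2 0, .br 11 [], .bur 7 1 19 1, 
  .bur 2 1 67 1, .bur 3 3 5 1, .bur 2 3 17 1, .bur 137 1 2 0, .br 23 [], .bur 139 1 2 0, 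
  .br 7 [], .bur 3 1 47 1, .bur 2 1 71 1, .bur 11 1 13 1, .bur 2 4 3 2, .bur 5 1 29 1, 
  .bur 2 1 73 1, .bur 3 1 7 2, .bur 2 2 37 1, .bur 149 1 2 0, .syl 5 2, .bur 151 1 2 0, 
  .bur 2 3 19 1, .bur 3 2 17 1, .br 11 [], .bur 5 1 31 1, .br 13 [], .bur 157 1 2 0, 
  .bur 2 1 79 1, .bur 3 1 53 1, .bur 2 5 5 1, .bur 7 1 23 1, .bur 2 1 3 4, .bur 163 1 2 0, 
  .bur 2 2 41 1, .br 11 [], .bur 2 1 83 1, .bur 167 1 2 0, .exc, .bur 13 2 2 0, .br 17 [], 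
  .bur 3 2 19 1, .bur 2 2 43 1, .bur 173 1 2 0, .br 29 [], .bur 5 2 7 1, .bur 2 4 11 1, 
  .bur 3 1 59 1, .bur 2 1 89 1, .bur 179 1 2 0, .br 5 [], .bur 181 1 2 0, .br 7 [], 
  .bur 3 1 61 1, .bur 2 3 23 1, .bur 5 1 37 1, .br 31 [], .bur 11 1 17 1, .bur 2 2 47 1, 
  .bur 3 3 7 1, .br 19 [], .bur 191 1 2 0, .bur 2 6 3 1, .bur 193 1 2 0, .bur 2 1 97 1, 
  .br 13 [], .bur 2 2 7 2, .bur 197 1 2 0, .br 11 [], .bur 199 1 2 0, .bur 2 3 5 2, 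
  .bur 3 1 67 1, .bur 2 1 101 1, .bur 7 1 29 1, .br 17 [], .bur 5 1 41 1, .bur 2 1 103 1, 
  .bur 3 2 23 1, .bur 2 4 13 1, .bur 11 1 19 1, .br 2 [], .bur 211 1 2 0, .bur 2 2 53 1, 
  .bur 3 1 71 1, .bur 2 1 107 1, .bur 5 1 43 1, .bur 2 3 3 3, .bur 7 1 31 1, .bur 2 1 109 1, 
  .bur 3 1 73 1, .br 11 [], .bur 13 1 17 1, .br 37 [], .bur 223 1 2 0, .bur 2 5 7 1, 
  .bur 3 2 5 2, .bur 2 1 113 1, .bur 227 1 2 0, .br 19 [], .bur 229 1 2 0, .br 23 [], .br 11 [], 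
  .bur 2 3 29 1, .bur 233 1 2 0, .br 13 [], .bur 5 1 47 1, .bur 2 2 59 1, .bur 3 1 79 1, 
  .br 17 [], .bur 239 1 2 0, .syl 2 4, .bur 241 1 2 0, .bur 2 1 11 2, .bur 3 5 2 0, 
  .bur 2 2 61 1, .bur 5 1 7 2, .br 41 [], .bur 13 1 19 1, .bur 2 3 31 1, .bur 3 1 83 1, 
  .bur 2 1 5 3, .bur 251 1 2 0, .br 7 [], .bur 11 1 23 1, .bur 2 1 127 1, .br 17 [], 
  .bur 2 8 2 0, .bur 257 1 2 0, .br 43 [], .bur 7 1 37 1, .br 13 [], .bur 3 2 29 1, 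
  .bur 2 1 131 1, .bur 263 1 2 0, .br 11 [], .bur 5 1 53 1, .br 19 [], .bur 3 1 89 1, 
  .bur 2 2 67 1, .bur 269 1 2 0, .syl 5 1, .bur 271 1 2 0, .bur 2 4 17 1, .br 13 [], 
  .bur 2 1 137 1, .bur 5 2 11 1, .br 23 [], .bur 277 1 2 0, .bur 2 1 139 1, .bur 3 2 31 1, 
  .br 7 [], .bur 281 1 2 0, .br 47 [], .bur 283 1 2 0, .bur 2 2 71 1, .br 19 [], .br 13 [], 
  .bur 7 1 41 1, .bur 2 5 3 2, .bur 17 2 2 0, .br 29 [], .bur 3 1 97 1, .bur 2 2 73 1, 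
  .bur 293 1 2 0, .syl 7 2, .bur 5 1 59 1, .bur 2 3 37 1, .bur 3 3 11 1, .bur 2 1 149 1, 
  .bur 13 1 23 1, .syl 5 2, .bur 7 1 43 1, .bur 2 1 151 1, .bur 3 1 101 1, .bur 2 4 19 1, 
  .bur 5 1 61 1, .br 17 [], .bur 307 1 2 0, .br 11 [], .bur 3 1 103 1, .br 31 [], .bur 311 1 2 0, 
  .br 13 [], .bur 313 1 2 0, .bur 2 1 157 1, .br 5 [], .bur 2 2 79 1, .bur 317 1 2 0, .br 53 [], 
  .bur 11 1 29 1, .bur 2 6 5 1, .bur 3 1 107 1, .br 23 [], .bur 17 1 19 1, .bur 2 2 3 4, 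
  .bur 5 2 13 1, .bur 2 1 163 1, .bur 3 1 109 1, .bur 2 3 41 1, .bur 7 1 47 1, .br 11 [], 
  .bur 331 1 2 0, .bur 2 2 83 1, .bur 3 2 37 1, .bur 2 1 167 1, .bur 5 1 67 1, .br 7 [], 
  .bur 337 1 2 0, .bur 2 1 13 2, .bur 3 1 113 1, .br 17 [], .bur 11 1 31 1, .br 19 [], 
  .bur 7 3 2 0, .bur 2 3 43 1, .br 23 [], .bur 2 1 173 1, .bur 347 1 2 0, .br 29 [], 
  .bur 349 1 2 0, .syl 5 2, .bur 3 3 13 1, .bur 2 5 11 1, .bur 353 1 2 0, .br 59 [], 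
  .bur 5 1 71 1, .bur 2 2 89 1, .br 17 [], .bur 2 1 179 1, .bur 359 1 2 0, .exc, .bur 19 2 2 0, 
  .bur 2 1 181 1, .bur 3 1 11 2, .br 7 [], .bur 5 1 73 1, .br 61 [], .bur 367 1 2 0, 
  .bur 2 4 23 1, .bur 3 2 41 1, .br 37 [], .bur 7 1 53 1, .br 31 [], .bur 373 1 2 0, .br 17 [], 
  .bur 3 1 5 3, .bur 2 3 47 1, .bur 13 1 29 1, .syl 3 3, .bur 379 1 2 0, .br 19 [], 
  .bur 3 1 127 1, .bur 2 1 191 1, .bur 383 1 2 0, .bur 2 7 3 1, .br 11 [], .bur 2 1 193 1, 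
  .bur 3 2 43 1, .bur 2 2 97 1, .bur 389 1 2 0, .br 13 [], .bur 17 1 23 1, .bur 2 3 7 2, 
  .bur 3 1 131 1, .bur 2 1 197 1, .bur 5 1 79 1, .br 11 [], .bur 397 1 2 0, .bur 2 1 199 1, 
  .br 19 [], .bur 2 4 5 2, .bur 401 1 2 0, .br 67 [], .bur 13 1 31 1, .bur 2 2 101 1, 
  .bur 3 4 5 1, .br 29 [], .bur 11 1 37 1, .br 17 [], .bur 409 1 2 0, .br 41 [], .bur 3 1 137 1, 
  .bur 2 2 103 1, .bur 7 1 59 1, .br 23 [], .bur 5 1 83 1, .bur 2 5 13 1, .bur 3 1 139 1, 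
  .br 19 [], .bur 419 1 2 0, .br 7 [], .bur 421 1 2 0, .bur 2 1 211 1, .bur 3 2 47 1, 
  .bur 2 3 53 1, .bur 5 2 17 1, .br 71 [], .bur 7 1 61 1, .bur 2 2 107 1, .br 13 [], .br 43 [], 
  .bur 431 1 2 0, .bur 2 4 3 3, .bur 433 1 2 0, .br 31 [], .br 29 [], .bur 2 2 109 1, 
  .bur 19 1 23 1, .br 73 [], .bur 439 1 2 0, .br 11 [], .bur 3 2 7 2, .br 17 [], .bur 443 1 2 0, 
  .br 37 [], .bur 5 1 89 1, .bur 2 1 223 1, .bur 3 1 149 1, .bur 2 6 7 1, .bur 449 1 2 0, 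
  .syl 5 2, .bur 11 1 41 1, .bur 2 2 113 1, .bur 3 1 151 1, .bur 2 1 227 1, .br 13 [], .br 19 [], 
  .bur 457 1 2 0, .bur 2 1 229 1, .bur 3 3 17 1, .br 23 [], .bur 461 1 2 0, .br 11 [], 
  .bur 463 1 2 0, .bur 2 4 29 1, .br 31 [], .bur 2 1 233 1, .bur 467 1 2 0, .br 13 [], 
  .bur 7 1 67 1, .br 47 [], .bur 3 1 157 1, .bur 2 3 59 1, .bur 11 1 43 1, .br 79 [], 
  .bur 5 2 19 1, .br 17 [], .bur 3 2 53 1, .bur 2 1 239 1, .bur 479 1 2 0, .syl 2 5, 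
  .bur 13 1 37 1, .bur 2 1 241 1, .br 23 [], .bur 2 2 11 2, .bur 5 1 97 1, .bur 2 1 3 5, 
  .bur 487 1 2 0, .bur 2 3 61 1, .bur 3 1 163 1, .syl 7 2, .bur 491 1 2 0, .br 41 [], 
  .bur 17 1 29 1, .br 19 [], .br 11 [], .bur 2 4 31 1, .bur 7 1 71 1, .br 83 [], .bur 499 1 2 0, 
  .bur 2 2 5 3, .bur 3 1 167 1, .bur 2 1 251 1, .bur 503 1 2 0, .exc, .bur 5 1 101 1, .br 23 [], 
  .bur 3 1 13 2, .bur 2 2 127 1, .bur 509 1 2 0, .br 17 [], .bur 7 1 73 1, .bur 2 9 2 0, 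
  .bur 3 3 19 1, .bur 2 1 257 1, .bur 5 1 103 1, .br 43 [], .bur 11 1 47 1, .br 37 [], 
  .bur 3 1 173 1, .br 13 [], .bur 521 1 2 0, .br 29 [], .bur 523 1 2 0, .bur 2 2 131 1, .br 7 [], 
  .bur 2 1 263 1, .bur 17 1 31 1, .br 11 [], .bur 23 2 2 0, .br 53 [], .bur 3 2 59 1, .br 19 [], 
  .bur 13 1 41 1, .br 89 [], .bur 5 1 107 1, .bur 2 3 67 1, .bur 3 1 179 1, .bur 2 1 269 1, 
  .bur 7 2 11 1, .br 5 [], .bur 541 1 2 0, .bur 2 1 271 1, .bur 3 1 181 1, .bur 2 5 17 1, 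
  .bur 5 1 109 1, .br 7 [], .bur 547 1 2 0, .bur 2 2 137 1, .bur 3 2 61 1, .br 11 [], 
  .bur 19 1 29 1, .br 23 [], .bur 7 1 79 1, .bur 2 1 277 1, .br 37 [], .bur 2 2 139 1, 
  .bur 557 1 2 0, .br 31 [], .bur 13 1 43 1, .br 7 [], .br 17 [], .bur 2 1 281 1, .bur 563 1 2 0, 
  .br 47 [], .bur 5 1 113 1, .bur 2 1 283 1, .bur 3 4 7 1, .bur 2 3 71 1, .bur 569 1 2 0, 
  .br 19 [], .bur 571 1 2 0, .br 13 [], .bur 3 1 191 1, .br 41 [], .bur 5 2 23 1, .bur 2 6 3 2, 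
  .bur 577 1 2 0, .bur 2 1 17 2, .bur 3 1 193 1, .br 29 [], .bur 7 1 83 1, .br 97 [], 
  .bur 11 1 53 1, .bur 2 3 73 1, .br 13 [], .bur 2 1 293 1, .bur 587 1 2 0, .syl 7 2, 
  .bur 19 1 31 1, .br 59 [], .bur 3 1 197 1, .bur 2 4 37 1, .bur 593 1 2 0, .br 11 [], .br 17 [], 
  .bur 2 2 149 1, .bur 3 1 199 1, .br 23 [], .bur 599 1 2 0, .syl 5 2, .bur 601 1 2 0, .br 43 [], 
  .bur 3 2 67 1, .bur 2 2 151 1, .bur 5 1 11 2, .br 101 [], .bur 607 1 2 0, .bur 2 5 19 1, 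
  .br 29 [], .br 61 [], .bur 13 1 47 1, .br 17 [], .bur 613 1 2 0, .bur 2 1 307 1, .br 41 [], 
  .br 11 [], .bur 617 1 2 0, .br 103 [], .bur 619 1 2 0, .br 31 [], .bur 3 3 23 1, 
  .bur 2 1 311 1, .bur 7 1 89 1, .br 13 [], .bur 5 4 2 0, .bur 2 1 313 1, .br 19 [], 
  .bur 2 2 157 1, .bur 17 1 37 1, .br 5 [], .bur 631 1 2 0, .bur 2 3 79 1, .bur 3 1 211 1, 
  .bur 2 1 317 1, .bur 5 1 127 1, .br 53 [], .bur 7 2 13 1, .br 29 [], .bur 3 2 71 1, 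
  .bur 2 7 5 1, .bur 641 1 2 0, .br 107 [], .bur 643 1 2 0, .br 23 [], .br 43 [], .br 19 [], 
  .bur 647 1 2 0, .bur 2 3 3 4, .bur 11 1 59 1, .br 13 [], .br 31 [], .bur 2 2 163 1, 
  .bur 653 1 2 0, .br 109 [], .bur 5 1 131 1, .bur 2 4 41 1, .bur 3 2 73 1, .br 47 [], 
  .bur 659 1 2 0, .exc, .bur 661 1 2 0, .bur 2 1 331 1, .br 17 [], .bur 2 3 83 1, .br 19 [], 
  .br 37 [], .bur 23 1 29 1, .bur 2 2 167 1, .bur 3 1 223 1, .br 67 [], .bur 11 1 61 1, .br 7 [], 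
  .bur 673 1 2 0, .bur 2 1 337 1, .bur 3 3 5 2, .bur 2 2 13 2, .bur 677 1 2 0, .br 113 [], 
  .bur 7 1 97 1, .br 17 [], .bur 3 1 227 1, .br 31 [], .bur 683 1 2 0, .br 19 [], .bur 5 1 137 1, 
  .bur 2 1 7 3, .bur 3 1 229 1, .bur 2 4 43 1, .bur 13 1 53 1, .br 23 [], .bur 691 1 2 0, 
  .bur 2 2 173 1, .br 11 [], .bur 2 1 347 1, .bur 5 1 139 1, .br 29 [], .bur 17 1 41 1, 
  .bur 2 1 349 1, .bur 3 1 233 1, .syl 5 2, .bur 701 1 2 0, .syl 3 3, .bur 19 1 37 1, 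
  .bur 2 6 11 1, .br 47 [], .bur 2 1 353 1, .bur 7 1 101 1, .br 59 [], .bur 709 1 2 0, .br 71 [], 
  .bur 3 2 79 1, .bur 2 3 89 1, .bur 23 1 31 1, .br 17 [], .br 13 [], .bur 2 2 179 1, 
  .bur 3 1 239 1, .bur 2 1 359 1, .bur 719 1 2 0, .br 5 [(2, 4), (3, 2)], .bur 7 1 103 1, 
  .bur 2 1 19 2, .bur 3 1 241 1, .bur 2 2 181 1, .bur 5 2 29 1, .syl 11 2, .bur 727 1 2 0, 
  .syl 7 1, .bur 3 6 2 0, .br 73 [], .bur 17 1 43 1, .br 61 [], .bur 733 1 2 0, .bur 2 1 367 1, 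
  .syl 7 2, .bur 2 5 23 1, .bur 11 1 67 1, .br 41 [], .bur 739 1 2 0, .br 37 [], .br 13 [], 
  .br 53 [], .bur 743 1 2 0, .br 31 [], .bur 5 1 149 1, .bur 2 1 373 1, .bur 3 2 83 1, .br 17 [], 
  .bur 7 1 107 1, .syl 5 3, .bur 751 1 2 0, .bur 2 4 47 1, .bur 3 1 251 1, .br 29 [], 
  .bur 5 1 151 1, .br 7 [], .bur 757 1 2 0, .bur 2 1 379 1, .br 23 [], .br 19 [], .bur 761 1 2 0, 
  .br 127 [], .bur 7 1 109 1, .bur 2 2 191 1, .br 17 [], .bur 2 1 383 1, .bur 13 1 59 1, 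
  .bur 2 8 3 1, .bur 769 1 2 0, .br 11 [], .bur 3 1 257 1, .bur 2 2 193 1, .bur 773 1 2 0, 
  .br 43 [], .bur 5 2 31 1, .bur 2 3 97 1, .br 37 [], .bur 2 1 389 1, .bur 19 1 41 1, .br 13 [], 
  .bur 11 1 71 1, .br 23 [], .bur 3 3 29 1, .bur 2 4 7 2, .bur 5 1 157 1, .br 131 [], 
  .bur 787 1 2 0, .bur 2 2 197 1, .bur 3 1 263 1, .br 79 [], .bur 7 1 113 1, .br 11 [], 
  .bur 13 1 61 1, .bur 2 1 397 1, .br 53 [], .bur 2 2 199 1, .bur 797 1 2 0, .br 19 [], 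
  .bur 17 1 47 1, .bur 2 5 5 2, .bur 3 2 89 1, .bur 2 1 401 1, .bur 11 1 73 1, .br 67 [], 
  .br 23 [], .br 31 [], .bur 3 1 269 1, .bur 2 3 101 1, .bur 809 1 2 0, .br 5 [], .bur 811 1 2 0, 
  .br 29 [], .bur 3 1 271 1, .br 37 [], .bur 5 1 163 1, .br 17 [], .bur 19 1 43 1, 
  .bur 2 1 409 1, .br 13 [], .br 41 [], .bur 821 1 2 0, .br 137 [], .bur 823 1 2 0, 
  .bur 2 3 103 1, .br 11 [], .br 59 [], .bur 827 1 2 0, .br 23 [], .bur 829 1 2 0, .br 83 [], 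
  .bur 3 1 277 1, .bur 2 6 13 1, .bur 7 2 17 1, .br 139 [], .bur 5 1 167 1, .br 19 [], 
  .bur 3 3 31 1, .bur 2 1 419 1, .bur 839 1 2 0, .br 7 [], .bur 29 2 2 0, .bur 2 1 421 1, 
  .bur 3 1 281 1, .bur 2 2 211 1, .bur 5 1 13 2, .br 47 [], .bur 7 1 11 2, .bur 2 4 53 1, 
  .bur 3 1 283 1, .br 17 [], .bur 23 1 37 1, .br 71 [], .bur 853 1 2 0, .br 61 [], .br 19 [], 
  .bur 2 3 107 1, .bur 857 1 2 0, .br 11 [], .bur 859 1 2 0, .br 43 [], .br 41 [], 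
  .bur 2 1 431 1, .bur 863 1 2 0, .bur 2 5 3 3, .bur 5 1 173 1, .bur 2 1 433 1, .bur 3 1 17 2, 
  .br 31 [], .bur 11 1 79 1, .br 29 [], .bur 13 1 67 1, .bur 2 3 109 1, .bur 3 2 97 1, .br 23 [], 
  .bur 5 3 7 1, .br 73 [], .bur 877 1 2 0, .bur 2 1 439 1, .bur 3 1 293 1, .br 11 [], 
  .bur 881 1 2 0, .syl 7 2, .bur 883 1 2 0, .br 13 [], .br 59 [], .bur 2 1 443 1, .bur 887 1 2 0, 
  .br 37 [], .bur 7 1 127 1, .br 89 [], .bur 3 4 11 1, .bur 2 2 223 1, .bur 19 1 47 1, 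
  .br 149 [], .bur 5 1 179 1, .bur 2 7 7 1, .br 23 [], .bur 2 1 449 1, .bur 29 1 31 1, .syl 5 2, 
  .bur 17 1 53 1, .br 41 [], .br 43 [], .bur 2 3 113 1, .bur 5 1 181 1, .br 151 [], 
  .bur 907 1 2 0, .bur 2 2 227 1, .bur 3 2 101 1, .br 13 [], .bur 911 1 2 0, .br 19 [], 
  .bur 11 1 83 1, .bur 2 1 457 1, .br 61 [], .bur 2 2 229 1, .bur 7 1 131 1, .br 17 [], 
  .bur 919 1 2 0, .br 23 [], .bur 3 1 307 1, .bur 2 1 461 1, .bur 13 1 71 1, .br 11 [], 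
  .bur 5 2 37 1, .bur 2 1 463 1, .bur 3 2 103 1, .bur 2 5 29 1, .bur 929 1 2 0, .br 31 [], 
  .bur 7 2 19 1, .bur 2 2 233 1, .bur 3 1 311 1, .bur 2 1 467 1, .br 17 [], .br 13 [], 
  .bur 937 1 2 0, .br 67 [], .bur 3 1 313 1, .br 47 [], .bur 941 1 2 0, .br 157 [], 
  .bur 23 1 41 1, .bur 2 4 59 1, .syl 3 3, .br 43 [], .bur 947 1 2 0, .br 79 [], .bur 13 1 73 1, 
  .br 19 [], .bur 3 1 317 1, .br 17 [], .bur 953 1 2 0, .br 53 [], .bur 5 1 191 1, 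
  .bur 2 2 239 1, .br 29 [], .bur 2 1 479 1, .bur 7 1 137 1, .syl 2 6, .bur 31 2 2 0, .br 37 [], 
  .bur 3 2 107 1, .bur 2 2 241 1, .bur 5 1 193 1, .br 23 [], .bur 967 1 2 0, .bur 2 3 11 2, 
  .br 19 [], .br 97 [], .bur 971 1 2 0, .bur 2 2 3 5, .bur 7 1 139 1, .bur 2 1 487 1, .br 13 [], 
  .bur 2 4 61 1, .bur 977 1 2 0, .br 163 [], .bur 11 1 89 1, .syl 7 2, .bur 3 2 109 1, 
  .bur 2 1 491 1, .bur 983 1 2 0, .br 41 [], .bur 5 1 197 1, .br 29 [], .br 47 [], .br 19 [], 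
  .bur 23 1 43 1, .br 5 [], .bur 991 1 2 0, .bur 2 5 31 1, .bur 3 1 331 1, .br 71 [], 
  .bur 5 1 199 1, .br 83 [], .bur 997 1 2 0, .bur 2 1 499 1, .bur 3 3 37 1, .bur 2 3 5 3, 
  .br 13 [], .br 167 [], .bur 17 1 59 1, .bur 2 2 251 1, .br 67 [], .bur 2 1 503 1, 
  .bur 19 1 53 1, .br 7 [], .bur 1009 1 2 0, .br 101 [], .bur 3 1 337 1, .br 23 [], 
  .bur 1013 1 2 0, .syl 13 2, .br 29 [], .bur 2 3 127 1, .bur 3 2 113 1, .bur 2 1 509 1, 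
  .bur 1019 1 2 0, .br 17 [], .bur 1021 1 2 0, .br 73 [], .br 31 [], .bur 2 10 2 0, 
  .bur 5 2 41 1, .br 19 [], .bur 13 1 79 1, .bur 2 2 257 1, .bur 3 1 7 3, .br 103 [], 
  .bur 1031 1 2 0, .br 43 [], .bur 1033 1 2 0, .br 47 [], .br 23 [], .br 37 [], .bur 17 1 61 1, 
  .br 173 [], .bur 1039 1 2 0, .br 13 [], .bur 3 1 347 1, .bur 2 1 521 1, .bur 7 1 149 1, 
  .br 29 [], .br 19 [], .bur 2 1 523 1, .bur 3 1 349 1, .bur 2 3 131 1, .bur 1049 1 2 0, 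
  .syl 5 2, .bur 1051 1 2 0, .bur 2 2 263 1, .bur 3 4 13 1, .br 31 [], .bur 5 1 211 1, .br 11 [], 
  .bur 7 1 151 1, .bur 2 1 23 2, .bur 3 1 353 1, .br 53 [], .bur 1061 1 2 0, .br 59 [], 
  .bur 1063 1 2 0, .br 19 [], .br 71 [], .br 41 [], .bur 11 1 97 1, .br 89 [], .bur 1069 1 2 0, 
  .br 107 [], .br 17 [], .bur 2 4 67 1, .bur 29 1 37 1, .br 179 [], .bur 5 2 43 1, 
  .bur 2 2 269 1, .bur 3 1 359 1, .br 11 [], .bur 13 1 83 1, .br 5 [], .bur 23 1 47 1, 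
  .bur 2 1 541 1, .bur 3 1 19 2, .bur 2 2 271 1, .br 31 [], .br 181 [], .bur 1087 1 2 0, 
  .bur 2 6 17 1, .bur 3 2 11 2, .br 109 [], .bur 1091 1 2 0, .exc
  ]

theorem certs_ok : H58.checkL [60, 168, 360, 504, 660, 1092] 33 1 certs = true := by
  decide +kernel

theorem certs_length : certs.length = 1092 := by decide +kernel

/-- A non-abelian finite simple group of order at most 1092 has order 60, 168, 360, 504, 660 or 1092. -/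
theorem result {G : Type*} [Group G] [Finite G] [IsSimpleGroup G]
    (hG : ¬ IsMulCommutative G) (h : Nat.card G ≤ 1092) :
    Nat.card G = 60 ∨ Nat.card G = 168 ∨ Nat.card G = 360 ∨ Nat.card G = 504 ∨ Nat.card G = 660 ∨
      Nat.card G = 1092 := by
  simpa using H58.checkL_sound hG certs 1 certs_ok Nat.card_pos (by rw [certs_length]; omega)

end Cfsg.Agent.S0496
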