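import Cfsg.Statements.S3861
import Cfsg.Agent.H9.BaerSuzuki
import Cfsg.Agent.H3.Cores
import Cfsg.Agent.H94.Lift

set_option autoImplicit false
open Cfsg

namespace Cfsg.Agent.S3861

/-- A finite group G has no non-identity element of odd order that is conjugate to its inverse if and only if the Sylow 2-subgroups of G are normal. -/
theorem result {G : Type*} [Group G] [Finite G] (P : Sylow 2 G) : (∀ x : G, x ≠ 1 → Odd (orderOf x) → ¬ IsConj x x⁻¹) ↔ (P : Subgroup G).Normal := by
  have h2 : Fact (Nat.Prime 2) := ⟨Nat.prime_two⟩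
  constructor
  · intro h
    have hO : ¬ 2 ∣ Nat.card (G ⧸ pCore 2 G) := by
      intro hd
      obtain ⟨t, ht⟩ := exists_prime_orderOf_dvd_card' 2 hd
      obtain ⟨a, ha1, ha, hta⟩ := H9.exists_odd_inverted_of_not_mem_pCore (t := t)
        (by have := pow_orderOf_eq_one t; rwa [ht, pow_two] at this)
        (by
          rw [H3.pCore_quotient_pCore, Subgroup.mem_bot]
          rintro rfl
          simp at ht)
      obtain ⟨a, rfl, ha'⟩ := H94.exists_lift_coprime (QuotientGroup.mk'_surjective (pCore 2 G)) a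
        (n := 2) (Nat.coprime_two_right.2 ha)
      obtain ⟨t, rfl⟩ := QuotientGroup.mk'_surjective _ t
      obtain ⟨k, hk⟩ := H3.exists_card_pCore (p := 2) (G := G)
      have hc : (orderOf a).Coprime (Nat.card (pCore 2 G)) := hk ▸ ha'.pow_right k
      obtain ⟨n, -, hn⟩ := H94.exists_conj_eq_of_coprime (N := pCore 2 G) (x := t * a * t⁻¹) (y := a⁻¹)
        (by rwa [← MulAut.conj_apply, MulEquiv.orderOf_eq]) (by rwa [orderOf_inv]) hta
      refine h a (fun h => ha1 (by rw [h, map_one])) (Nat.coprime_two_right.1 ha') ?_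
      exact isConj_iff.2 ⟨n * t, by rw [← hn]; group⟩
    have h1 : pCore 2 G = P := by
      refine le_antisymm (H3.pCore_le_sylow P) ?_
      rw [← Subgroup.relIndex_eq_one]
      obtain ⟨k, hk⟩ := P.isPGroup'.index ((pCore 2 G).subgroupOf P)
      have h3 : (pCore 2 G).relIndex P ∣ Nat.card (G ⧸ pCore 2 G) :=
        Subgroup.relIndex_dvd_index_of_normal _ _
      change (pCore 2 G).relIndex P = _ at hk
      rw [hk] at h3 ⊢
      rcases k with _ | k
      · rfl
      · exact absurd ((dvd_pow_self 2 (Nat.succ_ne_zero k)).trans h3) hO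
    rw [← h1]
    infer_instance
  · intro hP x hx1 hx hc
    obtain ⟨g, hg⟩ := isConj_iff.1 hc
    have hodd : Odd (orderOf (g : G ⧸ (P : Subgroup G))) := by
      rw [← Nat.not_even_iff_odd, even_iff_two_dvd]
      exact fun h => P.not_dvd_index (h.trans (orderOf_dvd_natCard _))
    have hpow : ∀ n : ℕ, Odd n → g ^ n * x * (g ^ n)⁻¹ = x⁻¹ := by
      have h3 : g ^ 2 * x * (g ^ 2)⁻¹ = x := by
        have : g ^ 2 * x * (g ^ 2)⁻¹ = g * (g * x * g⁻¹) * g⁻¹ := by rw [pow_two]; group
        rw [this, hg, ← conj_inv, hg, inv_inv]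
      rintro _ ⟨k, rfl⟩
      induction k with
      | zero => simpa using hg
      | succ k ih =>
        have : g ^ (2 * (k + 1) + 1) * x * (g ^ (2 * (k + 1) + 1))⁻¹ =
            g ^ (2 * k + 1) * (g ^ 2 * x * (g ^ 2)⁻¹) * (g ^ (2 * k + 1))⁻¹ := by group
        rw [this, h3, ih]
    have h4 := hpow _ hodd
    have h5 : g ^ orderOf (g : G ⧸ (P : Subgroup G)) ∈ (P : Subgroup G) := by
      rw [← QuotientGroup.eq_one_iff, QuotientGroup.mk_pow, pow_orderOf_eq_one]
    set s := g ^ orderOf (g : G ⧸ (P : Subgroup G))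
    have h6 : x ^ 2 ∈ (P : Subgroup G) := by
      have h7 : x ^ 2 = x * s * x⁻¹ * s⁻¹ := by
        have : s * x⁻¹ * s⁻¹ = x := by rw [← conj_inv, h4, inv_inv]
        rw [pow_two, mul_assoc x s, mul_assoc x, this]
      rw [h7]
      exact mul_mem (hP.conj_mem s h5 x) (inv_mem h5)
    have h8 := H94.mem_of_pow_mem_of_coprime (Nat.coprime_two_right.2 hx) h6
    obtain ⟨k, hk⟩ := H94.exists_orderOf_eq_of_mem_pGroup P.isPGroup' h8
    rcases k with _ | k
    · exact hx1 (orderOf_eq_one_iff.1 hk)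
    · rw [hk] at hx
      exact (Nat.not_odd_iff_even.2 (Nat.even_pow.2 ⟨even_two, Nat.succ_ne_zero k⟩)) hx

end Cfsg.Agent.S3861
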