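import Cfsg.Statements.S4249
import Cfsg.Agent.H91.Basic
import Cfsg.Agent.H91.FrobElem
import Cfsg.Agent.H91.OrderType
import Cfsg.Agent.H4.Schmidt
import Cfsg.Agent.S3946

set_option autoImplicit false
open Cfsg

namespace Cfsg.Agent.S4249

theorem mul_pow_eq_prod {G : Type*} [Group G] (h x : G) (n : ℕ) :
    (h * x) ^ n = ((List.range n).map fun i : ℕ => x ^ i * h * (x ^ i)⁻¹).prod * x ^ n := by
  induction n with
  | zero => simp
  | succ n ih =>
    rw [pow_succ, ih, List.range_succ, List.map_append, List.prod_append]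
    simp [mul_assoc, pow_succ]

theorem exists_central_of_isNilpotent {H : Type*} [Group H] [Finite H] [hH : Group.IsNilpotent H]
    {q : ℕ} (hq : q.Prime) (hd : q ∣ Nat.card H) : ∃ z ∈ Subgroup.center H, orderOf z = q := by
  have := Fact.mk hq
  obtain ⟨Q⟩ : Nonempty (Sylow q H) := inferInstance
  have : Nontrivial Q := (Subgroup.nontrivial_iff_ne_bot _).mpr (Q.ne_bot_of_dvd_card hd)
  have := Q.isPGroup'.center_nontrivial
  obtain ⟨k, hk0, hk⟩ := (Q.isPGroup'.to_subgroup (Subgroup.center Q)).nontrivial_iff_card.mp this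
  obtain ⟨⟨z, hz⟩, hzo⟩ := exists_prime_orderOf_dvd_card' (G := Subgroup.center Q) q
    (hk ▸ dvd_pow_self q hk0.ne')
  rw [Subgroup.orderOf_mk, ← Subgroup.orderOf_coe] at hzo
  refine ⟨z, Subgroup.mem_center_iff.mpr fun g => ?_, hzo⟩
  obtain ⟨a, b, hab, ⟨j, hj⟩, hcop⟩ := H91.exists_p_parts hq g (isOfFinOrder_of_finite g)
  have h1 : Commute (g ^ a) z := by
    obtain ⟨R, hR⟩ := H91.exists_sylow_mem hj
    have : Unique (Sylow q H) := Sylow.unique_of_normal Q inferInstance
    rw [Subsingleton.elim R Q] at hR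
    exact congrArg Subtype.val (Subgroup.mem_center_iff.mp hz ⟨_, hR⟩)
  have h2 : Commute (g ^ b) z := H4.commute_of_isNilpotent_of_coprime (K := ⊤) inferInstance
    (Subgroup.mem_top _) (Subgroup.mem_top _) (by rw [hzo]; exact hcop)
  rw [← hab]
  exact (h1.mul_left h2).eq

/-- Let G be a finite group and p a prime such that G is not a p-group, and suppose the Hughes subgroup H_p(G), generated by all elements g with g^p ≠ 1, is a proper subgroup. Then H_p(G) is nilpotent and has index p in G. -/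
theorem result {G : Type*} [Group G] [Finite G] (p : ℕ) (hp : p.Prime) (hG : ¬ IsPGroup p G)
    (hH : Subgroup.closure {g : G | g ^ p ≠ 1} ≠ ⊤) :
    Group.IsNilpotent (Subgroup.closure {g : G | g ^ p ≠ 1}) ∧ (Subgroup.closure {g : G | g ^ p ≠ 1}).index = p := by
  have := Fact.mk hp
  set H := Subgroup.closure {g : G | g ^ p ≠ 1} with hHdef
  have hout : ∀ g, g ∉ H → g ^ p = 1 := fun g hg => by
    by_contra h
    exact hg (Subgroup.subset_closure h)
  have hHn : H.Normal := by
    refine ⟨fun x hx g => ?_⟩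
    have : H ≤ H.comap (MulAut.conj g).toMonoidHom := by
      refine (Subgroup.closure_le _).mpr fun y hy => Subgroup.subset_closure ?_
      intro e
      apply hy
      refine (MulAut.conj g).injective ?_
      rw [map_pow, map_one]
      exact e
    exact this hx
  obtain ⟨x, hx⟩ : ∃ x, x ∉ H := by
    by_contra h
    push Not at h
    exact hH (eq_top_iff.mpr fun x _ => h x)
  have hα : orderOf (MulAut.conjNormal x : MulAut H) = p := by
    refine orderOf_eq_prime (by rw [← map_pow, hout x hx, map_one]) fun e => hG fun g => ⟨1, ?_⟩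
    rw [pow_one]
    by_cases hg : g ∈ H
    · have h1 : x * g * x⁻¹ = g := congrArg (fun f : MulAut H => ((f ⟨g, hg⟩ : H) : G)) e
      rw [mul_inv_eq_iff_eq_mul] at h1
      have h2 := hout (x * g) fun h => hx (by simpa using H.mul_mem h (H.inv_mem hg))
      rwa [(show Commute x g from h1).mul_pow, hout x hx, one_mul] at h2
    · exact hout g hg
  have hnil : Group.IsNilpotent H := by
    refine S3946.result (MulAut.conjNormal x) (hα ▸ hp) fun h => Subtype.ext ?_
    have h2 := hout (h * x) fun e => hx (by simpa using H.mul_mem (H.inv_mem h.2) e)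
    rw [mul_pow_eq_prod, hout x hx, mul_one] at h2
    rw [hα, Subgroup.coe_one, ← h2, SubmonoidClass.coe_list_prod, List.map_map]
    congr 1
    refine List.map_congr_left fun i _ => ?_
    simp [← map_pow]
  refine ⟨hnil, ?_⟩
  obtain ⟨q, hq, hqH, hqp⟩ : ∃ q : ℕ, q.Prime ∧ q ∣ Nat.card H ∧ q ≠ p := by
    by_contra h
    push Not at h
    obtain ⟨k, hk⟩ := H91.exists_pow_of_prime_dvd_imp_eq Nat.card_pos.ne' h
    refine hG fun g => ?_
    by_cases hg : g ∈ H
    · obtain ⟨j, hj⟩ := IsPGroup.of_card hk ⟨g, hg⟩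
      exact ⟨j, congrArg Subtype.val hj⟩
    · exact ⟨1, by rw [pow_one, hout g hg]⟩
  let V : Subgroup G :=
    { carrier := {z | z ∈ H ∧ (∀ h ∈ H, h * z = z * h) ∧ z ^ q = 1}
      one_mem' := ⟨H.one_mem, by simp, one_pow q⟩
      mul_mem' := fun {a b} ha hb => ⟨H.mul_mem ha.1 hb.1, fun h hh => by
        rw [← mul_assoc, ha.2.1 h hh, mul_assoc, hb.2.1 h hh, mul_assoc], by
        rw [(show Commute a b from hb.2.1 a ha.1).mul_pow, ha.2.2, hb.2.2, one_mul]⟩
      inv_mem' := fun {a} ha => ⟨H.inv_mem ha.1,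
        fun h hh => (show Commute h a from ha.2.1 h hh).inv_right.eq, by
          rw [inv_pow, ha.2.2, inv_one]⟩ }
  have hVn : V.Normal := ⟨fun z hz g => ⟨hHn.conj_mem z hz.1 g, fun h hh => by
    have := hz.2.1 _ (hHn.conj_mem' h hh g)
    calc h * (g * z * g⁻¹) = g * (g⁻¹ * h * g * z) * g⁻¹ := by group
      _ = _ := by rw [this]; group, by rw [conj_pow, hz.2.2]; simp⟩⟩
  obtain ⟨z, hz, hzo⟩ := exists_central_of_isNilpotent hq hqH
  have hVnt : Nontrivial V := by
    refine ⟨⟨⟨z, z.2, fun h hh => congrArg Subtype.val (Subgroup.mem_center_iff.mp hz ⟨h, hh⟩),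
      by rw [← Subgroup.coe_pow, ← hzo, pow_orderOf_eq_one, Subgroup.coe_one]⟩, 1, fun e => ?_⟩⟩
    have : z = 1 := Subtype.ext (congrArg (fun v : V => (v : G)) e)
    rw [this, orderOf_one] at hzo
    exact hq.one_lt.ne hzo
  let φ : G ⧸ H →* MulAut V := QuotientGroup.lift H (MulAut.conjNormal (H := V)) (by
    intro h hh
    rw [MonoidHom.mem_ker]
    ext v
    simp [v.2.2.1 h hh])
  have hf : H91.HasIntFPF (G ⧸ H) := by
    refine H91.hasIntFPF_of_fpf φ fun a ha v hv => ?_
    obtain ⟨g, rfl⟩ := QuotientGroup.mk_surjective a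
    have hg : g ∉ H := fun h => ha ((QuotientGroup.eq_one_iff g).mpr h)
    have h1 : g * v * g⁻¹ = v := congrArg Subtype.val hv
    rw [mul_inv_eq_iff_eq_mul] at h1
    have h2 := hout (g * v) fun h => hg (by simpa using H.mul_mem h (H.inv_mem v.2.1))
    rw [(show Commute g v from h1).mul_pow, hout g hg, one_mul] at h2
    refine Subtype.ext (orderOf_eq_one_iff.mp (Nat.eq_one_of_dvd_coprimes
      ((Nat.coprime_primes hq hp).mpr hqp) (orderOf_dvd_of_pow_eq_one v.2.2.2)
      (orderOf_dvd_of_pow_eq_one h2)))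
  have hQo : ∀ g : G ⧸ H, g ≠ 1 → orderOf g = p := by
    intro a ha
    obtain ⟨g, rfl⟩ := QuotientGroup.mk_surjective a
    have hg : g ∉ H := fun h => ha ((QuotientGroup.eq_one_iff g).mpr h)
    exact orderOf_eq_prime (by rw [← QuotientGroup.mk_pow, hout g hg, QuotientGroup.mk_one]) ha
  have : Nontrivial (G ⧸ H) := ⟨⟨x, 1, fun e => hx ((QuotientGroup.eq_one_iff x).mp e)⟩⟩
  obtain ⟨⟨c, hc⟩, hc1⟩ := Subgroup.ne_bot_iff_exists_ne_one.mp hf.center_ne_bot
  have hc1' : c ≠ 1 := fun e => hc1 (Subtype.ext e)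
  have h1 : Subgroup.zpowers c = ⊤ := by
    rw [eq_top_iff]
    intro y _
    by_cases hy : y = 1
    · exact hy ▸ Subgroup.one_mem _
    · exact hf.mem_zpowers_of_commute hp (hQo y hy) (hQo c hc1') (Subgroup.mem_center_iff.mp hc y)
  rw [Subgroup.index_eq_card, ← Subgroup.card_top (G := G ⧸ H), ← h1, Nat.card_zpowers, hQo c hc1']

end Cfsg.Agent.S4249
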