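import Cfsg.Statements.S1602
import Cfsg.Agent.H42.More

set_option autoImplicit false
set_option maxRecDepth 1000000
open scoped Pointwise
open Cfsg

namespace Cfsg.Agent.S1602

open Cfsg.Agent.H42

/-- Generators. -/
def gens : List ℕ := [235375635558829140802991065239306432, 217571246595310612122040093598943424]

theorem gens_chk : genChk gens
    [[2, 1, 2, 0, 3],
    [0, 5, 2],
    [4, 7, 2],
    [4, 4, 2, 2],
    [5]]
    [(1, [233955896713040519445220299399307552]),
    (2, [970459361523271695787015306425278496]),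
    (4, [232652365823391711183829569059784736])] 120 = true := by decide +kernel

theorem pair_eq : toSet 8388640 = {pt 23, pt 5} := by
  rw [← toSet_pow (by norm_num), Finset.insert_eq, ← toSet_pow (by norm_num), ← toSet_lor]
  rfl

theorem iso : Nonempty (↥(G11 ⊓ MulAction.stabilizer M24 (toSet 8388640)) ≃* Equiv.Perm (Fin 5)) := by
  have hg := genChk_inM gens_chk
  have hc : Nat.card ↥(G11 ⊓ MulAction.stabilizer M24 (toSet 8388640)) = 120 :=
    encSet.card_inf_stabilizer_eq (gens := gens11) inM_gens11 G11 G11_eq (x0 := 8388640)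
      (by show _ < 2 ^ 24; norm_num) 70 (n := 66) (by norm_num) (by decide +kernel) (by rw [card_G11])
  have he := (eq_gen_of_genChk gens_chk (G11 ⊓ MulAction.stabilizer M24 (toSet 8388640))
    (fun g h => ⟨mem_of_inK11 g (hg g h)
      (allL_iff.mp (show allL inK11 gens = true by decide +kernel) g h),
      allL_fix_set hg (by norm_num) (by decide +kernel) g h⟩) hc.le).1
  have h5 : (toSet 274456).card = 5 := by rw [card_toSet (by norm_num)]; decide +kernel
  exact equiv_perm_of_faithful (toSet 274456) h5 _
    (he ▸ gen_le _ (allL_fix_set hg (by norm_num) (by decide +kernel)))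
    (fun g hg h => dodecad_fix_set dod0_mem h5.ge
      ((toSet_subset_iff _ (by norm_num)).mpr (by decide)) hg.1.1 h) (by rw [hc]; rfl)

/-- In the 12-point action of the smallest Mathieu group the setwise stabiliser of a pair is isomorphic to the symmetric group of degree 5. -/
theorem result (d : Finset Cfsg.GolayPt) (hd : d ∈ Cfsg.dodecads) (p q q' : Cfsg.GolayPt) (hp : p ∈ d) (hq : q ∉ d) (hq' : q' ∉ d) (hqq' : q ≠ q') : Nonempty (↥(MulAction.stabilizer Cfsg.M24 d ⊓ MulAction.stabilizer Cfsg.M24 p ⊓ MulAction.stabilizer Cfsg.M24 ({q, q'} : Finset Cfsg.GolayPt)) ≃* Equiv.Perm (Fin 5)) := by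
  obtain ⟨a, rfl, rfl, rfl, rfl⟩ := exists_smul_dod0_in_out2 hd hp hq hq' hqq'
  obtain ⟨e⟩ := iso
  rw [← Finset.smul_finset_singleton, ← Finset.smul_finset_insert, ← pair_eq]
  exact ⟨(conjEquiv a _ _ (conj_mem_stab3 a _ _ _)).symm.trans e⟩

end Cfsg.Agent.S1602
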