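import Cfsg.Statements.S0454
import Cfsg.Agent.H81.LyA

set_option autoImplicit false
open Cfsg

namespace Cfsg.Agent.S0454


/-- Existence of the Lyons group: there is a transitive permutation group of degree 8835156, simple of order 51765179004000000, whose point stabiliser is simple of the order of a group of type G2, and which has an involution whose centraliser is a non-split double cover of the alternating group of degree 11. -/
theorem result : ∃ H : Subgroup (Equiv.Perm (Fin 8835156)), Cfsg.IsLy H ∧ MulAction.IsPretransitive H (Fin 8835156) ∧ Cfsg.IsG2 (MulAction.stabilizer H (0 : Fin 8835156)) ∧ ∃ t : H, orderOf t = 2 ∧ Cfsg.IsNonsplitDoubleCover (Subgroup.centralizer ({t} : Set H)) (alternatingGroup (Fin 11)) := by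
  open Cfsg.Agent.H81.Ly in
  obtain ⟨f, hf, h1, h2⟩ := Cfsg.Agent.H46.exists_perm_rep phi.range index_eq (by norm_num)
  open Cfsg.Agent.H81.Ly in
  let e := MonoidHom.ofInjective hf
  open Cfsg.Agent.H81.Ly in
  obtain ⟨e1⟩ := Cfsg.Agent.H46.stabilizer_range_equiv hf h2
  open Cfsg.Agent.H81.Ly in
  let e2 := (MonoidHom.ofInjective phi_injective).trans e1
  open Cfsg.Agent.H81.Ly in
  refine ⟨f.range, ⟨e.symm.isSimpleGroup, (Nat.card_congr e.toEquiv).symm.trans card_Ly⟩, h1,
    ⟨e2.symm.isSimpleGroup, 5, (by norm_num : Nat.Prime 5).isPrimePow, by norm_num,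
      (Nat.card_congr e2.toEquiv).symm.trans card_K0⟩, e tt, by rw [MulEquiv.orderOf_eq, orderOf_tt], ?_⟩
  open Cfsg.Agent.H81.Ly in
  have hm : ∀ c : Subgroup.centralizer ({e tt} : Set f.range), e.symm c ∈ CT := fun c => mem_CT.mpr (e.injective (by
    rw [map_mul, map_mul, MulEquiv.apply_symm_apply]; exact Subgroup.mem_centralizer_singleton_iff.mp c.2))
  open Cfsg.Agent.H81.Ly in
  have hm' : ∀ c : CT, e c ∈ Subgroup.centralizer ({e tt} : Set f.range) := fun c =>
    Subgroup.mem_centralizer_singleton_iff.mpr (by rw [← map_mul, ← map_mul, mem_CT.mp c.2])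
  open Cfsg.Agent.H81.Ly in
  let ε : Subgroup.centralizer ({e tt} : Set f.range) ≃* CT :=
    { toFun := fun c => ⟨_, hm c⟩
      invFun := fun c => ⟨_, hm' c⟩
      left_inv := fun c => Subtype.ext (e.apply_symm_apply _)
      right_inv := fun c => Subtype.ext (e.symm_apply_apply _)
      map_mul' := fun a b => Subtype.ext (map_mul e.symm _ _) }
  open Cfsg.Agent.H81.Ly in
  refine nonsplit_of (piA.comp ε.toMonoidHom) (piA_surjective.comp ε.surjective) center_A11 (z := ε.symm tC)
    (by rw [MulEquiv.orderOf_eq, orderOf_tC])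
    (Subgroup.mem_center_iff.mpr fun g => Subtype.ext (Subgroup.mem_centralizer_singleton_iff.mp g.2)) ?_
    (u := ε.symm ⟨em 24 * em 26, CT.mul_mem (em_mem_CT (by norm_num) (by norm_num))
      (em_mem_CT (by norm_num) (by norm_num))⟩)
    (by rw [← map_mul]; exact congrArg ε.symm (Subtype.ext sq_X12))
  open Cfsg.Agent.H81.Ly in
  rw [← MonoidHom.comap_ker, ker_piA, ZT]
  exact (Subgroup.map_equiv_eq_comap_symm' ε.symm _).symm.trans (MonoidHom.map_zpowers ε.symm.toMonoidHom _)

end Cfsg.Agent.S0454
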