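import Cfsg.Statements.S2047
import Cfsg.Agent.H74.MultMcL
import Cfsg.Agent.H74.MultMcLB
import Cfsg.Agent.H74.MultMcLC

set_option autoImplicit false
open Cfsg

namespace Cfsg.Agent.S2047

/-- The Schur multiplier of the McLaughlin group (as a two-vector stabiliser in the automorphism group of the rank-24 lattice) is cyclic of order 3; here the Schur multiplier is described through stem extensions, as in the definitions: surjective homomorphisms onto the group from a finite group, whose kernel is central in that finite group and contained in that finite group's commutator subgroup. -/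
theorem result : Cfsg.HasCyclicSchurMultiplier ↥Cfsg.Spor.McL 3 :=
  Cfsg.Agent.H80.hasSchurMultiplier_congr_left
    (Cfsg.Agent.H74.MMcL.mclpbound.finish_cyclic (Cfsg.Agent.H74.MMcL.pres.mElt
      Cfsg.Agent.H74.MMcL.cv_cen (by decide) (by decide) Cfsg.Agent.H74.MMcL.com_one
      Cfsg.Agent.H74.MMcL.com_ord)) Cfsg.Agent.H48.equivMcL

end Cfsg.Agent.S2047
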