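import Cfsg.Statements.S1526
import Cfsg.Agent.H68.PF7
import Cfsg.Agent.H11.FrobNil

set_option autoImplicit false
open Cfsg

namespace Cfsg.Agent.S1526

/-- Let G be a finite group of odd order and (L i, H i), i in a finite index type with at least two elements, pairs of subgroups with H i a nontrivial proper normal subgroup of L i such that every non-identity element of H i has its centraliser within L i contained in H i (L i is a Frobenius group with kernel H i), the orders of the H i pairwise coprime, and the underlying set of each H i a TI-subset of G with normaliser L i. If every non-identity element of G is conjugate to an element of some H i, we reach a contradiction. -/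
theorem result {G : Type*} [Group G] [Finite G] (hodd : Odd (Nat.card G)) {ι : Type*} [Fintype ι] (hι : 2 ≤ Fintype.card ι) (L H : ι → Subgroup G) (hHL : ∀ i, H i < L i) (hH1 : ∀ i, H i ≠ ⊥) (hHn : ∀ i, ∀ x ∈ L i, ∀ h ∈ H i, x * h * x⁻¹ ∈ H i) (hfrob : ∀ i, ∀ h ∈ H i, h ≠ 1 → L i ⊓ Subgroup.centralizer ({h} : Set G) ≤ H i) (hcop : ∀ i j, i ≠ j → Nat.Coprime (Nat.card (H i)) (Nat.card (H j))) (hTI : ∀ i, Cfsg.IsTISubset (H i : Set G) ∧ Subgroup.normalizer (H i : Set G) = L i) (hcover : ∀ g : G, g ≠ 1 → ∃ i, ∃ x : G, x * g * x⁻¹ ∈ H i) : False := by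
  have hn : ∀ i, H63.NormalIn (H i) (L i) := fun i => ⟨(hHL i).le, H63.le_set_normalizer (hHn i)⟩
  obtain ⟨g, hg, h⟩ := H68.no_coherent_Frobenius_partition hodd (L := L) (H := H)
    (fun i => H63.isFrobeniusKer_of_cent1 (hn i) (hH1 i) (hHL i).ne (hfrob i))
    (fun i => by
      have := (hn i).normal_subgroupOf
      have h1 : Group.IsNilpotent ((H i).subgroupOf (L i)) :=
        H11.isNilpotent_of_centralizer_le (fun h hh h1 c hc => hfrob i h hh
          (fun e => h1 (Subtype.ext e)) ⟨c.2, Subgroup.mem_centralizer_singleton_iff.2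
            (congrArg Subtype.val (Subgroup.mem_centralizer_singleton_iff.1 hc))⟩)
          (fun e => (hHL i).not_ge (Subgroup.subgroupOf_eq_top.1 e))
      exact Group.nilpotent_of_mulEquiv (Subgroup.subgroupOfEquivOfLe (hHL i).le))
    (fun i => H63.normedTI_diff_one_iff.2 ⟨hH1 i, (hTI i).2, (hTI i).1⟩) hcop hι
  obtain ⟨i, x, hx⟩ := hcover g hg
  exact h i ⟨x * g * x⁻¹, ⟨hx, fun e => hg (by simpa using e)⟩, x⁻¹, Subgroup.mem_top _, by group⟩

end Cfsg.Agent.S1526
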