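import Cfsg.Statements.S0183
import Cfsg.Agent.H15.CN3
import Cfsg.Agent.H2.SchurZassenhaus
import Cfsg.Agent.S1526

set_option autoImplicit false
open Cfsg

namespace Cfsg.Agent.S0183

open Subgroup
open scoped Pointwise

universe u

theorem not_minSimple {G : Type u} [Group G] [Finite G] (hG : IsMinSimpleOddOrder G)
    (hCN : IsCNGroup G) : False := by
  classical
  let S : Set ℕ := (fun K : Subgroup G => Nat.card K) '' {K | H15.MaxNil K}
  have hS : S.Finite := (Set.toFinite _).image _
  letI : Fintype S := hS.fintype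
  have h0 : ∀ n : S, ∃ K : Subgroup G, H15.MaxNil K ∧ Nat.card K = n := fun n => n.2
  choose H hH hcard using h0
  have hconj : ∀ K K' : Subgroup G, H15.MaxNil K → H15.MaxNil K' → Nat.card K = Nat.card K' →
      ∃ g : G, MulAut.conj g • K = K' := fun K K' hK hK' h => by
    obtain ⟨p, hp, hd⟩ := H3.exists_prime_dvd_card (hK.ne_bot hG)
    exact hK.exists_conj_of_dvd hCN hK' hp hd (h ▸ hd)
  refine S1526.result (ι := S) hG.1 ?_ (fun n => normalizer (H n : Set G)) H
    (fun n => (hH n).lt_normalizer hG hCN) (fun n => (hH n).ne_bot hG)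
    (fun n x hx h hh => (mem_normalizer_iff.1 hx h).1 hh)
    (fun n h hh h1 => inf_le_right.trans ((hH n).centralizer_le hG hCN hh h1))
    (fun i j hij => ?_) (fun n => ⟨fun g hg x hx hx' => (hH n).ti' hG hCN hg hx hx', rfl⟩)
    (fun g _ => ?_)
  · obtain ⟨K, hK, -⟩ := H15.exists_maxNil_ge (K := (⊥ : Subgroup G)) inferInstance
    obtain ⟨p, hp, hd⟩ := Nat.exists_prime_and_dvd
      (fun h => H67.mFT_nil_proper hG hK.nil (index_eq_one.1 h))
    have := Fact.mk hp
    obtain ⟨P, hP⟩ := Sylow.exists_subgroup_card_pow_prime (G := G) p (n := 1)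
      (by rw [pow_one]; exact hd.trans (index_dvd_card K))
    obtain ⟨K', hK', hle⟩ := H15.exists_maxNil_ge (IsPGroup.of_card hP).isNilpotent
    refine Fintype.one_lt_card_iff_nontrivial.2 ⟨⟨_, K, hK, rfl⟩, ⟨_, K', hK', rfl⟩, fun h => ?_⟩
    have h1 : Nat.card K = Nat.card K' := congrArg Subtype.val h
    refine hK.not_dvd_index hCN hp ?_ hd
    rw [h1, ← pow_one p, ← hP]
    exact card_dvd_of_le hle
  · refine Nat.coprime_of_dvd' fun p hp h1 h2 => ?_
    obtain ⟨g, hg⟩ := (hH i).exists_conj_of_dvd hCN (hH j) hp h1 h2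
    refine (hij (Subtype.ext ?_)).elim
    rw [← hcard i, ← hcard j, ← hg, H8.card_conj_smul]
  · obtain ⟨K, hK, hle⟩ := H15.exists_maxNil_ge (K := zpowers g)
      (H1.isNilpotent_of_isMulCommutative _)
    obtain ⟨x, hx⟩ := hconj K (H ⟨_, K, hK, rfl⟩) hK (hH _) (hcard ⟨_, K, hK, rfl⟩).symm
    exact ⟨_, x, hx ▸ H8.conj_mem_conj_smul.2 (hle (mem_zpowers g))⟩

theorem aux (n : ℕ) : ∀ (G : Type u) [Group G] [Finite G], Nat.card G = n → Odd (Nat.card G) →
    IsCNGroup G → Group.IsSolvable G := by
  induction n using Nat.strong_induction_on with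
  | h n ih =>
  intro G _ _ hn hodd hCN
  have hsub : ∀ H : Subgroup G, H ≠ ⊤ → Group.IsSolvable H := fun H hH =>
    ih _ (hn ▸ H2.card_lt_of_ne_top hH) H rfl (hodd.of_dvd_nat (card_subgroup_dvd_card H))
      (H15.cn_subgroup hCN H)
  by_contra hns
  refine not_minSimple ⟨hodd, ?_, fun h => hns ?_, hsub⟩ hCN
  · have : Nontrivial G := by
      by_contra h
      rw [not_nontrivial_iff_subsingleton] at h
      exact hns inferInstance
    refine ⟨fun N hN => ?_⟩
    by_contra h
    push Not at h
    have h1 := hsub N h.2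
    have h2 := ih _ (hn ▸ H1.card_quotient_lt h.1) (G ⧸ N) rfl
      (hodd.of_dvd_nat (card_quotient_dvd_card N)) (H15.cn_quotient hCN N h1)
    exact hns (solvable_of_ker_le_range N.subtype (QuotientGroup.mk' N) (by simp))
  · exact isSolvable_of_comm h.is_comm.comm


/-- The CN-Theorem for odd order: a finite group of odd order in which every non-identity element has a nilpotent centralizer (a CN-group) is solvable. -/
theorem result {G : Type*} [Group G] [Finite G] (hodd : Odd (Nat.card G)) (hCN : Cfsg.IsCNGroup G) : Group.IsSolvable G := by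
  exact aux _ G rfl hodd hCN

end Cfsg.Agent.S0183
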