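import Cfsg.Statements.S2360
import Cfsg.Agent.H31.SU3Inv

set_option autoImplicit false
open Cfsg

namespace Cfsg.Agent.S2360

open Cfsg.Agent.H31

/-- Let q be odd, F the field with q² elements and S = SU_3(F) (determinant-one isometries of the standard Hermitian form). Then all involutions of S are conjugate; there are exactly q²(q²−q+1) of them; the centralizer of an involution has order q(q+1)(q²−1), the order of the full unitary group of degree 2; and for two distinct commuting involutions t and x there is exactly one further involution commuting with both. -/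
theorem result {F : Type*} [Field F] [Fintype F] {q : ℕ} (hq : Odd q)
    (hF : Fintype.card F = q ^ 2) (t : ↥(Cfsg.SU 3 F q)) (ht : t ≠ 1) (ht2 : t * t = 1) :
    (∀ x : ↥(Cfsg.SU 3 F q), x ≠ 1 → x * x = 1 → ∃ g : ↥(Cfsg.SU 3 F q), g * t * g⁻¹ = x) ∧
    Nat.card {x : ↥(Cfsg.SU 3 F q) // x ≠ 1 ∧ x * x = 1} = q ^ 2 * (q ^ 2 - q + 1) ∧
    Nat.card ↥(Subgroup.centralizer ({t} : Set ↥(Cfsg.SU 3 F q))) = q * (q + 1) * (q ^ 2 - 1) ∧
    ∀ x : ↥(Cfsg.SU 3 F q), x ≠ 1 → x * x = 1 → x ≠ t → Commute t x →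
      Nat.card {y : ↥(Cfsg.SU 3 F q) // y ≠ 1 ∧ y * y = 1 ∧ y ≠ t ∧ y ≠ x ∧ Commute t y ∧ Commute x y} = 1 := by
  have h := isHerm_hermB hF 3
  have h3 := finrank_fin (F := F) 3
  have h2 := two_ne_zero_of_odd hF hq
  have hσ : ∀ x, frobQ hF x = x ^ q := fun _ => rfl
  set ε := suEquiv hF 3
  have hconj : ∀ x : ↥(Cfsg.SU 3 F q), x ≠ 1 → x * x = 1 → ∃ g, g * t * g⁻¹ = x := by
    intro x hx hx2
    obtain ⟨P, hP, rfl⟩ := exists_rf ε h h3 h2 ht ht2
    obtain ⟨Q, hQ, rfl⟩ := exists_rf ε h h3 h2 hx hx2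
    rw [← h.orbit_non hP.2] at hQ
    obtain ⟨g, hg⟩ := hQ
    refine ⟨ε.symm g, ?_⟩
    rw [rf_conj ε h h3 hP, MulEquiv.apply_symm_apply, ← hg]
    congr 2
    exact (Projectivization.mk_rep P).symm
  have hcard : Nat.card {x : ↥(Cfsg.SU 3 F q) // x ≠ 1 ∧ x * x = 1} = q ^ 2 * (q ^ 2 - q + 1) := by
    have := card_invol ε h h3 h2 (fun _ => True) (fun _ => True) fun _ _ => Iff.rfl
    simp only [and_true, Set.ofPred_mem_eq] at this
    rw [this, h.ncard_nonPts_three' hF hσ h3]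
  refine ⟨hconj, hcard, ?_, fun x hx hx2 hxt hc => ?_⟩
  · have e1 := (MulAction.stabilizer (ConjAct ↥(Cfsg.SU 3 F q)) t).index_mul_card
    rw [MulAction.index_stabilizer, ← Subgroup.nat_card_centralizer_nat_card_stabilizer,
      Nat.card_congr (ConjAct.ofConjAct.trans ε).toEquiv, h.card_sisom_three hF hσ h3] at e1
    have e2 : (MulAction.orbit (ConjAct ↥(Cfsg.SU 3 F q)) t).ncard = q ^ 2 * (q ^ 2 - q + 1) := by
      rw [← hcard]
      refine congrArg Set.ncard (Set.ext fun x => ⟨?_, fun hx => ?_⟩)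
      · rintro ⟨g, rfl⟩
        refine ⟨fun e => ht ((smul_eq_iff_eq_inv_smul g).mp e |>.trans (smul_one _)), ?_⟩
        change g • t * g • t = 1
        rw [← smul_mul', ht2, smul_one]
      · obtain ⟨g, hg⟩ := hconj x hx.1 hx.2
        exact ⟨ConjAct.toConjAct g, hg⟩
    rw [e2] at e1
    have h4 := two_le_of_card_sq hF
    have h5 : q ≤ q ^ 2 := by nlinarith
    have h6 : 1 ≤ q ^ 2 := by omega
    refine Nat.eq_of_mul_eq_mul_left (Nat.mul_pos h6 (Nat.succ_pos (q ^ 2 - q))) (e1.trans ?_)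
    zify [h5, h6]
    ring
  · obtain ⟨P, hP, rfl⟩ := exists_rf ε h h3 h2 ht ht2
    obtain ⟨Q, hQ, rfl⟩ := exists_rf ε h h3 h2 hx hx2
    have hne : P ≠ Q := fun e => hxt (by rw [e])
    have hPQ := ((commute_rf ε h h3 h2 hP hQ).mp hc).resolve_left hne
    rw [card_invol ε h h3 h2 _ (fun R => R ≠ P ∧ R ≠ Q ∧ Adj (hermB hF 3) P R ∧
      Adj (hermB hF 3) Q R) fun R hR => and_congr (rf_inj ε h h3 h2 hR hP).not
        (and_congr (rf_inj ε h h3 h2 hR hQ).not
          (and_congr (commute_rf ε h h3 h2 hP hR) (commute_rf ε h h3 h2 hQ hR)))]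
    obtain ⟨R, ⟨h4, h5⟩, hR⟩ := h.existsUnique_perp h3 hne
    refine Set.ncard_eq_one.mpr ⟨R, Set.eq_singleton_iff_unique_mem.mpr ⟨⟨⟨trivial, fun h6 => ?_⟩,
      fun e => hP.2 (by rwa [e] at h4), fun e => hQ.2 (by rwa [e] at h5), Or.inr h4, Or.inr h5⟩,
      fun S hS => hR S ⟨hS.2.2.2.1.resolve_left hS.2.1.symm,
        hS.2.2.2.2.resolve_left hS.2.2.1.symm⟩⟩⟩
    have := h.gram_of_perp_iso h3 R.rep_nonzero h6 (h.flip_zero h4) (h.flip_zero h5)
    rw [hPQ, zero_mul] at this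
    exact mul_ne_zero hP.2 hQ.2 this

end Cfsg.Agent.S2360
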