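import Cfsg.Statements.S2366
import Cfsg.Agent.H76.Unitary
import Cfsg.Agent.H76.SpecLin3

set_option autoImplicit false
open Cfsg

namespace Cfsg.Agent.S2366

/-- The set of element orders of PSU(3, q) for an odd prime power q = p^n: writing d = gcd(3, q + 1), a positive integer is the order of some element exactly when it divides one of q + 1, p(q + 1)/d, (q² − 1)/d, (q² − q + 1)/d. -/
theorem result {F : Type*} [Field F] [Fintype F] (p : ℕ) [Fact p.Prime] [CharP F p] (hp : p ≠ 2) (q : ℕ) (hF : Fintype.card F = q ^ 2) :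
    Set.range (orderOf : Cfsg.PSU 3 F q → ℕ) =
      {s : ℕ | s ∣ q + 1} ∪ {s : ℕ | s ∣ p * (q + 1) / Nat.gcd 3 (q + 1)} ∪
        {s : ℕ | s ∣ (q ^ 2 - 1) / Nat.gcd 3 (q + 1)} ∪ {s : ℕ | s ∣ (q ^ 2 - q + 1) / Nat.gcd 3 (q + 1)} := by
  have : CharP (AlgebraicClosure F) p := charP_of_injective_algebraMap (algebraMap F _).injective p
  have hG := H76.models_psu (AlgebraicClosure F) p hF (n := 3) (by norm_num)
  have hq : 1 ≤ q := by
    rcases Nat.eq_zero_or_pos q with rfl | h
    · exact absurd hF (by simp)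
    · exact h
  have hp2 := (Fact.out : p.Prime).two_le
  have h1 : ((-(q : ℤ)) ^ 2 + -(q : ℤ) + 1).natAbs = q ^ 2 - q + 1 := by
    have : q ≤ q ^ 2 := Nat.le_self_pow two_ne_zero q
    rw [neg_sq, ← Nat.cast_pow]
    omega
  ext m
  rw [hG.range_three (H76.char_dvd_neg_q hF p), H76.natAbs_neg_sub_one,
    H76.natAbs_neg_pow_sub_one_of_even hq even_two, Nat.clog_eq_one (by norm_num) (by omega),
    pow_one, h1]
  simp only [Set.mem_union, Set.mem_setOf_eq]
  have : m ∣ p → m ∣ p * (q + 1) / Nat.gcd 3 (q + 1) := fun h => by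
    rw [Nat.mul_div_assoc p (Nat.gcd_dvd_right _ _)]
    exact h.mul_right _
  tauto

end Cfsg.Agent.S2366
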