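import Cfsg.Statements.S4512
import Cfsg.Agent.H20.Klein
import Cfsg.Agent.H21.Principal

set_option autoImplicit false
open Cfsg

namespace Cfsg.Agent.S4512

/-- If G is a finite group with a Sylow 2-subgroup that is a Klein four-group and a single conjugacy class of involutions, then its principal 2-block (relative to a maximal ideal M of the algebraic integers containing 2) has 2-regular rank 3: the restrictions of its irreducible characters to the elements of odd order span a space of dimension 3 (it has three irreducible Brauer characters). -/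
theorem result {G : Type*} [Group G] [Finite G] (M : Ideal Cfsg.AlgInt) (hM : Cfsg.IsPModular 2 M) (P : Sylow 2 G)
    (hP : Nat.card P = 4) (hexp : ∀ x : P, x * x = 1)
    (hone : ∀ s t : G, orderOf s = 2 → orderOf t = 2 → IsConj s t) :
    Cfsg.blockRank 2 (Cfsg.principalBlock M G) = 3 := by
  classical
  have := Fintype.ofFinite G
  have hK : IsKleinFour (P : Subgroup G) :=
    H8.isKleinFour_of_card hP fun x hx => congrArg Subtype.val (hexp ⟨x, hx⟩)
  obtain ⟨e, he⟩ := H6.exists_kcol hM P hK hone
  obtain ⟨J, hJP, -, -, hJ1, -⟩ := H8.four_exists hK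
  have hJ := H8.four_orderOf hK hJP hJ1
  obtain ⟨b, h, -⟩ := H20.dihSyl_klein P hK hJP hJ
  have hB0 := H17.lamClosed_of_isPBlock hM.2.1 (H21.isPBlock_principal (M := M) (G := G))
  have h4 : Nat.card (principalBlock M G) = 4 := by
    let F : Option (Fin 3) → G → ℂ := fun k => Option.elim k (fun _ => 1) e
    have hF : ∀ k, H6.Sgn (F k) := by
      rintro (_ | i)
      exacts [H6.sgn_one, he.sgn i]
    have horth : ∀ k l, k ≠ l → classInner (F k) (F l) = 0 := by
      rintro (_ | i) (_ | j) h
      exacts [absurd rfl h, (H11.classInner_eq_zero_comm _ _).mp (he.one j), he.one i,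
        he.orth i j fun h' => h (h' ▸ rfl)]
    rw [H6.card_eq_of_sgn hF horth fun ξ => ?_]
    · simp
    · rw [he.mem]
      constructor
      · rintro (h | ⟨i, rfl⟩)
        · exact ⟨none, by rw [h]; simp [F, H11.classInner_one_one]⟩
        · exact ⟨some i, (he.sgn i).inner_irr_ne_zero⟩
      · rintro ⟨_ | i, h⟩
        · exact Or.inl (H11.irr_eq_of_classInner_ne_zero H11.isIrrCharacter_one ξ.2 h).symm
        · exact Or.inr ⟨i, (he.sgn i).eq_irr_of_ne_zero h⟩
  have h1 := H20.sum_section_norm hM hB0 (x := J) ⟨1, hJ⟩
  rw [(H20.truncMul_Cg hM ⟨1, hJ⟩).locSet_principal hM,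
    (H21.blockRank_principal_eq_one_iff hM).2 h.npc] at h1
  have h2 := H20.card_mul_blockRank' hM hB0
  have h3 := H20.sum_finsum_mul_inv (principalBlock M G)
  rw [← Finset.sum_filter_add_sum_filter_not Finset.univ (fun g : G => 2 ∣ orderOf g), ← h2,
    h4, ← Finset.filter_congr (p := fun g => H20.InSec 2 J g) fun g _ =>
      H20.klein_inSec P hK hone hJ g, h1] at h3
  apply Nat.cast_injective (R := ℂ)
  apply mul_left_cancel₀ (H11.card_ne_zero G)
  push_cast at h3 ⊢
  linear_combination h3

end Cfsg.Agent.S4512
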