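import Cfsg.Statements.S4540
import Cfsg.Agent.H20.ContribBound
import Cfsg.Agent.H17.Numeric

set_option autoImplicit false
open Cfsg

namespace Cfsg.Agent.S4540

/-- Let B be a 2-block of the finite group G (relative to a maximal ideal M of the algebraic integers containing 2) of defect d with defect group D. Let z be an element of D commuting with every element of D, and let b be a block of the centralizer C of z with defect group D that induces B (a major subsection (z, b)). If b has 2-regular rank at most three, then 3·k(B) ≤ 3·k₀(B) + 2·Σ 2 ^ h(χ), where k(B) is the number of members of B, k₀(B) the number of members of height zero, and the sum runs over the members χ of B of positive height h(χ); this bound is at most 3·2 ^ d, so in particular B contains at most 2 ^ d irreducible characters. -/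
theorem result {G : Type*} [Group G] [Finite G] (M : Ideal Cfsg.AlgInt) (hM : Cfsg.IsPModular 2 M) (B : Set (Cfsg.IrrCharacter G)) (hB : Cfsg.IsPBlock M B) (D : Subgroup G) (hD : Cfsg.IsDefectGroup 2 M B D) (z : G) (hzD : z ∈ D) (hzc : ∀ d ∈ D, d * z = z * d) (b : Set (Cfsg.IrrCharacter ↥(Subgroup.centralizer ({z} : Set G)))) (hb : Cfsg.IsInducedBlock M (Subgroup.centralizer ({z} : Set G)) b B) (hbD : Cfsg.IsDefectGroup 2 M b (D.subgroupOf (Subgroup.centralizer ({z} : Set G)))) (hl : Cfsg.blockRank 2 b ≤ 3) : 3 * Nat.card B ≤ 3 * Nat.card {χ : Cfsg.IrrCharacter G // χ ∈ B ∧ Cfsg.blockHeight 2 B (χ : G → ℂ) = 0} + 2 * (∑ᶠ χ ∈ {χ : Cfsg.IrrCharacter G | χ ∈ B ∧ 1 ≤ Cfsg.blockHeight 2 B (χ : G → ℂ)}, 2 ^ Cfsg.blockHeight 2 B (χ : G → ℂ)) ∧ 3 * Nat.card {χ : Cfsg.IrrCharacter G // χ ∈ B ∧ Cfsg.blockHeight 2 B (χ : G → ℂ) = 0} + 2 * (∑ᶠ χ ∈ {χ : Cfsg.IrrCharacter G | χ ∈ B ∧ 1 ≤ Cfsg.blockHeight 2 B (χ : G → ℂ)}, 2 ^ Cfsg.blockHeight 2 B (χ : G → ℂ)) ≤ 3 * 2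 ^ Cfsg.blockDefect 2 B := by
  classical
  have := Fintype.ofFinite G
  have := Fintype.ofFinite (IrrCharacter G)
  have := Fintype.ofFinite (H17.Cg z)
  have hd : blockDefect 2 b = blockDefect 2 B := by
    have h1 := H17.dg_card hM hB hD
    have h2 := H17.dg_card hM hb.1 hbD
    rw [Nat.card_congr (Subgroup.subgroupOfEquivOfLe fun d hd =>
      Subgroup.mem_centralizer_singleton_iff.2 (hzc d hd)).toEquiv, h1] at h2
    exact (Nat.pow_right_injective hM.1.two_le h2).symm
  have hzp : ∃ k : ℕ, orderOf (⟨z, H17.self_mem_Cg z⟩ : H17.Cg z) = 2 ^ k := by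
    simpa only [← Subgroup.orderOf_coe] using
      H20.isPElt_of_mem (IsPGroup.of_card (H17.dg_card hM hB hD)) hzD
  have h := H20.two_block_major_bound hM hb hd rfl hzp hl
  have e : 3 * Nat.card {χ : IrrCharacter G // χ ∈ B ∧ blockHeight 2 B χ.1 = 0} +
      2 * (∑ᶠ χ ∈ {χ : IrrCharacter G | χ ∈ B ∧ 1 ≤ blockHeight 2 B χ.1}, 2 ^ blockHeight 2 B χ.1) =
      ∑ ψ ∈ Finset.univ.filter (· ∈ B),
        (if blockHeight 2 B ψ.1 = 0 then 3 else 2 * 2 ^ blockHeight 2 B ψ.1) := by
    rw [Finset.sum_ite, Finset.sum_const, smul_eq_mul, mul_comm _ 3, ← Finset.mul_sum,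
      H21.finsum_mem_eq_sum_filter', Nat.card_eq_fintype_card, Fintype.card_subtype,
      Finset.filter_filter, Finset.filter_filter]
    simp only [Set.mem_setOf_eq, Nat.one_le_iff_ne_zero, ne_eq]
  rw [e]
  refine ⟨?_, h⟩
  rw [H21.natCard_eq_card_filter, Finset.card_eq_sum_ones, Finset.mul_sum]
  refine Finset.sum_le_sum fun ψ _ => ?_
  split_ifs with h0
  · rfl
  · have : 2 ^ 1 ≤ 2 ^ blockHeight 2 B ψ.1 := Nat.pow_le_pow_right two_pos (by omega)
    omega

end Cfsg.Agent.S4540
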