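import Cfsg.Statements.S1475
import Cfsg.Agent.H15.CN2

set_option autoImplicit false
open Cfsg

namespace Cfsg.Agent.S1475

theorem eq_of_commute {G : Type*} [Group G] [Finite G]
    (h : ∀ g : G, IsPrimePow (orderOf g) ∨ g = 1) {x y : G} (hx : (orderOf x).Prime)
    (hy : (orderOf y).Prime) (hc : x * y = y * x) : orderOf x = orderOf y := by
  by_contra hne
  have h1 := Commute.orderOf_mul_eq_mul_orderOf_of_coprime hc ((Nat.coprime_primes hx hy).2 hne)
  rcases h (x * y) with h2 | h2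
  · rw [h1] at h2
    obtain ⟨p, k, hp, -, hk⟩ := (isPrimePow_nat_iff _).1 h2
    have h3 := (Nat.prime_dvd_prime_iff_eq hx hp).1 (hx.dvd_of_dvd_pow (hk ▸ dvd_mul_right _ _))
    have h4 := (Nat.prime_dvd_prime_iff_eq hy hp).1 (hy.dvd_of_dvd_pow (hk ▸ dvd_mul_left _ _))
    exact hne (h3.trans h4.symm)
  · rw [h2, orderOf_one] at h1
    exact hx.ne_one (Nat.eq_one_of_mul_eq_one_right h1.symm)

theorem exists_prime {G : Type*} [Group G] [Finite G]
    (h : ∀ g : G, IsPrimePow (orderOf g) ∨ g = 1) {K : Subgroup G} {z : G} (hz1 : z ≠ 1)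
    (hc : ∀ k ∈ K, k * z = z * k) :
    ∃ p : ℕ, p.Prime ∧ ∀ q : ℕ, q.Prime → q ∣ Nat.card K → q = p := by
  obtain ⟨w, ⟨j, hj⟩, hw⟩ := H15.exists_prime_order_mem_zpowers hz1
  refine ⟨_, hw, fun q hq hd => ?_⟩
  obtain ⟨x, hx, rfl⟩ := H3.exists_mem_orderOf_eq_prime hq hd
  simp only at hj
  exact eq_of_commute h hq hw (hj ▸ (Commute.zpow_right (hc x hx) j : Commute _ _))


/-- Let G be a finite solvable group such that the order of every element is a prime power (1 included). Then at most two distinct primes divide the order of G. -/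
theorem result {G : Type*} [Group G] [Finite G] [Group.IsSolvable G] (h : ∀ g : G, IsPrimePow (orderOf g) ∨ g = 1) :
    (Nat.card G).primeFactors.card ≤ 2 := by
  rcases subsingleton_or_nontrivial G with hG | hG
  · simp
  have := H3.fitting_normal G
  obtain ⟨z, hz, hz1, hzc⟩ := H15.exists_central_of_nilpotent (H3.fitting_isNilpotent G) le_rfl
    Subgroup.le_normalizer (H3.fitting_ne_bot G)
  obtain ⟨p, hp, hF⟩ := exists_prime h hz1 hzc
  obtain ⟨E, hE⟩ := H2.exists_isPiHall {q | q ≠ p} G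
  have hG' : ∀ q : ℕ, q.Prime → q ∣ Nat.card G → q ≠ p → q ∣ Nat.card E := fun q hq hd hne => by
    rw [← E.card_mul_index] at hd
    exact ((Nat.Prime.dvd_mul hq).1 hd).resolve_right (hE.2 q hq hne)
  have hf : H15.Fpf E (fittingSubgroup G) := by
    refine H15.Fpf.of_forall Subgroup.le_normalizer_of_normal (H3.fitting_ne_bot G)
      fun e he he1 k hk hc => ?_
    by_contra hk1
    obtain ⟨e', ⟨i, hi⟩, he'⟩ := H15.exists_prime_order_mem_zpowers he1
    obtain ⟨k', ⟨j, hj⟩, hk'⟩ := H15.exists_prime_order_mem_zpowers hk1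
    simp only at hi hj
    have h1 := eq_of_commute h he' hk' (hi ▸ hj ▸ (Commute.zpow_zpow hc i j : Commute _ _))
    exact hE.1 _ he' (E.orderOf_dvd_natCard (hi ▸ zpow_mem he i))
      (h1.trans (hF _ hk' (Subgroup.orderOf_dvd_natCard _ (hj ▸ zpow_mem hk j))))
  obtain ⟨r, hr⟩ : ∃ r : ℕ, ∀ q : ℕ, q.Prime → q ∣ Nat.card E → q = r := by
    by_cases hE1 : E = ⊥
    · exact ⟨0, fun q hq hd => absurd (by simpa [hE1] using hd) hq.ne_one⟩
    · obtain ⟨w, hw, hw1⟩ := (Subgroup.bot_or_exists_ne_one _).resolve_left (hf.center_ne_bot hE1)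
      obtain ⟨r, -, hr⟩ := exists_prime h (K := E) (z := w) (fun h => hw1 (Subtype.ext h))
        fun k hk => congrArg Subtype.val (Subgroup.mem_center_iff.1 hw ⟨k, hk⟩)
      exact ⟨r, hr⟩
  refine le_trans (Finset.card_le_card (t := {p, r}) fun q hq => ?_) Finset.card_le_two
  have hq' := Nat.prime_of_mem_primeFactors hq
  by_cases hqp : q = p
  · simp [hqp]
  · simp [hr q hq' (hG' q hq' (Nat.dvd_of_mem_primeFactors hq) hqp)]

end Cfsg.Agent.S1475
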