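import Cfsg.Statements.S0983
import Cfsg.Agent.H58.Small

set_option autoImplicit false
open Cfsg

namespace Cfsg.Agent.S0983

def certs : List H58.Cert := [
  .bur 11 1 331 1, .br 607 [], .bur 3643 1 2 0, .bur 2 2 911 1, .bur 3 6 5 1, .bur 2 1 1823 1, 
  .bur 7 1 521 1, .br 19 [], .bur 41 1 89 1, .br 73 [], .bur 3 1 1217 1, .br 83 [], 
  .bur 13 1 281 1, .br 29 [], .br 43 [], .bur 2 3 457 1, .br 53 [], .br 59 [], .bur 3659 1 2 0, 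
  .br 61 [], .bur 7 1 523 1, .bur 2 1 1831 1, .br 37 [], .bur 2 4 229 1, .bur 5 1 733 1, 
  .br 47 [], .bur 19 1 193 1, .br 131 [], .bur 3 1 1223 1, .br 367 [], .bur 3671 1 2 0, 
  .br 17 [], .bur 3673 1 2 0, .br 167 [], .syl 7 2, .bur 2 2 919 1, .bur 3677 1 2 0, .br 613 [], 
  .bur 13 1 283 1, .br 23 [], .bur 3 2 409 1, .br 263 [], .bur 29 1 127 1, .br 307 [], .br 67 [], 
  .br 97 [], .bur 3 1 1229 1, .bur 2 3 461 1, .br 31 [], .br 41 [], .bur 3691 1 2 0, .br 71 [], 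
  .bur 3 1 1231 1, .bur 2 1 1847 1, .bur 5 1 739 1, .br 11 [], .bur 3697 1 2 0, .bur 2 1 43 2, 
  .bur 3 3 137 1, .br 37 [], .bur 3701 1 2 0, .br 617 [], .bur 7 1 23 2, .bur 2 3 463 1, 
  .br 13 [], .br 109 [], .bur 11 1 337 1, .br 103 [], .bur 3709 1 2 0, .br 53 [], 
  .bur 3 1 1237 1, .bur 2 7 29 1, .bur 47 1 79 1, .br 619 [], .bur 5 1 743 1, .bur 2 2 929 1, 
  .br 59 [], .syl 13 2, .bur 3719 1 2 0, .br 31 [], .bur 61 2 2 0, .bur 2 1 1861 1, .br 73 [], 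
  .br 19 [], .bur 5 2 149 1, .br 23 [], .bur 3727 1 2 0, .bur 2 4 233 1, .br 113 [], .br 373 [], 
  .br 41 [], .br 311 [], .bur 3733 1 2 0, .bur 2 1 1867 1, .br 83 [], .bur 2 3 467 1, 
  .bur 37 1 101 1, .br 89 [], .bur 3739 1 2 0, .br 17 [], .br 29 [], .bur 2 1 1871 1, 
  .bur 19 1 197 1, .br 13 [], .br 107 [], .bur 2 1 1873 1, .bur 3 1 1249 1, .bur 2 2 937 1, 
  .bur 23 1 163 1, .syl 5 4, .bur 11 2 31 1, .br 67 [], .bur 3 3 139 1, .bur 2 1 1877 1, 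
  .bur 5 1 751 1, .br 313 [], .bur 13 1 17 2, .bur 2 1 1879 1, .br 179 [], .br 47 [], 
  .bur 3761 1 2 0, .br 19 [], .bur 53 1 71 1, .bur 2 2 941 1, .br 251 [], .br 269 [], 
  .bur 3767 1 2 0, .br 157 [], .bur 3769 1 2 0, .br 29 [], .bur 3 2 419 1, .br 41 [], 
  .bur 7 3 11 1, .br 37 [], .bur 5 2 151 1, .bur 2 6 59 1, .bur 3 1 1259 1, .bur 2 1 1889 1, 
  .bur 3779 1 2 0, .br 7 [], .bur 19 1 199 1, .br 31 [], .br 97 [], .br 11 [], .bur 5 1 757 1, 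
  .br 631 [], .bur 7 1 541 1, .bur 2 2 947 1, .bur 3 2 421 1, .br 379 [], .bur 17 1 223 1, 
  .br 79 [], .bur 3793 1 2 0, .br 271 [], .br 23 [], .br 73 [], .bur 3797 1 2 0, .br 211 [], 
  .bur 29 1 131 1, .br 19 [], .br 181 [], .bur 2 1 1901 1, .bur 3803 1 2 0, .br 317 [], 
  .bur 5 1 761 1, .br 173 [], .bur 3 4 47 1, .br 17 [], .bur 13 1 293 1, .br 127 [], 
  .bur 37 1 103 1, .bur 2 2 953 1, .br 41 [], .bur 2 1 1907 1, .br 109 [], .br 53 [], 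
  .bur 11 1 347 1, .br 83 [], .br 67 [], .br 191 [], .bur 3821 1 2 0, .syl 7 2, .bur 3823 1 2 0, 
  .bur 2 4 239 1, .br 17 [], .bur 2 1 1913 1, .bur 43 1 89 1, .br 29 [], .bur 7 1 547 1, 
  .br 383 [], .bur 3 1 1277 1, .bur 2 3 479 1, .bur 3833 1 2 0, .br 71 [], .br 59 [], .br 137 [], 
  .bur 3 1 1279 1, .br 101 [], .bur 11 1 349 1, .syl 2 8, .bur 23 1 167 1, .br 113 [], .br 61 [], 
  .bur 2 2 31 2, .bur 5 1 769 1, .br 641 [], .bur 3847 1 2 0, .br 37 [], .bur 3 1 1283 1, 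
  .br 11 [], .bur 3851 1 2 0, .br 107 [], .bur 3853 1 2 0, .br 47 [], .br 257 [], .bur 2 4 241 1, 
  .br 29 [], .br 643 [], .bur 17 1 227 1, .br 193 [], .br 11 [], .bur 2 1 1931 1, 
  .bur 3863 1 2 0, .br 23 [], .bur 5 1 773 1, .bur 2 1 1933 1, .bur 3 1 1289 1, .bur 2 2 967 1, 
  .bur 53 1 73 1, .br 43 [], .bur 7 2 79 1, .bur 2 5 11 2, .bur 3 1 1291 1, .br 149 [], 
  .bur 5 3 31 1, .br 19 [], .bur 3877 1 2 0, .br 277 [], .bur 3 2 431 1, .br 97 [], 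
  .bur 3881 1 2 0, .br 647 [], .bur 11 1 353 1, .bur 2 2 971 1, .br 37 [], .br 67 [], 
  .bur 13 2 23 1, .bur 2 4 3 5, .bur 3889 1 2 0, .br 389 [], .bur 3 1 1297 1, .br 139 [], 
  .bur 17 1 229 1, .br 59 [], .br 41 [], .bur 2 3 487 1, .bur 3 2 433 1, .bur 2 1 1949 1, 
  .bur 7 1 557 1, .br 13 [], .bur 47 1 83 1, .bur 2 1 1951 1, .bur 3 1 1301 1, .bur 2 6 61 1, 
  .br 71 [], .br 7 [], .bur 3907 1 2 0, .bur 2 2 977 1, .bur 3 1 1303 1, .br 23 [], 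
  .bur 3911 1 2 0, .br 163 [], .br 43 [], .br 103 [], .br 29 [], .br 89 [], .bur 3917 1 2 0, 
  .br 653 [], .bur 3919 1 2 0, .syl 7 2, .bur 3 1 1307 1, .br 53 [], .bur 3923 1 2 0, .br 109 [], 
  .bur 5 2 157 1, .br 151 [], .br 17 [], .bur 2 3 491 1, .bur 3929 1 2 0, .br 131 [], 
  .bur 3931 1 2 0, .bur 2 2 983 1, .br 23 [], .br 281 [], .bur 5 1 787 1, .br 41 [], 
  .bur 31 1 127 1, .br 179 [], .br 101 [], .br 197 [], .bur 7 1 563 1, .br 73 [], 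
  .bur 3943 1 2 0, .br 29 [], .br 263 [], .bur 2 1 1973 1, .bur 3947 1 2 0, .br 47 [], 
  .bur 11 1 359 1, .br 79 [], .bur 3 2 439 1, .br 19 [], .bur 59 1 67 1, .br 659 [], .br 113 [], 
  .br 43 [], .bur 3 1 1319 1, .bur 2 1 1979 1, .bur 37 1 107 1, .br 11 [], .bur 17 1 233 1, 
  .br 283 [], .bur 3 1 1321 1, .bur 2 2 991 1, .br 61 [], .br 661 [], .bur 3967 1 2 0, 
  .bur 2 7 31 1, .bur 3 4 7 2, .br 397 [], .bur 11 1 19 2, .br 331 [], .bur 29 1 137 1, 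
  .bur 2 1 1987 1, .br 53 [], .br 71 [], .bur 41 1 97 1, .br 13 [], .bur 23 1 173 1, .br 199 [], 
  .bur 3 1 1327 1, .br 181 [], .bur 7 1 569 1, .br 83 [], .bur 5 1 797 1, .bur 2 1 1993 1, 
  .bur 3 2 443 1, .bur 2 2 997 1, .bur 3989 1 2 0, .br 19 [], .bur 13 1 307 1, .bur 2 3 499 1, 
  .bur 3 1 11 3, .bur 2 1 1997 1, .br 47 [], .br 37 [], .bur 7 1 571 1, .bur 2 1 1999 1, 
  .br 43 [], .bur 2 5 5 3, .bur 4001 1 2 0, .br 29 [], .bur 4003 1 2 0, .br 11 [], .br 89 [], 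
  .bur 2 1 2003 1, .bur 4007 1 2 0, .br 167 [], .bur 19 1 211 1, .br 401 [], .br 191 [], 
  .br 59 [], .bur 4013 1 2 0, .br 223 [], .br 73 [], .bur 2 4 251 1, .br 103 [], .br 41 [], 
  .bur 4019 1 2 0, .br 67 [], .bur 4021 1 2 0, .bur 2 1 2011 1, .bur 3 3 149 1, .bur 2 3 503 1, 
  .br 23 [], .br 61 [], .bur 4027 1 2 0, .br 53 [], .br 79 [], .br 31 [], .bur 29 1 139 1, 
  .br 7 [(2, 6), (3, 2)], .bur 37 1 109 1, .bur 2 1 2017 1, .br 269 [], .bur 2 2 1009 1, 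
  .bur 11 1 367 1, .br 673 [], .bur 7 1 577 1, .br 101 [], .bur 3 2 449 1, .br 47 [], 
  .bur 13 1 311 1, .br 337 [], .bur 5 1 809 1, .syl 17 2, .br 71 [], .br 23 [], .bur 4049 1 2 0, 
  .br 2 [], .bur 4051 1 2 0, .bur 2 2 1013 1, .br 193 [], .bur 2 1 2027 1, .bur 5 1 811 1, 
  .syl 13 2, .bur 4057 1 2 0, .bur 2 1 2029 1, .br 41 [], .br 29 [], .bur 31 1 131 1, .br 677 [], 
  .bur 17 1 239 1, .bur 2 5 127 1, .br 271 [], .br 107 [], .bur 7 2 83 1, .br 113 [], 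
  .bur 13 1 313 1, .br 37 [], .br 59 [], .bur 2 3 509 1, .bur 4073 1 2 0, .br 97 [], 
  .bur 5 2 163 1, .bur 2 2 1019 1, .bur 3 3 151 1, .bur 2 1 2039 1, .bur 4079 1 2 0, .exc, 
  .br 53 [], .br 157 [], .bur 3 1 1361 1, .bur 2 2 1021 1, .br 43 [], .br 227 [], .bur 61 1 67 1, 
  .br 73 [], .br 47 [], .br 409 [], .bur 4091 1 2 0, .br 31 [], .bur 4093 1 2 0, .br 89 [], 
  .br 13 [], .bur 2 12 2 0, .bur 17 1 241 1, .br 683 [], .bur 4099 1 2 0, .br 41 [], 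
  .bur 3 1 1367 1, .br 293 [], .bur 11 1 373 1, .br 19 [], .bur 5 1 821 1, .bur 2 1 2053 1, 
  .bur 3 1 37 2, .br 79 [], .bur 7 1 587 1, .br 137 [], .bur 4111 1 2 0, .bur 2 4 257 1, 
  .bur 3 2 457 1, .br 17 [], .bur 5 1 823 1, .syl 7 3, .bur 23 1 179 1, .br 71 [], 
  .bur 3 1 1373 1, .br 103 [], .bur 13 1 317 1, .br 229 [], .br 31 [], .bur 2 2 1031 1, .syl 5 3, 
  .bur 2 1 2063 1, .bur 4127 1 2 0, .br 43 [], .bur 4129 1 2 0, .br 59 [], .bur 3 5 17 1, 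
  .bur 2 2 1033 1, .bur 4133 1 2 0, .br 53 [], .bur 5 1 827 1, .br 47 [], .br 197 [], 
  .bur 2 1 2069 1, .bur 4139 1 2 0, .br 23 [], .bur 41 1 101 1, .br 109 [], .bur 3 1 1381 1, 
  .br 37 [], .bur 5 1 829 1, .br 691 [], .br 29 [], .br 61 [], .bur 3 2 461 1, .br 83 [], 
  .bur 7 1 593 1, .br 173 [], .bur 4153 1 2 0, .br 67 [], .br 277 [], .bur 2 2 1039 1, 
  .bur 4157 1 2 0, .br 11 [], .bur 4159 1 2 0, .br 13 [], .br 73 [], .bur 2 1 2081 1, 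
  .bur 23 1 181 1, .br 347 [], .br 17 [], .bur 2 1 2083 1, .bur 3 2 463 1, .bur 2 3 521 1, 
  .bur 11 1 379 1, .br 139 [], .bur 43 1 97 1, .br 149 [], .br 107 [], .bur 2 1 2087 1, 
  .bur 5 2 167 1, .br 29 [], .bur 4177 1 2 0, .bur 2 1 2089 1, .br 199 [], .br 19 [], 
  .bur 37 1 113 1, .br 41 [], .bur 47 1 89 1, .bur 2 3 523 1, .br 31 [], .br 23 [], 
  .bur 53 1 79 1, .br 349 [], .bur 59 1 71 1, .br 419 [], .br 127 [], .bur 2 5 131 1, 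
  .bur 7 1 599 1, .br 233 [], .bur 5 1 839 1, .bur 2 2 1049 1, .bur 3 1 1399 1, .bur 2 1 2099 1, 
  .br 19 [], .br 7 [], .bur 4201 1 2 0, .br 191 [], .bur 3 2 467 1, .bur 2 2 1051 1, 
  .bur 5 1 29 2, .br 701 [], .bur 7 1 601 1, .bur 2 4 263 1, .br 61 [], .br 421 [], 
  .bur 4211 1 2 0, .br 13 [], .bur 11 1 383 1, .br 43 [], .br 281 [], .br 31 [], .bur 4217 1 2 0, 
  .br 19 [], .bur 4219 1 2 0, .br 211 [], .br 67 [], .bur 2 1 2111 1, .bur 41 1 103 1, .br 11 [], 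
  .bur 5 2 13 2, .bur 2 1 2113 1, .bur 3 1 1409 1, .br 151 [], .bur 4229 1 2 0, .br 47 [], 
  .bur 4231 1 2 0, .bur 2 3 23 2, .br 83 [], .br 73 [], .syl 11 2, .br 353 [], .bur 19 1 223 1, 
  .br 163 [], .bur 3 3 157 1, .br 53 [], .bur 4241 1 2 0, .br 101 [], .bur 4243 1 2 0, 
  .bur 2 2 1061 1, .br 283 [], .br 193 [], .bur 31 1 137 1, .br 59 [], .bur 7 1 607 1, .syl 5 3, 
  .br 109 [], .bur 2 2 1063 1, .bur 4253 1 2 0, .br 709 [], .br 37 [], .br 19 [], .br 43 [], 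
  .bur 2 1 2129 1, .bur 4259 1 2 0, .br 71 [], .bur 4261 1 2 0, .bur 2 1 2131 1, .br 29 [], 
  .br 41 [], .bur 5 1 853 1, .br 79 [], .bur 17 1 251 1, .br 97 [], .bur 3 1 1423 1, .br 61 [], 
  .bur 4271 1 2 0, .br 89 [], .bur 4273 1 2 0, .bur 2 1 2137 1, .br 19 [], .bur 2 2 1069 1, 
  .br 47 [], .br 31 [], .bur 11 1 389 1, .br 107 [], .bur 3 1 1427 1, .bur 2 1 2141 1, 
  .bur 4283 1 2 0, .br 17 [], .bur 5 1 857 1, .bur 2 1 2143 1, .bur 3 1 1429 1, .bur 2 6 67 1, 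
  .bur 4289 1 2 0, .br 13 [], .bur 7 1 613 1, .br 37 [], .bur 3 4 53 1, .br 113 [], 
  .bur 5 1 859 1, .br 179 [], .bur 4297 1 2 0, .br 307 [], .bur 3 1 1433 1, .br 43 [], .br 23 [], 
  .br 239 [], .bur 13 1 331 1, .bur 2 4 269 1, .br 41 [], .bur 2 1 2153 1, .bur 59 1 73 1, 
  .br 359 [], .bur 31 1 139 1, .br 431 [], .bur 3 2 479 1, .br 11 [], .bur 19 1 227 1, 
  .br 719 [], .bur 5 1 863 1, .br 83 [], .bur 3 1 1439 1, .br 127 [], .bur 7 1 617 1, .exc, 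
  .bur 29 1 149 1, .bur 2 1 2161 1, .br 131 [], .br 47 [], .bur 5 2 173 1, .br 103 [], 
  .bur 4327 1 2 0, .bur 2 3 541 1, .br 37 [], .br 433 [], .bur 61 1 71 1, .syl 19 2, 
  .bur 7 1 619 1, .br 197 [], .syl 17 2, .bur 2 4 271 1, .bur 4337 1 2 0, .br 241 [], 
  .bur 4339 1 2 0, .br 31 [], .bur 3 1 1447 1, .br 167 [], .bur 43 1 101 1, .br 181 [], 
  .br 79 [], .br 53 [], .br 23 [], .bur 2 2 1087 1, .bur 4349 1 2 0, .br 29 [], .bur 19 1 229 1, 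
  .bur 2 8 17 1, .bur 3 1 1451 1, .br 311 [], .br 67 [], .syl 11 2, .bur 4357 1 2 0, 
  .bur 2 1 2179 1, .bur 3 1 1453 1, .br 109 [], .bur 7 2 89 1, .br 727 [], .bur 4363 1 2 0, 
  .bur 2 2 1091 1, .br 97 [], .br 59 [], .bur 11 1 397 1, .br 7 [], .bur 17 1 257 1, .br 23 [], 
  .br 47 [], .bur 2 2 1093 1, .bur 4373 1 2 0, .bur 2 1 3 7, .bur 5 4 7 1, .bur 2 3 547 1, 
  .bur 3 1 1459 1, .br 199 [], .bur 29 1 151 1, .br 73 [], .bur 13 1 337 1, .br 313 [], 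
  .bur 3 2 487 1, .bur 2 5 137 1, .bur 5 1 877 1, .br 43 [], .bur 41 1 107 1, .bur 2 2 1097 1, 
  .br 11 [], .br 439 [], .bur 4391 1 2 0, .br 61 [], .bur 23 1 191 1, .bur 2 1 13 3, .br 293 [], 
  .br 157 [], .bur 4397 1 2 0, .br 733 [], .bur 53 1 83 1, .br 11 [], .bur 3 3 163 1, .br 71 [], 
  .br 37 [], .br 367 [], .bur 5 1 881 1, .bur 2 1 2203 1, .br 113 [], .br 29 [], .bur 4409 1 2 0, 
  .syl 7 2, .bur 11 1 401 1, .bur 2 2 1103 1, .bur 3 1 1471 1, .bur 2 1 2207 1, .bur 5 1 883 1, 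
  .br 23 [], .bur 7 1 631 1, .bur 2 1 47 2, .bur 3 2 491 1, .br 17 [], .bur 4421 1 2 0, 
  .br 67 [], .bur 4423 1 2 0, .br 79 [], .br 59 [], .bur 2 1 2213 1, .bur 19 1 233 1, .br 41 [], 
  .bur 43 1 103 1, .br 443 [], .br 211 [], .bur 2 4 277 1, .br 31 [], .br 739 [], .bur 5 1 887 1, 
  .bur 2 2 1109 1, .br 29 [], .br 317 [], .bur 23 1 193 1, .br 37 [], .bur 4441 1 2 0, 
  .bur 2 1 2221 1, .bur 3 1 1481 1, .br 101 [], .br 127 [], .br 13 [], .bur 4447 1 2 0, 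
  .bur 2 5 139 1, .bur 3 1 1483 1, .br 89 [], .bur 4451 1 2 0, .br 53 [], .bur 61 1 73 1, 
  .br 131 [], .br 11 [], .bur 2 3 557 1, .bur 4457 1 2 0, .br 743 [], .bur 7 3 13 1, .br 223 [], 
  .bur 3 1 1487 1, .br 97 [], .bur 4463 1 2 0, .br 31 [], .br 19 [], .br 29 [], .bur 3 1 1489 1, 
  .bur 2 2 1117 1, .bur 41 1 109 1, .br 149 [], .bur 17 1 263 1, .br 43 [], .br 71 [], 
  .bur 2 1 2237 1, .bur 5 2 179 1, .br 373 [], .bur 11 2 37 1, .bur 2 1 2239 1, .bur 3 1 1493 1, 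
  .syl 2 7, .bur 4481 1 2 0, .br 83 [], .bur 4483 1 2 0, .br 59 [], .br 23 [], .bur 2 1 2243 1, 
  .bur 7 1 641 1, .br 17 [], .bur 67 2 2 0, .br 449 [], .bur 3 2 499 1, .bur 2 2 1123 1, 
  .bur 4493 1 2 0, .br 107 [], .br 31 [], .bur 2 4 281 1, .bur 3 1 1499 1, .br 173 [], 
  .bur 11 1 409 1, .syl 5 3, .bur 7 1 643 1, .bur 2 1 2251 1, .br 79 [], .bur 2 3 563 1, 
  .br 53 [], .br 751 [], .bur 4507 1 2 0, .br 23 [], .bur 3 3 167 1, .br 41 [], .bur 13 1 347 1, 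
  .br 47 [], .bur 4513 1 2 0, .br 61 [], .br 43 [], .bur 2 2 1129 1, .bur 4517 1 2 0, .br 251 [], 
  .bur 4519 1 2 0, .br 113 [], .br 137 [], .br 19 [], .bur 4523 1 2 0, .br 29 [], .bur 5 2 181 1, 
  .br 73 [], .bur 3 2 503 1, .bur 2 4 283 1, .bur 7 1 647 1, .br 151 [], .bur 23 1 197 1, 
  .br 103 [], .bur 3 1 1511 1, .bur 2 1 2267 1, .bur 5 1 907 1, .br 7 [], .bur 13 1 349 1, 
  .bur 2 1 2269 1, .br 89 [], .br 227 [], .bur 19 1 239 1, .br 757 [], .br 59 [], .bur 2 6 71 1, 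
  .br 101 [], .bur 2 1 2273 1, .bur 4547 1 2 0, .br 379 [], .bur 4549 1 2 0, .br 13 [], 
  .br 41 [], .bur 2 3 569 1, .bur 29 1 157 1, .br 23 [], .bur 5 1 911 1, .br 17 [], .br 31 [], 
  .br 53 [], .bur 47 1 97 1, .br 19 [], .bur 4561 1 2 0, .bur 2 1 2281 1, .bur 3 3 13 2, 
  .br 163 [], .br 83 [], .br 761 [], .bur 4567 1 2 0, .bur 2 3 571 1, .bur 3 1 1523 1, 
  .br 457 [], .bur 7 1 653 1, .br 127 [], .bur 17 1 269 1, .bur 2 1 2287 1, .br 61 [], .br 11 [], 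
  .bur 23 1 199 1, .br 109 [], .bur 19 1 241 1, .br 229 [], .bur 3 2 509 1, .br 79 [], 
  .bur 4583 1 2 0, .br 191 [], .br 131 [], .bur 2 1 2293 1, .br 139 [], .br 37 [], 
  .bur 13 1 353 1, .br 17 [], .bur 4591 1 2 0, .br 41 [], .bur 3 1 1531 1, .bur 2 1 2297 1, 
  .bur 5 1 919 1, .br 383 [], .bur 4597 1 2 0, .syl 11 2, .br 73 [], .br 23 [], .bur 43 1 107 1, 
  .br 59 [], .bur 4603 1 2 0, .bur 2 2 1151 1, .br 307 [], .br 47 [], .bur 17 1 271 1, 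
  .bur 2 9 3 2, .bur 11 1 419 1, .br 461 [], .br 53 [], .bur 2 2 1153 1, .bur 7 1 659 1, 
  .br 769 [], .br 71 [], .bur 2 3 577 1, .bur 3 5 19 1, .bur 2 1 2309 1, .bur 31 1 149 1, 
  .pair 11 [(2, 2), (3, 1), (5, 1), (7, 1)] 7 [(2, 2), (3, 1), (5, 1), (11, 1)], .bur 4621 1 2 0, 
  .bur 2 1 2311 1, .br 67 [], .bur 2 4 17 2, .bur 5 3 37 1, .br 257 [], .bur 7 1 661 1, 
  .br 89 [], .bur 3 1 1543 1, .br 463 [], .bur 11 1 421 1, .br 193 [], .bur 41 1 113 1, 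
  .br 331 [], .br 103 [], .br 61 [], .bur 4637 1 2 0, .br 773 [], .bur 4639 1 2 0, .br 29 [], 
  .br 13 [], .br 211 [], .bur 4643 1 2 0, .br 43 [], .bur 5 1 929 1, .br 101 [], .bur 3 1 1549 1, 
  .br 83 [], .bur 4649 1 2 0, .br 31 [], .bur 4651 1 2 0, .bur 2 2 1163 1, .br 47 [], .br 179 [], 
  .br 19 [], .br 97 [], .bur 4657 1 2 0, .br 137 [], .bur 3 1 1553 1, .br 233 [], .bur 59 1 79 1, 
  .br 37 [], .bur 4663 1 2 0, .br 53 [], .br 311 [], .bur 2 1 2333 1, .bur 13 1 359 1, 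
  .br 389 [], .br 29 [], .br 467 [], .bur 3 3 173 1, .bur 2 6 73 1, .bur 4673 1 2 0, .br 41 [], 
  .br 17 [], .br 167 [], .bur 3 1 1559 1, .bur 2 1 2339 1, .bur 4679 1 2 0, .br 13 [], 
  .bur 31 1 151 1, .bur 2 1 2341 1, .br 223 [], .bur 2 2 1171 1, .bur 5 1 937 1, .br 71 [], 
  .bur 43 1 109 1, .bur 2 4 293 1, .bur 3 2 521 1, .br 67 [], .bur 4691 1 2 0, .br 23 [], 
  .bur 13 1 19 2, .bur 2 1 2347 1, .br 313 [], .bur 2 3 587 1, .br 61 [], .br 29 [], 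
  .bur 37 1 127 1, .br 47 [], .bur 3 1 1567 1, .bur 2 1 2351 1, .bur 4703 1 2 0, .syl 7 2, 
  .bur 5 1 941 1, .br 181 [], .bur 3 2 523 1, .br 107 [], .bur 17 1 277 1, .br 157 [], 
  .bur 7 1 673 1, .br 31 [], .bur 3 1 1571 1, .bur 2 1 2357 1, .br 41 [], .br 131 [], 
  .bur 53 1 89 1, .br 337 [], .syl 11 2, .br 59 [], .bur 4721 1 2 0, .br 787 [], .bur 4723 1 2 0, 
  .bur 2 2 1181 1, .syl 5 2, .br 139 [], .bur 29 1 163 1, .br 197 [], .bur 4729 1 2 0, .br 43 [], 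
  .br 83 [], .syl 13 2, .bur 4733 1 2 0, .br 263 [], .bur 5 1 947 1, .bur 2 7 37 1, 
  .bur 3 1 1579 1, .br 103 [], .bur 7 1 677 1, .br 79 [], .bur 11 1 431 1, .bur 2 1 2371 1, 
  .br 31 [], .bur 2 3 593 1, .br 73 [], .br 113 [], .bur 47 1 101 1, .bur 2 2 1187 1, 
  .bur 3 1 1583 1, .syl 5 3, .bur 4751 1 2 0, .br 11 [], .bur 7 2 97 1, .bur 2 1 2377 1, 
  .br 317 [], .br 41 [], .bur 67 1 71 1, .br 61 [], .bur 4759 1 2 0, .br 7 [], .bur 3 2 23 2, 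
  .bur 2 1 2381 1, .bur 11 1 433 1, .br 397 [], .bur 5 1 953 1, .bur 2 1 2383 1, .br 227 [], 
  .bur 2 5 149 1, .bur 19 1 251 1, .br 53 [], .bur 13 1 367 1, .bur 2 2 1193 1, .br 43 [], 
  .br 31 [], .bur 5 2 191 1, .br 199 [], .bur 17 1 281 1, .bur 2 1 2389 1, .bur 3 4 59 1, 
  .br 239 [], .bur 7 1 683 1, .br 797 [], .bur 4783 1 2 0, .br 23 [], .br 29 [], .bur 2 1 2393 1, 
  .bur 4787 1 2 0, .br 19 [], .bur 4789 1 2 0, .br 479 [], .bur 3 1 1597 1, .bur 2 3 599 1, 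
  .bur 4793 1 2 0, .br 47 [], .br 137 [], .br 109 [], .br 41 [], .bur 2 1 2399 1, 
  .bur 4799 1 2 0, .br 3 [], .bur 4801 1 2 0, .bur 2 1 7 4, .bur 3 1 1601 1, .bur 2 2 1201 1, 
  .bur 5 1 31 2, .br 89 [], .br 23 [], .bur 2 3 601 1, .br 229 [], .br 37 [], .bur 17 1 283 1, 
  .br 401 [], .bur 4813 1 2 0, .br 83 [], .br 107 [], .br 43 [], .bur 4817 1 2 0, .br 73 [], 
  .bur 61 1 79 1, .br 241 [], .bur 3 1 1607 1, .bur 2 1 2411 1, .br 53 [], .br 67 [], 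
  .bur 5 2 193 1, .br 127 [], .bur 3 1 1609 1, .br 71 [], .bur 11 1 439 1, .br 23 [], 
  .bur 4831 1 2 0, .bur 2 5 151 1, .bur 3 3 179 1, .bur 2 1 2417 1, .bur 5 1 967 1, .br 13 [], 
  .bur 7 1 691 1, .br 59 [], .bur 3 1 1613 1, .syl 11 2, .bur 47 1 103 1, .br 269 [], 
  .bur 29 1 167 1, .br 173 [], .br 19 [], .bur 2 1 2423 1, .bur 37 1 131 1, .br 101 [], 
  .bur 13 1 373 1, .br 97 [], .br 11 [], .bur 2 2 1213 1, .bur 23 1 211 1, .br 809 [], 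
  .bur 5 1 971 1, .bur 2 3 607 1, .bur 3 1 1619 1, .br 347 [], .bur 43 1 113 1, .syl 3 5, 
  .bur 4861 1 2 0, .br 17 [], .bur 3 1 1621 1, .bur 2 8 19 1, .br 139 [], .br 811 [], 
  .bur 31 1 157 1, .bur 2 2 1217 1, .bur 3 2 541 1, .br 487 [], .bur 4871 1 2 0, .br 29 [], 
  .bur 11 1 443 1, .bur 2 1 2437 1, .syl 5 3, .br 53 [], .bur 4877 1 2 0, .br 271 [], .br 41 [], 
  .br 61 [], .bur 3 1 1627 1, .bur 2 1 2441 1, .bur 19 1 257 1, .br 37 [], .bur 5 1 977 1, 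
  .br 349 [], .bur 3 3 181 1, .br 47 [], .bur 4889 1 2 0, .br 163 [], .bur 67 1 73 1, 
  .bur 2 2 1223 1, .br 233 [], .bur 2 1 2447 1, .br 89 [], .br 17 [], .bur 59 1 83 1, .br 79 [], 
  .br 71 [], .syl 5 2, .bur 13 2 29 1, .br 43 [], .bur 4903 1 2 0, .bur 2 3 613 1, .br 109 [], 
  .br 223 [], .bur 7 1 701 1, .br 409 [], .bur 4909 1 2 0, .br 491 [], .bur 3 1 1637 1, 
  .bur 2 4 307 1, .bur 17 3 2 0, .br 13 [], .bur 5 1 983 1, .bur 2 2 1229 1, .br 149 [], 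
  .bur 2 1 2459 1, .bur 4919 1 2 0, .br 41 [], .br 37 [], .br 107 [], .bur 3 2 547 1, 
  .bur 2 2 1231 1, .bur 5 2 197 1, .br 821 [], .bur 13 1 379 1, .br 11 [], .br 53 [], .br 29 [], 
  .bur 4931 1 2 0, .br 137 [], .bur 4933 1 2 0, .bur 2 1 2467 1, .br 47 [], .bur 2 3 617 1, 
  .bur 4937 1 2 0, .br 823 [], .bur 11 1 449 1, .br 13 [], .bur 3 4 61 1, .br 353 [], 
  .bur 4943 1 2 0, .br 103 [], .br 43 [], .bur 2 1 2473 1, .br 97 [], .bur 2 2 1237 1, 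
  .bur 7 2 101 1, .br 11 [], .bur 4951 1 2 0, .bur 2 3 619 1, .br 127 [], .bur 2 1 2477 1, 
  .bur 5 1 991 1, .br 59 [], .bur 4957 1 2 0, .br 67 [], .br 29 [], .br 31 [], .bur 11 2 41 1, 
  .br 827 [], .bur 7 1 709 1, .br 73 [], .br 331 [], .br 191 [], .bur 4967 1 2 0, .br 23 [], 
  .bur 4969 1 2 0, .br 71 [], .bur 3 1 1657 1, .br 113 [], .bur 4973 1 2 0, .br 829 [], 
  .bur 5 2 199 1, .bur 2 4 311 1, .br 79 [], .br 131 [], .bur 13 1 383 1, .br 83 [], 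
  .bur 17 1 293 1, .br 53 [], .br 151 [], .br 89 [], .bur 5 1 997 1, .br 277 [], .bur 4987 1 2 0, 
  .br 43 [], .bur 3 1 1663 1, .br 499 [], .br 31 [], .br 13 [], .bur 4993 1 2 0, .br 227 [], 
  .br 37 [], .bur 2 2 1249 1, .bur 19 1 263 1, .syl 7 2, .bur 4999 1 2 0, .bur 2 3 5 4, 
  .bur 3 1 1667 1, .br 61 [], .bur 5003 1 2 0, .br 139 [], .br 13 [], .bur 2 1 2503 1, 
  .bur 3 1 1669 1, .bur 2 4 313 1, .bur 5009 1 2 0, .br 167 [], .bur 5011 1 2 0, .br 179 [], 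
  .bur 3 2 557 1, .br 109 [], .br 59 [], .br 19 [], .bur 29 1 173 1, .br 193 [], .br 239 [], 
  .br 251 [], .bur 5021 1 2 0, .br 31 [], .bur 5023 1 2 0, .bur 2 5 157 1, .br 67 [], .br 359 [], 
  .bur 11 1 457 1, .br 419 [], .bur 47 1 107 1, .br 503 [], .br 43 [], .br 37 [], .bur 7 1 719 1, 
  .br 839 [], .br 53 [], .bur 2 2 1259 1, .br 73 [], .br 229 [], .bur 5039 1 2 0, .br 5 [], 
  .bur 71 2 2 0, .bur 2 1 2521 1, .bur 3 1 41 2, .br 97 [], .bur 5 1 1009 1, .syl 29 2, 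
  .bur 7 2 103 1, .bur 2 3 631 1, .br 17 [], .br 101 [], .bur 5051 1 2 0, .br 421 [], 
  .bur 31 1 163 1, .syl 19 2, .br 337 [], .bur 2 6 79 1, .bur 13 1 389 1, .br 281 [], 
  .bur 5059 1 2 0, .br 23 [], .br 241 [], .bur 2 1 2531 1, .bur 61 1 83 1, .br 211 [], 
  .bur 5 1 1013 1, .br 149 [], .bur 3 2 563 1, .br 181 [], .bur 37 1 137 1, .syl 13 2, 
  .bur 11 1 461 1, .bur 2 4 317 1, .br 89 [], .br 59 [], .br 29 [], .br 47 [], .bur 5077 1 2 0, 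
  .bur 2 1 2539 1, .bur 3 1 1693 1, .br 127 [], .bur 5081 1 2 0, .syl 11 2, .br 23 [], .br 31 [], 
  .br 113 [], .bur 2 1 2543 1, .bur 5087 1 2 0, .br 53 [], .bur 7 1 727 1, .br 509 [], 
  .bur 3 1 1697 1, .br 67 [], .bur 11 1 463 1, .br 283 [], .bur 5 1 1019 1, .syl 7 2, 
  .bur 3 1 1699 1, .bur 2 1 2549 1, .bur 5099 1 2 0, .br 17 [], .bur 5101 1 2 0, .bur 2 1 2551 1, 
  .bur 3 6 7 1, .br 29 [], .bur 5 1 1021 1, .br 37 [], .bur 5107 1 2 0, .bur 2 2 1277 1, 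
  .br 131 [], .br 73 [], .bur 19 1 269 1, .br 71 [], .bur 5113 1 2 0, .bur 2 1 2557 1, .br 31 [], 
  .bur 2 2 1279 1, .br 43 [], .br 853 [], .bur 5119 1 2 0, .bur 2 10 5 1, .bur 3 2 569 1, 
  .br 197 [], .bur 47 1 109 1, .br 61 [], .bur 5 3 41 1, .br 233 [], .bur 3 1 1709 1, 
  .bur 2 3 641 1, .bur 23 1 223 1, .br 19 [], .bur 7 1 733 1, .bur 2 2 1283 1, .br 59 [], 
  .br 151 [], .br 79 [], .br 107 [], .bur 11 1 467 1, .br 367 [], .bur 3 2 571 1, .br 257 [], 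
  .bur 53 1 97 1, .br 857 [], .bur 37 1 139 1, .bur 2 3 643 1, .syl 7 3, .br 83 [], 
  .bur 5147 1 2 0, .br 11 [], .bur 19 1 271 1, .br 103 [], .br 101 [], .br 23 [], 
  .bur 5153 1 2 0, .br 859 [], .bur 5 1 1031 1, .bur 2 2 1289 1, .bur 3 3 191 1, .bur 2 1 2579 1, 
  .br 67 [], .br 43 [], .bur 13 1 397 1, .br 89 [], .bur 3 1 1721 1, .bur 2 2 1291 1, 
  .bur 5 1 1033 1, .br 41 [], .bur 5167 1 2 0, .br 19 [], .bur 3 1 1723 1, .br 47 [], 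
  .bur 5171 1 2 0, .br 431 [], .bur 7 1 739 1, .br 199 [], .br 23 [], .bur 2 3 647 1, 
  .bur 31 1 167 1, .br 863 [], .bur 5179 1 2 0, .br 37 [], .br 157 [], .bur 2 1 2591 1, 
  .bur 71 1 73 1, .bur 2 6 3 4, .br 61 [], .bur 2 1 2593 1, .br 13 [], .bur 2 2 1297 1, 
  .bur 5189 1 2 0, .br 173 [], .bur 29 1 179 1, .br 59 [], .bur 3 2 577 1, .br 53 [], 
  .bur 5 1 1039 1, .br 433 [], .bur 5197 1 2 0, .br 113 [], .bur 3 1 1733 1, .br 13 [], 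
  .bur 7 1 743 1, .syl 17 2, .bur 11 2 43 1, .bur 2 2 1301 1, .br 347 [], .br 137 [], 
  .bur 41 1 127 1, .br 31 [], .bur 5209 1 2 0, .br 521 [], .bur 3 3 193 1, .bur 2 2 1303 1, 
  .bur 13 1 401 1, .br 79 [], .br 149 [], .bur 2 5 163 1, .br 47 [], .bur 2 1 2609 1, 
  .bur 17 1 307 1, .br 29 [], .bur 23 1 227 1, .br 373 [], .bur 3 1 1741 1, .bur 2 3 653 1, 
  .br 19 [], .br 67 [], .bur 5227 1 2 0, .bur 2 2 1307 1, .br 83 [], .br 523 [], .bur 5231 1 2 0, 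
  .br 109 [], .bur 5233 1 2 0, .bur 2 1 2617 1, .br 349 [], .br 17 [], .bur 5237 1 2 0, 
  .br 97 [], .bur 13 2 31 1, .br 131 [], .bur 3 1 1747 1, .bur 2 1 2621 1, .bur 7 2 107 1, 
  .br 23 [], .bur 5 1 1049 1, .br 61 [], .br 53 [], .bur 2 7 41 1, .bur 29 1 181 1, .syl 5 3, 
  .bur 59 1 89 1, .br 101 [], .br 103 [], .br 71 [], .bur 5 1 1051 1, .br 73 [], .bur 7 1 751 1, 
  .br 239 [], .bur 3 1 1753 1, .br 263 [], .bur 5261 1 2 0, .br 877 [], .bur 19 1 277 1, 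
  .br 47 [], .syl 3 4, .bur 2 1 2633 1, .bur 23 1 229 1, .br 439 [], .bur 11 1 479 1, .br 31 [], 
  .br 251 [], .bur 2 3 659 1, .bur 5273 1 2 0, .br 293 [], .bur 5 2 211 1, .bur 2 2 1319 1, 
  .bur 3 1 1759 1, .br 29 [], .bur 5279 1 2 0, .br 11 [], .bur 5281 1 2 0, .br 139 [], 
  .bur 3 2 587 1, .bur 2 2 1321 1, .br 151 [], .br 881 [], .bur 17 1 311 1, .bur 2 3 661 1, 
  .br 43 [], .syl 23 2, .br 37 [], .syl 7 2, .bur 67 1 79 1, .bur 2 1 2647 1, .br 353 [], 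
  .bur 2 4 331 1, .bur 5297 1 2 0, .br 883 [], .bur 7 1 757 1, .br 53 [], .br 31 [], .br 241 [], 
  .bur 5303 1 2 0, .br 13 [], .bur 5 1 1061 1, .br 379 [], .br 61 [], .bur 2 2 1327 1, 
  .bur 5309 1 2 0, .br 59 [], .bur 47 1 113 1, .bur 2 6 83 1, .br 23 [], .bur 2 1 2657 1, 
  .bur 5 1 1063 1, .br 443 [], .bur 13 1 409 1, .bur 2 1 2659 1, .bur 3 3 197 1, .br 19 [], 
  .bur 17 1 313 1, .br 887 [], .bur 5323 1 2 0, .bur 2 2 11 3, .br 71 [], .bur 2 1 2663 1, 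
  .bur 7 1 761 1, .br 37 [], .bur 73 2 2 0, .br 41 [], .bur 3 1 1777 1, .br 43 [], 
  .bur 5333 1 2 0, .br 127 [], .br 97 [], .br 29 [], .bur 3 2 593 1, .br 157 [], .bur 19 1 281 1, 
  .br 89 [], .bur 7 2 109 1, .bur 2 1 2671 1, .br 137 [], .bur 2 5 167 1, .bur 5 1 1069 1, 
  .syl 3 5, .bur 5347 1 2 0, .br 191 [], .bur 3 1 1783 1, .br 107 [], .bur 5351 1 2 0, 
  .br 223 [], .bur 53 1 101 1, .bur 2 1 2677 1, .br 17 [], .br 103 [], .bur 11 1 487 1, 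
  .br 47 [], .bur 23 1 233 1, .br 67 [], .bur 3 1 1787 1, .br 383 [], .bur 31 1 173 1, 
  .br 149 [], .br 37 [], .bur 2 1 2683 1, .bur 3 1 1789 1, .br 61 [], .br 59 [], .br 179 [], 
  .bur 41 1 131 1, .br 79 [], .bur 3 3 199 1, .bur 2 1 2687 1, .bur 5 3 43 1, .br 7 [], 
  .bur 19 1 283 1, .bur 2 1 2689 1, .br 163 [], .br 269 [], .bur 5381 1 2 0, .br 23 [], 
  .bur 7 1 769 1, .bur 2 3 673 1, .br 359 [], .bur 2 1 2693 1, .bur 5387 1 2 0, .br 449 [], 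
  .bur 17 1 317 1, .br 11 [], .bur 3 2 599 1, .bur 2 4 337 1, .bur 5393 1 2 0, .br 31 [], 
  .br 83 [], .br 71 [], .br 257 [], .bur 2 1 2699 1, .bur 5399 1 2 0, .exc, .bur 11 1 491 1, 
  .br 37 [], .bur 3 1 1801 1, .br 193 [], .br 47 [], .br 53 [], .bur 5407 1 2 0, .bur 2 5 13 2, 
  .bur 3 2 601 1, .br 541 [], .bur 7 1 773 1, .br 41 [], .bur 5413 1 2 0, .bur 2 1 2707 1, 
  .syl 19 2, .bur 2 3 677 1, .bur 5417 1 2 0, .br 43 [], .bur 5419 1 2 0, .br 271 [], .br 139 [], 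
  .bur 2 1 2711 1, .br 29 [], .br 113 [], .br 31 [], .bur 2 1 2713 1, .bur 3 4 67 1, .br 59 [], 
  .bur 61 1 89 1, .br 181 [], .bur 5431 1 2 0, .br 97 [], .bur 3 1 1811 1, .br 19 [], 
  .bur 5 1 1087 1, .br 151 [], .bur 5437 1 2 0, .bur 2 1 2719 1, .br 37 [], .br 17 [], 
  .bur 5441 1 2 0, .br 907 [], .bur 5443 1 2 0, .bur 2 2 1361 1, .syl 11 2, .br 389 [], 
  .bur 13 1 419 1, .br 227 [], .bur 5449 1 2 0, .br 109 [], .br 79 [], .br 47 [], .br 41 [], 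
  .br 101 [], .bur 5 1 1091 1, .br 31 [], .br 107 [], .bur 2 1 2729 1, .bur 53 1 103 1, 
  .pair 13 [(2, 2), (3, 1), (5, 1), (7, 1)] 7 [(2, 2), (3, 1), (5, 1), (13, 1)], .bur 43 1 127 1, 
  .bur 2 1 2731 1, .bur 3 2 607 1, .bur 2 3 683 1, .bur 5 1 1093 1, .br 911 [], .br 71 [], 
  .bur 2 2 1367 1, .bur 3 1 1823 1, .br 547 [], .bur 5471 1 2 0, .br 19 [], .bur 13 1 421 1, 
  .br 23 [], .br 73 [], .bur 2 2 37 2, .bur 5477 1 2 0, .br 83 [], .bur 5479 1 2 0, .br 137 [], 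
  .br 29 [], .bur 2 1 2741 1, .bur 5483 1 2 0, .br 457 [], .bur 5 1 1097 1, .br 211 [], 
  .br 59 [], .bur 2 4 7 3, .bur 11 1 499 1, .br 61 [], .bur 17 2 19 1, .bur 2 2 1373 1, 
  .bur 3 1 1831 1, .br 67 [], .br 157 [], .br 229 [], .bur 23 1 239 1, .bur 2 1 2749 1, 
  .br 47 [], .syl 5 3, .bur 5501 1 2 0, .br 131 [], .bur 5503 1 2 0, .bur 2 7 43 1, .br 367 [], 
  .bur 2 1 2753 1, .bur 5507 1 2 0, .br 17 [], .bur 7 1 787 1, .br 29 [], .br 167 [], .br 53 [], 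
  .bur 37 1 149 1, .br 919 [], .bur 5 1 1103 1, .br 197 [], .bur 3 2 613 1, .br 89 [], 
  .bur 5519 1 2 0, .br 23 [], .bur 5521 1 2 0, .br 251 [], .br 263 [], .bur 2 2 1381 1, 
  .br 17 [], .br 307 [], .bur 5527 1 2 0, .bur 2 3 691 1, .br 97 [], .br 79 [], .bur 5531 1 2 0, 
  .br 461 [], .bur 11 1 503 1, .bur 2 1 2767 1, .br 41 [], .bur 2 5 173 1, .bur 7 2 113 1, 
  .br 71 [], .bur 29 1 191 1, .br 277 [], .bur 3 1 1847 1, .br 163 [], .bur 23 1 241 1, 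
  .br 11 [], .bur 5 1 1109 1, .br 59 [], .bur 3 1 43 2, .br 73 [], .bur 31 1 179 1, .br 37 [], 
  .br 61 [], .bur 2 4 347 1, .bur 3 2 617 1, .bur 2 1 2777 1, .br 101 [], .br 463 [], 
  .bur 5557 1 2 0, .br 397 [], .br 109 [], .br 139 [], .bur 67 1 83 1, .br 103 [], 
  .bur 5563 1 2 0, .br 107 [], .br 53 [], .br 23 [], .bur 19 1 293 1, .br 29 [], .bur 5569 1 2 0, 
  .br 557 [], .bur 3 2 619 1, .br 199 [], .bur 5573 1 2 0, .br 929 [], .bur 5 2 223 1, .br 41 [], 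
  .syl 13 2, .bur 2 1 2789 1, .bur 7 1 797 1, .br 31 [], .bur 5581 1 2 0, .bur 2 1 2791 1, 
  .bur 3 1 1861 1, .bur 2 4 349 1, .bur 5 1 1117 1, .br 19 [], .bur 37 1 151 1, .br 127 [], 
  .bur 3 5 23 1, .br 13 [], .bur 5591 1 2 0, .br 233 [], .br 47 [], .bur 2 1 2797 1, .br 373 [], 
  .bur 2 2 1399 1, .bur 29 1 193 1, .br 311 [], .bur 11 1 509 1, .br 7 [], .bur 3 1 1867 1, 
  .bur 2 1 2801 1, .bur 13 1 431 1, .br 467 [], .br 59 [], .bur 2 1 2803 1, .br 89 [], 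
  .bur 2 3 701 1, .bur 71 1 79 1, .br 17 [], .bur 31 1 181 1, .br 61 [], .bur 3 1 1871 1, 
  .br 401 [], .bur 5 1 1123 1, .exc, .bur 41 1 137 1, .bur 2 1 53 2, .bur 3 1 1873 1, .br 281 [], 
  .br 73 [], .br 937 [], .bur 5623 1 2 0, .br 19 [], .bur 3 2 5 4, .br 97 [], .bur 17 1 331 1, 
  .br 67 [], .bur 13 1 433 1, .br 563 [], .bur 3 1 1877 1, .bur 2 9 11 1, .bur 43 1 131 1, 
  .br 313 [], .br 23 [], .bur 2 2 1409 1, .bur 3 1 1879 1, .bur 2 1 2819 1, .bur 5639 1 2 0, 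
  .br 47 [], .bur 5641 1 2 0, .br 31 [], .br 19 [], .br 83 [], .bur 5 1 1129 1, .br 941 [], 
  .bur 5647 1 2 0, .bur 2 4 353 1, .br 269 [], .br 113 [], .bur 5651 1 2 0, .br 157 [], 
  .bur 5653 1 2 0, .br 257 [], .br 29 [], .br 101 [], .bur 5657 1 2 0, .br 41 [], 
  .bur 5659 1 2 0, .br 283 [], .br 37 [], .br 149 [], .bur 7 1 809 1, .br 59 [], .br 103 [], 
  .bur 2 1 2833 1, .bur 3 1 1889 1, .br 109 [], .bur 5669 1 2 0, .br 7 [], .bur 53 1 107 1, 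
  .bur 2 3 709 1, .br 61 [], .bur 2 1 2837 1, .bur 5 2 227 1, .syl 11 1, .bur 7 1 811 1, 
  .br 167 [], .bur 3 2 631 1, .br 71 [], .br 23 [], .br 947 [], .bur 5683 1 2 0, .br 29 [], 
  .br 379 [], .bur 2 1 2843 1, .bur 11 2 47 1, .br 79 [], .bur 5689 1 2 0, .br 569 [], 
  .br 271 [], .bur 2 2 1423 1, .bur 5693 1 2 0, .br 73 [], .br 67 [], .bur 2 6 89 1, 
  .bur 3 3 211 1, .br 37 [], .bur 41 1 139 1, .br 19 [], .bur 5701 1 2 0, .bur 2 1 2851 1, 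
  .bur 3 1 1901 1, .br 31 [], .br 163 [], .br 317 [], .bur 13 1 439 1, .bur 2 2 1427 1, 
  .br 173 [], .br 571 [], .bur 5711 1 2 0, .br 17 [], .bur 29 1 197 1, .bur 2 1 2857 1, 
  .br 127 [], .bur 2 2 1429 1, .bur 5717 1 2 0, .br 953 [], .br 43 [], .br 13 [], 
  .bur 3 1 1907 1, .bur 2 1 2861 1, .bur 59 1 97 1, .br 53 [], .bur 5 2 229 1, .br 409 [], 
  .br 83 [], .bur 2 5 179 1, .bur 17 1 337 1, .br 191 [], .bur 11 1 521 1, .bur 2 2 1433 1, 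
  .syl 7 2, .br 61 [], .br 37 [], .br 239 [], .bur 5737 1 2 0, .br 151 [], .bur 3 1 1913 1, 
  .br 41 [], .bur 5741 1 2 0, .br 29 [], .bur 5743 1 2 0, .bur 2 4 359 1, .br 383 [], .syl 13 2, 
  .bur 7 1 821 1, .br 479 [], .bur 5749 1 2 0, .br 23 [], .bur 3 4 71 1, .bur 2 3 719 1, 
  .bur 11 1 523 1, .br 137 [], .bur 5 1 1151 1, .bur 2 2 1439 1, .br 101 [], .bur 2 1 2879 1, 
  .bur 13 1 443 1, .br 5 [(2, 7), (3, 2)], .bur 7 1 823 1, .br 67 [], .br 113 [], .br 131 [], 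
  .bur 5 1 1153 1, .syl 31 2, .bur 73 1 79 1, .br 103 [], .bur 3 2 641 1, .br 577 [], 
  .bur 29 1 199 1, .br 37 [], .bur 23 1 251 1, .bur 2 1 2887 1, .br 11 [], .bur 2 4 19 2, 
  .bur 53 1 109 1, .br 107 [], .bur 5779 1 2 0, .syl 17 2, .br 47 [], .br 59 [], .bur 5783 1 2 0, 
  .br 241 [], .br 89 [], .br 263 [], .bur 3 2 643 1, .bur 2 2 1447 1, .bur 7 1 827 1, .br 193 [], 
  .bur 5791 1 2 0, .bur 2 5 181 1, .bur 3 1 1931 1, .bur 2 1 2897 1, .br 61 [], .br 23 [], 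
  .br 17 [], .br 223 [], .bur 3 1 1933 1, .br 29 [], .bur 5801 1 2 0, .br 967 [], .bur 7 1 829 1, 
  .bur 2 2 1451 1, .br 43 [], .bur 2 1 2903 1, .bur 5807 1 2 0, .syl 11 2, .bur 37 1 157 1, 
  .br 83 [], .br 149 [], .bur 2 2 1453 1, .bur 5813 1 2 0, .br 2 [], .bur 5 1 1163 1, 
  .bur 2 3 727 1, .br 277 [], .bur 2 1 2909 1, .bur 11 1 23 2, .br 97 [], .bur 5821 1 2 0, 
  .br 71 [], .bur 3 2 647 1, .br 13 [], .bur 5 2 233 1, .br 971 [], .bur 5827 1 2 0, .br 47 [], 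
  .br 67 [], .br 53 [], .bur 7 3 17 1, .bur 2 3 3 6, .bur 19 1 307 1, .bur 2 1 2917 1, 
  .br 389 [], .bur 2 2 1459 1, .bur 13 1 449 1, .br 139 [], .bur 5839 1 2 0, .br 73 [], 
  .br 59 [], .br 127 [], .bur 5843 1 2 0, .br 487 [], .br 167 [], .br 79 [], .bur 3 1 1949 1, 
  .br 43 [], .bur 5849 1 2 0, .br 13 [], .bur 5851 1 2 0, .br 19 [], .bur 3 1 1951 1, 
  .bur 2 1 2927 1, .bur 5 1 1171 1, .br 61 [], .bur 5857 1 2 0, .br 101 [], .br 7 [], .br 293 [], 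
  .bur 5861 1 2 0, .br 977 [], .br 41 [], .bur 2 3 733 1, .br 23 [], .br 419 [], .bur 5867 1 2 0, 
  .br 163 [], .bur 5869 1 2 0, .br 587 [], .br 103 [], .bur 2 4 367 1, .bur 7 1 839 1, .br 89 [], 
  .bur 5 3 47 1, .br 113 [], .bur 3 2 653 1, .bur 2 1 2939 1, .bur 5879 1 2 0, .br 5 [], 
  .bur 5881 1 2 0, .br 173 [], .br 53 [], .bur 2 2 1471 1, .br 107 [], .br 109 [], .bur 7 1 29 2, 
  .bur 2 8 23 1, .br 151 [], .br 31 [], .bur 43 1 137 1, .br 491 [], .bur 71 1 83 1, .br 421 [], 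
  .br 131 [], .br 67 [], .bur 5897 1 2 0, .br 983 [], .bur 17 1 347 1, .br 59 [], .br 281 [], 
  .br 227 [], .bur 5903 1 2 0, .br 41 [], .bur 5 1 1181 1, .bur 2 1 2953 1, .br 179 [], 
  .br 211 [], .bur 19 1 311 1, .br 197 [], .bur 23 1 257 1, .bur 2 3 739 1, .bur 3 4 73 1, 
  .bur 2 1 2957 1, .syl 13 2, .br 17 [], .bur 61 1 97 1, .br 269 [], .bur 3 1 1973 1, .br 37 [], 
  .bur 31 1 191 1, .br 47 [], .bur 5923 1 2 0, .bur 2 2 1481 1, .br 79 [], .bur 2 1 2963 1, 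
  .bur 5927 1 2 0, .br 13 [], .bur 7 2 11 2, .br 593 [], .bur 3 2 659 1, .bur 2 2 1483 1, 
  .bur 17 1 349 1, .br 43 [], .bur 5 1 1187 1, .br 53 [], .bur 3 1 1979 1, .bur 2 1 2969 1, 
  .bur 5939 1 2 0, .br 11 [], .bur 13 1 457 1, .bur 2 1 2971 1, .br 283 [], .bur 2 3 743 1, 
  .br 41 [], .br 991 [], .bur 19 1 313 1, .bur 2 2 1487 1, .bur 3 2 661 1, .syl 5 2, 
  .bur 11 1 541 1, .br 31 [], .bur 5953 1 2 0, .br 229 [], .br 397 [], .bur 2 2 1489 1, 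
  .br 37 [], .br 331 [], .bur 59 1 101 1, .br 149 [], .bur 3 1 1987 1, .br 271 [], 
  .bur 67 1 89 1, .br 71 [], .bur 5 1 1193 1, .br 157 [], .br 17 [], .bur 2 4 373 1, 
  .bur 47 1 127 1, .br 199 [], .bur 7 1 853 1, .bur 2 2 1493 1, .br 181 [], .br 103 [], 
  .bur 5 2 239 1, .br 83 [], .bur 43 1 139 1, .br 61 [], .bur 3 1 1993 1, .br 23 [], 
  .bur 5981 1 2 0, .br 997 [], .bur 31 1 193 1, .br 17 [], .br 19 [], .br 73 [], .bur 5987 1 2 0, 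
  .br 499 [], .bur 53 1 113 1, .br 599 [], .bur 3 1 1997 1, .br 107 [], .bur 13 1 461 1, 
  .br 37 [], .br 109 [], .bur 2 2 1499 1, .bur 3 1 1999 1, .bur 2 1 2999 1, .bur 7 1 857 1, 
  .syl 5 3, .bur 17 1 353 1, .bur 2 1 3001 1, .br 29 [], .br 79 [], .bur 5 1 1201 1, .br 11 [], 
  .bur 6007 1 2 0, .bur 2 3 751 1, .bur 3 1 2003 1, .br 601 [], .bur 6011 1 2 0, .br 167 [], 
  .bur 7 1 859 1, .br 97 [], .br 401 [], .bur 2 7 47 1, .bur 11 1 547 1, .br 59 [], 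
  .bur 13 1 463 1, .br 43 [], .bur 3 3 223 1, .bur 2 1 3011 1, .bur 19 1 317 1, .br 251 [], 
  .bur 5 2 241 1, .br 131 [], .br 41 [], .br 137 [], .bur 6029 1 2 0, .br 67 [], .bur 37 1 163 1, 
  .br 29 [], .bur 3 1 2011 1, .br 431 [], .br 71 [], .br 503 [], .bur 6037 1 2 0, 
  .bur 2 1 3019 1, .br 61 [], .br 151 [], .bur 7 1 863 1, .br 53 [], .bur 6043 1 2 0, 
  .bur 2 2 1511 1, .br 31 [], .bur 2 1 3023 1, .bur 6047 1 2 0, .exc, .bur 23 1 263 1, .syl 11 2, 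
  .bur 3 1 2017 1, .br 89 [], .bur 6053 1 2 0, .br 1009 [], .br 173 [], .bur 2 3 757 1, 
  .bur 3 2 673 1, .br 233 [], .bur 73 1 83 1, .br 101 [], .br 29 [], .br 433 [], .br 47 [], 
  .bur 2 4 379 1, .bur 5 1 1213 1, .br 337 [], .bur 6067 1 2 0, .br 41 [], .syl 17 2, .br 607 [], 
  .bur 13 1 467 1, .exc, .bur 6073 1 2 0, .bur 2 1 3037 1, .bur 3 5 5 2, .br 31 [], 
  .bur 59 1 103 1, .br 1013 [], .bur 6079 1 2 0, .br 19 [], .bur 3 1 2027 1, .bur 2 1 3041 1, 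
  .br 79 [], .syl 13 2, .bur 5 1 1217 1, .br 179 [], .bur 3 1 2029 1, .bur 2 3 761 1, 
  .bur 6089 1 2 0, .br 29 [], .bur 6091 1 2 0, .bur 2 2 1523 1, .bur 3 2 677 1, .br 277 [], 
  .br 53 [], .br 127 [], .br 67 [], .bur 2 1 3049 1, .br 107 [], .br 61 [], .bur 6101 1 2 0, 
  .br 113 [], .bur 17 1 359 1, .br 109 [], .br 37 [], .br 71 [], .bur 31 1 197 1, .br 509 [], 
  .bur 41 1 149 1, .br 47 [], .br 97 [], .bur 2 5 191 1, .bur 6113 1 2 0, .br 1019 [], 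
  .bur 5 1 1223 1, .br 139 [], .bur 3 1 2039 1, .br 23 [], .bur 29 1 211 1, .br 17 [], 
  .bur 6121 1 2 0, .bur 2 1 3061 1, .br 157 [], .bur 2 2 1531 1, .bur 5 3 7 2, .br 1021 [], 
  .bur 11 1 557 1, .bur 2 4 383 1, .bur 3 3 227 1, .br 613 [], .bur 6131 1 2 0, .br 73 [], 
  .bur 6133 1 2 0, .bur 2 1 3067 1, .br 409 [], .br 59 [], .bur 17 1 19 2, .br 31 [], 
  .bur 7 1 877 1, .br 307 [], .br 89 [], .br 83 [], .bur 6143 1 2 0, .bur 2 11 3 1, 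
  .bur 5 1 1229 1, .br 439 [], .bur 3 2 683 1, .br 53 [], .br 43 [], .br 41 [], .bur 6151 1 2 0, 
  .bur 2 3 769 1, .br 293 [], .br 181 [], .bur 5 1 1231 1, .br 19 [], .bur 47 1 131 1, 
  .bur 2 1 3079 1, .bur 3 1 2053 1, .br 7 [], .bur 61 1 101 1, .br 79 [], .bur 6163 1 2 0, 
  .br 67 [], .br 137 [], .bur 2 1 3083 1, .bur 7 1 881 1, .br 257 [], .bur 31 1 199 1, 
  .br 617 [], .syl 11 2, .bur 2 2 1543 1, .bur 6173 1 2 0, .syl 7 3, .br 19 [], .bur 2 5 193 1, 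
  .br 71 [], .bur 2 1 3089 1, .bur 37 1 167 1, .br 103 [], .bur 7 1 883 1, .br 281 [], 
  .bur 3 3 229 1, .bur 2 3 773 1, .bur 5 1 1237 1, .br 1031 [], .bur 23 1 269 1, .syl 13 1, 
  .bur 3 1 2063 1, .br 619 [], .bur 41 1 151 1, .br 43 [], .bur 11 1 563 1, .br 163 [], 
  .br 59 [], .bur 2 2 1549 1, .bur 6197 1 2 0, .br 1033 [], .bur 6199 1 2 0, .br 31 [], 
  .br 53 [], .br 443 [], .bur 6203 1 2 0, .br 47 [], .br 73 [], .br 107 [], .bur 3 1 2069 1, 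
  .bur 2 6 97 1, .bur 7 1 887 1, .br 23 [], .bur 6211 1 2 0, .bur 2 2 1553 1, .br 109 [], 
  .br 239 [], .br 113 [], .br 37 [], .bur 6217 1 2 0, .bur 2 1 3109 1, .bur 3 2 691 1, 
  .br 311 [], .bur 6221 1 2 0, .br 61 [], .bur 7 2 127 1, .bur 2 4 389 1, .br 83 [], .br 283 [], 
  .bur 13 1 479 1, .br 173 [], .bur 6229 1 2 0, .br 89 [], .br 67 [], .br 41 []
  ]

theorem certs_ok :
    H58.checkL [4080, 4320, 5400, 5616, 6048, 6072] 80 3641 certs = true := by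
  decide +kernel

theorem certs_length : certs.length = 2592 := by decide +kernel

/-- A non-abelian finite simple group of order greater than 3640 and at most 6232 has order 4080, 5616, 6048 or 6072. -/
theorem result {G : Type*} [Group G] [Finite G] [IsSimpleGroup G] (hG : ¬ IsMulCommutative G) (h1 : 3640 < Nat.card G) (h2 : Nat.card G ≤ 6232) : Nat.card G = 4080 ∨ Nat.card G = 5616 ∨ Nat.card G = 6048 ∨ Nat.card G = 6072 := by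
  have h := H58.checkL_sound hG certs 3641 certs_ok h1 (by rw [certs_length]; omega)
  simpa [H58.card_ne_4320, H58.card_ne_5400] using h

end Cfsg.Agent.S0983
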