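import Cfsg.Statements.S2933
import Cfsg.Agent.H2.TH
import Cfsg.Agent.H2.Tri

set_option autoImplicit false
open Cfsg

namespace Cfsg.Agent.S2933

/-- Let T be a 2-subgroup of a finite group G, V ≤ Z(T) a four-group, and t, ρ ∈ N_G(V) ∩ N_G(T) elements of order 2 and 3 with t commuting with ρ and with V. If [V, ρ] = V and C_T(t) = V, then T is elementary abelian of order 16, or homocyclic of rank 2 (ℤ/2ⁿ × ℤ/2ⁿ for some n ≥ 1), or isomorphic to a Sylow 2-subgroup of PSL₃(4) or of PSU₃(4). -/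
theorem result {G : Type*} [Group G] [Finite G] (T V : Subgroup G) (hT : IsPGroup 2 ↥T) (hVT : V ≤ T ⊓ Subgroup.centralizer (T : Set G)) (hV : Nat.card ↥V = 4 ∧ ∀ v ∈ V, v ^ 2 = 1) (t ρ : G) (ht : orderOf t = 2) (hρ : orderOf ρ = 3) (htn : t ∈ Subgroup.normalizer (V : Set G) ⊓ Subgroup.normalizer (T : Set G)) (hρn : ρ ∈ Subgroup.normalizer (V : Set G) ⊓ Subgroup.normalizer (T : Set G)) (htρ : t * ρ = ρ * t) (htV : t ∈ Subgroup.centralizer (V : Set G)) (hVρ : ⁅V, Subgroup.zpowers ρ⁆ = V) (hCt : T ⊓ Subgroup.centralizer ({t} : Set G) = V) : (Nat.card ↥T = 16 ∧ ∀ x ∈ T, x ^ 2 = 1) ∨ (∃ n : ℕ, 1 ≤ n ∧ Nonempty (↥T ≃* Multiplicative (ZMod (2 ^ n)) × Multiplicative (ZMod (2 ^ n)))) ∨ (∃ (F : Type) (_ : Field F) (_ : Fintype F), Fintype.card F = 4 ∧ ∀ P : Sylow 2 (Matrix.ProjectiveSpecialLinearGroup (Fin 3) F), Nonempty (↥T ≃* ↥(P : Subgroup (Matrix.ProjectiveSpecialLinearGroup (Fin 3) F)))) ∨ (∃ (F : Type) (_ : Field F) (_ : Fintype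 F), Fintype.card F = 16 ∧ ∀ P : Sylow 2 (Cfsg.PSU 3 F 4), Nonempty (↥T ≃* ↥(P : Subgroup (Cfsg.PSU 3 F 4)))) := by
  have : Fact (Nat.Prime 2) := ⟨Nat.prime_two⟩
  let α := H7.autRestrict (MulAut.conj t) T fun x hx => (Subgroup.mem_normalizer_iff.1 htn.2 x).1 hx
  let σ := H7.autRestrict (MulAut.conj ρ) T fun x hx => (Subgroup.mem_normalizer_iff.1 hρn.2 x).1 hx
  have cα : ∀ x : T, (α x : G) = t * x * t⁻¹ := fun x => rfl
  have cσ : ∀ x : T, (σ x : G) = ρ * x * ρ⁻¹ := fun x => rfl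
  have mf : ∀ x : T, x ∈ H2.fx α ↔ (x : G) ∈ V := fun x => by
    rw [H2.mem_fx, Subtype.ext_iff, cα, ← hCt, mul_inv_eq_iff_eq_mul, Subgroup.mem_inf,
      Subgroup.mem_centralizer_singleton_iff, eq_comm]
    simp
  have hC : Nat.card (H2.fx α) = 4 := by
    rw [show H2.fx α = V.subgroupOf T from Subgroup.ext mf, ← hV.1]
    exact Nat.card_congr (Subgroup.subgroupOfEquivOfLe (hVT.trans inf_le_left)).toEquiv
  have he : ∀ x ∈ H2.fx α, x * x = 1 := fun x hx =>
    Subtype.ext (by rw [Subgroup.coe_mul, ← sq, hV.2 _ ((mf x).1 hx)]; rfl)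
  have cV := H2.comm_of_exp2 he
  have σ3 : σ ^ 3 = 1 := orderOf_dvd_iff_pow_eq_one.1 ((H7.orderOf_autRestrict_dvd _ _ _).trans
    (hρ ▸ orderOf_map_dvd MulAut.conj ρ))
  have σ3' : ∀ x, σ (σ (σ x)) = x := fun x => DFunLike.congr_fun σ3 x
  have iσ : ∀ x ∈ H2.fx α, σ x ∈ H2.fx α := fun x hx =>
    (mf _).2 ((Subgroup.mem_normalizer_iff.1 hρn.1 _).1 ((mf x).1 hx))
  have four := fun {a b : T} ha hb n1 n2 n3 {x} hx => H2.mem_four (Z := H2.fx α) hC.le (a := a)
    (b := b) ha hb (he a ha) (he b hb) (cV a ha b hb) n1 n2 n3 (x := x) hx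
  have fpf : ∀ x ∈ H2.fx α, x ≠ 1 → σ x ≠ x := by
    intro x hx x1 e
    have k : ∀ y ∈ H2.fx α, σ y = y := fun y hy => by
      by_cases y1 : y = 1
      · simp [y1]
      by_cases yx : x = y
      · rwa [← yx]
      rcases four hx hy x1 y1 yx (iσ y hy) with h | h | h | h
      · exact absurd ((map_eq_one_iff _ σ.injective).1 h) y1
      · exact absurd (σ.injective (e.trans h.symm)) yx
      · exact h
      · have := σ3' y
        rw [h, map_mul, e, h, ← mul_assoc, he x hx, one_mul] at this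
        exact this
    have : ⁅V, Subgroup.zpowers ρ⁆ = ⊥ := by
      rw [Subgroup.commutator_comm, Subgroup.commutator_eq_bot_iff_le_centralizer,
        Subgroup.zpowers_le]
      intro v hv
      have := congrArg Subtype.val (k ⟨v, (hVT hv).1⟩ ((mf _).2 hv))
      rw [cσ, mul_inv_eq_iff_eq_mul] at this
      exact this.symm
    rw [hVρ] at this
    have h4 := hV.1
    rw [this] at h4
    simp at h4
  have cyc : ∀ x ∈ H2.fx α, x ≠ 1 → σ (σ x) = x * σ x := fun x hx x1 => by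
    have n2 : σ x ≠ 1 := fun h => x1 ((map_eq_one_iff _ σ.injective).1 h)
    rcases four hx (iσ x hx) x1 n2 (fpf x hx x1).symm (iσ _ (iσ x hx)) with h | h | h | h
    · exact absurd ((map_eq_one_iff _ σ.injective).1 h) n2
    · have := σ3' x
      rw [h] at this
      exact absurd this (fpf x hx x1)
    · exact absurd (σ.injective h) (fpf x hx x1)
    · exact h
  obtain ⟨F, _, _, _, ζ, l, h, hF⟩ := H2.exists_TH hT (n := 2) le_rfl (α := α) (ρ := σ)
    (fun x => Subtype.ext (by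
      rw [cα, cα, ← mul_assoc, ← mul_assoc, mul_assoc _ t⁻¹, ← mul_inv_rev,
        H9.mul_self_of_orderOf_two ht]; simp)) σ3
    (fun x => Subtype.ext (by
      rw [cα, cσ, cσ, cα, ← mul_assoc, ← mul_assoc, mul_assoc _ ρ⁻¹, ← mul_inv_rev, htρ]; group))
    he hC fun x hx y hy x1 y1 => by
      rcases four hx (iσ x hx) x1 (fun h => x1 ((map_eq_one_iff _ σ.injective).1 h))
        (fpf x hx x1).symm hy with h | h | h | h
      exacts [absurd h y1, ⟨0, h.symm⟩, ⟨1, h.symm⟩, ⟨2, (cyc x hx x1).trans h.symm⟩]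
  by_cases hc : ∀ x y : T, Commute x y
  · rcases h.abelian hc with ⟨hi, -⟩ | ⟨π, s⟩
    · obtain ⟨z, hz, z1⟩ := (Subgroup.nontrivial_iff_exists_ne_one (H2.fx α)).1
        (Finite.one_lt_card_iff_nontrivial.1 (by rw [hC]; norm_num))
      have n2 : σ z ≠ 1 := fun h => z1 ((map_eq_one_iff _ σ.injective).1 h)
      have h3 : H2.Three z (σ z) := ⟨z1, n2, (fpf z hz z1).symm, he z hz, he _ (iσ z hz), hc _ _,
        fun x hx => four hz (iσ z hz) z1 n2 (fpf z hz z1).symm (hi x hx)⟩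
      rcases h3.cases hT rfl (cyc z hz z1) with ⟨n, hn⟩ | hu
      · obtain ⟨e⟩ := hn.equiv h3
        exact Or.inr (Or.inl ⟨n + 1, by omega, ⟨e.trans (MulEquiv.prodMultiplicative _ _)⟩⟩)
      · obtain ⟨-, -, -, -, -, x, y, e⟩ := hu.exists_setup
        exact absurd (hc x y) e
    · refine Or.inl ⟨?_, fun x hx => ?_⟩
      · have := H38.card_of_additive (M := ⊤) (N := ⊥) bot_le (fun x _ y _ => s.add x y)
          (fun x _ => s.ker x) fun v => (s.surj v).imp fun x e => ⟨trivial, e⟩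
        simpa [hF] using this
      · have := (s.ker (⟨x, hx⟩ * ⟨x, hx⟩)).1
          (by rw [s.add]; ext <;> exact CharTwo.add_self_eq_zero _)
        rw [sq]; exact congrArg Subtype.val (Subgroup.mem_bot.1 this)
  · push Not at hc
    rcases h.sylow hc hF with k | ⟨E, _, _, hE, k⟩
    · exact Or.inr (Or.inr (Or.inl ⟨F, inferInstance, inferInstance, hF, k⟩))
    · exact Or.inr (Or.inr (Or.inr ⟨E, inferInstance, inferInstance, hE, k⟩))


end Cfsg.Agent.S2933
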