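import Cfsg.Statements.S2519
import Cfsg.Agent.H29.G2Ord

set_option autoImplicit false
open Cfsg

namespace Cfsg.Agent.S2519

/-- Let F be a finite field of odd order q = p^a ≥ 5. The element orders of the Chevalley group G₂(F) that are maximal under divisibility are exactly p(q + 1), p(q − 1), q² − 1, q² + q + 1, q² − q + 1, together with p² when p is 3 or 5. -/
theorem result {F : Type*} [Field F] [Fintype F] (p a : ℕ) (hp : p.Prime) (hp2 : p ≠ 2) (ha : 1 ≤ a) (hF : Fintype.card F = p ^ a) (hq5 : 5 ≤ Fintype.card F) :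
    {n : ℕ | n ∈ Set.range (orderOf : ↥(Cfsg.Lie.chevG2.group F) → ℕ) ∧ ∀ m ∈ Set.range (orderOf : ↥(Cfsg.Lie.chevG2.group F) → ℕ), n ∣ m → m = n} =
      ({p * (p ^ a + 1), p * (p ^ a - 1), p ^ (2 * a) - 1, p ^ (2 * a) + p ^ a + 1, p ^ (2 * a) - p ^ a + 1} : Set ℕ) ∪
        (if p = 3 ∨ p = 5 then ({p ^ 2} : Set ℕ) else ∅) := by
  have key := fun n => Cfsg.Agent.H29.mem_range_orderOf_chevG2 (n := n) hp hF
  rw [pow_mul' p 2 a]
  have hpq : p ∣ p ^ a := dvd_pow_self p (by omega)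
  rw [hF] at hq5
  generalize p ^ a = q at *
  obtain ⟨r, rfl⟩ : ∃ r, q = r + 1 := ⟨q - 1, by omega⟩
  have e1 : (r + 1) ^ 2 - 1 = r * (r + 2) := Nat.sub_eq_of_eq_add (by ring)
  have e2 : (r + 1) ^ 2 - (r + 1) + 1 = r * (r + 1) + 1 := by
    rw [Nat.sub_eq_of_eq_add (c := r * (r + 1)) (by ring)]
  have e3 : (r + 1) ^ 2 + (r + 1) + 1 = (r + 1) * (r + 2) + 1 := by ring
  have hG : ∀ N, Cfsg.Agent.H29.G2Ord p (r + 1) N ↔ N = r * (r + 2) ∨ N = (r + 1) * (r + 2) + 1 ∨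
      N = r * (r + 1) + 1 ∨ N = p * r ∨ N = p * (r + 2) ∨ ((p = 3 ∨ p = 5) ∧ N = p ^ 2) := fun N => by
    simp [Cfsg.Agent.H29.G2Ord, e1, e2, e3, hp2]
  have hp1 := hp.one_lt
  have hle : p ≤ r + 1 := Nat.le_of_dvd r.succ_pos hpq
  have n0 : ¬ p ∣ r := fun h => hp1.ne' (Nat.dvd_one.1 ((Nat.dvd_add_right h).1 hpq))
  have n2 : ¬ p ∣ r + 2 := fun h => hp1.ne' (Nat.dvd_one.1 ((Nat.dvd_add_right hpq).1 h))
  have nC : ¬ p ∣ r * (r + 2) := fun h => (hp.dvd_mul.1 h).elim n0 n2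
  have nD : ¬ p ∣ (r + 1) * (r + 2) + 1 := fun h =>
    hp1.ne' (Nat.dvd_one.1 ((Nat.dvd_add_right (hpq.mul_right _)).1 h))
  have nE : ¬ p ∣ r * (r + 1) + 1 := fun h =>
    hp1.ne' (Nat.dvd_one.1 ((Nat.dvd_add_right (hpq.mul_left _)).1 h))
  have hr : 0 < r := by omega
  have c1 : ∀ {X Y}, ¬ p ∣ X → X ∣ p * Y → 0 < Y → X ≤ Y := fun h h' hY =>
    Nat.le_of_dvd hY (((hp.coprime_iff_not_dvd.2 h).symm).dvd_of_dvd_mul_left h')
  have c2 : ∀ {X}, ¬ p ∣ X → X ∣ p ^ 2 → X = 1 := fun h h' =>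
    ((hp.coprime_iff_not_dvd.2 h).symm.pow_right 2).eq_one_of_dvd h'
  have c3 : ∀ {X Y : ℕ}, X ∣ Y → X < Y → 2 * X ≤ Y := fun {X Y} ⟨c, h⟩ h' => by
    rcases c with _ | _ | c
    · omega
    · omega
    · nlinarith
  have anti : ∀ N M, Cfsg.Agent.H29.G2Ord p (r + 1) N → Cfsg.Agent.H29.G2Ord p (r + 1) M → N ∣ M →
      M = N := by
    intro N M hN hM h
    rw [hG] at hN hM
    rcases hN with rfl | rfl | rfl | rfl | rfl | ⟨-, rfl⟩ <;>
      rcases hM with rfl | rfl | rfl | rfl | rfl | ⟨-, rfl⟩ <;> first | rfl | exfalso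
    · have := c3 h (by nlinarith); nlinarith
    · have := Nat.le_of_dvd (by positivity) h; nlinarith
    · have := c1 nC h hr; nlinarith
    · have := c1 nC h (by omega); nlinarith
    · have := c2 nC h; nlinarith
    · have := Nat.le_of_dvd (by positivity) h; nlinarith
    · have := Nat.le_of_dvd (by positivity) h; nlinarith
    · have := c1 nD h hr; nlinarith
    · have := c1 nD h (by omega); nlinarith
    · have := c2 nD h; nlinarith
    · have := c3 h (by nlinarith); nlinarith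
    · have := c3 h (by nlinarith); nlinarith
    · have := c1 nE h hr; nlinarith
    · have := c1 nE h (by omega); nlinarith
    · have := c2 nE h; nlinarith
    · exact nC ((dvd_mul_right _ _).trans h)
    · exact nD ((dvd_mul_right _ _).trans h)
    · exact nE ((dvd_mul_right _ _).trans h)
    · have := c3 ((Nat.mul_dvd_mul_iff_left hp.pos).1 h) (by omega); omega
    · rw [pow_two, Nat.mul_dvd_mul_iff_left hp.pos] at h
      rcases (Nat.dvd_prime hp).1 h with h | h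
      · omega
      · exact n0 (h ▸ dvd_rfl)
    · exact nC ((dvd_mul_right _ _).trans h)
    · exact nD ((dvd_mul_right _ _).trans h)
    · exact nE ((dvd_mul_right _ _).trans h)
    · have := Nat.le_of_dvd hr ((Nat.mul_dvd_mul_iff_left hp.pos).1 h); omega
    · rw [pow_two, Nat.mul_dvd_mul_iff_left hp.pos] at h
      have := Nat.le_of_dvd hp.pos h; omega
    · exact nC ((dvd_pow_self p two_ne_zero).trans h)
    · exact nD ((dvd_pow_self p two_ne_zero).trans h)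
    · exact nE ((dvd_pow_self p two_ne_zero).trans h)
    · rw [pow_two, Nat.mul_dvd_mul_iff_left hp.pos] at h; exact n0 h
    · rw [pow_two, Nat.mul_dvd_mul_iff_left hp.pos] at h; exact n2 h
  ext n
  have : n ∈ ({p * (r + 1 + 1), p * (r + 1 - 1), (r + 1) ^ 2 - 1, (r + 1) ^ 2 + (r + 1) + 1,
      (r + 1) ^ 2 - (r + 1) + 1} : Set ℕ) ∪ (if p = 3 ∨ p = 5 then ({p ^ 2} : Set ℕ) else ∅) ↔
      Cfsg.Agent.H29.G2Ord p (r + 1) n := by
    rw [hG, e1, e2, e3]
    split_ifs with h <;> simp [h] <;> tauto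
  rw [this]
  refine ⟨fun hn => ?_, fun hn => ⟨(key n).2 ⟨n, hn, dvd_rfl⟩, fun m hm h => ?_⟩⟩
  · obtain ⟨N, hN, h⟩ := (key n).1 hn.1
    exact hn.2 N ((key N).2 ⟨N, hN, dvd_rfl⟩) h ▸ hN
  · obtain ⟨N, hN, h'⟩ := (key m).1 hm
    exact Nat.dvd_antisymm (anti n N hn hN (h.trans h') ▸ h') h

end Cfsg.Agent.S2519
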