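import Cfsg.Statements.S2520
import Cfsg.Agent.H29.G2Ord

set_option autoImplicit false
open Cfsg

namespace Cfsg.Agent.S2520

/-- Let F be a finite field with q = 2^a ≥ 4 elements and G₂(F) the Chevalley group of type G₂ over it. Every element order of G₂(F) maximal under divisibility lies in the set {8, 12, 2(q + 1), 2(q − 1), q² − 1, q² + q + 1, q² − q + 1}, and every member of that set is an element order of G₂(F). -/
theorem result {F : Type*} [Field F] [Fintype F] (a : ℕ) (ha : 2 ≤ a) (hF : Fintype.card F = 2 ^ a) :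
    {n : ℕ | n ∈ Set.range (orderOf : ↥(Cfsg.Lie.chevG2.group F) → ℕ) ∧ ∀ m ∈ Set.range (orderOf : ↥(Cfsg.Lie.chevG2.group F) → ℕ), n ∣ m → m = n} ⊆ ({8, 12, 2 * (2 ^ a + 1), 2 * (2 ^ a - 1), 2 ^ (2 * a) - 1, 2 ^ (2 * a) + 2 ^ a + 1, 2 ^ (2 * a) - 2 ^ a + 1} : Set ℕ) ∧
    ({8, 12, 2 * (2 ^ a + 1), 2 * (2 ^ a - 1), 2 ^ (2 * a) - 1, 2 ^ (2 * a) + 2 ^ a + 1, 2 ^ (2 * a) - 2 ^ a + 1} : Set ℕ) ⊆ Set.range (orderOf : ↥(Cfsg.Lie.chevG2.group F) → ℕ) := by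
  have key := fun n => Cfsg.Agent.H29.mem_range_orderOf_chevG2 (n := n) Nat.prime_two hF
  have hG : ∀ N, Cfsg.Agent.H29.G2Ord 2 (2 ^ a) N ↔ N ∈ ({8, 12, 2 * (2 ^ a + 1), 2 * (2 ^ a - 1),
      2 ^ (2 * a) - 1, 2 ^ (2 * a) + 2 ^ a + 1, 2 ^ (2 * a) - 2 ^ a + 1} : Set ℕ) := fun N => by
    simp only [Cfsg.Agent.H29.G2Ord, Set.mem_insert_iff, Set.mem_singleton_iff, pow_mul' 2 2 a]
    norm_num
    tauto
  refine ⟨fun n hn => ?_, fun n hn => (key n).2 ⟨n, (hG n).2 hn, dvd_rfl⟩⟩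
  obtain ⟨N, hN, h⟩ := (key n).1 hn.1
  exact hn.2 N ((key N).2 ⟨N, hN, dvd_rfl⟩) h ▸ (hG N).1 hN

end Cfsg.Agent.S2520
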