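import Cfsg.Statements.S2374
import Cfsg.Agent.H34.Tori4
import Cfsg.Agent.H35.StEmb

set_option autoImplicit false
open Cfsg

namespace Cfsg.Agent.S2374

open Cfsg.Agent.H34 Cfsg.Lie Cfsg.Agent.H40

/-- Data of the certificate. -/
def dCt : List (List ℤ) := [[2, 0, -1, 0, 0, 0, 0], [0, 2, 0, -1, 0, 0, 0], [-1, 0, 2, -1, 0, 0, 0], [0, -1, -1, 2, -1, 0, 0], [0, 0, 0, -1, 2, -1, 0], [0, 0, 0, 0, -1, 2, -1], [0, 0, 0, 0, 0, -1, 2]]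

/-- Data of the certificate. -/
def dA : List (List ℤ) := [[-1, 0, -1, 0, 0, 0, 0], [0, 0, 0, 0, 0, 0, -1], [1, 1, 2, 2, 2, 2, 1], [0, -1, -1, -1, -1, -1, 0], [0, 1, 0, 0, 0, 0, 0], [0, 0, 1, 1, 0, 0, 0], [0, 0, 0, 0, 1, 0, 0]]

/-- Data of the certificate. -/
def dL : List (List ℤ) := [[0, 0, 0, 0, 0, 0, 1], [0, -1, 1, 0, 0, 0, 0], [-1, 0, 1, 0, -1, 1, 0], [0, 0, 1, -1, 0, 1, -1], [-1, 1, 1, -1, 0, 0, 0], [0, 0, 0, -1, 1, 0, 0], [0, 0, 0, 0, 0, -1, 1], [0, -1, -1, 1, 0, 0, 0]]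

/-- Data of the certificate. -/
def dp : List (List ℤ) := [[1, 0, -1, 1, 0, -1, 0], [1, 0, -1, 0, 1, -1, -1], [1, 1, -1, 0, 1, -1, -1], [1, 1, -1, -1, 1, -1, -2], [1, 1, -1, -1, 1, 0, -2], [1, 0, 0, 0, 0, 0, -1], [1, 0, 0, 0, 0, 0, 0]]

/-- Data of the certificate. -/
def dchi : List ℤ := [1, 0, -1, 1, 1, -1, 0, 1]

/-- Data of the certificate. -/
def dF0 : List (List ℤ) := [[-1, 0, 1, -1, 0, 1, 0], [0, -1, 0, 1, -1, 0, 1], [0, 0, 0, 1, 0, 0, 1], [-1, 0, 1, 0, -1, 0, 1], [-1, 1, 0, -1, 0, 1, 0], [-1, 0, 1, 0, -1, 1, 0], [0, 0, 1, 0, -1, 1, 1], [0, -1, 0, 1, 0, -1, 1], [0, 0, -1, 0, 1, 0, 0], [0, -1, 0, 1, 0, 0, 0], [1, -1, 0, 1, 0, 0, 1], [-1, 0, 0, -1, 0, 0, 0], [-1, -1, 1, 0, -1, 0, 0], [0, -1, 1, 0, -1, 0, 1], [-1, 0, 0, -1, 0, 1, -1], [0, 0, 0, -1, 0, 1, 0], [0, -1, 1, 0, -1, 1, 0], [-1, 1, 0, -1, 1, 0, 0], [-1,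 0, 1, 0, 0, 0, 0], [0, 0, 1, 0, 0, 0, 1], [-1, 1, 0, -1, 1, 1, -1], [0, 1, 0, -1, 1, 1, 0], [0, 0, 1, 0, 0, 1, 0], [-2, 1, 1, -2, 0, 1, -1]]

/-- Data of the certificate. -/
def dF1 : List (List ℤ) := [[-1, 1, 1, -2, 0, 1, 0], [-1, 0, 2, -1, -1, 1, 0], [-1, 1, 1, -2, 0, 2, -1], [-1, 0, 0, -1, 1, 0, -1], [0, 0, 0, -1, 1, 0, 0], [0, -1, 1, 0, 0, 0, 0], [0, 0, 0, -1, 1, 1, -1], [-1, 0, 1, -2, 0, 1, -1], [-1, 1, 1, -2, 1, 1, -1], [0, 0, -1, 1, 0, -1, 1], [0, -1, 0, 2, -1, -1, 1], [1, -1, 0, 2, -1, -1, 2], [0, 0, -1, 1, 0, 0, 0], [1, 0, -1, 1, 0, 0, 1], [1, -1, 0, 2, -1, 0, 1], [-1, 0, 0, 0, -1, 0, 0], [0, 0, 0, 0, -1, 0, 1], [0, -1, 1, 1, -2, 0, 1], [0, 0, 0, 0, -1, 1, 0], [-1, 1, 0, 0, 0, 0, 0], [0, 1, 0, 0, 0, 0, 1], [0, 0, 1, 1, -1, 0, 1], [0, 1, 0, 0, 0, 1, 0], [-1, 1, 1, -1, -1, 1, 0]]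

/-- Data of the certificate. -/
def dF2 : List (List ℤ) := [[0, -1, -1, 1, 0, -1, 0], [1, -1, -1, 1, 0, -1, 1], [1, -2, 0, 2, -1, -1, 1], [1, -1, -1, 1, 0, 0, 0], [0, -1, 0, 0, -1, 0, 0], [0, 0, -1, 1, 1, -1, 0], [1, 0, -1, 1, 1, -1, 1], [1, -1, 0, 2, 0, -1, 1], [1, 0, -1, 1, 1, 0, 0], [-1, 0, 0, 0, 0, -1, 0], [0, 0, 0, 0, 0, -1, 1], [0, -1, 1, 1, -1, -1, 1], [-1, 1, -1, -1, 1, 0, -1], [0, 1, -1, -1, 1, 0, 0], [-1, 0, 0, 0, 0, 0, -1], [1, 0, 0, 0, 0, 0, 1], [0, -1, 1, 1, -1, 0, 0], [1, -1, 1, 1, -1, 0, 1], [0, 1, -1, -1, 1, 1, -1], [0, 0, 0, 0, 0, 1, -1], [1, 0, 0, 0, 0, 1, 0], [-1, 0, 1, -1, -1, 0, 0], [-1, 1, 0, -2, 0, 1, -1], [-1, 0, 1, -1, -1, 1, -1]]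

/-- Data of the certificate. -/
def dF3 : List (List ℤ) := [[0, 0, 1, -1, -1, 1, 0], [0, 1, 0, 0, 1, 0, 0], [-1, 1, 1, -1, 0, 0, 0], [-1, 2, 0, -2, 1, 1, -1], [-1, 1, 1, -1, 0, 1, -1], [0, 1, 1, -1, 0, 1, 0], [1, -1, -1, 1, 1, -1, 0], [0, -1, 0, 0, 0, -1, 0], [0, 0, -1, -1, 1, 0, -1], [0, -1, 0, 0, 0, 0, -1], [1, -1, 0, 0, 0, 0, 0], [0, 0, 0, 0, 1, -1, 0], [0, 1, -1, -1, 2, 0, -1], [0, 0, 0, 0, 1, 0, -1], [1, 0, 0, 0, 1, 0, 0], [-1, 1, 0, -2, 1, 0, -1], [-1, 0, 1, -1, 0, 0, -1], [0, 0, 1, -1, 0, 0, 0], [-1, 1, 0, -2, 1, 1, -2], [0, 1, 0, -2, 1, 1, -1], [0, 0, 1, -1, 0, 1, -1], [1, -1, -1, 2, -1, -1, 1], [1, 0, -1, 2, 0, -1, 1], [0, 0, 0, 1, -1, -1, 1]]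

/-- Data of the certificate. -/
def dF4 : List (List ℤ) := [[0, 1, -1, 0, 0, 0, 0], [0, 0, 0, 1, -1, 0, 0], [1, 0, 0, 1, -1, 0, 1], [1, -1, -1, 2, 0, -2, 1], [1, 0, -2, 1, 1, -1, 0], [1, -1, -1, 2, 0, -1, 0], [2, -1, -1, 2, 0, -1, 1], [0, 0, -1, 0, 0, -1, 0], [0, -1, 0, 1, -1, -1, 0], [1, -1, 0, 1, -1, -1, 1], [0, 0, -1, 0, 0, 0, -1], [1, 0, -1, 0, 0, 0, 0], [1, -1, 0, 1, -1, 0, 0], [0, 1, -1, 0, 1, -1, 0], [0, 0, 0, 1, 0, -1, 0], [1, 0, 0, 1, 0, -1, 1], [0, 1, -1, 0, 1, 0, -1], [1, 1, -1, 0, 1, 0, 0], [1, 0, 0, 1, 0, 0, 0], [-1, 1, 0, -1, 0, 0, -1], [0, 1, 0, -1, 0, 0, 0], [0, 0, 1, 0, -1, 0, 0], [0, 1, 0, -1, 0, 1, -1], [0, 0, -1, 0, 1, -1, -1]]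

/-- Data of the certificate. -/
def dF5 : List (List ℤ) := [[1, 0, -1, 0, 1, -1, 0], [1, -1, 0, 1, 0, -1, 0], [1, 0, -1, 0, 1, 0, -1], [0, 0, 0, -1, 0, 0, -1], [0, 1, 0, -1, 1, 0, -1], [1, 0, -1, 1, 0, -1, 0]]

/-- Data of the certificate. -/
def dF : List (List ℤ) := dF0 ++ dF1 ++ dF2 ++ dF3 ++ dF4 ++ dF5

/-- Data of the certificate. -/
def dpp : List (List ℤ) := [[1, 1, 1, 1, 1, -3, -4], [-1, -1, 1, 1, -1, 1, 0], [0, 0, 0, 0, -2, 0, 2], [0, 0, 0, -2, 2, 0, 0], [1, -1, -1, 1, -1, 1, 0], [-2, 2, 0, 0, 0, 0, 0], [1, -1, -1, 1, 1, -1, 0]]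

/-- Data of the certificate. -/
def dbeta : List ℕ := [4, 5, 7, 10, 13, 14, 19]

/-- Data of the certificate. -/
def dw : List ℕ := [0, 3, 4, 1, 3, 5, 6, 4, 5, 2, 6]

theorem wm : WordMat chevE7 dCt dw dA := by decide +kernel
theorem cyc : CycCert chevE7.rank dA dL dp dchi := by decide +kernel
theorem reg : RegCert chevE7 dp dF dbeta 2 dpp := by decide +kernel
theorem bnd : BndCond chevE7.rank chevE7.nroots dF dbeta 2 (7 : ℕ) := by decide +kernel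
theorem num : ∀ q < 7, 2 ≤ q → NumCond chevE7.rank chevE7.nroots dF dbeta (fun _ => 0) (q : ℕ)
    (pv (q : ℕ) (chevE7.rank + 1) (dchi.getD · 0)) := by decide +kernel
theorem comb0 : ∀ k < chevE7.rank, ∑ j ∈ Finset.range chevE7.rank,
    ([2, 3, 4, 6, 5, 4, 3] : List ℤ).getD j 0 * gt dF (chevE7.simple j) k = ([2] : List ℤ).getD k 0 := by decide +kernel
theorem comb1 : ∀ k < chevE7.rank, ∑ j ∈ Finset.range chevE7.rank,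
    ([0, -1, 0, -1, -1, -1, -1] : List ℤ).getD j 0 * gt dF (chevE7.simple j) k = ([-1, 1] : List ℤ).getD k 0 := by decide +kernel
theorem sums : ∀ i < chevE7.rank, (2 : ℤ) ∣ ∑ k ∈ Finset.range chevE7.rank, gt dF (chevE7.simple i) k := by
  decide +kernel
theorem pvchi (q : ℤ) : pv q (chevE7.rank + 1) (dchi.getD · 0) = (1) * q ^ 0 + (-1) * q ^ 2 + (1) * q ^ 3 + (1) * q ^ 4 + (-1) * q ^ 5 + (1) * q ^ 7 := by
  show pv q (7 + 1) _ = _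
  simp [pv, Finset.sum_range_succ, dchi]
  try ring
theorem pvh0 (q : ℤ) : pv q chevE7.rank (([2] : List ℤ).getD · 0) = (2) * q ^ 0 := by
  show pv q 7 _ = _
  simp [pv, Finset.sum_range_succ]
theorem pvh1 (q : ℤ) : pv q chevE7.rank (([-1, 1] : List ℤ).getD · 0) = (-1) * q ^ 0 + (1) * q ^ 1 := by
  show pv q 7 _ = _
  simp [pv, Finset.sum_range_succ]

theorem ic : InvCert chevE7 2 [[4, 4, 6, 8, 6, 4, 2], [4, 7, 8, 12, 9, 6, 3], [6, 8, 12, 16, 12, 8, 4], [8, 12, 16, 24, 18, 12, 6], [6, 9, 12, 18, 15, 10, 5], [4, 6, 8, 12, 10, 8, 4], [2, 3, 4, 6, 5, 4, 3]] := by decide +kernel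


/-- The group E₇(q) (the simple Chevalley group of type E₇) contains a cyclic subgroup of order (q⁴ − q² + 1)(q³ + 1)/gcd(2, q − 1) which is its own centralizer. -/
theorem result {F : Type*} [Field F] [Fintype F] (q : ℕ) (hF : Fintype.card F = q) :
    ∃ H : Subgroup ↥(Cfsg.Lie.chevE7.group F), IsCyclic ↥H ∧ Nat.card ↥H = (q ^ 4 - q ^ 2 + 1) * (q ^ 3 + 1) / Nat.gcd 2 (q - 1) ∧
      Subgroup.centralizer (H : Set ↥(Cfsg.Lie.chevE7.group F)) = H := by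
  let C : Cert chevE7 := cert (by simp)
  let k := AlgebraicClosure F
  have hq2 : 2 ≤ q := hF ▸ Fintype.one_lt_card
  obtain ⟨l, -, hA⟩ := C.rep_of_wordMat wm
  obtain ⟨j, hj, hS⟩ := C.exists_emb_of_cover (algebraMap F k) hF (C.S.word_mem_W l) hA
    (e := 2) (by decide) (C.pow_eq_one_of_inv ic) (Cfsg.Agent.H35.adj_of_mem (by simp) C)
    fun _ => Cfsg.Agent.H35.torus_injective_E7
  have h0 := (exists_frob_ext (algebraMap F k) (q := q) (m := 1)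
    (hF ▸ FiniteField.isPrimePow_card F) (by rw [hF, pow_one])).1
  have hz : (2 : ℤ) ≤ q := by exact_mod_cast hq2
  have g1 : ((Nat.gcd 2 (q - 1) : ℕ) : ℤ) ∣ 2 := by exact_mod_cast Nat.gcd_dvd_left 2 (q - 1)
  have g2 : ((Nat.gcd 2 (q - 1) : ℕ) : ℤ) ∣ q - 1 := by
    rw [← Nat.cast_pred (by omega)]; exact_mod_cast Nat.gcd_dvd_right 2 (q - 1)
  have h1 : q ^ 2 ≤ q ^ 4 := Nat.pow_le_pow_right (by omega) (by omega)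
  refine C.exists_selfcent_of_cert j hj hS cyc reg (fun _ _ _ _ => rfl)
    (numCond_of bnd (by decide) num hq2 ?_) h0 (by decide +kernel) (g := Nat.gcd 2 (q - 1))
    (Nat.gcd_pos_of_pos_left _ (by decide)) ?_
    (fun i hi => dvd_pv_of_sum (g1.trans (sums i hi)) g2) fun a ha => ?_
  · rw [pvchi]
    show (q : ℤ) ^ 7 ≤ _
    have h2 : (q : ℤ) ^ 2 ≤ q ^ 3 := pow_le_pow_right₀ (by omega) (by omega)
    have h4 : (0 : ℤ) ≤ q ^ 5 := by positivity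
    have h5 : (0 : ℤ) ≤ q ^ 4 := by positivity
    have h3 : 4 * (q : ℤ) ^ 5 ≤ q ^ 7 := by
      rw [show (q : ℤ) ^ 7 = q * q * q ^ 5 by ring]; exact mul_le_mul_of_nonneg_right (by nlinarith) h4
    linarith
  · rw [← Nat.cast_mul, Nat.mul_div_cancel' ?_, pvchi]
    · rw [Nat.cast_mul, Nat.cast_add, Nat.cast_sub h1]
      push_cast; ring
    · refine Dvd.dvd.mul_left ?_ _
      rw [← Int.natCast_dvd_natCast]
      refine (dvd_add g1 (g2.mul_right (q ^ 2 + q + 1))).trans (dvd_of_eq ?_)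
      push_cast; ring
  · have h2 := dvd_mul_pv_of_comb (F := fun j => gt dF (chevE7.simple j)) comb0 ha
    have h3 := dvd_mul_pv_of_comb (F := fun j => gt dF (chevE7.simple j)) comb1 ha
    rw [pvh0] at h2
    rw [pvh1] at h3
    have h4 := dvd_add (h2.mul_right (Nat.gcdA 2 (q - 1))) (h3.mul_right (Nat.gcdB 2 (q - 1)))
    refine h4.trans (dvd_of_eq ?_)
    rw [Nat.gcd_eq_gcd_ab, Nat.cast_pred (by omega)]
    push_cast; ring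

end Cfsg.Agent.S2374
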