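import Cfsg.Statements.S2378
import Cfsg.Agent.H34.Tori4
import Cfsg.Agent.S1059
import Cfsg.Agent.S1060
import Cfsg.Agent.S1061
import Cfsg.Agent.S1062
import Cfsg.Agent.S1063
import Cfsg.Agent.S1064
import Cfsg.Agent.S1065

set_option autoImplicit false
open Cfsg

namespace Cfsg.Agent.S2378

open Cfsg.Agent.H34 Cfsg.Lie Cfsg.Agent.H40

/-- Data of the certificate. -/
def ctG2 : List (List ℤ) := [[2, -1], [-3, 2]]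

/-- Data of the certificate. -/
def invG2 : List (List ℤ) := [[2, 1], [3, 2]]

/-- Data of the certificate. -/
def xG2_0 : HData := ⟨1, 2, 1, [],
  [[1, 0], [0, 1]],
  [[[1], [0]], [[0], [1]]],
  [[2, 1], [3, 2]],
  1, [-1, 1], [1], [1], []⟩

theorem okG2_0 : xG2_0.Ok chevG2 ctG2 ([2, 6] : List ℕ).prod := by decide +kernel

/-- Data of the certificate. -/
def xG2_1 : HData := ⟨2, 2, 1, [0, 1, 0, 1, 0, 1],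
  [[-1, 0], [0, -1]],
  [[[0], [1]], [[1], [0]]],
  [[3, 2], [2, 1]],
  1, [1, 1], [-1, 1], [1], [1]⟩

theorem okG2_1 : xG2_1.Ok chevG2 ctG2 ([2, 6] : List ℕ).prod := by decide +kernel

/-- Data of the certificate. -/
def xG2_2 : HData := ⟨3, 1, 2, [0, 1, 0, 1],
  [[-2, -3], [1, 1]],
  [[[1, 0], [2, 1]]],
  [[2, 1]],
  1, [1, 1, 1], [-1, 1], [1], [1]⟩

theorem okG2_2 : xG2_2.Ok chevG2 ctG2 ([2, 6] : List ℕ).prod := by decide +kernel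

/-- Data of the certificate. -/
def xG2_3 : HData := ⟨6, 1, 2, [0, 1],
  [[-1, -3], [1, 2]],
  [[[1, 0], [1, 1]]],
  [[2, 1]],
  1, [1, -1, 1], [-1, -1, 0, 1, 1], [-1, 1], [3, 2]⟩

theorem okG2_3 : xG2_3.Ok chevG2 ctG2 ([2, 6] : List ℕ).prod := by decide +kernel

/-- Data of the certificate. -/
def xsG2 : List HData := [xG2_0, xG2_1, xG2_2, xG2_3]

theorem okG2 : ∀ x ∈ xsG2, x.Ok chevG2 ctG2 ([2, 6] : List ℕ).prod := by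
  simp only [xsG2, List.forall_mem_cons, List.not_mem_nil, false_imp_iff, implies_true, and_true]
  exact ⟨okG2_0, okG2_1, okG2_2, okG2_3⟩

theorem covG2 : ∀ e ∈ ([2, 6] : List ℕ), ∀ d ≤ e, d ∣ e →
    ∃ x ∈ xsG2, x.d = d ∧ x.a = (([2, 6] : List ℕ).filter (d ∣ ·)).length := by decide +kernel

theorem icG2 : InvCert chevG2 1 invG2 := by decide +kernel

/-- Data of the certificate. -/
def ctB2 : List (List ℤ) := [[2, -1], [-2, 2]]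

/-- Data of the certificate. -/
def invB2 : List (List ℤ) := [[2, 1], [2, 2]]

/-- Data of the certificate. -/
def xB2_0 : HData := ⟨1, 2, 1, [],
  [[1, 0], [0, 1]],
  [[[1], [0]], [[0], [1]]],
  [[2, 1], [2, 2]],
  2, [-1, 1], [1], [1], []⟩

theorem okB2_0 : xB2_0.Ok chevB2 ctB2 ([2, 4] : List ℕ).prod := by decide +kernel

/-- Data of the certificate. -/
def xB2_1 : HData := ⟨2, 2, 1, [0, 1, 0, 1],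
  [[-1, 0], [0, -1]],
  [[[0], [1]], [[1], [0]]],
  [[2, 2], [2, 1]],
  2, [1, 1], [-1, 1], [1], [1]⟩

theorem okB2_1 : xB2_1.Ok chevB2 ctB2 ([2, 4] : List ℕ).prod := by decide +kernel

/-- Data of the certificate. -/
def xB2_2 : HData := ⟨4, 1, 2, [1, 0],
  [[1, 2], [-1, -1]],
  [[[-1, 0], [-1, 1]]],
  [[-2, -1]],
  2, [1, 0, 1], [-1, 0, 1], [1], [2]⟩

theorem okB2_2 : xB2_2.Ok chevB2 ctB2 ([2, 4] : List ℕ).prod := by decide +kernel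

/-- Data of the certificate. -/
def xsB2 : List HData := [xB2_0, xB2_1, xB2_2]

theorem okB2 : ∀ x ∈ xsB2, x.Ok chevB2 ctB2 ([2, 4] : List ℕ).prod := by
  simp only [xsB2, List.forall_mem_cons, List.not_mem_nil, false_imp_iff, implies_true, and_true]
  exact ⟨okB2_0, okB2_1, okB2_2⟩

theorem covB2 : ∀ e ∈ ([2, 4] : List ℕ), ∀ d ≤ e, d ∣ e →
    ∃ x ∈ xsB2, x.d = d ∧ x.a = (([2, 4] : List ℕ).filter (d ∣ ·)).length := by decide +kernel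

theorem icB2 : InvCert chevB2 2 invB2 := by decide +kernel

/-- Data of the certificate. -/
def ctD4 : List (List ℤ) := [[2, -1, 0, 0], [-1, 2, -1, -1], [0, -1, 2, 0], [0, -1, 0, 2]]

/-- Data of the certificate. -/
def invD4 : List (List ℤ) := [[2, 2, 1, 1], [2, 4, 2, 2], [1, 2, 2, 1], [1, 2, 1, 2]]

/-- Data of the certificate. -/
def xD4_0 : HData := ⟨1, 4, 1, [],
  [[1, 0, 0, 0], [0, 1, 0, 0], [0, 0, 1, 0], [0, 0, 0, 1]],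
  [[[1], [0], [0], [0]], [[0], [0], [1], [0]], [[0], [0], [0], [1]], [[0], [1], [0], [0]]],
  [[2, 2, 1, 1], [1, 2, 2, 1], [1, 2, 1, 2], [2, 4, 2, 2]],
  2, [-1, 1], [1], [1], []⟩

theorem okD4_0 : xD4_0.Ok chevD4 ctD4 ([2, 4, 4, 6] : List ℕ).prod := by decide +kernel

/-- Data of the certificate. -/
def xD4_1 : HData := ⟨2, 4, 1, [0, 1, 0, 2, 1, 0, 3, 1, 0, 2, 1, 3],
  [[-1, 0, 0, 0], [0, -1, 0, 0], [0, 0, -1, 0], [0, 0, 0, -1]],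
  [[[0], [0], [0], [1]], [[0], [1], [0], [0]], [[0], [0], [1], [0]], [[1], [0], [0], [0]]],
  [[1, 2, 1, 2], [2, 4, 2, 2], [1, 2, 2, 1], [2, 2, 1, 1]],
  2, [1, 1], [-1, 1], [1], [1]⟩

theorem okD4_1 : xD4_1.Ok chevD4 ctD4 ([2, 4, 4, 6] : List ℕ).prod := by decide +kernel

/-- Data of the certificate. -/
def xD4_2 : HData := ⟨3, 1, 2, [1, 3],
  [[1, 1, 0, 1], [0, -1, 0, -1], [0, 1, 1, 1], [0, 1, 0, 0]],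
  [[[0, 0], [0, -1], [0, 0], [1, 0]]],
  [[-2, -1, 0, 0]],
  1, [1, 1, 1], [-1, 1], [1], [1]⟩

theorem okD4_2 : xD4_2.Ok chevD4 ctD4 ([2, 4, 4, 6] : List ℕ).prod := by decide +kernel

/-- Data of the certificate. -/
def xD4_3 : HData := ⟨4, 2, 2, [1, 2, 3, 1, 0, 2],
  [[1, 2, 1, 1], [-1, -1, 0, -1], [0, 0, 0, 1], [0, 0, -1, 0]],
  [[[-1, 0], [-1, 1], [0, 0], [-1, 0]], [[0, 0], [0, 0], [0, 1], [1, 0]]],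
  [[-2, -2, -1, -1], [-1, 0, 0, 1]],
  2, [1, 0, 1], [-1, 0, 1], [1], [2]⟩

theorem okD4_3 : xD4_3.Ok chevD4 ctD4 ([2, 4, 4, 6] : List ℕ).prod := by decide +kernel

/-- Data of the certificate. -/
def xD4_4 : HData := ⟨6, 1, 2, [0, 2, 1, 3],
  [[-1, -1, 0, -1], [1, 1, 1, 1], [0, -1, -1, -1], [0, 1, 0, 0]],
  [[[-1, -1], [0, -3], [-1, -1], [1, -2]]],
  [[-2, -1, 0, 0]],
  3, [1, -1, 1], [-1, -1, 0, 1, 1], [-1, 1], [3, 2]⟩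

theorem okD4_4 : xD4_4.Ok chevD4 ctD4 ([2, 4, 4, 6] : List ℕ).prod := by decide +kernel

/-- Data of the certificate. -/
def xsD4 : List HData := [xD4_0, xD4_1, xD4_2, xD4_3, xD4_4]

theorem okD4 : ∀ x ∈ xsD4, x.Ok chevD4 ctD4 ([2, 4, 4, 6] : List ℕ).prod := by
  simp only [xsD4, List.forall_mem_cons, List.not_mem_nil, false_imp_iff, implies_true, and_true]
  exact ⟨okD4_0, okD4_1, okD4_2, okD4_3, okD4_4⟩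

theorem covD4 : ∀ e ∈ ([2, 4, 4, 6] : List ℕ), ∀ d ≤ e, d ∣ e →
    ∃ x ∈ xsD4, x.d = d ∧ x.a = (([2, 4, 4, 6] : List ℕ).filter (d ∣ ·)).length := by decide +kernel

theorem icD4 : InvCert chevD4 2 invD4 := by decide +kernel

/-- Data of the certificate. -/
def ctF4 : List (List ℤ) := [[2, -1, 0, 0], [-1, 2, -1, 0], [0, -2, 2, -1], [0, 0, -1, 2]]

/-- Data of the certificate. -/
def invF4 : List (List ℤ) := [[2, 3, 2, 1], [3, 6, 4, 2], [4, 8, 6, 3], [2, 4, 3, 2]]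

/-- Data of the certificate. -/
def xF4_0 : HData := ⟨1, 4, 1, [],
  [[1, 0, 0, 0], [0, 1, 0, 0], [0, 0, 1, 0], [0, 0, 0, 1]],
  [[[0], [0], [0], [1]], [[0], [1], [0], [0]], [[0], [0], [1], [0]], [[1], [0], [0], [0]]],
  [[2, 4, 3, 2], [3, 6, 4, 2], [4, 8, 6, 3], [2, 3, 2, 1]],
  1, [-1, 1], [1], [1], []⟩

theorem okF4_0 : xF4_0.Ok chevF4 ctF4 ([2, 6, 8, 12] : List ℕ).prod := by decide +kernel

/-- Data of the certificate. -/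
def xF4_1 : HData := ⟨2, 4, 1, [0, 1, 0, 2, 1, 0, 2, 1, 2, 3, 2, 1, 0, 2, 1, 2, 3, 2, 1, 0, 2, 1, 2, 3],
  [[-1, 0, 0, 0], [0, -1, 0, 0], [0, 0, -1, 0], [0, 0, 0, -1]],
  [[[1], [0], [0], [0]], [[0], [1], [0], [0]], [[0], [0], [0], [1]], [[0], [0], [1], [0]]],
  [[2, 3, 2, 1], [3, 6, 4, 2], [2, 4, 3, 2], [4, 8, 6, 3]],
  1, [1, 1], [-1, 1], [1], [1]⟩

theorem okF4_1 : xF4_1.Ok chevF4 ctF4 ([2, 6, 8, 12] : List ℕ).prod := by decide +kernel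

/-- Data of the certificate. -/
def xF4_2 : HData := ⟨3, 2, 2, [2, 1, 0, 2, 1, 3, 2, 1, 0, 2, 1, 2, 3, 2, 1, 0],
  [[0, 1, 2, 2], [1, 1, 2, 0], [-1, -2, -3, -1], [0, 1, 1, 0]],
  [[[0, 0], [1, 0], [1, 0], [1, 1]], [[-1, 0], [-2, 0], [-2, 1], [-1, 0]]],
  [[-1, 0, 0, 0], [-2, -3, -2, -1]],
  1, [1, 1, 1], [-1, 1], [1], [1]⟩

theorem okF4_2 : xF4_2.Ok chevF4 ctF4 ([2, 6, 8, 12] : List ℕ).prod := by decide +kernel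

/-- Data of the certificate. -/
def xF4_3 : HData := ⟨4, 2, 2, [2, 1, 0, 2, 1, 3, 2, 1, 0, 2, 1, 3],
  [[1, 2, 2, 0], [0, 1, 2, 2], [-1, -2, -3, -2], [1, 1, 2, 1]],
  [[[-1, 0], [-2, 0], [-3, 1], [-2, 0]], [[1, 0], [1, 0], [2, 0], [1, 1]]],
  [[-1, -3, -2, -1], [1, 0, 0, 0]],
  1, [1, 0, 1], [-1, 0, 1], [1], [2]⟩

theorem okF4_3 : xF4_3.Ok chevF4 ctF4 ([2, 6, 8, 12] : List ℕ).prod := by decide +kernel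

/-- Data of the certificate. -/
def xF4_4 : HData := ⟨6, 2, 2, [2, 1, 0, 2, 3, 2, 1, 0],
  [[1, 1, 2, 2], [1, 2, 2, 0], [-1, -2, -2, -1], [0, 1, 1, 1]],
  [[[1, 0], [1, 1], [2, 0], [0, 0]], [[0, 0], [1, 0], [1, 0], [0, 1]]],
  [[2, 3, 2, 1], [0, 2, 2, 1]],
  1, [1, -1, 1], [-1, -1, 0, 1, 1], [-1, 1], [3, 2]⟩

theorem okF4_4 : xF4_4.Ok chevF4 ctF4 ([2, 6, 8, 12] : List ℕ).prod := by decide +kernel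

/-- Data of the certificate. -/
def xF4_5 : HData := ⟨8, 1, 4, [0, 1, 3, 2, 1, 2],
  [[-1, -2, -2, 0], [1, 1, 2, 0], [0, 1, 1, 1], [0, -1, -2, -1]],
  [[[0, 1, 0, 0], [0, 1, 1, 0], [1, 1, 1, 1], [1, 0, 1, 0]]],
  [[1, 1, 1, 1]],
  1, [1, 0, 0, 0, 1], [-1, 0, 0, 0, 1], [1], [4]⟩

theorem okF4_5 : xF4_5.Ok chevF4 ctF4 ([2, 6, 8, 12] : List ℕ).prod := by decide +kernel

/-- Data of the certificate. -/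
def xF4_6 : HData := ⟨12, 1, 4, [2, 1, 0, 3],
  [[0, 1, 0, 0], [1, 1, 2, 2], [-1, -1, -1, -1], [1, 1, 1, 0]],
  [[[0, 0, 1, 0], [0, 1, 1, 0], [1, 1, 1, 0], [1, 0, 0, 1]]],
  [[1, 2, 2, 1]],
  1, [1, 0, -1, 0, 1], [-1, 0, -1, 0, 0, 0, 1, 0, 1], [-1, 0, 1], [6, 4]⟩

theorem okF4_6 : xF4_6.Ok chevF4 ctF4 ([2, 6, 8, 12] : List ℕ).prod := by decide +kernel

/-- Data of the certificate. -/
def xsF4 : List HData := [xF4_0, xF4_1, xF4_2, xF4_3, xF4_4, xF4_5, xF4_6]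

theorem okF4 : ∀ x ∈ xsF4, x.Ok chevF4 ctF4 ([2, 6, 8, 12] : List ℕ).prod := by
  simp only [xsF4, List.forall_mem_cons, List.not_mem_nil, false_imp_iff, implies_true, and_true]
  exact ⟨okF4_0, okF4_1, okF4_2, okF4_3, okF4_4, okF4_5, okF4_6⟩

theorem covF4 : ∀ e ∈ ([2, 6, 8, 12] : List ℕ), ∀ d ≤ e, d ∣ e →
    ∃ x ∈ xsF4, x.d = d ∧ x.a = (([2, 6, 8, 12] : List ℕ).filter (d ∣ ·)).length := by decide +kernel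

theorem icF4 : InvCert chevF4 1 invF4 := by decide +kernel

/-- Data of the certificate. -/
def ctE6 : List (List ℤ) := [[2, 0, -1, 0, 0, 0], [0, 2, 0, -1, 0, 0], [-1, 0, 2, -1, 0, 0], [0, -1, -1, 2, -1, 0], [0, 0, 0, -1, 2, -1], [0, 0, 0, 0, -1, 2]]

/-- Data of the certificate. -/
def invE6 : List (List ℤ) := [[4, 3, 5, 6, 4, 2], [3, 6, 6, 9, 6, 3], [5, 6, 10, 12, 8, 4], [6, 9, 12, 18, 12, 6], [4, 6, 8, 12, 10, 5], [2, 3, 4, 6, 5, 4]]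

/-- Data of the certificate. -/
def xE6_0 : HData := ⟨1, 6, 1, [],
  [[1, 0, 0, 0, 0, 0], [0, 1, 0, 0, 0, 0], [0, 0, 1, 0, 0, 0], [0, 0, 0, 1, 0, 0], [0, 0, 0, 0, 1, 0], [0, 0, 0, 0, 0, 1]],
  [[[0], [0], [1], [0], [0], [0]], [[0], [0], [0], [0], [0], [1]], [[1], [0], [0], [0], [0], [0]], [[0], [1], [0], [0], [0], [0]], [[0], [0], [0], [0], [1], [0]], [[0], [0], [0], [1], [0], [0]]],
  [[5, 6, 10, 12, 8, 4], [2, 3, 4, 6, 5, 4], [4, 3, 5, 6, 4, 2], [3, 6, 6, 9, 6, 3], [4, 6, 8, 12, 10, 5], [6, 9, 12, 18, 12, 6]],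
  3, [-1, 1], [1], [1], []⟩

theorem okE6_0 : xE6_0.Ok chevE6 ctE6 ([2, 5, 6, 8, 9, 12] : List ℕ).prod := by decide +kernel

/-- Data of the certificate. -/
def xE6_1 : HData := ⟨2, 4, 1, [0, 1, 2, 3, 1, 2, 3, 5, 4, 3, 1, 2, 0, 3, 4, 5],
  [[-1, -1, -2, -2, -1, -1], [0, -1, 0, 0, 0, 0], [0, 1, 1, 2, 1, 1], [0, 0, 0, -1, 0, 0], [1, 1, 1, 2, 1, 0], [-1, -1, -1, -2, -2, -1]],
  [[[1], [1], [1], [2], [2], [2]], [[-1], [-1], [-1], [-2], [0], [0]], [[0], [0], [0], [1], [0], [0]], [[0], [1], [0], [0], [0], [0]]],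
  [[1, 0, -1, 0, 1, 0], [-1, 0, -1, 0, 1, 0], [-2, 0, -2, 0, 0, 0], [-1, 1, -1, 0, 0, 0]],
  2, [1, 1], [-1, 1], [1], [1]⟩

theorem okE6_1 : xE6_1.Ok chevE6 ctE6 ([2, 5, 6, 8, 9, 12] : List ℕ).prod := by decide +kernel

/-- Data of the certificate. -/
def xE6_2 : HData := ⟨3, 3, 2, [3, 1, 2, 0, 3, 2, 4, 3, 1, 2, 0, 3, 2, 4, 5, 4, 3, 1, 2, 0, 3, 2, 4, 5],
  [[0, 1, 1, 1, 0, 0], [0, 0, 1, 1, 1, 0], [0, 0, 0, 1, 1, 1], [-1, -1, -2, -3, -2, -1], [1, 0, 1, 1, 0, 0], [0, 1, 0, 1, 1, 0]],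
  [[[0, 0], [1, 0], [0, 0], [1, 0], [1, 0], [1, 1]], [[0, 0], [1, 1], [1, 0], [1, 0], [1, 0], [0, 0]], [[1, 0], [0, 0], [1, 0], [1, 0], [1, 1], [0, 0]]],
  [[1, 3, 2, 6, 4, 2], [1, 3, 5, 6, 4, 2], [4, 3, 5, 6, 4, 2]],
  3, [1, 1, 1], [-1, 1], [1], [1]⟩

theorem okE6_2 : xE6_2.Ok chevE6 ctE6 ([2, 5, 6, 8, 9, 12] : List ℕ).prod := by decide +kernel

/-- Data of the certificate. -/
def xE6_3 : HData := ⟨4, 2, 2, [0, 1, 3, 1, 2, 3, 4, 3, 1, 2, 0, 5, 4, 3, 1, 2],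
  [[0, -1, -1, -2, -1, -1], [0, 0, -1, -1, -1, 0], [1, 2, 2, 3, 2, 1], [-1, -1, -1, -1, -1, -1], [0, 0, 0, 0, 1, 1], [1, 0, 1, 1, 0, 0]],
  [[[-1, 1], [0, 0], [-1, 1], [-1, 1], [0, 0], [-1, -1]], [[0, 0], [2, 0], [1, 1], [2, 0], [2, 0], [1, -1]]],
  [[-1, -1, -1, 0, 1, 0], [2, 2, 1, 0, 0, 0]],
  2, [1, 0, 1], [-1, 0, 1], [1], [2]⟩

theorem okE6_3 : xE6_3.Ok chevE6 ctE6 ([2, 5, 6, 8, 9, 12] : List ℕ).prod := by decide +kernel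

/-- Data of the certificate. -/
def xE6_4 : HData := ⟨5, 1, 4, [0, 1, 2, 3],
  [[-1, 0, -1, -1, 0, 0], [0, -1, 0, -1, 0, 0], [1, 0, 0, 0, 0, 0], [0, 1, 1, 1, 0, 0], [0, 0, 0, 1, 1, 0], [0, 0, 0, 0, 0, 1]],
  [[[-1, 0, 1, 0], [-1, 0, 0, 1], [-1, -1, 1, 1], [-2, -2, -1, 0], [0, 0, 0, 0], [0, 0, 0, 0]]],
  [[-2, -2, -1, -2, 0, 0]],
  5, [1, 1, 1, 1, 1], [-1, 1], [1], [1]⟩

theorem okE6_4 : xE6_4.Ok chevE6 ctE6 ([2, 5, 6, 8, 9, 12] : List ℕ).prod := by decide +kernel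

/-- Data of the certificate. -/
def xE6_5 : HData := ⟨6, 2, 2, [3, 1, 2, 0, 3, 4, 3, 1, 2, 0, 5, 4],
  [[0, 1, 0, 1, 1, 1], [0, 1, 1, 1, 1, 0], [1, 0, 1, 1, 1, 0], [-1, -1, -2, -2, -2, -1], [0, 0, 1, 1, 1, 1], [1, 1, 1, 1, 0, 0]],
  [[[0, -1], [0, -1], [0, -2], [-1, -2], [0, -2], [0, -1]], [[0, 1], [0, 0], [-1, 2], [0, 2], [-1, 2], [0, 1]]],
  [[0, -1, -2, -2, 0, 0], [1, 0, 0, 0, 0, 0]],
  1, [1, -1, 1], [-1, -1, 0, 1, 1], [-1, 1], [3, 2]⟩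

theorem okE6_5 : xE6_5.Ok chevE6 ctE6 ([2, 5, 6, 8, 9, 12] : List ℕ).prod := by decide +kernel

/-- Data of the certificate. -/
def xE6_6 : HData := ⟨8, 1, 4, [0, 1, 3, 1, 4, 3, 1, 2, 5],
  [[-1, 0, -1, 0, 0, 0], [0, 0, 0, 0, -1, -1], [1, 1, 2, 2, 1, 1], [0, 0, -1, -1, 0, 0], [0, -1, 0, 0, 0, 0], [0, 1, 1, 1, 1, 0]],
  [[[0, 1, 0, 0], [1, 0, 1, 0], [0, 1, 1, 0], [1, 1, 1, 0], [1, 0, 1, 0], [1, 0, 0, 1]]],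
  [[1, 1, 0, 0, 0, 0]],
  1, [1, 0, 0, 0, 1], [-1, 0, 0, 0, 1], [1], [4]⟩

theorem okE6_6 : xE6_6.Ok chevE6 ctE6 ([2, 5, 6, 8, 9, 12] : List ℕ).prod := by decide +kernel

/-- Data of the certificate. -/
def xE6_7 : HData := ⟨9, 1, 6, [2, 0, 5, 4, 3, 1, 2, 3],
  [[0, 1, 0, 0, 0, 0], [0, 0, 1, 0, 0, 0], [-1, -1, -1, -1, 0, 0], [1, 1, 1, 2, 1, 0], [0, 0, 0, 0, 0, 1], [0, -1, -1, -2, -1, -1]],
  [[[0, -1, 0, 0, -1, 0], [-1, 0, 0, -1, -1, 0], [0, 0, 0, -1, -1, 1], [0, 0, -1, -1, -1, 0], [0, 0, -1, -1, 0, 0], [0, 0, -1, 0, 0, 0]]],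
  [[1, 0, 2, 3, 1, -1]],
  3, [1, 0, 0, 1, 0, 0, 1], [-1, 0, 0, 1], [1], [3]⟩

theorem okE6_7 : xE6_7.Ok chevE6 ctE6 ([2, 5, 6, 8, 9, 12] : List ℕ).prod := by decide +kernel

/-- Data of the certificate. -/
def xE6_8 : HData := ⟨12, 1, 4, [3, 1, 2, 0, 4, 5],
  [[0, 0, 1, 0, 0, 0], [1, 0, 1, 1, 1, 1], [0, 1, 0, 1, 1, 1], [-1, -1, -1, -1, -1, -1], [1, 1, 1, 1, 0, 0], [0, 0, 0, 0, 1, 0]],
  [[[0, 0, 1, 1], [0, 1, 1, 1], [0, 1, 2, 1], [1, 2, 2, 1], [0, 1, 2, 1], [0, 0, 1, 1]]],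
  [[1, 0, 1, 1, 0, 0]],
  1, [1, 0, -1, 0, 1], [-1, 0, -1, 0, 0, 0, 1, 0, 1], [-1, 0, 1], [6, 4]⟩

theorem okE6_8 : xE6_8.Ok chevE6 ctE6 ([2, 5, 6, 8, 9, 12] : List ℕ).prod := by decide +kernel

/-- Data of the certificate. -/
def xsE6 : List HData := [xE6_0, xE6_1, xE6_2, xE6_3, xE6_4, xE6_5, xE6_6, xE6_7, xE6_8]

theorem okE6 : ∀ x ∈ xsE6, x.Ok chevE6 ctE6 ([2, 5, 6, 8, 9, 12] : List ℕ).prod := by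
  simp only [xsE6, List.forall_mem_cons, List.not_mem_nil, false_imp_iff, implies_true, and_true]
  exact ⟨okE6_0, okE6_1, okE6_2, okE6_3, okE6_4, okE6_5, okE6_6, okE6_7, okE6_8⟩

theorem covE6 : ∀ e ∈ ([2, 5, 6, 8, 9, 12] : List ℕ), ∀ d ≤ e, d ∣ e →
    ∃ x ∈ xsE6, x.d = d ∧ x.a = (([2, 5, 6, 8, 9, 12] : List ℕ).filter (d ∣ ·)).length := by decide +kernel

theorem icE6 : InvCert chevE6 3 invE6 := by decide +kernel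

/-- Data of the certificate. -/
def ctE7 : List (List ℤ) := [[2, 0, -1, 0, 0, 0, 0], [0, 2, 0, -1, 0, 0, 0], [-1, 0, 2, -1, 0, 0, 0], [0, -1, -1, 2, -1, 0, 0], [0, 0, 0, -1, 2, -1, 0], [0, 0, 0, 0, -1, 2, -1], [0, 0, 0, 0, 0, -1, 2]]

/-- Data of the certificate. -/
def invE7 : List (List ℤ) := [[4, 4, 6, 8, 6, 4, 2], [4, 7, 8, 12, 9, 6, 3], [6, 8, 12, 16, 12, 8, 4], [8, 12, 16, 24, 18, 12, 6], [6, 9, 12, 18, 15, 10, 5], [4, 6, 8, 12, 10, 8, 4], [2, 3, 4, 6, 5, 4, 3]]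

/-- Data of the certificate. -/
def xE7_0 : HData := ⟨1, 7, 1, [],
  [[1, 0, 0, 0, 0, 0, 0], [0, 1, 0, 0, 0, 0, 0], [0, 0, 1, 0, 0, 0, 0], [0, 0, 0, 1, 0, 0, 0], [0, 0, 0, 0, 1, 0, 0], [0, 0, 0, 0, 0, 1, 0], [0, 0, 0, 0, 0, 0, 1]],
  [[[0], [-1], [-1], [1], [0], [1], [0]], [[0], [-1], [-1], [0], [-1], [-1], [-1]], [[-1], [1], [0], [0], [1], [0], [1]], [[1], [1], [1], [1], [1], [-1], [-1]], [[1], [1], [1], [-1], [0], [-1], [0]], [[-1], [0], [-1], [-1], [0], [1], [0]], [[1], [-1], [1], [1], [0], [0], [0]]],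
  [[6, 6, 6, 12, 12, 9, 6], [-18, -28, -36, -52, -38, -28, -14], [-6, -10, -12, -16, -8, -7, -2], [6, 9, 12, 18, 15, 9, 3], [-6, -14, -18, -26, -16, -11, -4], [-12, -21, -24, -36, -21, -15, -9], [-6, -14, -12, -20, -10, -8, -4]],
  6, [-1, 1], [1], [1], []⟩

theorem okE7_0 : xE7_0.Ok chevE7 ctE7 ([2, 6, 8, 10, 12, 14, 18] : List ℕ).prod := by decide +kernel

/-- Data of the certificate. -/
def xE7_1 : HData := ⟨2, 7, 1, [0, 1, 2, 0, 3, 1, 2, 0, 3, 2, 4, 3, 1, 2, 0, 3, 2, 4, 3, 1, 5, 4, 3, 1, 2, 0, 3, 2, 4, 3, 1, 5, 4, 3, 2, 0, 6, 5, 4, 3, 1, 2, 0, 3, 2, 4, 3, 1, 5, 4, 3, 2, 0, 6, 5, 4, 3, 1, 2, 3, 4, 5, 6],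
  [[-1, 0, 0, 0, 0, 0, 0], [0, -1, 0, 0, 0, 0, 0], [0, 0, -1, 0, 0, 0, 0], [0, 0, 0, -1, 0, 0, 0], [0, 0, 0, 0, -1, 0, 0], [0, 0, 0, 0, 0, -1, 0], [0, 0, 0, 0, 0, 0, -1]],
  [[[0], [1], [-1], [1], [-1], [0], [0]], [[0], [1], [-1], [0], [-1], [-1], [-1]], [[-1], [-1], [1], [1], [1], [1], [0]], [[0], [0], [0], [-1], [-1], [1], [-1]], [[-1], [1], [-1], [1], [1], [-1], [0]], [[0], [1], [0], [-1], [0], [1], [1]], [[0], [1], [-1], [1], [0], [-1], [1]]],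
  [[56, 78, 104, 152, 118, 80, 38], [4, 8, 12, 12, 4, 0, 0], [-14, -17, -22, -34, -29, -20, -9], [-80, -112, -152, -216, -164, -108, -52], [6, 9, 10, 18, 17, 12, 5], [20, 30, 40, 56, 42, 28, 14], [-92, -128, -172, -248, -192, -128, -60]],
  4, [1, 1], [-1, 1], [1], [1]⟩

theorem okE7_1 : xE7_1.Ok chevE7 ctE7 ([2, 6, 8, 10, 12, 14, 18] : List ℕ).prod := by decide +kernel

/-- Data of the certificate. -/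
def xE7_2 : HData := ⟨3, 3, 2, [1, 3, 1, 2, 0, 3, 2, 4, 3, 1, 2, 3, 5, 4, 3, 1, 2, 0, 3, 2, 4, 3, 5, 4],
  [[0, 0, 1, 1, 0, 0, 0], [0, -1, -1, -1, -1, -1, 0], [0, 1, 0, 1, 1, 0, 0], [-1, -1, -1, -2, -1, 0, 0], [1, 1, 1, 2, 1, 1, 0], [0, 0, 0, -1, -1, -1, 0], [1, 1, 2, 3, 3, 2, 1]],
  [[[0, 0], [-1, 1], [-2, -1], [-1, 1], [-1, 1], [0, 0], [0, 0]], [[0, 0], [-1, -2], [1, -1], [1, -1], [1, -1], [1, -1], [0, 0]], [[-2, -1], [0, 0], [-1, 1], [-1, 1], [0, 0], [0, 0], [0, 0]]],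
  [[-1, -1, -2, -2, -2, 0, 0], [1, 1, 2, 3, 3, 2, 0], [-2, -2, -3, -4, -2, -1, 0]],
  3, [1, 1, 1], [-1, 1], [1], [1]⟩

theorem okE7_2 : xE7_2.Ok chevE7 ctE7 ([2, 6, 8, 10, 12, 14, 18] : List ℕ).prod := by decide +kernel

/-- Data of the certificate. -/
def xE7_3 : HData := ⟨4, 2, 2, [0, 1, 2, 0, 3, 1, 2, 3, 4, 3],
  [[0, -1, 0, -1, 0, 0, 0], [0, 0, -1, -1, 0, 0, 0], [-1, 0, -1, -1, -1, 0, 0], [1, 0, 1, 1, 0, 0, 0], [0, 1, 1, 1, 1, 0, 0], [0, 0, 0, 1, 1, 1, 0], [0, 0, 0, 0, 0, 0, 1]],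
  [[[0, 0], [-1, 0], [-1, -1], [-1, -1], [0, -1], [0, 0], [0, 0]], [[0, -1], [0, -1], [0, -2], [1, -2], [1, -1], [0, 0], [0, 0]]],
  [[0, 0, -1, -2, 0, -1, 0], [0, 0, 0, 1, 0, 0, 0]],
  1, [1, 0, 1], [-1, 0, 1], [1], [2]⟩

theorem okE7_3 : xE7_3.Ok chevE7 ctE7 ([2, 6, 8, 10, 12, 14, 18] : List ℕ).prod := by decide +kernel

/-- Data of the certificate. -/
def xE7_4 : HData := ⟨5, 1, 4, [0, 2, 4, 3],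
  [[-1, 0, -1, -1, 0, 0, 0], [0, 1, 0, 1, 0, 0, 0], [1, 0, 0, 0, 0, 0, 0], [0, 0, 1, 1, 1, 0, 0], [0, 0, 0, -1, -1, 0, 0], [0, 0, 0, 1, 1, 1, 0], [0, 0, 0, 0, 0, 0, 1]],
  [[[0, 1, -2, 1], [0, 0, 0, 0], [-1, 0, -2, -2], [2, 2, 0, 1], [3, 0, 1, 1], [0, 0, 0, 0], [0, 0, 0, 0]]],
  [[0, -2, 0, -1, 0, -1, 0]],
  5, [1, 1, 1, 1, 1], [-1, 1], [1], [1]⟩

theorem okE7_4 : xE7_4.Ok chevE7 ctE7 ([2, 6, 8, 10, 12, 14, 18] : List ℕ).prod := by decide +kernel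

/-- Data of the certificate. -/
def xE7_5 : HData := ⟨6, 3, 2, [3, 1, 2, 0, 4, 3, 5, 4, 3, 1, 2, 6, 5, 4, 3, 1, 2, 0, 3, 2, 4],
  [[1, 0, 1, 1, 1, 1, 0], [1, 1, 1, 2, 2, 1, 1], [0, 1, 1, 1, 1, 1, 1], [-1, -2, -2, -3, -3, -2, -1], [1, 2, 2, 3, 2, 1, 0], [-1, -1, -1, -1, 0, 0, 0], [0, 0, -1, -1, -1, 0, 0]],
  [[[1, 1], [0, 2], [1, 1], [2, 2], [1, 2], [1, 1], [0, 1]], [[-1, -1], [0, -1], [-1, -1], [-1, -1], [-1, 0], [-2, 1], [-1, 0]], [[0, 0], [-1, 0], [-1, -1], [-1, -1], [0, -1], [0, 0], [-1, 1]]],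
  [[1, 3, 2, 5, 2, 2, 0], [-2, -2, -3, -2, -1, -2, 0], [-1, -5, -4, -6, -2, -3, 0]],
  3, [1, -1, 1], [-1, -1, 0, 1, 1], [-1, 1], [3, 2]⟩

theorem okE7_5 : xE7_5.Ok chevE7 ctE7 ([2, 6, 8, 10, 12, 14, 18] : List ℕ).prod := by decide +kernel

/-- Data of the certificate. -/
def xE7_6 : HData := ⟨7, 1, 6, [0, 3, 1, 2, 4, 3, 2, 6, 5, 4, 3, 1],
  [[-1, -1, -1, -1, -1, 0, 0], [0, 0, 0, 0, 1, 1, 0], [1, 2, 2, 3, 2, 1, 0], [0, -1, -1, -2, -2, -1, 0], [0, 0, 0, 1, 1, 0, 0], [0, 1, 1, 1, 1, 1, 1], [0, -1, 0, -1, -1, -1, -1]],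
  [[[1, 0, 1, 1, 1, 0], [1, 0, 0, 2, 1, 1], [1, 1, 1, 2, 2, 1], [1, 1, 1, 4, 2, 1], [0, 0, 1, 3, 2, 1], [-1, -1, 0, 1, 0, 0], [0, 0, 1, 1, 0, 1]]],
  [[1, 1, 1, 1, 0, 0, 0]],
  2, [1, 1, 1, 1, 1, 1, 1], [-1, 1], [1], [1]⟩

theorem okE7_6 : xE7_6.Ok chevE7 ctE7 ([2, 6, 8, 10, 12, 14, 18] : List ℕ).prod := by decide +kernel

/-- Data of the certificate. -/
def xE7_7 : HData := ⟨8, 1, 4, [1, 2, 4, 3, 5],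
  [[1, 0, 1, 1, 0, 0, 0], [0, -1, 0, -1, 0, 0, 0], [0, 0, -1, -1, 0, 0, 0], [0, 1, 1, 2, 1, 1, 0], [0, 0, 0, -1, -1, -1, 0], [0, 0, 0, 1, 1, 0, 0], [0, 0, 0, 0, 0, 1, 1]],
  [[[0, 0, 0, 0], [0, 0, 1, 0], [0, 0, 1, 0], [0, 0, 1, 1], [0, 1, 0, 1], [-1, 1, 0, 0], [0, 0, 0, 0]]],
  [[1, 2, 0, 1, 1, 0, 0]],
  1, [1, 0, 0, 0, 1], [-1, 0, 0, 0, 1], [1], [4]⟩

theorem okE7_7 : xE7_7.Ok chevE7 ctE7 ([2, 6, 8, 10, 12, 14, 18] : List ℕ).prod := by decide +kernel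

/-- Data of the certificate. -/
def xE7_8 : HData := ⟨9, 1, 6, [3, 1, 4, 3, 1, 2, 0, 5],
  [[0, 0, 1, 0, 0, 0, 0], [0, 0, 0, 0, 1, 1, 0], [1, 1, 1, 2, 1, 1, 0], [-1, 0, -1, -1, -1, -1, 0], [0, -1, 0, 0, 0, 0, 0], [1, 1, 1, 1, 1, 0, 0], [0, 0, 0, 0, 0, 1, 1]],
  [[[0, 0, 1, 0, 1, 0], [0, 1, 1, 0, 1, 0], [0, 1, 1, 1, 1, 0], [1, 1, 2, 1, 1, 0], [1, 1, 1, 1, 1, 0], [1, 0, 1, 1, 0, 1], [0, 0, 0, 0, 0, 0]]],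
  [[0, 1, 0, 2, 3, 2, 1]],
  2, [1, 0, 0, 1, 0, 0, 1], [-1, 0, 0, 1], [1], [3]⟩

theorem okE7_8 : xE7_8.Ok chevE7 ctE7 ([2, 6, 8, 10, 12, 14, 18] : List ℕ).prod := by decide +kernel

/-- Data of the certificate. -/
def xE7_9 : HData := ⟨10, 1, 4, [4, 3, 1, 2, 5, 6],
  [[1, 0, 1, 0, 0, 0, 0], [0, 0, 1, 1, 0, 0, 0], [0, 1, 0, 1, 0, 0, 0], [0, 0, 0, 0, 1, 1, 1], [0, -1, -1, -1, -1, -1, -1], [0, 1, 1, 1, 1, 0, 0], [0, 0, 0, 0, 0, 1, 0]],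
  [[[0, 0, 0, 0], [1, 0, -1, 0], [1, 0, -1, 0], [2, -2, 0, -1], [0, 0, -1, -1], [-1, 1, 0, -2], [0, -1, 2, -2]]],
  [[-1, 3, 0, 1, -2, 0, 0]],
  5, [1, -1, 1, -1, 1], [-1, -1, 0, 0, 0, 1, 1], [-1, 1], [5, 2]⟩

theorem okE7_9 : xE7_9.Ok chevE7 ctE7 ([2, 6, 8, 10, 12, 14, 18] : List ℕ).prod := by decide +kernel

/-- Data of the certificate. -/
def xE7_10 : HData := ⟨12, 1, 4, [0, 1, 2, 3, 2, 4, 5, 4, 3, 2, 6, 5, 4],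
  [[-1, 0, -1, -1, -1, -1, -1], [0, -1, -1, -2, -2, -1, -1], [1, 0, 1, 1, 1, 0, 0], [0, 1, 1, 1, 1, 1, 1], [0, 0, 0, 1, 1, 1, 0], [0, 0, -1, -1, -1, -1, 0], [0, 0, 1, 1, 0, 0, 0]],
  [[[-1, 1, 1, 0], [0, 0, 1, 1], [-1, 0, 2, 1], [-1, 0, 2, 2], [-1, 0, 2, 1], [-1, 0, 2, 0], [-1, 0, 1, 0]]],
  [[0, 1, 0, 0, 0, 0, 0]],
  1, [1, 0, -1, 0, 1], [-1, 0, -1, 0, 0, 0, 1, 0, 1], [-1, 0, 1], [6, 4]⟩

theorem okE7_10 : xE7_10.Ok chevE7 ctE7 ([2, 6, 8, 10, 12, 14, 18] : List ℕ).prod := by decide +kernel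

/-- Data of the certificate. -/
def xE7_11 : HData := ⟨14, 1, 6, [1, 2, 0, 3, 2, 5, 4, 3, 6],
  [[0, 0, 0, 0, 1, 0, 0], [0, -1, -1, -2, -1, 0, 0], [-1, 0, -1, -1, -1, 0, 0], [1, 1, 1, 2, 1, 0, 0], [0, 0, 1, 1, 1, 1, 1], [0, 0, 0, -1, -1, -1, -1], [0, 0, 0, 1, 1, 1, 0]],
  [[[-1, 0, 0, 1, 0, 0], [0, -1, 0, 1, 1, 0], [0, 0, -1, 1, 1, 1], [0, -1, -1, 1, 2, 1], [-1, 1, -1, 1, 0, 2], [0, 0, 0, 0, 1, 1], [0, 0, 0, 0, 0, 1]]],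
  [[0, -1, 0, -2, -2, -1, 0]],
  1, [1, -1, 1, -1, 1, -1, 1], [-1, -1, 0, 0, 0, 0, 0, 1, 1], [-1, 1], [7, 2]⟩

theorem okE7_11 : xE7_11.Ok chevE7 ctE7 ([2, 6, 8, 10, 12, 14, 18] : List ℕ).prod := by decide +kernel

/-- Data of the certificate. -/
def xE7_12 : HData := ⟨18, 1, 6, [3, 1, 2, 0, 6, 5, 4],
  [[0, 0, 1, 0, 0, 0, 0], [1, 0, 1, 1, 1, 0, 0], [0, 1, 0, 1, 1, 0, 0], [-1, -1, -1, -1, -1, 0, 0], [1, 1, 1, 1, 1, 1, 0], [0, 0, 0, 0, 0, 0, 1], [0, 0, 0, 0, -1, -1, -1]],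
  [[[0, 0, -1, -1, 0, 0], [0, -1, -1, -1, 0, 0], [0, -1, -2, -1, 0, 0], [-1, -2, -2, -1, 0, 0], [-1, -1, -1, -1, -1, 0], [-1, 0, -1, -1, -1, 1], [0, 0, -1, -1, 0, 1]]],
  [[-1, -1, -1, -2, -1, -1, 0]],
  1, [1, 0, 0, -1, 0, 0, 1], [-1, 0, 0, -1, 0, 0, 0, 0, 0, 1, 0, 0, 1], [-1, 0, 0, 1], [9, 6]⟩

theorem okE7_12 : xE7_12.Ok chevE7 ctE7 ([2, 6, 8, 10, 12, 14, 18] : List ℕ).prod := by decide +kernel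

/-- Data of the certificate. -/
def xsE7 : List HData := [xE7_0, xE7_1, xE7_2, xE7_3, xE7_4, xE7_5, xE7_6, xE7_7, xE7_8, xE7_9, xE7_10, xE7_11, xE7_12]

theorem okE7 : ∀ x ∈ xsE7, x.Ok chevE7 ctE7 ([2, 6, 8, 10, 12, 14, 18] : List ℕ).prod := by
  simp only [xsE7, List.forall_mem_cons, List.not_mem_nil, false_imp_iff, implies_true, and_true]
  exact ⟨okE7_0, okE7_1, okE7_2, okE7_3, okE7_4, okE7_5, okE7_6, okE7_7, okE7_8, okE7_9, okE7_10, okE7_11, okE7_12⟩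

theorem covE7 : ∀ e ∈ ([2, 6, 8, 10, 12, 14, 18] : List ℕ), ∀ d ≤ e, d ∣ e →
    ∃ x ∈ xsE7, x.d = d ∧ x.a = (([2, 6, 8, 10, 12, 14, 18] : List ℕ).filter (d ∣ ·)).length := by decide +kernel

theorem icE7 : InvCert chevE7 2 invE7 := by decide +kernel

/-- Data of the certificate. -/
def ctE8 : List (List ℤ) := [[2, 0, -1, 0, 0, 0, 0, 0], [0, 2, 0, -1, 0, 0, 0, 0], [-1, 0, 2, -1, 0, 0, 0, 0], [0, -1, -1, 2, -1, 0, 0, 0], [0, 0, 0, -1, 2, -1, 0, 0], [0, 0, 0, 0, -1, 2, -1, 0], [0, 0, 0, 0, 0, -1, 2, -1], [0, 0, 0, 0, 0, 0, -1, 2]]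

/-- Data of the certificate. -/
def invE8 : List (List ℤ) := [[4, 5, 7, 10, 8, 6, 4, 2], [5, 8, 10, 15, 12, 9, 6, 3], [7, 10, 14, 20, 16, 12, 8, 4], [10, 15, 20, 30, 24, 18, 12, 6], [8, 12, 16, 24, 20, 15, 10, 5], [6, 9, 12, 18, 15, 12, 8, 4], [4, 6, 8, 12, 10, 8, 6, 3], [2, 3, 4, 6, 5, 4, 3, 2]]

/-- Data of the certificate. -/
def xE8_0 : HData := ⟨1, 8, 1, [],
  [[1, 0, 0, 0, 0, 0, 0, 0], [0, 1, 0, 0, 0, 0, 0, 0], [0, 0, 1, 0, 0, 0, 0, 0], [0, 0, 0, 1, 0, 0, 0, 0], [0, 0, 0, 0, 1, 0, 0, 0], [0, 0, 0, 0, 0, 1, 0, 0], [0, 0, 0, 0, 0, 0, 1, 0], [0, 0, 0, 0, 0, 0, 0, 1]],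
  [[[-1], [-1], [-1], [0], [1], [0], [0], [0]], [[-1], [0], [-1], [0], [0], [1], [-1], [0]], [[1], [-1], [0], [0], [0], [1], [1], [0]], [[-1], [1], [0], [-1], [1], [0], [0], [0]], [[1], [-1], [1], [-1], [1], [0], [0], [0]], [[0], [-1], [-1], [1], [1], [-1], [1], [1]], [[-1], [1], [1], [0], [0], [1], [1], [-1]], [[1], [-1], [-1], [0], [1], [0], [1], [1]]],
  [[-32, -48, -66, -96, -78, -62, -44, -26], [56, 84, 113, 168, 137, 105, 70, 37], [-184, -272, -357, -536, -433, -317, -202, -93], [-128, -188, -248, -372, -300, -220, -140, -64], [60, 88, 119, 176, 143, 107, 70, 35], [-28, -40, -49, -76, -61, -41, -22, -5], [124, 184, 243, 364, 295, 219, 142, 67], [160, 236, 308, 464, 376, 276, 176, 80]],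
  4, [-1, 1], [1], [1], []⟩

theorem okE8_0 : xE8_0.Ok chevE8 ctE8 ([2, 8, 12, 14, 18, 20, 24, 30] : List ℕ).prod := by decide +kernel

/-- Data of the certificate. -/
def xE8_1 : HData := ⟨2, 8, 1, [0, 1, 2, 0, 3, 1, 2, 0, 3, 2, 4, 3, 1, 2, 0, 3, 2, 4, 3, 1, 5, 4, 3, 1, 2, 0, 3, 2, 4, 3, 1, 5, 4, 3, 2, 0, 6, 5, 4, 3, 1, 2, 0, 3, 2, 4, 3, 1, 5, 4, 3, 2, 0, 6, 5, 4, 3, 1, 2, 3, 4, 5, 6, 7, 6, 5, 4, 3, 1, 2, 0, 3, 2, 4, 3, 1, 5, 4, 3, 2, 0, 6, 5, 4, 3, 1, 2, 3, 4, 5, 6, 7, 6, 5, 4, 3, 1, 2, 0, 3, 2, 4, 3, 1, 5, 4, 3, 2, 0, 6, 5, 4, 3, 1, 2, 3, 4, 5, 6, 7],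
  [[-1, 0, 0, 0, 0, 0, 0, 0], [0, -1, 0, 0, 0, 0, 0, 0], [0, 0, -1, 0, 0, 0, 0, 0], [0, 0, 0, -1, 0, 0, 0, 0], [0, 0, 0, 0, -1, 0, 0, 0], [0, 0, 0, 0, 0, -1, 0, 0], [0, 0, 0, 0, 0, 0, -1, 0], [0, 0, 0, 0, 0, 0, 0, -1]],
  [[[-1], [0], [0], [1], [-1], [-1], [-1], [1]], [[0], [0], [0], [0], [0], [-1], [0], [-1]], [[0], [1], [1], [-1], [-1], [-1], [-1], [-1]], [[1], [-1], [0], [-1], [0], [-1], [1], [1]], [[-1], [-1], [0], [0], [1], [1], [0], [0]], [[0], [1], [-1], [-1], [1], [-1], [-1], [0]], [[-1], [-1], [-1], [0], [0], [0], [1], [0]], [[1], [1], [0], [0], [-1], [1], [1], [-1]]],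
  [[-552, -855, -1128, -1677, -1368, -1038, -720, -366], [-354, -552, -726, -1080, -882, -672, -468, -240], [60, 96, 126, 186, 152, 116, 82, 42], [-390, -606, -798, -1188, -968, -734, -508, -258], [-822, -1275, -1680, -2499, -2036, -1544, -1072, -546], [-282, -435, -576, -855, -696, -528, -366, -186], [300, 471, 618, 921, 752, 572, 400, 204], [-660, -1023, -1350, -2007, -1636, -1240, -860, -438]],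
  6, [1, 1], [-1, 1], [1], [1]⟩

theorem okE8_1 : xE8_1.Ok chevE8 ctE8 ([2, 8, 12, 14, 18, 20, 24, 30] : List ℕ).prod := by decide +kernel

/-- Data of the certificate. -/
def xE8_2 : HData := ⟨3, 4, 2, [1, 2, 0, 3, 4, 3, 1, 2, 0, 3, 2, 4, 5, 4, 3, 1, 2, 0, 3, 2, 4, 3, 1, 5, 6, 5, 4, 3, 1, 2, 0, 3, 2, 4, 3, 1, 5, 4, 7, 6, 5, 4, 3, 1, 2, 0, 3, 2, 4, 3, 1, 5, 4, 3, 2, 0, 6, 5, 4, 3, 1, 2, 3, 4, 5, 6, 7, 6, 5, 4, 3, 1, 2, 0, 3, 2, 4, 3, 5, 6],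
  [[0, 1, 1, 2, 2, 1, 1, 0], [-1, -2, -2, -3, -2, -1, -1, -1], [-1, -2, -3, -4, -3, -2, -1, 0], [2, 3, 4, 5, 4, 3, 2, 1], [-2, -2, -3, -4, -4, -3, -2, -1], [1, 0, 1, 1, 1, 0, 0, 0], [0, 1, 1, 2, 2, 2, 1, 1], [0, 0, -1, -1, -1, -1, -1, -1]],
  [[[0, 0], [1, 0], [1, 0], [2, 0], [2, 0], [2, 0], [2, 1], [1, 0]], [[-1, 0], [-1, 1], [-2, 0], [-3, 0], [-2, 0], [-1, 0], [-1, 0], [-1, 0]], [[1, 1], [1, 0], [1, 0], [2, 0], [2, 0], [1, 0], [1, 0], [0, 0]], [[0, 0], [0, 0], [-1, 0], [-1, 0], [-1, 0], [-1, 0], [-1, 0], [0, 1]]],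
  [[1, 2, 2, 4, 3, 3, 2, 1], [-2, -3, -4, -6, -4, -3, -2, -1], [0, 0, 0, 0, 1, 0, 0, 0], [-2, -2, -4, -4, -4, -3, -2, -1]],
  1, [1, 1, 1], [-1, 1], [1], [1]⟩

theorem okE8_2 : xE8_2.Ok chevE8 ctE8 ([2, 8, 12, 14, 18, 20, 24, 30] : List ℕ).prod := by decide +kernel

/-- Data of the certificate. -/
def xE8_3 : HData := ⟨4, 4, 2, [0, 1, 2, 3, 1, 2, 0, 4, 3, 1, 2, 0, 3, 2, 4, 5, 4, 3, 6, 5, 4, 3, 1, 2, 0, 3, 2, 4, 7, 6, 5, 4, 3, 1, 2, 0, 3, 2, 4, 3, 1, 5, 4, 3, 2, 0, 6, 5, 4, 3, 1, 2, 3, 4, 7, 6, 5, 4, 3, 2],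
  [[-1, -1, -2, -3, -3, -2, -2, -1], [-2, -2, -3, -4, -3, -3, -2, -1], [0, 0, 0, 0, 1, 1, 1, 1], [1, 1, 2, 2, 1, 1, 1, 0], [0, -1, -1, -1, -1, -1, -1, 0], [1, 3, 3, 5, 4, 3, 2, 1], [0, -1, -1, -2, -1, -1, -1, -1], [-1, -1, -2, -2, -2, -1, 0, 0]],
  [[[0, 0], [-1, 0], [-1, 0], [-1, 0], [-1, 1], [-1, 0], [-1, 0], [0, 0]], [[0, 0], [0, 0], [0, 1], [0, 0], [1, 0], [1, 0], [1, 0], [1, 0]], [[1, 0], [1, 0], [2, 0], [2, 1], [1, 0], [1, 0], [1, 0], [0, 0]], [[0, 0], [-1, 0], [-1, 0], [-2, 0], [-1, 0], [-1, 0], [-1, 1], [-1, 0]]],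
  [[0, -1, -1, -2, -2, -2, -1, 0], [1, 1, 2, 3, 3, 3, 2, 1], [4, 5, 7, 10, 8, 6, 4, 2], [-1, -2, -2, -3, -2, -1, -1, -1]],
  1, [1, 0, 1], [-1, 0, 1], [1], [2]⟩

theorem okE8_3 : xE8_3.Ok chevE8 ctE8 ([2, 8, 12, 14, 18, 20, 24, 30] : List ℕ).prod := by decide +kernel

/-- Data of the certificate. -/
def xE8_4 : HData := ⟨5, 2, 4, [1, 2, 0, 3, 4, 3, 1, 2, 0, 3, 4, 5, 4, 3, 1, 2, 0, 3, 2, 4, 5, 6, 5, 4, 3, 1, 2, 3, 7, 6, 5, 4, 3, 1, 2, 0, 3, 2, 4, 3, 1, 5, 4, 3, 6, 5, 7, 6],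
  [[1, 1, 2, 2, 1, 1, 1, 1], [-1, -2, -2, -3, -2, -2, -1, 0], [-2, -2, -3, -4, -3, -2, -2, -1], [2, 3, 4, 6, 5, 4, 3, 1], [-1, -2, -3, -5, -4, -3, -2, -1], [0, 1, 1, 2, 1, 0, 0, 0], [1, 1, 1, 2, 2, 2, 1, 1], [0, -1, 0, -1, -1, -1, -1, -1]],
  [[[1, 2, 1, 0], [1, 2, 1, 0], [2, 3, 1, 0], [2, 4, 2, 0], [2, 3, 2, 0], [2, 2, 2, 0], [2, 2, 2, 1], [1, 1, 1, 0]], [[0, 0, 0, 0], [1, 1, 1, 0], [0, 1, 1, 0], [1, 2, 2, 0], [1, 2, 1, 0], [1, 2, 1, 1], [0, 1, 0, 0], [0, 0, 0, 0]]],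
  [[0, 1, 1, 1, 1, 1, 1, 1], [0, 1, 0, 0, 0, 0, 0, 0]],
  1, [1, 1, 1, 1, 1], [-1, 1], [1], [1]⟩

theorem okE8_4 : xE8_4.Ok chevE8 ctE8 ([2, 8, 12, 14, 18, 20, 24, 30] : List ℕ).prod := by decide +kernel

/-- Data of the certificate. -/
def xE8_5 : HData := ⟨6, 4, 2, [1, 2, 0, 3, 4, 3, 1, 2, 0, 3, 4, 5, 4, 3, 1, 2, 0, 3, 4, 5, 6, 5, 4, 3, 1, 2, 7, 6, 5, 4, 3, 1, 2, 0, 3, 2, 4, 3, 5, 6],
  [[1, 1, 1, 2, 2, 1, 1, 0], [-1, -1, -2, -3, -2, -1, -1, -1], [-1, -2, -2, -4, -3, -2, -1, 0], [2, 3, 4, 6, 4, 3, 2, 1], [-2, -2, -3, -4, -3, -3, -2, -1], [1, 0, 1, 1, 1, 1, 0, 0], [0, 1, 1, 2, 2, 2, 2, 1], [0, 0, -1, -1, -1, -1, -1, 0]],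
  [[[0, 0], [0, 0], [-1, 0], [-1, 0], [-1, 0], [-1, 0], [-1, 0], [-1, 1]], [[1, 0], [0, 0], [1, 0], [1, 0], [1, 0], [0, 1], [0, 0], [0, 0]], [[-1, 0], [-2, 1], [-2, 0], [-3, 0], [-2, 0], [-1, 0], [-1, 0], [-1, 0]], [[0, 0], [1, 0], [1, 0], [2, 0], [2, 0], [2, 0], [1, 1], [1, 0]]],
  [[0, 0, -1, 0, 0, 0, 0, 0], [2, 2, 3, 4, 4, 3, 2, 1], [-2, -3, -4, -6, -4, -3, -2, -1], [1, 2, 2, 4, 4, 3, 2, 1]],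
  1, [1, -1, 1], [-1, -1, 0, 1, 1], [-1, 1], [3, 2]⟩

theorem okE8_5 : xE8_5.Ok chevE8 ctE8 ([2, 8, 12, 14, 18, 20, 24, 30] : List ℕ).prod := by decide +kernel

/-- Data of the certificate. -/
def xE8_6 : HData := ⟨7, 1, 6, [1, 4, 3, 6, 5, 7],
  [[1, 0, 0, 0, 0, 0, 0, 0], [0, -1, 0, -1, 0, 0, 0, 0], [0, 0, 1, 1, 0, 0, 0, 0], [0, 1, 0, 1, 1, 1, 0, 0], [0, 0, 0, -1, -1, -1, 0, 0], [0, 0, 0, 1, 1, 1, 1, 1], [0, 0, 0, 0, 0, -1, -1, -1], [0, 0, 0, 0, 0, 1, 1, 0]],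
  [[[0, 0, 0, 0, 0, 0], [-1, 0, 0, 0, 0, 1], [0, 0, 0, 0, 0, 0], [-2, -2, -1, -1, -1, 0], [-1, -1, 0, 0, 1, 1], [0, -1, -1, 0, 1, 1], [0, -1, -1, 1, 1, 0], [0, 0, -1, 0, 1, 0]]],
  [[0, 2, 7, 7, 6, 7, 3, 0]],
  7, [1, 1, 1, 1, 1, 1, 1], [-1, 1], [1], [1]⟩

theorem okE8_6 : xE8_6.Ok chevE8 ctE8 ([2, 8, 12, 14, 18, 20, 24, 30] : List ℕ).prod := by decide +kernel

/-- Data of the certificate. -/
def xE8_7 : HData := ⟨8, 2, 4, [0, 1, 2, 3, 1, 2, 0, 4, 3, 1, 2, 0, 3, 5, 4, 6, 5, 4, 3, 1, 7, 6, 5, 4, 3, 1, 2, 3, 4, 5],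
  [[-1, -1, -2, -3, -2, -2, -1, -1], [0, -1, -1, -2, -2, -2, -2, -1], [0, 0, 0, 1, 0, 0, 0, 0], [0, 0, 0, 0, 1, 1, 1, 1], [0, 1, 1, 1, 0, 0, 0, 0], [1, 1, 2, 3, 3, 2, 1, 0], [0, 0, -1, -1, -1, 0, 0, 0], [0, -1, 0, -1, -1, -1, 0, 0]],
  [[[0, 1, 0, 0], [0, 1, 0, 0], [-1, 2, 0, 0], [0, 2, 0, 1], [0, 1, 1, 0], [0, 1, 1, 0], [0, 1, 1, 0], [0, 0, 1, 0]], [[-1, 0, 0, 0], [-1, -1, 1, 0], [-1, -1, 1, 0], [-2, -1, 1, 0], [-1, -1, 0, 1], [-1, -1, 0, 0], [0, -1, 0, 0], [0, 0, 0, 0]]],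
  [[0, 0, -1, -1, -1, -1, 0, 0], [-2, -3, -4, -6, -5, -4, -2, -1]],
  1, [1, 0, 0, 0, 1], [-1, 0, 0, 0, 1], [1], [4]⟩

theorem okE8_7 : xE8_7.Ok chevE8 ctE8 ([2, 8, 12, 14, 18, 20, 24, 30] : List ℕ).prod := by decide +kernel

/-- Data of the certificate. -/
def xE8_8 : HData := ⟨9, 1, 6, [3, 1, 4, 3, 5, 6, 5, 4, 3, 1, 2, 0, 3, 2, 4, 7],
  [[0, 0, 0, 1, 1, 0, 0, 0], [0, 0, 0, 0, 1, 1, 1, 1], [1, 1, 2, 2, 1, 1, 1, 1], [-1, 0, -1, -1, -1, -1, -1, -1], [1, 0, 0, 0, 0, 0, 0, 0], [0, 0, 1, 1, 1, 1, 0, 0], [-1, -1, -2, -2, -2, -1, 0, 0], [1, 1, 2, 2, 2, 1, 1, 0]],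
  [[[0, -1, 0, 1, -1, 1], [-1, 0, 0, 0, 0, 1], [-2, 0, -1, 0, 0, 0], [-3, 0, 0, -1, 1, 0], [-3, 1, -1, -1, 2, -1], [-1, 0, 0, 0, 1, 0], [-1, 0, 0, 0, 1, 0], [0, -1, 1, -1, 1, 0]]],
  [[-3, -2, -2, -5, -4, 0, -1, 0]],
  3, [1, 0, 0, 1, 0, 0, 1], [-1, 0, 0, 1], [1], [3]⟩

theorem okE8_8 : xE8_8.Ok chevE8 ctE8 ([2, 8, 12, 14, 18, 20, 24, 30] : List ℕ).prod := by decide +kernel

/-- Data of the certificate. -/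
def xE8_9 : HData := ⟨10, 2, 4, [1, 2, 0, 3, 4, 3, 1, 2, 0, 3, 5, 4, 3, 1, 2, 0, 6, 5, 4, 7, 6, 5, 4, 3],
  [[1, 0, 1, 1, 1, 1, 1, 1], [0, -1, -1, -2, -1, -1, -1, -1], [-1, -1, -1, -2, -2, -2, -2, -1], [1, 2, 2, 4, 3, 3, 2, 1], [-1, -1, -2, -3, -2, -2, -1, 0], [0, 0, 1, 1, 1, 1, 1, 0], [1, 1, 1, 2, 1, 0, 0, 0], [0, 0, 0, -1, -1, 0, 0, 0]],
  [[[0, 1, 0, 1], [0, 1, 0, 0], [1, 1, 1, 0], [1, 1, 1, 0], [1, 0, 1, 0], [1, 0, 1, 0], [0, 0, 1, 0], [0, 0, 1, 0]], [[-1, 0, 0, 0], [0, -1, 0, 0], [-1, 0, 0, 0], [-1, 0, -1, 0], [-1, 0, -1, 0], [0, -1, 0, 0], [0, -1, 0, 0], [0, 0, -1, 1]]],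
  [[2, 3, 4, 6, 5, 4, 2, 1], [-2, -3, -4, -5, -5, -3, -2, -1]],
  1, [1, -1, 1, -1, 1], [-1, -1, 0, 0, 0, 1, 1], [-1, 1], [5, 2]⟩

theorem okE8_9 : xE8_9.Ok chevE8 ctE8 ([2, 8, 12, 14, 18, 20, 24, 30] : List ℕ).prod := by decide +kernel

/-- Data of the certificate. -/
def xE8_10 : HData := ⟨12, 2, 4, [0, 1, 2, 4, 3, 1, 2, 0, 5, 4, 3, 1, 2, 6, 5, 7, 6, 5, 4, 3],
  [[0, -1, -1, -2, -2, -1, -1, 0], [-1, -1, -1, -2, -1, -1, -1, 0], [0, 1, 0, 1, 1, 0, 0, 0], [1, 1, 2, 3, 2, 2, 2, 1], [-1, -1, -2, -3, -2, -1, -1, -1], [1, 0, 1, 1, 1, 0, 0, 0], [0, 1, 1, 2, 1, 1, 0, 0], [0, 0, 0, -1, -1, -1, 0, 0]],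
  [[[-1, -1, 0, 0], [-1, 0, 0, 0], [-1, -1, 0, 0], [-1, -1, -1, 0], [0, -1, -1, 0], [0, -1, -1, 0], [0, -1, 0, 0], [0, -1, 0, 1]], [[0, -1, 0, 0], [-1, -1, 1, 0], [0, -2, 0, 1], [-1, -2, 1, 0], [-1, -1, 1, 0], [-1, 0, 0, 0], [-1, 0, 0, 0], [-1, 0, 0, 0]]],
  [[-1, -1, -1, -1, -1, -1, 0, 0], [-2, -4, -5, -8, -6, -5, -4, -2]],
  1, [1, 0, -1, 0, 1], [-1, 0, -1, 0, 0, 0, 1, 0, 1], [-1, 0, 1], [6, 4]⟩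

theorem okE8_10 : xE8_10.Ok chevE8 ctE8 ([2, 8, 12, 14, 18, 20, 24, 30] : List ℕ).prod := by decide +kernel

/-- Data of the certificate. -/
def xE8_11 : HData := ⟨14, 1, 6, [0, 1, 4, 3, 1, 2, 3, 6, 5],
  [[-1, 0, -1, -1, 0, 0, 0, 0], [0, 0, -1, 0, 0, 0, 0, 0], [1, 1, 1, 1, 0, 0, 0, 0], [0, 0, 1, 1, 1, 1, 0, 0], [0, -1, -1, -2, -1, -1, 0, 0], [0, 1, 1, 2, 1, 1, 1, 0], [0, 0, 0, 0, 0, -1, -1, 0], [0, 0, 0, 0, 0, 1, 1, 1]],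
  [[[1, -1, 0, 0, 1, -1], [0, -1, 1, 0, 1, -2], [2, -1, 0, -1, 2, -1], [0, 1, 0, 0, 0, -1], [0, 1, 0, 0, -1, 0], [0, 0, 1, 0, -1, 0], [0, 0, 1, -1, 0, 0], [0, 0, 0, 0, 0, 0]]],
  [[-1, 5, 5, 7, 7, 4, 0, 0]],
  1, [1, -1, 1, -1, 1, -1, 1], [-1, -1, 0, 0, 0, 0, 0, 1, 1], [-1, 1], [7, 2]⟩

theorem okE8_11 : xE8_11.Ok chevE8 ctE8 ([2, 8, 12, 14, 18, 20, 24, 30] : List ℕ).prod := by decide +kernel

/-- Data of the certificate. -/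
def xE8_12 : HData := ⟨15, 1, 8, [1, 2, 0, 4, 3, 1, 2, 0, 5, 4, 3, 6, 5, 7, 6, 5],
  [[0, 1, 0, 1, 1, 1, 1, 0], [-1, 0, -1, -1, -1, -1, -1, 0], [0, -1, -1, -2, -1, -1, -1, 0], [1, 1, 2, 3, 2, 2, 2, 1], [-1, -1, -1, -2, -1, -1, -1, -1], [1, 1, 1, 1, 0, 0, 0, 0], [0, 0, 0, 1, 1, 1, 0, 0], [0, 0, 0, 0, 0, -1, 0, 0]],
  [[[-1, 0, 0, -1, 0, 0, -1, 0], [-1, 0, 0, -1, 0, -1, -1, 1], [-1, -1, 0, -1, -1, 0, -1, 0], [-1, -1, -1, -1, -1, -1, -1, 0], [-1, -1, -1, -1, 0, -1, -1, 0], [-1, -1, 0, -1, 0, -1, -1, 0], [0, -1, 0, -1, 0, 0, -1, 0], [0, 0, 0, -1, 0, 0, 0, 0]]],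
  [[-1, -1, -2, -2, -2, -1, 0, 0]],
  1, [1, -1, 0, 1, -1, 1, 0, -1, 1], [-1, -1, -1, 0, 0, 1, 1, 1], [-1, 1], [5, 3]⟩

theorem okE8_12 : xE8_12.Ok chevE8 ctE8 ([2, 8, 12, 14, 18, 20, 24, 30] : List ℕ).prod := by decide +kernel

/-- Data of the certificate. -/
def xE8_13 : HData := ⟨18, 1, 6, [0, 1, 2, 3, 5, 4, 3, 6, 7],
  [[-1, 0, -1, -1, -1, 0, 0, 0], [0, -1, 0, -1, -1, 0, 0, 0], [1, 0, 0, 0, 0, 0, 0, 0], [0, 1, 1, 2, 1, 0, 0, 0], [0, 0, 0, 0, 1, 1, 1, 1], [0, 0, 0, -1, -1, -1, -1, -1], [0, 0, 0, 1, 1, 1, 0, 0], [0, 0, 0, 0, 0, 0, 1, 0]],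
  [[[0, 0, 0, 0, 1, 1], [-1, 0, 0, 1, 1, 1], [-1, 0, 0, 1, 1, 2], [-2, -1, 0, 2, 2, 2], [-2, -1, 0, 2, 2, 2], [-1, -1, 0, 2, 2, 1], [0, -1, -1, 1, 2, 1], [0, 0, -1, 0, 1, 1]]],
  [[0, -1, 0, -1, -1, 0, 0, 0]],
  1, [1, 0, 0, -1, 0, 0, 1], [-1, 0, 0, -1, 0, 0, 0, 0, 0, 1, 0, 0, 1], [-1, 0, 0, 1], [9, 6]⟩

theorem okE8_13 : xE8_13.Ok chevE8 ctE8 ([2, 8, 12, 14, 18, 20, 24, 30] : List ℕ).prod := by decide +kernel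

/-- Data of the certificate. -/
def xE8_14 : HData := ⟨20, 1, 8, [5, 4, 3, 1, 2, 0, 3, 2, 4, 3, 6, 7],
  [[0, 0, 0, 0, 1, 0, 0, 0], [1, 0, 0, 0, 0, 0, 0, 0], [0, 1, 0, 1, 0, 0, 0, 0], [0, 0, 1, 0, 0, 0, 0, 0], [0, 0, 0, 1, 1, 1, 1, 1], [-1, -1, -2, -3, -2, -1, -1, -1], [1, 1, 2, 3, 2, 1, 0, 0], [0, 0, 0, 0, 0, 0, 1, 0]],
  [[[0, 1, 0, 0, 0, 1, 0, 0], [0, 1, 1, 0, 0, 0, 1, 0], [0, 1, 1, 1, 0, 0, 0, 1], [-1, 2, 2, 1, 0, 0, 1, 0], [0, 1, 1, 1, 1, 0, 0, 0], [0, 1, 1, 1, 0, 0, 0, 0], [0, 0, 1, 1, 0, 0, 0, 0], [0, 0, 0, 1, 0, 0, 0, 0]]],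
  [[1, 2, 2, 3, 3, 3, 2, 1]],
  1, [1, 0, -1, 0, 1, 0, -1, 0, 1], [-1, 0, -1, 0, 0, 0, 0, 0, 0, 0, 1, 0, 1], [-1, 0, 1], [10, 4]⟩

theorem okE8_14 : xE8_14.Ok chevE8 ctE8 ([2, 8, 12, 14, 18, 20, 24, 30] : List ℕ).prod := by decide +kernel

/-- Data of the certificate. -/
def xE8_15 : HData := ⟨24, 1, 8, [0, 1, 4, 3, 2, 5, 4, 3, 7, 6],
  [[-1, 0, -1, -1, 0, 0, 0, 0], [0, -1, -1, -2, -1, 0, 0, 0], [1, 0, 1, 1, 1, 0, 0, 0], [0, 1, 1, 2, 1, 1, 1, 0], [0, 0, -1, -1, -1, -1, -1, 0], [0, 0, 1, 0, 0, 0, 0, 0], [0, 0, 0, 1, 1, 1, 1, 1], [0, 0, 0, 0, 0, 0, -1, -1]],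
  [[[0, -1, -1, 0, 0, 1, 0, 0], [-1, -1, -1, 0, 1, 0, 0, 0], [0, -1, -2, -1, 0, 1, 1, 0], [-1, -2, -2, -1, 1, 1, 0, 0], [-1, -2, -1, -1, 1, 1, 0, 0], [-1, -1, 0, -1, 0, 0, 0, 1], [-1, -1, 0, 0, 0, 0, 0, 0], [-1, 0, 0, 0, 0, 0, 0, 0]]],
  [[-2, -3, -4, -6, -5, -4, -3, -2]],
  1, [1, 0, 0, 0, -1, 0, 0, 0, 1], [-1, 0, 0, 0, -1, 0, 0, 0, 0, 0, 0, 0, 1, 0, 0, 0, 1], [-1, 0, 0, 0, 1], [12, 8]⟩

theorem okE8_15 : xE8_15.Ok chevE8 ctE8 ([2, 8, 12, 14, 18, 20, 24, 30] : List ℕ).prod := by decide +kernel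

/-- Data of the certificate. -/
def xE8_16 : HData := ⟨30, 1, 8, [1, 2, 0, 4, 3, 5, 7, 6],
  [[0, 0, 1, 1, 0, 0, 0, 0], [0, -1, 0, -1, 0, 0, 0, 0], [-1, 0, -1, -1, 0, 0, 0, 0], [1, 1, 1, 2, 1, 1, 1, 0], [0, 0, 0, -1, -1, -1, -1, 0], [0, 0, 0, 1, 1, 0, 0, 0], [0, 0, 0, 0, 0, 1, 1, 1], [0, 0, 0, 0, 0, 0, -1, -1]],
  [[[0, 0, 0, 0, 1, 1, 0, 0], [0, 0, 0, 1, 1, 1, 0, 0], [0, 0, 0, 1, 2, 1, 0, 0], [0, 0, 0, 1, 2, 2, 1, 0], [0, 0, 1, 1, 1, 1, 1, 0], [0, 0, 1, 1, 0, 0, 1, 1], [-1, -1, 1, 2, 1, 0, 0, 0], [-1, 0, 1, 1, 0, 0, 0, 0]]],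
  [[1, 2, 2, 3, 3, 2, 1, 0]],
  1, [1, 1, 0, -1, -1, -1, 0, 1, 1], [-1, 1, -1, 0, 0, -1, 1, -1, 0, 0, 0, 0, 0, 0, 0, 1, -1, 1, 0, 0, 1, -1, 1], [1, 1, 0, -1, -1, -1, -1, 0, 1, 1], [15, 10, 6]⟩

theorem okE8_16 : xE8_16.Ok chevE8 ctE8 ([2, 8, 12, 14, 18, 20, 24, 30] : List ℕ).prod := by decide +kernel

/-- Data of the certificate. -/
def xsE8 : List HData := [xE8_0, xE8_1, xE8_2, xE8_3, xE8_4, xE8_5, xE8_6, xE8_7, xE8_8, xE8_9, xE8_10, xE8_11, xE8_12, xE8_13, xE8_14, xE8_15, xE8_16]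

theorem okE8 : ∀ x ∈ xsE8, x.Ok chevE8 ctE8 ([2, 8, 12, 14, 18, 20, 24, 30] : List ℕ).prod := by
  simp only [xsE8, List.forall_mem_cons, List.not_mem_nil, false_imp_iff, implies_true, and_true]
  exact ⟨okE8_0, okE8_1, okE8_2, okE8_3, okE8_4, okE8_5, okE8_6, okE8_7, okE8_8, okE8_9, okE8_10, okE8_11, okE8_12, okE8_13, okE8_14, okE8_15, okE8_16⟩

theorem covE8 : ∀ e ∈ ([2, 8, 12, 14, 18, 20, 24, 30] : List ℕ), ∀ d ≤ e, d ∣ e →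
    ∃ x ∈ xsE8, x.d = d ∧ x.a = (([2, 8, 12, 14, 18, 20, 24, 30] : List ℕ).filter (d ∣ ·)).length := by decide +kernel

theorem icE8 : InvCert chevE8 1 invE8 := by decide +kernel


/-- Sylow subgroups for primes away from the characteristic and the Weyl group. Let `G` be the Chevalley group of type G₂, B₂, D₄, F₄, E₆, E₇ or E₈ over a field with `q` elements, with the degrees of its Weyl group listed beside the type (their product is the order of the Weyl group), and let `r` be a prime dividing the order of `G`, not dividing `q` and not dividing the order of the Weyl group. Let `d` be the multiplicative order of `q` modulo `r`, `a` the number of degrees divisible by `d`, and `m` the `r`-part of the value at `q` of the `d`-th cyclotomic polynomial. Then every Sylow `r`-subgroup of `G` is homocyclic: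 a direct product of `a` cyclic groups of order `m` (in particular abelian). -/
theorem result {F : Type*} [Field F] [Fintype F] {q : ℕ} (hq : Fintype.card F = q)
    (c : Cfsg.Lie.ChevalleyDatum × List ℕ)
    (hc : c ∈ [(Cfsg.Lie.chevG2, [2, 6]), (Cfsg.Lie.chevB2, [2, 4]), (Cfsg.Lie.chevD4, [2, 4, 4, 6]), (Cfsg.Lie.chevF4, [2, 6, 8, 12]),
      (Cfsg.Lie.chevE6, [2, 5, 6, 8, 9, 12]), (Cfsg.Lie.chevE7, [2, 6, 8, 10, 12, 14, 18]), (Cfsg.Lie.chevE8, [2, 8, 12, 14, 18, 20, 24, 30])])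
    (r : ℕ) [Fact r.Prime] (hrq : ¬ r ∣ q) (hrW : ¬ r ∣ c.2.prod) (hrG : r ∣ Nat.card ↥(c.1.group F)) (P : Sylow r ↥(c.1.group F)) :
    Nonempty (↥(P : Subgroup ↥(c.1.group F)) ≃*
      (Fin (c.2.filter (fun e => orderOf (q : ZMod r) ∣ e)).length →
        Multiplicative (ZMod (r ^ padicValNat r ((Polynomial.cyclotomic (orderOf (q : ZMod r)) ℤ).eval (q : ℤ)).natAbs)))) := by
  simp only [List.mem_cons, List.not_mem_nil, or_false] at hc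
  rcases hc with rfl | rfl | rfl | rfl | rfl | rfl | rfl
  · exact (cert (D := chevG2) (by simp)).sylow_homocyclic hq okG2 covG2 icG2 (by decide) (by decide)
      (g := 1) (n := 6) (one_dvd _)
      (by rw [one_mul, S1059.result hq]; simp [mul_assoc]) r hrq hrW hrG P
  · exact (cert (D := chevB2) (by simp)).sylow_homocyclic hq okB2 covB2 icB2 (by decide) (by decide)
      (g := Nat.gcd 2 (q - 1)) (n := 4) ((Nat.gcd_dvd_left _ _).trans (by decide))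
      (by rw [S1060.result hq]; simp [mul_assoc]) r hrq hrW hrG P
  · exact (cert (D := chevD4) (by simp)).sylow_homocyclic hq okD4 covD4 icD4 (by decide) (by decide)
      (g := Nat.gcd 2 (q - 1) ^ 2) (n := 12) ((pow_dvd_pow_of_dvd (Nat.gcd_dvd_left _ _) 2).trans (by decide))
      (by rw [S1061.result hq]; simp [mul_assoc]) r hrq hrW hrG P
  · exact (cert (D := chevF4) (by simp)).sylow_homocyclic hq okF4 covF4 icF4 (by decide) (by decide)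
      (g := 1) (n := 24) (one_dvd _)
      (by rw [one_mul, S1062.result hq]; simp [mul_assoc]) r hrq hrW hrG P
  · exact (cert (D := chevE6) (by simp)).sylow_homocyclic hq okE6 covE6 icE6 (by decide) (by decide)
      (g := Nat.gcd 3 (q - 1)) (n := 36) ((Nat.gcd_dvd_left _ _).trans (by decide))
      (by rw [S1063.result hq]; simp [mul_assoc]) r hrq hrW hrG P
  · exact (cert (D := chevE7) (by simp)).sylow_homocyclic hq okE7 covE7 icE7 (by decide) (by decide)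
      (g := Nat.gcd 2 (q - 1)) (n := 63) ((Nat.gcd_dvd_left _ _).trans (by decide))
      (by rw [S1064.result hq]; simp [mul_assoc]) r hrq hrW hrG P
  · exact (cert (D := chevE8) (by simp)).sylow_homocyclic hq okE8 covE8 icE8 (by decide) (by decide)
      (g := 1) (n := 120) (one_dvd _)
      (by rw [one_mul, S1065.result hq]; simp [mul_assoc]) r hrq hrW hrG P

end Cfsg.Agent.S2378
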