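import Cfsg.Statements.S0865
import Cfsg.Agent.H72.DetExt

set_option autoImplicit false
open Cfsg

namespace Cfsg.Agent.S0865

/-- Let N be a normal subgroup of the finite group G and λ a character of N of degree 1, invariant under conjugation by G, whose order (under pointwise multiplication) is coprime to the index of N. Then there is a character μ of G of degree 1 restricting to λ with the same order as λ, and μ is the only degree-1 character of G restricting to λ whose order is coprime to the index of N. -/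
theorem result {G : Type*} [Group G] [Finite G] (N : Subgroup G) [hN : N.Normal] (lam : N → ℂ) (hlam : Cfsg.IsCharacter N lam ∧ lam 1 = 1) (hinv : ∀ (g : G) (n : N), lam ⟨g * n * g⁻¹, hN.conj_mem (n : G) n.2 g⟩ = lam n) (hcop : Nat.Coprime N.index (orderOf lam)) : ∃ μ : G → ℂ, (Cfsg.IsCharacter G μ ∧ μ 1 = 1 ∧ (∀ n : N, μ n = lam n) ∧ orderOf μ = orderOf lam) ∧ ∀ μ' : G → ℂ, Cfsg.IsCharacter G μ' ∧ μ' 1 = 1 → (∀ n : N, μ' n = lam n) → Nat.Coprime N.index (orderOf μ') → μ' = μ := by
  obtain ⟨l, rfl⟩ := H11.exists_monoidHom_of_apply_one_eq_one hlam.1 hlam.2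
  obtain ⟨μ, h1, h2⟩ := H72.exists_linear_extension N l (d := orderOf fun g => (l g : ℂ))
    (fun g n => Units.ext (hinv g n))
    (fun n => Units.ext (by
      rw [Units.val_pow_eq_pow_val]
      exact congrFun (pow_orderOf_eq_one fun g => (l g : ℂ)) n)) hcop
  have hord : orderOf (fun g => (μ g : ℂ)) = orderOf fun g => (l g : ℂ) := by
    apply Nat.dvd_antisymm
    · apply orderOf_dvd_of_pow_eq_one
      funext g
      simp only [Pi.pow_apply, Pi.one_apply]
      rw [← Units.val_pow_eq_pow_val, h2, Units.val_one]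
    · apply orderOf_dvd_of_pow_eq_one
      funext n
      simp only [Pi.pow_apply, Pi.one_apply]
      rw [← h1]
      exact congrFun (pow_orderOf_eq_one fun g => (μ g : ℂ)) n
  refine ⟨fun g => (μ g : ℂ), ⟨H11.isCharacter_monoidHom μ, by simp, fun n => congrArg Units.val (h1 n), hord⟩,
    fun μ' hμ' h3 h4 => ?_⟩
  obtain ⟨m, rfl⟩ := H11.exists_monoidHom_of_apply_one_eq_one hμ'.1 hμ'.2
  funext g
  have e1 : (m * μ⁻¹) g ^ N.index = 1 := H72.pow_index_eq_one_of_trivial N (m * μ⁻¹)
    (fun n hn => by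
      have : m n = μ n := Units.ext ((h3 ⟨n, hn⟩).trans (congrArg Units.val (h1 ⟨n, hn⟩)).symm)
      simp [this]) g
  have e2 : m g ^ orderOf (fun g => (m g : ℂ)) = 1 := Units.ext (by
    rw [Units.val_pow_eq_pow_val]
    exact congrFun (pow_orderOf_eq_one fun g => (m g : ℂ)) g)
  have e3 : (m * μ⁻¹) g ^ (orderOf (fun g => (m g : ℂ)) * orderOf fun g => (l g : ℂ)) = 1 := by
    rw [MonoidHom.mul_apply, MonoidHom.inv_apply, mul_pow, pow_mul, e2, one_pow, one_mul,
      mul_comm, pow_mul, inv_pow, h2, inv_one, one_pow]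
  have := pow_gcd_eq_one.mpr ⟨e1, e3⟩
  rw [Nat.Coprime.mul_right h4 hcop, pow_one, MonoidHom.mul_apply, MonoidHom.inv_apply,
    mul_inv_eq_one] at this
  rw [this]

end Cfsg.Agent.S0865
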