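import Cfsg.Statements.S0867
import Cfsg.Agent.H72.DetExt
import Cfsg.Agent.S0865

set_option autoImplicit false
open Cfsg

namespace Cfsg.Agent.S0867

/-- Let N be a normal subgroup of the finite group G and ϑ an irreducible character of N of degree d, invariant under conjugation by G, such that the index of N is coprime to the product of d and the determinantal order of ϑ. Then there is an irreducible character χ of G restricting to ϑ whose determinantal order equals that of ϑ, and χ is the only irreducible character of G restricting to ϑ whose determinantal order is coprime to the index of N. -/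
theorem result {G : Type*} [Group G] [Finite G] (N : Subgroup G) [hN : N.Normal] (ϑ : N → ℂ) (hϑ : Cfsg.IsIrrCharacter N ϑ) (hinv : ∀ (g : G) (n : N), ϑ ⟨g * n * g⁻¹, hN.conj_mem (n : G) n.2 g⟩ = ϑ n) (d : ℕ) (hd : ϑ 1 = d) (hcop : Nat.Coprime N.index (Cfsg.detOrder ϑ * d)) : ∃ χ : G → ℂ, (Cfsg.IsIrrCharacter G χ ∧ (∀ n : N, χ n = ϑ n) ∧ Cfsg.detOrder χ = Cfsg.detOrder ϑ) ∧ ∀ χ' : G → ℂ, Cfsg.IsIrrCharacter G χ' → (∀ n : N, χ' n = ϑ n) → Nat.Coprime N.index (Cfsg.detOrder χ') → χ' = χ := by
  have hθc := H11.isCharacter_of_irr hϑ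
  obtain ⟨μ, ⟨h1, h2, h3, h4⟩, h5⟩ := S0865.result N (detChar ϑ) (H72.isCharacter_detChar hθc)
    (fun g n => by
      have e1 := congrFun (H72.detChar_comp hθc (MulAut.conjNormal g).toMonoidHom) n
      have e2 : (fun h : N => ϑ ((MulAut.conjNormal g).toMonoidHom h)) = ϑ := funext (hinv g)
      rw [e2] at e1
      exact e1.symm) (Nat.Coprime.coprime_mul_right_right hcop)
  have hcop' := Nat.Coprime.coprime_mul_left_right hcop
  obtain ⟨μ', rfl⟩ := H11.exists_monoidHom_of_apply_one_eq_one h1 h2
  obtain ⟨χ, h6, h7, h8⟩ := H72.exists_irr_extension_of_det N hϑ hinv hd hcop' μ' h3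
  refine ⟨χ, ⟨h6, h7, by rw [detOrder, h8, h4]; rfl⟩, fun χ' h9 h10 h11 => ?_⟩
  have hc' := H11.isCharacter_of_irr h9
  refine H72.extension_unique_of_det N (H11.isCharacter_of_irr h6) hc'
    (by rw [show (fun n : N => χ n) = ϑ from funext h7]; exact hϑ) (fun n => by rw [h7, h10])
    (d := d) (by rw [← hd, ← h7]; rfl) hcop' ?_
  rw [h8]
  exact h5 _ (H72.isCharacter_detChar hc') (H72.detChar_of_res N hc' h10) h11

end Cfsg.Agent.S0867
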