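import Cfsg.Statements.S5529
import Cfsg.Agent.H74.Mathieu
import Cfsg.Agent.H42.Cls

set_option autoImplicit false
open Cfsg

namespace Cfsg.Agent.S5529

set_option maxRecDepth 1000000

section

open Cfsg.Agent.H42 MulAction Module

def Gen (G : Type*) [Group G] (p q r : ℕ) : Prop :=
  ∃ x y z : G, orderOf x = p ∧ orderOf y = q ∧ orderOf z = r ∧ x * y * z = 1 ∧
    Subgroup.closure {x, y} = ⊤

theorem Gen.map {G H : Type*} [Group G] [Group H] (e : G ≃* H) {p q r : ℕ} (h : Gen G p q r) :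
    Gen H p q r := by
  obtain ⟨x, y, z, h1, h2, h3, h4, h5⟩ := h
  refine ⟨e x, e y, e z, by rwa [e.orderOf_eq], by rwa [e.orderOf_eq], by rwa [e.orderOf_eq],
    by rw [← map_mul, ← map_mul, h4, map_one], ?_⟩
  have := congrArg (Subgroup.map (e : G →* H)) h5
  rwa [MonoidHom.map_closure, Set.image_pair, Subgroup.map_top_of_surjective _ e.surjective] at this

noncomputable def chk (p q r a b : ℕ) (prog : List (List ℕ)) : Bool :=
  Bool.and (slpChk [a, b] prog gens23) (Bool.and (Bool.and (ordP p a) (ordP q b))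
    (Bool.and (ordP r (pmul a b)) (Bool.and (Nat.beq (app a 23) 23) (Nat.beq (app b 23) 23))))

theorem pos {p q r : ℕ} (hp : p.Prime) (hq : q.Prime) (hr : r.Prime) (a b : ℕ)
    (prog : List (List ℕ)) (h : chk p q r a b prog = true) : Gen G23 p q r := by
  have := Fact.mk hp
  have := Fact.mk hq
  have := Fact.mk hr
  simp only [chk, Bool.and_eq_true, beq_iff] at h
  obtain ⟨h1, ⟨h2, h3⟩, h4, h5, h6⟩ := h
  have ha := (slpChk_spec h1).1 a (by simp)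
  have hb := (slpChk_spec h1).1 b (by simp)
  let x : G23 := ⟨toM a, (toM_mem_stabilizer_pt ha (by norm_num)).2 h5⟩
  let y : G23 := ⟨toM b, (toM_mem_stabilizer_pt hb (by norm_num)).2 h6⟩
  refine ⟨x, y, (x * y)⁻¹, ?_, ?_, ?_, mul_inv_cancel _, ?_⟩
  · rw [← Subgroup.orderOf_coe]; exact (ordP_iff ha).1 h2
  · rw [← Subgroup.orderOf_coe]; exact (ordP_iff hb).1 h3
  · rw [orderOf_inv, ← Subgroup.orderOf_coe]
    have := (ordP_iff (inM_pmul ha hb)).1 h4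
    rwa [toM_pmul ha hb] at this
  · refine Subgroup.map_injective G23.subtype_injective ?_
    rw [MonoidHom.map_closure, Set.image_pair, ← MonoidHom.range_eq_map, Subgroup.range_subtype]
    refine le_antisymm ((Subgroup.closure_le _).2 ?_) (G23_eq.le.trans
      ((gen_le_of_slpChk h1).trans (gen_le _ ?_)))
    · rintro _ (rfl | rfl)
      · exact x.2
      · exact y.2
    · intro g hg
      simp only [List.mem_cons, List.not_mem_nil, or_false] at hg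
      rcases hg with rfl | rfl
      · exact Subgroup.subset_closure (Or.inl rfl)
      · exact Subgroup.subset_closure (Or.inr rfl)

/-- Scott's lemma. -/
theorem scott {F V : Type*} [Field F] [AddCommGroup V] [Module F V] [FiniteDimensional F V]
    (A B C : V →ₗ[F] V) (h : A * B * C = 1) :
    finrank F (LinearMap.ker (1 - A)) + finrank F (LinearMap.ker (1 - B)) +
      finrank F (LinearMap.ker (1 - C)) +
      finrank F ↥(LinearMap.range (1 - A) ⊔ LinearMap.range (1 - B)) ≤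
    2 * finrank F V + finrank F ↥(LinearMap.ker (1 - A) ⊓ LinearMap.ker (1 - B)) := by
  let β : V →ₗ[F] LinearMap.range (1 - A) × LinearMap.range (1 - B) × LinearMap.range (1 - C) :=
    (1 - A).rangeRestrict.prod ((1 - B).rangeRestrict.prod (1 - C).rangeRestrict)
  let δ : LinearMap.range (1 - A) × LinearMap.range (1 - B) × LinearMap.range (1 - C) →ₗ[F] V :=
    (LinearMap.range (1 - A)).subtype.coprod ((A ∘ₗ (LinearMap.range (1 - B)).subtype).coprod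
      ((A * B) ∘ₗ (LinearMap.range (1 - C)).subtype))
  have h1 : LinearMap.range β ≤ LinearMap.ker δ := by
    rintro _ ⟨v, rfl⟩
    have h2 : A (B (C v)) = v := congrArg (fun f : V →ₗ[F] V => f v) h
    change (v - A v) + (A (v - B v) + A (B (v - C v))) = 0
    rw [map_sub, map_sub, map_sub, h2]
    abel
  have h2 : LinearMap.range (1 - A) ⊔ LinearMap.range (1 - B) ≤ LinearMap.range δ := by
    refine sup_le (fun v hv => ⟨(⟨v, hv⟩, 0, 0), ?_⟩)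
      fun v hv => ⟨(⟨v - A v, v, rfl⟩, ⟨v, hv⟩, 0), ?_⟩
    · change v + (A 0 + A (B 0)) = v
      simp
    · change v - A v + (A v + A (B 0)) = v
      simp
  have h3 : LinearMap.ker β ≤ LinearMap.ker (1 - A) ⊓ LinearMap.ker (1 - B) := fun v hv =>
    ⟨congrArg Subtype.val (congrArg Prod.fst (LinearMap.mem_ker.1 hv)),
      congrArg Subtype.val (congrArg Prod.fst (congrArg Prod.snd (LinearMap.mem_ker.1 hv)))⟩
  have e1 := LinearMap.finrank_range_add_finrank_ker β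
  have e2 := LinearMap.finrank_range_add_finrank_ker δ
  have e3 := LinearMap.finrank_range_add_finrank_ker (1 - A)
  have e4 := LinearMap.finrank_range_add_finrank_ker (1 - B)
  have e5 := LinearMap.finrank_range_add_finrank_ker (1 - C)
  rw [finrank_prod, finrank_prod] at e2
  have := Submodule.finrank_mono h1
  have := Submodule.finrank_mono h2
  have := Submodule.finrank_mono h3
  omega

/-- The permutation module. -/
noncomputable def T (g : M24) : (GolayPt → ℚ) →ₗ[ℚ] (GolayPt → ℚ) :=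
  LinearMap.funLeft ℚ ℚ fun p => g • p

theorem T_apply (g : M24) (f : GolayPt → ℚ) (p : GolayPt) : T g f p = f (g • p) := rfl

theorem ker_ge {g : M24} {p : ℕ} (hg : orderOf g = p) :
    24 + (p - 1) * (fixSet g).card ≤ finrank ℚ (LinearMap.ker (1 - T g)) * p := by
  classical
  have : Finite M24 := inferInstance
  let H := Subgroup.zpowers g
  have := Fintype.ofFinite H
  have := Fintype.ofFinite (orbitRel.Quotient H GolayPt)
  have hH : Fintype.card H = p := by rw [← Nat.card_eq_fintype_card, Nat.card_zpowers, hg]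
  have h1 := sum_card_fixedBy_eq_card_orbits_mul_card_group H GolayPt
  rw [hH] at h1
  let L : (orbitRel.Quotient H GolayPt → ℚ) →ₗ[ℚ] (GolayPt → ℚ) :=
    LinearMap.funLeft ℚ ℚ (Quotient.mk _)
  have hL : Function.Injective L :=
    LinearMap.funLeft_injective_of_surjective ℚ ℚ _ Quotient.mk_surjective
  have h2 : LinearMap.range L ≤ LinearMap.ker (1 - T g) := by
    rintro _ ⟨f, rfl⟩
    funext x
    change f (Quotient.mk _ x) - f (Quotient.mk _ (g • x)) = 0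
    rw [sub_eq_zero]
    congr 1
    exact (Quotient.sound (s := orbitRel H GolayPt)
      (orbitRel_apply.2 ⟨⟨g, Subgroup.mem_zpowers g⟩, rfl⟩)).symm
  have h3 := Submodule.finrank_mono h2
  rw [LinearMap.finrank_range_of_inj hL, finrank_fintype_fun_eq_card] at h3
  refine le_trans ?_ (h1.le.trans (Nat.mul_le_mul_right p h3))
  rw [← Finset.add_sum_erase _ _ (Finset.mem_univ (1 : H))]
  refine add_le_add ?_ ?_
  · simp
  · rw [← hH, ← Finset.card_univ, ← Finset.card_erase_of_mem (Finset.mem_univ (1 : H)),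
      ← smul_eq_mul]
    refine Finset.card_nsmul_le_sum _ _ _ fun a _ => ?_
    rw [← Fintype.card_coe]
    refine Fintype.card_le_of_injective (fun x => ⟨x.1, ?_⟩) fun x y e =>
      Subtype.ext (Subtype.mk.inj e)
    exact (Subgroup.zpowers_le (H := stabilizer M24 x.1)).2 (mem_fixSet.1 x.2) a.2

theorem ree {x y z : G23} (h : x * y * z = 1) (hc : Subgroup.closure {x, y} = ⊤) :
    finrank ℚ (LinearMap.ker (1 - T x)) + finrank ℚ (LinearMap.ker (1 - T y)) +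
      finrank ℚ (LinearMap.ker (1 - T z)) ≤ 28 := by
  classical
  have h1 := scott (T y) (T x) (T z) (by
    refine LinearMap.ext fun f => funext fun p => ?_
    change f ((z : M24) • (x : M24) • (y : M24) • p) = f p
    have h2 : z * x * y = 1 := by
      rw [mul_assoc, mul_eq_one_comm]
      exact h
    rw [← mul_smul, ← mul_smul, ← Subgroup.coe_mul, ← Subgroup.coe_mul, h2, Subgroup.coe_one,
      one_smul])
  have htr : ∀ p : GolayPt, p ≠ pt 23 → ∃ g : G23, (g : M24) • pt 0 = p := fun p hp => by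
    obtain ⟨g, h1, h2⟩ := exists_smul_two pt23_ne_pt0 hp.symm
    exact ⟨⟨g, h1⟩, h2⟩
  have h2 : finrank ℚ ↥(LinearMap.ker (1 - T y) ⊓ LinearMap.ker (1 - T x)) ≤ 2 := by
    let L : ↥(LinearMap.ker (1 - T y) ⊓ LinearMap.ker (1 - T x)) →ₗ[ℚ] ℚ × ℚ :=
      ((LinearMap.proj (pt 23)).prod (LinearMap.proj (pt 0))) ∘ₗ Submodule.subtype _
    have hL : Function.Injective L := by
      rw [injective_iff_map_eq_zero]
      rintro ⟨f, hy, hx⟩ hf
      have h3 : f (pt 23) = 0 := congrArg Prod.fst hf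
      have h4 : f (pt 0) = 0 := congrArg Prod.snd hf
      have h5 : ∀ g : G23, ∀ p, f ((g : M24) • p) = f p := fun g => by
        have hg : g ∈ Subgroup.closure {x, y} := hc ▸ Subgroup.mem_top g
        induction hg using Subgroup.closure_induction with
        | mem g hg =>
          rcases hg with rfl | rfl
          · exact fun p => (sub_eq_zero.1 (congrFun (LinearMap.mem_ker.1 hx) p)).symm
          · exact fun p => (sub_eq_zero.1 (congrFun (LinearMap.mem_ker.1 hy) p)).symm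
        | one => simp
        | mul a b _ _ ha hb => intro p; rw [Subgroup.coe_mul, mul_smul, ha, hb]
        | inv a _ ha => intro p; rw [← ha, Subgroup.coe_inv, smul_inv_smul]
      refine Subtype.ext (funext fun p => ?_)
      by_cases hp : p = pt 23
      · exact hp ▸ h3
      · obtain ⟨g, rfl⟩ := htr p hp
        exact (h5 g _).trans h4
    simpa using LinearMap.finrank_le_finrank_of_injective hL
  have h3 : 22 ≤ finrank ℚ ↥(LinearMap.range (1 - T y) ⊔ LinearMap.range (1 - T x)) := by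
    set W := LinearMap.range (1 - T y) ⊔ LinearMap.range (1 - T x)
    have h4 : ∀ (g : M24) (p : GolayPt),
        (1 - T g) (Pi.single (g • p) 1) = Pi.single (g • p) 1 - Pi.single p 1 := fun g p => by
      funext q
      change (Pi.single (g • p) 1 : GolayPt → ℚ) q - (Pi.single (g • p) 1 : GolayPt → ℚ) (g • q) = _
      simp [Pi.single_apply]
    have h5 : ∀ g : G23, ∀ p : GolayPt,
        (Pi.single ((g : M24) • p) 1 - Pi.single p 1 : GolayPt → ℚ) ∈ W := fun g => by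
      have hg : g ∈ Subgroup.closure {x, y} := hc ▸ Subgroup.mem_top g
      induction hg using Subgroup.closure_induction with
      | mem g hg =>
        rcases hg with rfl | rfl
        · exact fun p => Submodule.mem_sup_right ⟨_, h4 _ p⟩
        · exact fun p => Submodule.mem_sup_left ⟨_, h4 _ p⟩
      | one => simp
      | mul a b _ _ ha hb =>
        intro p
        have := W.add_mem (ha ((b : M24) • p)) (hb p)
        rwa [sub_add_sub_cancel, ← mul_smul] at this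
      | inv a _ ha =>
        intro p
        have := W.neg_mem (ha ((a : M24)⁻¹ • p))
        rwa [neg_sub, smul_inv_smul] at this
    let U : Submodule ℚ (GolayPt → ℚ) :=
      Submodule.span ℚ ({Pi.single (pt 23) 1, Pi.single (pt 0) 1} : Finset (GolayPt → ℚ))
    have h6 : finrank ℚ U ≤ 2 := (finrank_span_finset_le_card _).trans Finset.card_le_two
    have h7 : W ⊔ U = ⊤ := by
      rw [eq_top_iff, ← (Pi.basisFun ℚ GolayPt).span_eq, Submodule.span_le]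
      rintro _ ⟨p, rfl⟩
      rw [Pi.basisFun_apply]
      by_cases hp : p = pt 23
      · exact Submodule.mem_sup_right (Submodule.subset_span (by simp [hp]))
      · obtain ⟨g, rfl⟩ := htr p hp
        have := Submodule.add_mem_sup (h5 g (pt 0)) (Submodule.subset_span (s := (({Pi.single (pt 23) 1,
          Pi.single (pt 0) 1} : Finset (GolayPt → ℚ)) : Set (GolayPt → ℚ)))
          (show Pi.single (pt 0) 1 ∈ _ by simp))
        rwa [sub_add_cancel] at this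
    have h8 := Submodule.finrank_add_le_finrank_add_finrank W U
    rw [h7, finrank_top, finrank_fintype_fun_eq_card] at h8
    have h9 : Fintype.card GolayPt = 24 := rfl
    omega
  rw [finrank_fintype_fun_eq_card] at h1
  have h9 : Fintype.card GolayPt = 24 := rfl
  omega

theorem fix_mod {g : M24} {p : ℕ} (hp : p.Prime) (hg : orderOf g = p) :
    24 ≡ (fixSet g).card [MOD p] := by
  have := Fact.mk hp
  have : Finite M24 := inferInstance
  have h1 : IsPGroup p (Subgroup.zpowers g) :=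
    IsPGroup.of_card (n := 1) (by rw [Nat.card_zpowers, hg, pow_one])
  have h2 := h1.card_modEq_card_fixedPoints GolayPt
  have h3 : fixedPoints (Subgroup.zpowers g) GolayPt = (fixSet g : Set GolayPt) := by
    ext x
    exact ⟨fun h => mem_fixSet.2 (h ⟨g, Subgroup.mem_zpowers g⟩), fun h a =>
      (Subgroup.zpowers_le (H := stabilizer M24 x)).2 (mem_fixSet.1 h) a.2⟩
  rw [h3] at h2
  simpa using h2

theorem fix_ne (g : G23) : (fixSet (g : M24)).card ≠ 0 :=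
  Finset.card_ne_zero.2 ⟨pt 23, mem_fixSet.2 g.2⟩

theorem bd {g : G23} {p : ℕ} (hp : p.Prime) (hg : orderOf g = p) :
    1 ≤ finrank ℚ (LinearMap.ker (1 - T g)) ∧
    (p = 2 → 16 ≤ finrank ℚ (LinearMap.ker (1 - T g))) ∧
    (p = 3 → 12 ≤ finrank ℚ (LinearMap.ker (1 - T g))) ∧
    (p = 5 → 8 ≤ finrank ℚ (LinearMap.ker (1 - T g))) ∧
    (p = 7 → 6 ≤ finrank ℚ (LinearMap.ker (1 - T g))) := by
  rw [← Subgroup.orderOf_coe] at hg
  have h1 := ker_ge hg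
  have h2 := fix_mod hp hg
  unfold Nat.ModEq at h2
  refine ⟨Nat.pos_of_ne_zero fun h => ?_, ?_, ?_, ?_, ?_⟩
  · rw [h] at h1
    omega
  · rintro rfl
    obtain ⟨k, hk⟩ := conj_z24 hg (fix_ne g)
    have h3 : (fixSet (g : M24)).card = 8 := by rw [← hk, card_fixSet_conj, card_fixSet_z24]
    omega
  · rintro rfl
    obtain ⟨k, hk⟩ := conj_a3 hg (fix_ne g)
    have h3 : (fixSet (g : M24)).card = 6 := by rw [← hk, card_fixSet_conj, card_fixSet_a3]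
    omega
  · rintro rfl
    omega
  · rintro rfl
    omega

theorem mem_primes {p : ℕ} (hp : p.Prime) (h : p ∣ 10200960) :
    p = 2 ∨ p = 3 ∨ p = 5 ∨ p = 7 ∨ p = 11 ∨ p = 23 := by
  rw [show 10200960 = 2 ^ 7 * (3 ^ 2 * (5 * (7 * (11 * 23)))) by norm_num] at h
  simp only [hp.dvd_mul] at h
  rcases h with h | h | h | h | h | h
  · exact Or.inl ((Nat.prime_dvd_prime_iff_eq hp (by norm_num)).1 (hp.dvd_of_dvd_pow h))
  · exact Or.inr (Or.inl ((Nat.prime_dvd_prime_iff_eq hp (by norm_num)).1 (hp.dvd_of_dvd_pow h)))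
  all_goals
    have := (Nat.prime_dvd_prime_iff_eq hp (by norm_num)).1 h
    omega

theorem g_2_5_11 : Gen G23 2 5 11 :=
  pos (by norm_num) (by norm_num) (by norm_num) 984795426265217729353439789593448971 975223460165320777815231499786716753
    [[1, 3, 1], [5, 1, 1, 5, 3, 0, 4, 2, 2], [3, 1, 2], [4, 7, 3, 8, 8], [3, 1, 1, 1], [3, 1, 9, 5, 11, 1, 2, 10], [5, 2, 9, 7, 5, 11, 1, 5, 2, 9], [0, 9, 0, 12, 3, 1, 11, 7, 10], [5, 17, 17, 5], [3, 7, 11, 1, 17, 1, 19, 17, 17, 5, 20, 11], [6, 23, 8, 18, 9, 14, 9, 7, 2, 4], [21, 24, 4, 20, 14, 16, 4, 8, 4, 2]] (by decide +kernel)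

theorem g_2_5_23 : Gen G23 2 5 23 :=
  pos (by norm_num) (by norm_num) (by norm_num) 984818235502345578161963964941406256 962501987028271468369936745821260160
    [[1, 3, 1, 2, 1], [3, 1, 3, 0, 3], [7, 2, 6], [1, 3, 1, 9, 3, 7, 1, 3, 6, 9, 9, 1, 7], [5, 3, 5, 11, 1, 3, 3, 10, 6, 3], [0, 5, 1, 12, 1, 12, 12, 2, 12], [5, 3, 13, 13, 5, 2], [3, 0, 3, 6, 5, 3, 7, 4, 7, 4], [0, 16, 8, 14, 10, 8, 12, 0, 9, 2, 5], [10, 18, 4, 16, 10, 14, 8, 5]] (by decide +kernel)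

theorem g_2_7_7 : Gen G23 2 7 7 :=
  pos (by norm_num) (by norm_num) (by norm_num) 968854244637041803517438738743043598 971332409004183026885956822587884964
    [[2, 0], [3, 4, 4, 1, 5, 2], [3, 1, 7, 7, 4, 0, 4, 6, 3, 1], [7, 3, 6, 1, 6, 3, 5, 9], [2, 1, 2, 1], [3, 13, 7, 12, 1, 1], [3, 0, 4, 3, 9, 10, 4, 1, 11], [3, 3, 9, 7, 5, 12, 11, 6, 8, 12, 4], [7, 5, 5, 1, 8, 14, 12, 12, 0, 14], [1, 6, 1, 6, 6, 8], [13, 16, 20, 8, 19, 1, 12, 10, 0, 4], [14, 22, 21, 15, 16, 8, 4, 3]] (by decide +kernel)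

theorem g_2_7_11 : Gen G23 2 7 11 :=
  pos (by norm_num) (by norm_num) (by norm_num) 980924140725294677160324934169664836 960870288407900579295172968159849890
    [[2, 1, 3, 0], [5, 1, 2, 4], [2, 7, 5, 6, 1, 5, 2, 2], [5, 8, 1, 6, 3, 6], [0, 3, 1, 5, 1, 3, 11, 9, 2, 7, 4, 9, 10, 10], [7, 1, 7, 0, 7, 4], [1, 11, 0, 3, 11], [5, 1, 1, 9, 3, 1], [8, 5, 7, 14, 18, 5, 0, 19, 2, 0, 8, 12], [12, 18, 2, 14, 8, 6, 4, 11, 1, 9], [3, 23, 6, 18, 4, 9, 14, 2, 6, 4]] (by decide +kernel)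

theorem g_2_7_23 : Gen G23 2 7 23 :=
  pos (by norm_num) (by norm_num) (by norm_num) 956179540352036046826912994071526998 968547491082589636389240702047343659
    [[3, 1, 3, 1, 2], [0, 4, 2, 5, 5, 5, 3, 5], [7, 7, 0, 6], [0, 2, 1, 1, 3], [1, 1, 3, 5, 6, 0, 11, 9, 0, 6, 11, 3], [3, 5, 3, 4, 7], [5, 5, 9, 9, 5, 10, 8, 13, 5, 13, 7, 9, 5, 14], [3, 1, 5, 6, 1, 8, 12, 15, 13, 2, 16, 6], [16, 15, 15, 3, 12, 8, 0, 8, 2, 4], [21, 18, 2, 16, 12, 6, 10]] (by decide +kernel)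

theorem g_2_11_11 : Gen G23 2 11 11 :=
  pos (by norm_num) (by norm_num) (by norm_num) 961899110541814789908658388543678741 978975003633312478407497946457409804
    [[2, 0, 3], [3, 5, 1, 2, 4], [1, 3, 5, 3, 5, 7, 5, 0], [0, 5, 0, 9, 9, 1, 6, 1, 8, 2], [7, 3, 5, 7, 5, 6, 2, 6], [5, 1, 7, 5, 13, 5, 12, 4, 9, 12], [0, 4, 3, 5, 11, 3, 13, 15, 11, 9, 14, 1], [3, 7, 3, 5, 6, 11, 5, 15, 7, 9, 5, 6, 16], [1, 2, 4, 1, 7, 1, 6, 0, 8, 10], [2, 18, 5, 16, 8, 2, 7, 2, 4, 2, 1], [16, 18, 20, 18, 7, 14, 13, 9, 3, 4, 3]] (by decide +kernel)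

theorem g_2_11_23 : Gen G23 2 11 23 :=
  pos (by norm_num) (by norm_num) (by norm_num) 962564638403362817569254158039890560 971184617943373368031643150628130421
    [[2, 1, 3], [3, 1, 5, 0], [7, 5, 6], [2, 2, 0, 5, 0], [5, 1, 10, 9, 6, 9], [9, 6, 11, 13, 11, 3, 8, 6, 8, 13], [2, 7, 0, 8, 4, 4, 11], [3, 7, 7, 2], [1, 2, 9, 5, 13, 1, 10, 7], [5, 6, 17, 3, 15, 15, 16, 9, 15], [5, 3, 9, 5, 19, 13, 21, 17, 21, 2, 1, 22], [6, 22, 4, 18, 14, 10, 4, 6, 4, 1], [18, 16, 24, 8, 22, 14, 16, 5, 6, 10, 6, 2]] (by decide +kernel)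

theorem g_2_23_23 : Gen G23 2 23 23 :=
  pos (by norm_num) (by norm_num) (by norm_num) 984793914042464259937478985057934992 969071594115311169719380022974889218
    [[3, 1, 3, 3], [5, 3, 5, 1, 3], [2, 7, 7, 1, 5], [4, 0, 7, 9, 1, 5, 6, 5, 7, 4], [0, 3, 7, 7, 2, 1, 7], [0, 0, 3, 3, 7, 0, 11, 0, 11, 0, 13], [3, 3, 0, 5, 6, 8, 1, 14, 5, 10, 9, 15], [2, 4, 4, 6, 3, 12, 11, 15, 1, 9, 12, 11, 15, 7], [0, 16, 15, 2, 10, 0, 6, 0, 2, 4], [21, 2, 16, 8, 12, 3, 9, 6, 2]] (by decide +kernel)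

theorem g_3_3_11 : Gen G23 3 3 11 :=
  pos (by norm_num) (by norm_num) (by norm_num) 979006044135676902091817596902017334 984804101904954730206922765921452464
    [[2, 1, 3], [2, 5, 3], [1, 2, 0, 5, 2, 1, 3, 4], [0, 3, 3, 5], [2, 0, 2, 7, 3, 5, 9, 1, 6, 8, 10, 5], [4, 3, 1, 9, 0, 13, 2, 1, 12], [0, 7, 0, 11, 8, 3, 11], [3, 13, 5, 8, 11], [3, 4, 9, 1, 6, 3], [18, 0, 16, 8, 12, 9, 5, 2], [2, 21, 14, 10, 18, 14, 7, 12, 3, 6, 3]] (by decide +kernel)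

theorem g_3_3_23 : Gen G23 3 3 23 :=
  pos (by norm_num) (by norm_num) (by norm_num) 977762501395258139744902605595705409 967930105084704689126044698036340997
    [[0, 3, 1], [1, 3, 4, 1, 5, 0, 3, 5], [2, 0, 5, 1, 4], [1, 1, 5, 1, 3, 7, 5, 8, 8, 0], [3, 3, 7, 5, 8, 8, 3, 8, 2], [11, 11, 2, 11, 0], [1, 5, 0, 12, 12, 3, 5, 5, 12, 2], [1, 5, 5], [14, 19, 16, 8, 14, 7, 12, 5, 9, 1, 5], [12, 19, 7, 16, 15, 6, 8, 10, 2]] (by decide +kernel)

theorem g_3_5_5 : Gen G23 3 5 5 :=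
  pos (by norm_num) (by norm_num) (by norm_num) 959986985513980952202127946073582644 967390491166030686530948970289760835
    [[0, 0, 3], [2, 5, 5], [1, 3, 1, 5, 7, 1], [2, 7, 2, 1, 6, 8, 1, 3, 0, 9], [1, 2, 4, 0, 7], [4, 3, 9, 7, 2, 0, 6, 0], [1, 2, 7, 5, 11, 0, 5, 9], [0, 3, 4, 9, 7, 13, 11, 13, 3, 13], [7, 4, 15, 13, 15, 13], [6, 20, 14, 14, 6, 11, 6, 9, 0, 5], [17, 20, 16, 18, 12, 15, 11, 4, 10, 2, 6]] (by decide +kernel)

theorem g_3_5_7 : Gen G23 3 5 7 :=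
  pos (by norm_num) (by norm_num) (by norm_num) 980436590416857655190552406655697426 984067110858852978360360767504686432
    [[3, 3, 0, 2, 2, 1, 3, 3, 1], [5, 0, 5, 5], [0, 7, 7, 0, 2, 2, 7], [7, 1, 6, 3, 6, 4, 8, 6, 6], [11, 1, 2, 0, 10], [6, 9, 5, 1, 12, 1, 7, 3, 4, 0], [7, 8, 7, 0, 11, 9, 0, 15, 4, 12, 11, 4, 9, 13], [4, 14, 12, 17, 12, 12, 8, 2, 10, 0, 2, 8, 0], [2, 16, 13, 18, 14, 13, 10, 5]] (by decide +kernel)

theorem g_3_5_11 : Gen G23 3 5 11 :=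
  pos (by norm_num) (by norm_num) (by norm_num) 957556139161440809239801219200530528 955931731807858976081687505411285508
    [[2, 1, 1], [1, 3, 1, 5, 0, 2, 4, 3], [1, 1, 2, 1, 5, 3, 1, 5, 6, 5], [3, 0, 5, 1, 5, 6, 0, 9, 2, 7], [1, 5, 0, 9, 10, 0, 7, 4, 9], [3, 5, 7, 0, 9, 2, 10, 5, 9, 13, 7, 13], [1, 3, 7, 2, 9, 3, 0, 11, 2, 13, 9, 14, 14, 3], [6, 16, 6, 8, 12, 10, 10, 6, 6, 4, 1], [18, 13, 16, 13, 14, 11, 12, 11, 8, 6, 4, 3]] (by decide +kernel)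

theorem g_3_5_23 : Gen G23 3 5 23 :=
  pos (by norm_num) (by norm_num) (by norm_num) 984493801189405784069440015521881124 956196898213187809089379498384234163
    [[3, 3, 3, 1, 2], [1, 1, 5, 5, 0, 2], [2, 2, 7, 5, 6, 2, 0, 2, 0, 4], [1, 2, 1, 4, 4, 7, 2, 8, 4, 9, 5, 9, 4], [5, 7, 7, 4, 11, 4, 8, 4, 6, 10], [2, 1, 3, 5, 2, 6], [3, 3, 9, 9, 4, 7, 3, 1, 4], [5, 9, 7, 13, 6, 16, 4, 6, 2, 14, 0], [19, 14, 5, 11, 8, 6, 0, 2], [2, 18, 9, 16, 2, 12, 11, 7, 4]] (by decide +kernel)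

theorem g_3_7_7 : Gen G23 3 7 7 :=
  pos (by norm_num) (by norm_num) (by norm_num) 972513157213172531600011850017767982 979607795492870747493277700226832559
    [[3, 3, 1, 2, 1, 2, 2], [2, 5, 3, 0, 0, 3], [1, 2, 7, 1, 3, 7], [0, 5, 0, 2, 0, 7, 2, 8, 1], [1, 2, 2, 7, 2, 9, 7, 11], [4, 4, 3, 9, 9, 4, 9], [1, 3, 7, 11, 8, 1, 11, 4, 7, 5], [5, 1, 2, 5, 9, 9, 11, 1, 9, 6, 4, 10, 2], [18, 17, 15, 0, 10, 2, 5, 8, 6, 1], [6, 18, 17, 14, 6, 12, 12, 8, 6, 2, 5, 8, 3]] (by decide +kernel)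

theorem g_3_7_11 : Gen G23 3 7 11 :=
  pos (by norm_num) (by norm_num) (by norm_num) 977022224284017483610545422917514720 984523889397805832195977131313334945
    [[2, 1, 3], [1, 4, 1, 4, 0, 2, 4], [3, 0, 5, 3, 4, 2], [3, 5, 3, 3, 7, 5, 5, 3, 8, 0], [2, 5, 7, 1, 7, 0, 6], [3, 1, 1, 5, 6, 8, 2, 11, 12, 2, 11, 5], [0, 5, 3, 0, 9, 9, 10, 7, 12, 5, 2, 15, 5, 3, 15], [7, 1, 5, 11, 0, 4, 8, 5], [11, 16, 11, 14, 11, 1, 9, 3], [14, 10, 18, 2, 16, 14, 12, 8, 8, 10, 7, 5]] (by decide +kernel)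

theorem g_3_7_23 : Gen G23 3 7 23 :=
  pos (by norm_num) (by norm_num) (by norm_num) 972958091288053080949767503453950624 978244030013748244252006577493917703
    [[0, 3, 1, 1, 2, 0, 0], [5, 1, 4, 0, 2, 4, 4, 0], [2, 1, 4, 7, 0, 3, 4, 0], [5, 9, 7, 8], [7, 1, 9, 6, 8], [6, 3, 0, 8, 5, 8, 6], [3, 0, 7, 11, 5, 13, 5, 12, 11], [0, 2, 2, 9, 9, 6, 13, 13, 13, 14, 7, 15], [5, 3, 9, 2, 13, 15, 7, 12, 6, 14], [14, 18, 5, 7, 5, 2], [19, 16, 20, 5, 17, 6, 14, 4, 8, 2, 6]] (by decide +kernel)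

theorem g_3_11_11 : Gen G23 3 11 11 :=
  pos (by norm_num) (by norm_num) (by norm_num) 984404395746483552153204061323253076 962239354128387445350465354554618222
    [[3, 3, 3, 1, 1, 2, 2, 2], [1, 3, 4, 4, 3, 5, 5, 2, 1], [5, 7, 2, 5], [8, 5, 5, 9], [5, 5, 6, 2, 11, 0, 9, 11, 9], [0, 2, 6, 4, 2, 13, 5, 6, 13, 10], [1, 5, 2, 9, 9, 3, 5, 11, 8, 15, 11, 14, 14, 1, 14], [6, 11, 11, 7, 11, 0], [9, 19, 9, 10, 12, 7, 12, 0, 7, 8, 2, 0], [14, 18, 15, 16, 15, 5, 10, 8, 4, 6, 4]] (by decide +kernel)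

theorem g_3_11_23 : Gen G23 3 11 23 :=
  pos (by norm_num) (by norm_num) (by norm_num) 979171519811823045452053813589543599 978361734252252031104866624605950356
    [[1, 2, 2], [0, 0, 0, 4, 2, 4, 2, 0, 2], [1, 1, 2, 2, 0, 5, 0, 6, 5], [3, 0, 0, 2, 5, 3, 5, 8, 1, 8, 3], [3, 5, 5, 1, 7, 7, 5, 11, 8, 5, 7, 9, 3], [5, 5, 0, 9, 9, 1, 13, 4, 13], [3, 5, 6, 3, 8, 8, 10, 7, 15, 0, 15, 1, 9], [10, 14, 5, 12, 1, 11, 5, 6, 8, 6, 0], [19, 7, 14, 11, 13, 2, 8, 10, 4]] (by decide +kernel)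

theorem g_3_23_23 : Gen G23 3 23 23 :=
  pos (by norm_num) (by norm_num) (by norm_num) 984404260055676533679877070397223015 960867116448664201346495676391573845
    [[3, 3, 0], [1, 2, 4, 2, 2, 5, 2, 0, 5], [0, 0, 3, 3, 1, 6, 1, 2, 1, 6, 3], [3, 3, 3, 0, 5, 1, 4, 3], [2, 5, 0, 6, 5, 9, 7, 10, 5, 2, 0, 7, 8, 5], [5, 3, 0, 7, 5, 2, 8, 0, 7, 4, 8, 2, 4], [0, 14, 2, 11, 8, 2, 6, 6, 0, 2], [10, 17, 4, 10, 8, 6, 2, 5]] (by decide +kernel)

theorem g_5_5_5 : Gen G23 5 5 5 :=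
  pos (by norm_num) (by norm_num) (by norm_num) 978312687480352249785816318586752046 963726796242541622881435166026381332
    [[2, 2, 1, 1, 1, 3, 0, 3], [1, 1], [1, 6, 3, 4, 2, 5], [1, 5, 9, 5, 7, 1, 7], [5, 1, 7, 1, 5, 9, 4, 1, 10], [3, 7, 2, 4, 7, 9, 6, 1, 8], [3, 0, 3, 0, 4, 9, 13, 3, 8, 15, 7, 4, 14], [5, 3, 11, 11], [16, 16, 12, 10, 8, 2, 6, 1, 2], [15, 20, 12, 11, 14, 5, 9, 7]] (by decide +kernel)

theorem g_5_5_7 : Gen G23 5 5 7 :=
  pos (by norm_num) (by norm_num) (by norm_num) 984696092723356586422819353675184489 971865458405679776426288764883011750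
    [[1, 3], [1, 1, 3, 3, 4, 4], [1, 1, 3, 7, 5, 1, 6, 1], [5, 7, 7, 1, 9, 6], [1, 4, 4, 7, 4, 3, 9, 4, 4, 6, 9, 3], [2, 5, 6, 1, 7, 5], [7, 2, 2, 4], [4, 14, 14, 4, 13, 1, 4, 10, 8, 6, 0, 5], [18, 12, 14, 3, 12, 10, 8, 10, 7, 4]] (by decide +kernel)

theorem g_5_5_11 : Gen G23 5 5 11 :=
  pos (by norm_num) (by norm_num) (by norm_num) 968592107822464625347207413275954208 974022931396465240453834520696993484
    [[1, 3, 0, 2], [3, 3, 5, 1, 5, 5], [2, 1, 5, 7, 3, 6, 1], [3, 5, 6, 4, 1, 6, 3, 7], [3, 0, 7, 9, 6, 2, 8], [0, 5, 0, 2, 6, 8, 1, 2, 7, 4], [3, 0, 3, 0, 7, 7, 8, 15, 3, 13, 13], [2, 5, 0, 3, 9, 13, 4, 16, 11, 4, 1, 15, 12], [4, 18, 10, 4, 7, 3, 4, 0], [20, 19, 6, 14, 13, 5, 8, 3, 4, 3]] (by decide +kernel)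

theorem g_5_5_23 : Gen G23 5 5 23 :=
  pos (by norm_num) (by norm_num) (by norm_num) 984048261994093718937846727185761449 973888381523225631376511589969792147
    [[3, 1, 1, 3], [1, 1, 1, 2, 2, 5, 0, 2, 0, 0, 5], [1, 2, 0, 5, 2, 7, 1, 3, 5, 3], [2, 0, 4, 4, 8, 2, 9, 6, 6, 3], [0, 0, 5, 2, 7, 1, 11, 1, 9, 1, 10, 0, 5, 11], [3, 7, 7, 7, 4, 7], [3, 7, 8, 5, 11, 3, 13, 11, 13, 14], [12, 15, 13, 6, 12, 6, 10, 6, 4, 0, 2, 1], [16, 18, 14, 14, 14, 9, 6, 12, 2, 6]] (by decide +kernel)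

theorem g_5_7_7 : Gen G23 5 7 7 :=
  pos (by norm_num) (by norm_num) (by norm_num) 973006793181770591336036214025954339 970513837191272846310899906085695655
    [[3, 1, 2], [3, 0, 2, 5, 5, 5, 1], [1, 1, 6, 4, 1, 3, 1, 4], [5, 2, 0, 9, 1, 1, 9], [0, 0, 2, 0, 7, 2, 11, 11, 8, 1, 6, 11], [8, 0, 9], [5, 3, 4, 1, 7, 4, 7, 10, 13, 15, 7, 9, 2, 1, 13, 15], [5, 3, 7, 7, 1, 9, 9, 10, 1, 11, 3], [16, 16, 3, 12, 8, 10, 4, 3, 1], [5, 20, 6, 14, 6, 13, 6, 11, 4]] (by decide +kernel)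

theorem g_5_7_11 : Gen G23 5 7 11 :=
  pos (by norm_num) (by norm_num) (by norm_num) 982821527721738259504443614252050060 979253894026826743447349240547464804
    [[3, 3, 1], [1, 2, 5, 3, 1, 4], [5, 2, 1, 3, 6, 2, 2, 6], [0, 4, 1, 9, 7, 4, 2, 0, 0, 6], [0, 5, 3, 0, 5, 7], [7, 3, 7, 5, 5, 13, 13, 4, 3, 13], [0, 2, 9, 3, 6, 15, 0, 15, 15], [5, 3, 6, 11, 13, 1, 13, 10], [6, 5, 5], [4, 18, 2, 12, 14, 4, 9, 3, 0, 4, 0], [4, 22, 10, 18, 16, 13, 2, 8, 4, 3]] (by decide +kernel)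

theorem g_5_7_23 : Gen G23 5 7 23 :=
  pos (by norm_num) (by norm_num) (by norm_num) 963638880138294530533588092536029827 971267632633306147225078070344628870
    [[2, 2, 2, 1, 1], [3, 5, 1, 5, 1, 4], [2, 5, 7, 5, 6], [5, 2, 1, 2, 5, 3, 0], [7, 5, 5, 3, 11, 4, 8], [4, 1, 8, 11, 11, 8, 11, 5, 7, 7, 9], [7, 7, 4, 11, 3, 1, 11], [1, 3, 9, 1, 13, 0, 6, 0, 10, 4], [0, 3, 11, 6, 15, 9, 4, 4, 12, 14, 2], [7, 7], [22, 20, 16, 16, 9, 10, 5, 7, 0, 2, 4, 3], [24, 14, 20, 11, 12, 11, 8, 4, 2, 6, 5]] (by decide +kernel)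

theorem g_5_11_11 : Gen G23 5 11 11 :=
  pos (by norm_num) (by norm_num) (by norm_num) 956778948513799057226887040841619476 962658308214425174713783390728127150
    [[1, 3, 1, 3, 1, 2, 2], [2, 1, 3], [0, 3, 0, 0, 2], [3, 3, 1, 2], [1, 1, 5, 9, 10, 10, 0, 5, 10, 9, 0], [3, 4, 7, 8, 4, 9, 7, 4], [3, 1, 5, 1, 11, 9, 15, 5, 11, 11, 3, 6, 15, 8], [5, 5, 9, 7, 13, 8, 13], [5, 5, 15, 6, 2, 15], [19, 19, 5, 16, 11, 12, 8, 4, 2, 1], [4, 20, 15, 19, 7, 14, 2, 10, 10, 7, 3]] (by decide +kernel)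

theorem g_5_11_23 : Gen G23 5 11 23 :=
  pos (by norm_num) (by norm_num) (by norm_num) 963743147262204971711914713063968395 976656464428297133709316333536266368
    [[2, 1, 3, 1, 2, 2, 2, 2, 1], [1, 4, 0, 3, 3, 1, 2, 1, 2], [2, 0, 3, 7, 1, 6], [3, 1, 3, 4, 7, 0, 0, 9, 6, 4], [5, 1, 3, 7, 1, 6, 10, 9, 9, 11, 0, 4, 9, 9], [1, 5, 6, 1, 5, 0], [14, 12, 0, 15, 11, 4, 10, 7, 0, 4, 0], [12, 14, 14, 2, 17, 2, 12, 12, 6, 5, 3]] (by decide +kernel)

theorem g_5_23_23 : Gen G23 5 23 23 :=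
  pos (by norm_num) (by norm_num) (by norm_num) 972729805383453973975902562575555138 980552122598795954773332550496920225
    [[3, 0, 3, 0, 2, 0, 2, 2], [5, 1, 3, 4], [0, 3, 1, 5, 7, 7, 0], [7, 4, 4, 6, 6, 4], [2, 5, 2, 6, 5], [9, 7, 1, 6, 9], [1, 3, 1, 7, 2, 11, 8, 8], [5, 0, 9, 5, 6], [7, 3, 8, 8, 11], [5, 3, 5, 7, 8, 5, 13, 2, 1, 11, 13], [12, 20, 10, 18, 11, 14, 8, 2, 6, 1], [22, 22, 16, 18, 12, 17, 6, 10, 2, 8]] (by decide +kernel)

theorem g_7_7_7 : Gen G23 7 7 7 :=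
  pos (by norm_num) (by norm_num) (by norm_num) 982729819834998813820540489971633190 984075908670195360196518124631170569
    [[3, 1, 3, 3], [1, 1, 4, 3, 1, 2], [1, 1, 1, 3, 0, 7, 5, 5, 0, 4], [2, 0, 2, 7, 0, 9, 5, 6, 1, 9, 0, 3], [2, 2, 4, 1, 3, 4, 4], [5, 3, 1, 7, 3, 7, 8, 5, 6, 9, 9, 1], [2, 1, 7, 7, 9, 7, 7, 13, 7, 13, 3, 12, 2], [13, 15, 5, 13, 5, 10, 10, 1, 9, 0, 2, 4, 1], [16, 6, 14, 14, 7, 12, 4, 10, 4, 7, 3]] (by decide +kernel)

theorem g_7_7_11 : Gen G23 7 7 11 :=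
  pos (by norm_num) (by norm_num) (by norm_num) 980182152392655177657352578860091910 973048615128289785878658012435168706
    [[3, 3, 0, 2, 2, 2, 2], [5, 0, 4, 1, 5], [1, 1, 3, 7, 2, 5, 3, 7, 0, 5, 5], [9, 6, 8], [1, 4, 0, 9, 4, 7, 5, 6, 10], [5, 0, 6, 2, 11, 12, 10, 3, 0, 7, 12, 8], [2, 1], [4, 7, 9, 13, 4, 15, 11, 0, 4, 14, 10, 6, 10], [3, 0, 5, 7, 10, 13, 8, 19, 6, 18], [2, 18, 4, 14, 10, 6, 3], [20, 14, 16, 7, 14, 14, 3, 10, 2]] (by decide +kernel)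

theorem g_7_7_23 : Gen G23 7 7 23 :=
  pos (by norm_num) (by norm_num) (by norm_num) 962524099511012540858863538484480102 979001547955745336973380013773148706
    [[1, 3, 0, 0, 3, 0, 3, 3], [4, 1, 5, 0, 2], [3, 0, 3, 5, 1, 5, 7], [4, 1, 7, 7, 2, 7, 8, 8, 8], [7, 1, 5, 6, 2, 7, 3], [3, 3, 1, 5, 3, 3, 9, 3, 9, 5, 7, 3, 8], [5, 3, 6, 5, 9, 10, 7, 7, 5, 5, 8], [5, 9, 1, 12, 7, 4, 13], [14, 16, 8, 14, 9, 2, 10, 9, 7, 4], [18, 17, 13, 11, 9, 2, 6, 4]] (by decide +kernel)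

theorem g_7_11_11 : Gen G23 7 11 11 :=
  pos (by norm_num) (by norm_num) (by norm_num) 972886445795555155064378327282334308 961212080573653281138121572702920755
    [[0, 2, 2, 2, 1, 3], [5, 1, 2, 2, 2, 5, 3], [2, 2, 0, 6, 3, 4, 1], [4, 7, 5, 9, 0, 7], [0, 5, 7, 11, 5, 1, 11], [3, 3, 1, 9, 3, 10, 1, 12, 4, 7, 2], [2, 0, 5, 5, 9, 6, 8], [5, 7, 4, 13, 7, 15, 15, 9, 13, 14, 16], [19, 16, 14, 14, 10, 0, 2], [20, 19, 9, 11, 6, 3]] (by decide +kernel)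

theorem g_7_11_23 : Gen G23 7 11 23 :=
  pos (by norm_num) (by norm_num) (by norm_num) 984637042978686019903937695466267662 956081510427035187294747913517287476
    [[3, 3, 3, 3, 1, 1], [5, 1, 4, 4, 4], [2, 0, 0, 5, 6, 4, 0, 4], [1, 5, 5, 7, 9, 9, 4, 3, 7], [2, 0, 3, 3, 3, 7, 2, 7, 5, 2], [0, 2, 5, 2, 1, 8, 8, 0, 7], [5, 3, 5, 7, 2, 7, 9, 4, 15, 9, 6, 15, 7, 8, 6, 11], [3, 1, 6, 4, 9, 7, 12, 11, 1, 7, 10], [19, 13, 14, 4, 10, 1, 8, 3], [16, 19, 16, 10, 13, 8, 3]] (by decide +kernel)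

theorem g_7_23_23 : Gen G23 7 23 23 :=
  pos (by norm_num) (by norm_num) (by norm_num) 958001925513608344703839930724558182 974171939224017447164588124260011249
    [[3, 1, 1, 1, 2], [0, 5, 5, 2, 1, 1, 4, 2], [3, 0, 3, 4, 4, 2, 0, 6, 6], [3, 3, 1, 2, 5, 1, 9, 7, 8], [1, 1], [6, 3, 9, 9, 1, 3, 4, 9, 3, 7], [1, 3, 0, 8, 3, 11, 11, 5, 1, 7, 10, 9], [5, 0, 7, 3, 8, 8, 13, 17, 17, 13, 5, 16], [2, 16, 9, 10, 0, 8, 1, 6], [18, 8, 16, 16, 15, 7, 10, 8, 5, 3]] (by decide +kernel)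

theorem g_11_11_11 : Gen G23 11 11 11 :=
  pos (by norm_num) (by norm_num) (by norm_num) 978803118330730252276194984326803616 982907762667558503792950562353980557
    [[3, 0, 3, 3, 1, 1], [0, 5, 3, 1, 3], [3, 3, 1, 3, 5, 7, 3, 5, 7, 1, 3], [2, 2, 1, 5, 5, 3, 6, 6, 8, 6, 5, 6, 3], [2, 2, 4, 4, 7, 0, 9, 10, 9, 10, 10, 1, 9, 6], [5, 1, 4, 7, 0, 9, 3, 11, 1, 10, 6, 13, 6], [3, 5, 3, 8, 1, 11, 1, 15, 0, 8, 1, 15], [6, 14, 9, 13, 3, 8, 0, 4, 0], [15, 16, 16, 12, 14, 8, 12, 8, 5]] (by decide +kernel)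

theorem g_11_11_23 : Gen G23 11 11 23 :=
  pos (by norm_num) (by norm_num) (by norm_num) 978227524915323819474037899551420934 955886455352372468016794639999768195
    [[2, 2, 0], [0, 0, 0, 3, 4, 3, 4, 2, 2, 2, 2, 2], [3, 0, 3, 1, 7, 2, 7, 2, 5, 6, 5], [1, 2, 5, 0, 9, 0, 7, 3, 9], [0, 3, 7, 1, 5, 9, 2, 2, 10, 0], [2, 1, 3, 7, 3, 9, 11, 8, 13, 4, 2, 1, 10], [3, 5, 1, 9, 5, 6, 6], [17, 2, 13, 5, 10, 0, 2], [16, 15, 15, 11, 13, 8, 6, 8, 8, 6, 4, 6, 3]] (by decide +kernel)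

theorem g_11_23_23 : Gen G23 11 23 23 :=
  pos (by norm_num) (by norm_num) (by norm_num) 957575882361164489027252346151283302 959346132359312281877321824759714281
    [[3, 0, 2, 0], [0, 0, 0, 2, 2, 1, 3], [2, 2, 0, 7, 0, 0, 3, 6, 3], [1, 2, 2, 5, 2, 6, 3, 9], [5, 5, 1, 7, 7, 0, 9, 6, 3, 8, 4, 11], [7, 5, 6, 0, 5, 7], [0, 5, 9, 11, 7, 8, 13, 1, 6, 15], [8, 6, 9], [3, 0, 9, 3, 8, 12, 5, 1, 8, 10, 4], [17, 18, 8, 17, 15, 11, 4, 10, 3, 1, 4], [20, 18, 15, 15, 12, 4, 6]] (by decide +kernel)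

theorem g_23_23_23 : Gen G23 23 23 23 :=
  pos (by norm_num) (by norm_num) (by norm_num) 979294808295980753844105447745257553 972280456003336975276343487191276071
    [[3, 0, 0, 3, 1], [3, 1, 2], [2, 0, 3, 5, 1, 4, 0, 3, 5], [3, 3, 9, 0, 0, 5, 6, 1, 8, 3], [2, 0, 0, 2, 0], [1, 1, 5, 1, 3, 0, 3], [3, 3, 1, 2, 7, 7, 8, 8, 13, 10, 0, 12, 7, 11], [4, 3, 9, 12, 1, 15, 0, 6, 5, 5, 14], [3, 5, 6, 3, 10, 9, 7, 7, 10], [15, 20, 16, 9, 12, 4, 8, 1, 6, 1], [18, 22, 15, 18, 3, 14, 11, 2, 10, 6, 4, 3]] (by decide +kernel)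

end

/-- Generation of the Mathieu group M₂₃ (the stabiliser of a point in the Mathieu group M₂₄ acting on 24 points) by triples of prime orders. Let p ≤ q ≤ r be primes dividing |M₂₃| = 10200960 = 2⁷·3²·5·7·11·23, not both p and q equal to 2. Then M₂₃ contains elements x, y, z of orders p, q, r with xyz = 1 and ⟨x, y⟩ = M₂₃ if and only if (p, q, r) is none of: (2, 3, r) for any r, (2, 5, 5), (2, 5, 7), (3, 3, 3), (3, 3, 5), (3, 3, 7). -/
theorem result (p q r : ℕ) (hp : p.Prime) (hq : q.Prime)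
    (hr : r.Prime) (hpq : p ≤ q) (hqr : q ≤ r) (hp2 : ¬ (p = 2 ∧ q = 2))
    (hdvd : p ∣ 10200960 ∧ q ∣ 10200960 ∧ r ∣ 10200960) :
    (∃ x y z : Cfsg.Spor.M23, orderOf x = p ∧ orderOf y = q ∧ orderOf z = r ∧ x * y * z = 1 ∧
        Subgroup.closure {x, y} = ⊤) ↔
      ¬ ((p = 2 ∧ q = 3) ∨ (p = 2 ∧ q = 5 ∧ r = 5) ∨ (p = 2 ∧ q = 5 ∧ r = 7) ∨ (p = 3 ∧ q = 3 ∧ r ≤ 7)) := by
  constructor
  · intro h
    obtain ⟨x, y, z, h1, h2, h3, h4, h5⟩ := Gen.map H74.equiv23.symm h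
    have h6 := ree h4 h5
    have h7 := bd hp h1
    have h8 := bd hq h2
    have h9 := bd hr h3
    have h10 := mem_primes hr hdvd.2.2
    omega
  · intro h
    refine Gen.map H74.equiv23 ?_
    rcases mem_primes hp hdvd.1 with rfl | rfl | rfl | rfl | rfl | rfl <;>
    rcases mem_primes hq hdvd.2.1 with rfl | rfl | rfl | rfl | rfl | rfl <;>
    rcases mem_primes hr hdvd.2.2 with rfl | rfl | rfl | rfl | rfl | rfl <;>
    first
    | (exfalso; omega)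
    | exact g_2_5_11
    | exact g_2_5_23
    | exact g_2_7_7
    | exact g_2_7_11
    | exact g_2_7_23
    | exact g_2_11_11
    | exact g_2_11_23
    | exact g_2_23_23
    | exact g_3_3_11
    | exact g_3_3_23
    | exact g_3_5_5
    | exact g_3_5_7
    | exact g_3_5_11
    | exact g_3_5_23
    | exact g_3_7_7
    | exact g_3_7_11
    | exact g_3_7_23
    | exact g_3_11_11
    | exact g_3_11_23
    | exact g_3_23_23
    | exact g_5_5_5
    | exact g_5_5_7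
    | exact g_5_5_11
    | exact g_5_5_23
    | exact g_5_7_7
    | exact g_5_7_11
    | exact g_5_7_23
    | exact g_5_11_11
    | exact g_5_11_23
    | exact g_5_23_23
    | exact g_7_7_7
    | exact g_7_7_11
    | exact g_7_7_23
    | exact g_7_11_11
    | exact g_7_11_23
    | exact g_7_23_23
    | exact g_11_11_11
    | exact g_11_11_23
    | exact g_11_23_23
    | exact g_23_23_23

end Cfsg.Agent.S5529
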