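import Cfsg.Statements.S2146
import Cfsg.Agent.H33.OrthDeg8

set_option autoImplicit false
open Cfsg

namespace Cfsg.Agent.S2146

/-- Minimal index of a proper subgroup of the even-dimensional orthogonal groups of plus type over the field with 2 elements: for m ≥ 4, every proper subgroup of Ω⁺_2m(2) (for the form Σ xᵢyᵢ) has index at least 2^(m−1)(2^m − 1), and that index is attained. -/
theorem result {F : Type*} [Field F] [Fintype F] (hF : Fintype.card F = 2) (m : ℕ) (hm : 4 ≤ m) : (∀ H : Subgroup (Cfsg.POmega F (Cfsg.quadFormPlus m F)), H ≠ ⊤ → 2 ^ (m - 1) * (2 ^ m - 1) ≤ H.index) ∧ (∃ H : Subgroup (Cfsg.POmega F (Cfsg.quadFormPlus m F)), H.index = 2 ^ (m - 1) * (2 ^ m - 1)) := by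
  obtain ⟨k, rfl⟩ : ∃ k, m = k + 2 := ⟨m - 2, by omega⟩
  have nd := H30.qPlus_nondegenerate (F := F) (k + 2)
  have hV : Module.finrank F (Fin (k + 2) ⊕ Fin (k + 2) → F) = 2 * k + 4 := by
    simp; omega
  have hp : H79.IsPlus (F := F) (H30.qPlus F (k + 2)) := H79.isPlus_plus _
  have hN : ((2 ^ (k + 2 - 1) * (2 ^ (k + 2) - 1) : ℕ) : ℤ) = 2 ^ (k + 1) * (2 ^ (k + 2) - 1) := by
    rw [Nat.cast_mul, Nat.cast_sub (Nat.one_le_pow _ _ (by omega))]
    push_cast
    rfl
  refine H33.OD.min_index_POmega (H33.OD.data_plus nd (by omega) hV hp (Or.inr ⟨hF, hN⟩))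
    (c := 1) (Or.inr (by omega)) ?_
  rw [H33.OD.card_ne_zero_and one_ne_zero, hN,
    H30.nc_plus_ne_zero_int nd (m := k + 1) hV hp one_ne_zero, Nat.card_eq_fintype_card, hF]
  push_cast
  ring

end Cfsg.Agent.S2146
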