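import Cfsg.Statements.S0374
import Cfsg.Agent.H42.M24

set_option autoImplicit false
set_option maxRecDepth 1000000
open Cfsg

namespace Cfsg.Agent.S0374

open Cfsg.Agent.H42

/-- The group of the length-24 code is generated by x ↦ x+1, x ↦ -1/x and the cube-twist permutation. -/
theorem result : Subgroup.closure {Equiv.optionCongr (Equiv.addRight (1 : ZMod 23)), Cfsg.projInv, Cfsg.cubeTwist} = Cfsg.M24 := by
  have h := congrArg (Subgroup.map M24.subtype) gen_three_eq_top
  rw [gen, MonoidHom.map_closure, ← MonoidHom.range_eq_map, Subgroup.range_subtype] at h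
  rw [← h]
  congr 1
  have e : {g : ℕ | g ∈ [gShift, gInv, gTwist]} = {gShift, gInv, gTwist} := by
    ext g; simp
  rw [e]
  simp only [Set.image_insert_eq, Set.image_singleton, Subgroup.coe_subtype, coe_toM inM_gShift,
    coe_toM inM_gInv, coe_toM inM_gTwist, toPerm_gShift, toPerm_gInv, toPerm_gTwist]

end Cfsg.Agent.S0374
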