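import Cfsg.Statements.S0223
import Cfsg.Agent.H10.StronglyEmbedded

set_option autoImplicit false
open Cfsg

namespace Cfsg.Agent.S0223

/-- Let H be a proper subgroup of even order of the finite group G. Then H is strongly embedded if and only if (i) C_G(t) ≤ H for every involution t of H and (ii) H controls fusion of its involutions: involutions of H conjugate in G are conjugate in H. -/
theorem result {G : Type*} [Group G] [Finite G] (H : Subgroup G) (hH : H ≠ ⊤) (heven : Even (Nat.card H)) : Cfsg.IsStronglyEmbedded H ↔ ((∀ t ∈ H, orderOf t = 2 → Subgroup.centralizer ({t} : Set G) ≤ H) ∧ (∀ t ∈ H, ∀ s ∈ H, orderOf t = 2 → orderOf s = 2 → IsConj t s → ∃ h ∈ H, h * t * h⁻¹ = s)) := by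
  constructor
  · intro hSE
    exact ⟨fun t ht h2 => H10.SE.centralizer_le hSE ht h2,
      fun t ht s hs h2 h2' _ => H10.SE.exists_conj_mem hSE ht h2 hs h2'⟩
  · rintro ⟨h1, h2⟩
    refine H10.SE.iff.mpr ⟨hH, H10.even_card_iff.mp heven, fun t ht ht2 g hg => ?_⟩
    obtain ⟨h, hh, e⟩ := h2 t ht _ hg ht2 (by rw [H10.orderOf_conj, ht2]) (isConj_iff.mpr ⟨g, rfl⟩)
    have : h⁻¹ * g ∈ H := by
      apply h1 t ht ht2
      rw [Subgroup.mem_centralizer_singleton_iff]
      calc h⁻¹ * g * t = h⁻¹ * (g * t * g⁻¹) * g := by group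
        _ = t * (h⁻¹ * g) := by rw [← e]; group
    simpa using H.mul_mem hh this

end Cfsg.Agent.S0223
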