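import Cfsg.Statements.S1142
import Cfsg.Agent.H35.BNChamber
import Cfsg.Agent.H35.DihedralRat

set_option autoImplicit false
open Cfsg

namespace Cfsg.Agent.S1142

open H35 H35.BN H35.InvGen in
theorem orderOf_mem {G : Type*} [Group G] [Finite G] (P : Cfsg.BNPair G) {i j : P.S} (hij : i ≠ j)
    (hB : ∀ k, k = i ∨ k = j) :
    orderOf ((gens P).s i * (gens P).s j) ∈ ({2, 3, 4, 6, 8} : Set ℕ) := by
  classical
  have := Fintype.ofFinite (G ⧸ P.B)
  have := Fintype.ofFinite (W P)
  have hX := exchange P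
  let sq : W P → ℝ := fun w => √(ind P w : ℝ)
  have hsq0 : ∀ w, 0 < sq w := fun w => Real.sqrt_pos.2 (by exact_mod_cast ind_pos w)
  have hsqC : ∀ w, (sq w : ℂ) ≠ 0 := fun w => by exact_mod_cast (hsq0 w).ne'
  have hsq2 : ∀ w, (sq w : ℂ) ^ 2 = ind P w := fun w => by
    have : sq w ^ 2 = ind P w := Real.sq_sqrt (Nat.cast_nonneg _)
    exact_mod_cast this
  let A : W P → Matrix (G ⧸ P.B) (G ⧸ P.B) ℂ := fun w => (sq w : ℂ)⁻¹ • adj P ℂ w
  let α : P.S → ℂ := fun k => sq ((gens P).s k) - (sq ((gens P).s k) : ℂ)⁻¹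
  have hA : (gens P).IsHeckeFam α A := by
    refine ⟨?_, ?_, ?_⟩
    · simp [A, sq, ind_one, adj_one]
    · intro k w h
      simp only [A, sq]
      rw [smul_mul_assoc, mul_smul_comm, adj_s_mul_of_le h.le, smul_smul, ind_s_mul_of_le h.le,
        Nat.cast_mul, Real.sqrt_mul (Nat.cast_nonneg _)]
      congr 1
      push_cast
      rw [mul_inv]
    · intro k
      simp only [A, α]
      rw [smul_mul_assoc, mul_smul_comm, adj_s_mul_s, ← hsq2, smul_add, smul_add, smul_smul,
        smul_smul, smul_smul, smul_smul, smul_smul]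
      have := hsqC ((gens P).s k)
      congr 1
      · rw [show (sq ((gens P).s k) : ℂ)⁻¹ * (sq ((gens P).s k) : ℂ)⁻¹ *
          (sq ((gens P).s k) : ℂ) ^ 2 = 1 by field_simp, one_smul]
      · congr 1
        field_simp
  have htr : ∀ w v, (A w * A v).trace =
      if w * v = 1 then (Fintype.card (G ⧸ P.B) : ℂ) else 0 := by
    intro w v
    simp only [A]
    rw [smul_mul_assoc, mul_smul_comm, Matrix.trace_smul, Matrix.trace_smul, trace_adj_mul]
    split_ifs with h
    · obtain rfl : v = w⁻¹ := eq_inv_of_mul_eq_one_right h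
      have e : sq w⁻¹ = sq w := by simp only [sq, ind_inv]
      rw [e, ← hsq2]
      have := hsqC w
      simp only [smul_eq_mul]
      field_simp
    · simp
  set m := orderOf ((gens P).s i * (gens P).s j) with hm
  have hm0 : 0 < m := orderOf_pos _
  have hm1 : m ≠ 1 := (coxeterMatrix P).off_diagonal i j hij
  have hodd : Odd m → sq ((gens P).s i) = sq ((gens P).s j) := by
    rintro ⟨k, hk⟩
    have h1 := ind_wp (hX.isRed_altw hB (n := m) le_rfl)
    have h2 := ind_wp (hX.isRed_altw' hB (n := m) le_rfl)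
    have h3 : (gens P).wp (altw i j m) = (gens P).wp (altw j i m) :=
      (prod_altw_eq_iff (gens P).s i j ((gens P).s_mul_s i) ((gens P).s_mul_s j) m).2
        (pow_orderOf_eq_one _)
    rw [h3, h2, hk, prod_altw_two_mul_add_one, prod_altw_two_mul_add_one, mul_comm (ind P _)] at h1
    have := Nat.eq_of_mul_eq_mul_left (pow_pos (mul_pos (ind_pos _) (ind_pos _)) k) h1
    simp only [sq, this]
  have key := fun (ζ : ℂ) (h1 : ζ ^ m = 1) (h2 : ζ ^ 2 ≠ 1) =>
    FH.dihedral_rat hX hij hB hA htr (hsq0 _) (hsq0 _) rfl rfl hodd h1 h2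
  -- real forms
  set a : ℝ := sq ((gens P).s i) - (sq ((gens P).s i))⁻¹ with ha
  set b : ℝ := sq ((gens P).s j) - (sq ((gens P).s j))⁻¹ with hb
  have hpos : ∀ k : P.S, 0 < sq ((gens P).s k) - (sq ((gens P).s k))⁻¹ := by
    intro k
    have h1 : 1 < sq ((gens P).s k) := by
      rw [Real.lt_sqrt zero_le_one]
      have := two_le_ind_s k
      exact_mod_cast this
    have := inv_lt_one_of_one_lt₀ h1
    linarith
  have hrat : ∀ k : P.S, ∃ q : ℚ, (sq ((gens P).s k) - (sq ((gens P).s k))⁻¹) ^ 2 = q := by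
    intro k
    refine ⟨(ind P ((gens P).s k) - 1) ^ 2 / ind P ((gens P).s k), ?_⟩
    have h1 : sq ((gens P).s k) ^ 2 = ind P ((gens P).s k) := Real.sq_sqrt (Nat.cast_nonneg _)
    have := (hsq0 ((gens P).s k)).ne'
    push_cast
    rw [← h1]
    field_simp
  have ha0 : 0 < a := hpos i
  have hb0 : 0 < b := hpos j
  obtain ⟨qa, hqa⟩ := hrat i
  obtain ⟨qb, hqb⟩ := hrat j
  rw [← ha] at hqa
  rw [← hb] at hqb
  have keyR : ∀ θ : ℝ, Complex.exp (θ * Complex.I) ^ m = 1 → Real.cos θ ^ 2 ≠ 1 →
      ∃ q : ℚ, a ^ 2 + b ^ 2 + a * b * (2 * Real.cos θ) = q * (4 - (2 * Real.cos θ) ^ 2) := by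
    intro θ h1 h2
    have hc : Complex.exp (θ * Complex.I) + (Complex.exp (θ * Complex.I))⁻¹ =
        ((2 * Real.cos θ : ℝ) : ℂ) := by
      push_cast
      rw [Complex.two_cos, ← Complex.exp_neg, neg_mul]
    obtain ⟨q, hq⟩ := key _ h1 (by
      intro h
      apply h2
      have h0 := Complex.exp_ne_zero (θ * Complex.I)
      have h3 : ((2 * Real.cos θ : ℝ) : ℂ) ^ 2 = 4 := by
        rw [← hc]
        field_simp
        linear_combination (Complex.exp (θ * Complex.I) ^ 2 - 1) * h
      have h4 : (2 * Real.cos θ) ^ 2 = 4 := by exact_mod_cast h3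
      linarith)
    refine ⟨q, ?_⟩
    rw [hc] at hq
    have e1 : α i = (a : ℝ) := by simp [α, ha]
    have e2 : α j = (b : ℝ) := by simp [α, hb]
    rw [e1, e2] at hq
    exact_mod_cast hq
  have hmR : (m : ℝ) ≠ 0 := by exact_mod_cast hm0.ne'
  have hmC : (m : ℂ) ≠ 0 := by exact_mod_cast hm0.ne'
  have hroot : ∀ k : ℕ, Complex.exp (((2 * k / m * Real.pi : ℝ) : ℂ) * Complex.I) ^ m = 1 := by
    intro k
    rw [← Complex.exp_nat_mul, Complex.exp_eq_one_iff]
    refine ⟨k, ?_⟩
    push_cast
    field_simp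
  by_cases hm2 : m = 2
  · simp [hm2]
  have hm3 : 3 ≤ m := by omega
  have hm3R : (3 : ℝ) ≤ m := by exact_mod_cast hm3
  have hcos1 : Real.cos (2 / m * Real.pi) ^ 2 ≠ 1 := by
    intro h
    have h1 : Real.sin (2 / m * Real.pi) = 0 := by
      have := Real.sin_sq_add_cos_sq (2 / m * Real.pi)
      rw [h] at this
      exact pow_eq_zero_iff (two_ne_zero) |>.1 (by linarith)
    have h2 : 0 < Real.sin (2 / m * Real.pi) := by
      apply Real.sin_pos_of_pos_of_lt_pi (by positivity)
      have : 2 / (m : ℝ) < 1 := by rw [div_lt_one (by linarith)]; linarith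
      nlinarith [Real.pi_pos]
    exact h2.ne' h1
  obtain ⟨q₁, hq₁⟩ := keyR (2 / m * Real.pi) (by simpa using hroot 1) hcos1
  set c := Real.cos (2 / m * Real.pi) with hc
  rcases Nat.even_or_odd' m with ⟨k, hk | hk⟩
  · -- `m` even
    have hneg : Real.cos (2 * (1 + k : ℕ) / m * Real.pi) = -c := by
      rw [hc, ← Real.cos_add_pi]
      congr 1
      have : (m : ℝ) = 2 * k := by exact_mod_cast hk
      push_cast
      field_simp
      linarith
    obtain ⟨q₂, hq₂⟩ := keyR _ (hroot (1 + k)) (by rw [hneg]; simpa using hcos1)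
    rw [hneg] at hq₂
    have hsum : (q₁ + q₂ : ℝ) * (4 - (2 * c) ^ 2) = 2 * (qa + qb) := by
      rw [← hqa, ← hqb]; linear_combination -hq₁ - hq₂
    have hq0 : (q₁ + q₂ : ℝ) ≠ 0 := by
      intro h
      rw [h, ← hqa, ← hqb] at hsum
      nlinarith
    have hc2 : Real.cos (((4 / m : ℚ) : ℝ) * Real.pi) = ((1 - (qa + qb) / (q₁ + q₂) : ℚ) : ℝ) := by
      have : ((4 / m : ℚ) : ℝ) * Real.pi = 2 * (2 / m * Real.pi) := by push_cast; ring
      rw [this, Real.cos_two_mul, ← hc]
      push_cast
      field_simp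
      linear_combination (-1 / 2 : ℝ) * hsum
    have hm4 : (4 : ℚ) ≤ m := by exact_mod_cast (show 4 ≤ m by omega)
    have hn := niven_angle_div_pi_eq ⟨_, hc2⟩
      ⟨by positivity, by rw [div_le_one (by linarith)]; exact hm4⟩
    have hmQ : (m : ℚ) ≠ 0 := by linarith
    simp only [Set.mem_insert_iff, Set.mem_singleton_iff] at hn ⊢
    rcases hn with h | h | h | h | h
    · exfalso
      have : (0 : ℚ) < 4 / m := by positivity
      linarith
    · exfalso
      have hm12 : m = 12 := by
        field_simp at h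
        exact_mod_cast (show (m : ℚ) = 12 by linarith)
      have hcv : c = √3 / 2 := by
        rw [hc, hm12, ← Real.cos_pi_div_six]; congr 1; push_cast; ring
      have hhalf : Real.cos (2 * (2 : ℕ) / m * Real.pi) = 1 / 2 := by
        rw [hm12, ← Real.cos_pi_div_three]; congr 1; push_cast; ring
      obtain ⟨q₃, hq₃⟩ := keyR _ (hroot 2) (by rw [hhalf]; norm_num)
      rw [hhalf] at hq₃
      have h3 : √3 ^ 2 = (3 : ℝ) := Real.sq_sqrt (by norm_num)
      have hab : a * b = 3 * q₃ - qa - qb := by rw [← hqa, ← hqb]; linear_combination hq₃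
      have hab0 : (3 * q₃ - qa - qb : ℝ) ≠ 0 := by rw [← hab]; positivity
      have hirr : Irrational √3 := by simpa using Nat.prime_three.irrational_sqrt
      apply hirr
      refine ⟨(q₁ - qa - qb) / (3 * q₃ - qa - qb), ?_⟩
      push_cast
      rw [div_eq_iff hab0, ← hab, ← hqa, ← hqb]
      rw [hcv] at hq₁
      linear_combination -hq₁ + q₁ * h3
    · right; right; right; right
      field_simp at h
      exact_mod_cast (show (m : ℚ) = 8 by linarith)
    · right; right; right; left
      field_simp at h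
      exact_mod_cast (show (m : ℚ) = 6 by linarith)
    · right; right; left
      field_simp at h
      exact_mod_cast (show (m : ℚ) = 4 by linarith)
  · -- `m` odd
    have hab : b = a := by rw [ha, hb, hodd ⟨k, hk⟩]
    rw [hab] at hq₁
    have hc1 : c + 1 ≠ 0 := by
      intro h
      apply hcos1
      rw [show c = -1 by linarith]; norm_num
    have h1 : a ^ 2 = q₁ * (2 - 2 * c) := by
      apply mul_left_cancel₀ hc1
      linear_combination (1 / 2 : ℝ) * hq₁
    have hq0 : (q₁ : ℝ) ≠ 0 := by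
      intro h
      rw [h] at h1
      nlinarith
    have hc2 : Real.cos (((2 / m : ℚ) : ℝ) * Real.pi) = ((1 - qa / (2 * q₁) : ℚ) : ℝ) := by
      push_cast
      rw [← hc, ← hqa, h1]
      field_simp
      ring
    have hm4 : (3 : ℚ) ≤ m := by exact_mod_cast hm3
    have hn := niven_angle_div_pi_eq ⟨_, hc2⟩
      ⟨by positivity, by rw [div_le_one (by linarith)]; linarith⟩
    have hmQ : (m : ℚ) ≠ 0 := by linarith
    simp only [Set.mem_insert_iff, Set.mem_singleton_iff] at hn ⊢
    rcases hn with h | h | h | h | h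
    · exfalso
      have : (0 : ℚ) < 2 / m := by positivity
      linarith
    · right; right; right; left
      field_simp at h
      exact_mod_cast (show (m : ℚ) = 6 by linarith)
    · right; right; left
      field_simp at h
      exact_mod_cast (show (m : ℚ) = 4 by linarith)
    · right; left
      field_simp at h
      exact_mod_cast (show (m : ℚ) = 3 by linarith)
    · left
      field_simp at h
      exact_mod_cast (show (m : ℚ) = 2 by linarith)

/-- Feit–Higman: if a finite group has a (B,N)-pair of rank 2, its Weyl group `N/(B ⊓ N)` has order 4, 6, 8, 12 or 16. -/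
theorem result {G : Type*} [Group G] [Finite G] (P : Cfsg.BNPair G)
    (h2 : P.rank = 2) :
    ((P.B ⊓ P.N).subgroupOf P.N).index ∈ ({4, 6, 8, 12, 16} : Set ℕ) := by
  obtain ⟨i, j, hij, huniv⟩ := Nat.card_eq_two_iff.1 (show Nat.card P.S = 2 from h2)
  have hB : ∀ k, k = i ∨ k = j := fun k => by
    have : k ∈ ({i, j} : Set P.S) := huniv ▸ Set.mem_univ k
    simpa using this
  have h1 : ((P.B ⊓ P.N).subgroupOf P.N).index = _ := (H35.BN.exchange P).card_rank_two hB
  have h3 := orderOf_mem P hij hB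
  rw [h1]
  simp only [Set.mem_insert_iff, Set.mem_singleton_iff] at h3 ⊢
  omega

end Cfsg.Agent.S1142
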