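import Cfsg.Statements.S1903
import Cfsg.Agent.H2.U5

set_option autoImplicit false
open Cfsg

namespace Cfsg.Agent.S1903

theorem aux {H : Type*} [Group H] {T M : H} (TT : T * T = 1)
    (h1 : (T * M)⁻¹ * (M * T) ∈ Subgroup.center H) :
    ∃ N ∈ Subgroup.center H, N * N = 1 ∧ M * T = T * M * N := by
  refine ⟨_, h1, ?_, (mul_inv_cancel_left _ _).symm⟩
  have k := Subgroup.mem_center_iff.1 h1 T
  have Ti : T⁻¹ = T := inv_eq_of_mul_eq_one_right TT
  calc _ = M⁻¹ * T⁻¹ * M * (T * ((T * M)⁻¹ * (M * T))) := by group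
    _ = M⁻¹ * T⁻¹ * T⁻¹ * M * (T * T) := by rw [k]; group
    _ = 1 := by rw [TT, mul_assoc M⁻¹, Ti, TT]; group

set_option maxHeartbeats 1000000 in
open Subgroup H31 in
theorem model {F : Type*} [Field F] [Fintype F] (hF : Fintype.card F = 4 ^ 2) :
    ∃ (a : MulAut (Heis (isInvol_frobQ hF))) (t : Cfsg.PSU 3 F 4)
      (ι : Heis (isInvol_frobQ hF) →* centralizer ({t} : Set (Cfsg.PSU 3 F 4))) (g : _),
      orderOf t = 2 ∧ H2.U5 a ∧ H2.Ext5 a ι g := by
  have h2 : (2 : F) = 0 := by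
    have h := FiniteField.cast_card_eq_zero F
    rw [hF] at h
    exact pow_eq_zero_iff (n := 4) (by omega) |>.mp (by rw [← h]; norm_num)
  have hσ := isInvol_frobQ hF
  obtain ⟨c, hc⟩ := exists_prime_orderOf_dvd_card' (G := Fˣ) 5 (hp := ⟨by norm_num⟩) (by
    rw [Nat.card_units, Nat.card_eq_fintype_card, hF]; norm_num)
  have c5 : (c : F) ^ 5 = 1 := by rw [← Units.val_pow_eq_pow_val, ← hc, pow_orderOf_eq_one]; rfl
  have cσ : frobQ hF c = (c : F) ^ 4 := rfl
  obtain ⟨e⟩ := nonempty_psu3_equiv hF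
  obtain ⟨e'⟩ := nonempty_sylow_psu3_equiv (p := 2) (n := 2) rfl hF default
  have hu := (H2.u34_sylow hF default).of_equiv e'
  let t₀ : Heis hσ := ⟨0, 1, by rw [map_one]; linear_combination h2⟩
  have t0 : t₀ ∈ center (Heis hσ) := Heis.mem_center_iff.2 rfl
  let f : Heis hσ →* Cfsg.PSU 3 F 4 := e.toMonoidHom.comp (Heis.toPsu hσ)
  have fi : Function.Injective f := e.injective.comp Heis.toPsu_injective
  let D : Fˣ → sisom (hyp3 (frobQ hF)) := fun d => ⟨diag3 _ d d.ne_zero, diag3_mem_sisom hσ _⟩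
  have dv : ∀ a b d : F, diag3 (frobQ hF) c c.ne_zero ![a, b, d] = ![c * a, c ^ 3 * b, c * d] :=
    fun a b d => by
      have := c.ne_zero
      rw [diag3_vec, vec3_inj, cσ]
      refine ⟨rfl, by field_simp, ?_⟩
      rw [inv_eq_of_mul_eq_one_right (show (c : F) ^ 4 * c = 1 by rw [← pow_succ, c5])]
  have Dc : ∀ x, D c * Heis.toSisom hσ x = Heis.toSisom hσ (Heis.scale hσ (c * c) x) * D c :=
    fun x => Subtype.ext (LinearEquiv.ext fun v => by
      rw [vec3_eta v]
      show diag3 _ (c : F) c.ne_zero (uni3 _ x.x x.y _) = uni3 _ (Heis.scale hσ (c * c) x).x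
        (Heis.scale hσ (c * c) x).y (diag3 _ (c : F) c.ne_zero _)
      rw [uni3_vec, dv, dv, uni3_vec, vec3_inj, Heis.scale_x, Heis.scale_y]
      simp only [Units.val_mul, map_mul, cσ]
      refine ⟨?_, by ring, trivial⟩
      linear_combination (frobQ hF x.x * v 1 * c - x.y * v 2 * c) * (c ^ 5 + 1) * c5)
  have Dm : ∀ d d', D (d * d') = D d * D d' := fun d d' => Subtype.ext (LinearEquiv.ext fun v => by
    rw [vec3_eta v]
    show diag3 _ _ (d * d').ne_zero _ = diag3 _ _ d.ne_zero (diag3 _ _ d'.ne_zero _)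
    rw [diag3_vec, diag3_vec, diag3_vec, vec3_inj]
    simp only [Units.val_mul, map_mul]
    refine ⟨by ring, by ring, by ring⟩)
  have D1 : D 1 = 1 := by simpa using Dm 1 1
  have Dp : ∀ n : ℕ, D (c ^ n) = D c ^ n := fun n => by
    induction n with
    | zero => simpa using D1
    | succ n ih => rw [pow_succ, Dm, ih, pow_succ]
  have sc : ∀ z ∈ center (Heis hσ), Heis.scale hσ (c * c) z = z := fun z hz =>
    Heis.ext (by rw [Heis.scale_x, Heis.mem_center_iff.1 hz, mul_zero]) (by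
      rw [Heis.scale_y]
      simp only [Units.val_mul, map_mul, cσ]
      linear_combination z.y * (c ^ 5 + 1) * c5)
  have conj : ∀ x, e (D c) * f x * (e (D c))⁻¹ = f (Heis.scale hσ (c * c) x) := fun x => by
    rw [mul_inv_eq_iff_eq_mul]
    show e _ * e (Heis.toSisom hσ x) = e (Heis.toSisom hσ _) * e _
    rw [← map_mul, ← map_mul, ← QuotientGroup.mk_mul, ← QuotientGroup.mk_mul, Dc]
  refine ⟨Heis.scale hσ (c * c), f t₀, f.codRestrict _ fun x => mem_centralizer_singleton_iff.2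
    (((show Commute x t₀ from mem_center_iff.1 t0 x).map f).eq), ⟨e (D c),
      mem_centralizer_singleton_iff.2 (by rw [← mul_inv_eq_iff_eq_mul, conj, sc _ t0])⟩, ?_,
    ⟨hu.card, hu.cardZ, hu.sp2, hu.commutator_eq, ?_, sc, fun x hx => ?_⟩,
    fun x y h => fi (congrArg Subtype.val h), fun x => Subtype.ext (conj x), Subtype.ext ?_, ?_,
    fun y => ?_⟩
  · rw [orderOf_injective f fi]
    exact H9.orderOf_eq_two_iff.2 ⟨fun h => one_ne_zero (congrArg Heis.y h), hu.sp2.exp _ t0⟩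
  · rw [← map_pow, mul_pow, ← hc, pow_orderOf_eq_one, one_mul, map_one]
  · rw [Heis.mem_center_iff] at hx ⊢
    rw [Heis.mul_x, Heis.inv_x, Heis.scale_x, Units.val_mul] at hx
    by_contra h0
    have : (c : F) * c = 1 := mul_right_cancel₀ h0 (by linear_combination hx)
    have := orderOf_dvd_of_pow_eq_one (x := c) (n := 2) (Units.ext (by simpa [sq] using this))
    rw [hc] at this; omega
  · show e (D c) ^ 5 = 1
    rw [← map_pow, ← QuotientGroup.mk_pow, ← Dp, ← hc, pow_orderOf_eq_one, D1]; simp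
  · rintro ⟨x, hx⟩
    have h1 : (Heis.toSisom hσ x)⁻¹ * D c ∈ center _ :=
      QuotientGroup.eq.1 (e.injective (congrArg Subtype.val hx))
    obtain ⟨s, hs⟩ := ((isHerm_hyp3 hσ).mem_center_sisom_iff (by simp)).1 h1
    have k : ∀ v, diag3 _ _ c.ne_zero v = uni3 (frobQ hF) x.x x.y (s • v) := fun v => by
      rw [← hs]; exact (LinearEquiv.apply_symm_apply _ _).symm
    have k0 := k ![1, 0, 0]
    have k1 := k ![0, 1, 0]
    rw [smul_vec3, dv, uni3_vec, vec3_inj] at k0 k1
    have := orderOf_dvd_of_pow_eq_one (x := c) (n := 2) (Units.ext (show (c : F) ^ 2 = 1 from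
      mul_left_cancel₀ c.ne_zero (by linear_combination k1.2.1 - k0.1)))
    rw [hc] at this; omega
  · obtain ⟨y, hy⟩ := y
    obtain ⟨y, rfl⟩ := e.surjective y
    obtain ⟨M, rfl⟩ := QuotientGroup.mk_surjective y
    set T := Heis.toSisom hσ t₀ with hT
    have TT : T * T = 1 := by rw [hT, ← map_mul, hu.sp2.exp _ t0, map_one]
    have h1 : (T * M)⁻¹ * (M * T) ∈ center _ := QuotientGroup.eq.1 (e.injective (by
      have := mem_centralizer_singleton_iff.1 hy
      exact (map_mul e _ _).trans (this.symm.trans (map_mul e _ _).symm)))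
    obtain ⟨N, h1, h3, h7⟩ := aux TT h1
    obtain ⟨s, hs⟩ := ((isHerm_hyp3 hσ).mem_center_sisom_iff (by simp)).1 h1
    have s1 : s = 1 := by
      have k : N.1 (N.1 ![1, 0, 0]) = ![1, 0, 0] := by
        rw [← LinearEquiv.mul_apply, ← Subgroup.coe_mul, h3]; rfl
      rw [hs, hs, smul_vec3, smul_vec3, vec3_inj] at k
      have : (s - 1) ^ 2 = 0 := by linear_combination k.1 + (1 - s) * h2
      exact sub_eq_zero.1 (pow_eq_zero_iff two_ne_zero |>.1 this)
    have h4 : M.1 (T.1 ![0, 0, 1]) = T.1 (M.1 ![0, 0, 1]) := by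
      rw [← LinearEquiv.mul_apply, ← Subgroup.coe_mul, h7, Subgroup.coe_mul, Subgroup.coe_mul,
        LinearEquiv.mul_apply, LinearEquiv.mul_apply, hs, s1, one_smul]
    have h5 : M.1 ![1, 0, 0] = ![M.1 ![0, 0, 1] 2, 0, 0] := by
      have k : T.1 ![0, 0, 1] = ![1, 0, 0] + ![0, 0, 1] := by
        show uni3 _ _ _ _ = _
        rw [uni3_vec]; ext i; fin_cases i <;> simp [t₀]
      rw [k, map_add, vec3_eta (M.1 ![0, 0, 1])] at h4
      change _ = uni3 _ _ _ _ at h4
      rw [uni3_vec, ← eq_sub_iff_add_eq] at h4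
      rw [h4]; ext i; fin_cases i <;> simp [t₀]
    set d := M.1 ![0, 0, 1] 2
    have h6 : d ^ 5 = 1 := by
      have := M.2.1 ![1, 0, 0] ![0, 0, 1]
      rw [h5, hyp3_apply, hyp3_vec] at this
      simp at this
      linear_combination this
    have d0 : d ≠ 0 := by rintro h; rw [h] at h6; simp at h6
    obtain ⟨i, hi⟩ : ∃ i : ℕ, c ^ i = Units.mk0 d d0 := by
      obtain ⟨i, -, hi⟩ := (IsPrimitiveRoot.coe_units_iff.2 (hc ▸ IsPrimitiveRoot.orderOf c :
        IsPrimitiveRoot c 5)).eq_pow_of_pow_eq_one h6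
      exact ⟨i, Units.ext hi⟩
    obtain ⟨x, y, hxy, k⟩ := exists_uni3_of_fix hσ (M * (D (c ^ i))⁻¹).2 (by
      have k : (D (c ^ i)).1.symm ![1, 0, 0] = d⁻¹ • ![1, 0, 0] := by
        rw [LinearEquiv.symm_apply_eq, hi, smul_vec3]
        show _ = diag3 _ d d0 _
        rw [diag3_vec]; simp [d0]
      show M.1 ((D (c ^ i)).1.symm _) = _
      rw [k, map_smul, h5, smul_vec3]; simp [d0])
    refine ⟨⟨x, y, hxy⟩, i, Subtype.ext ?_⟩
    show e M = e (Heis.toSisom hσ ⟨x, y, hxy⟩) * e (D c) ^ i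
    rw [← map_pow, ← map_mul, ← QuotientGroup.mk_pow, ← QuotientGroup.mk_mul, ← Dp,
      show Heis.toSisom hσ ⟨x, y, hxy⟩ = M * (D (c ^ i))⁻¹ from Subtype.ext k.symm,
      inv_mul_cancel_right]



open scoped commutatorElement in
/-- A finite group of order 320 whose derived subgroup has order 64 and has centre a Klein four-group is isomorphic to the centralizer of an involution in PSU₃(4). -/
theorem result {G : Type*} [Group G] [Finite G] (hG : Nat.card G = 320) (hD : Nat.card (commutator G) = 64)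
    (hZ : IsKleinFour (Subgroup.center (commutator G)))
    {F : Type*} [Field F] [Fintype F] (hF : Fintype.card F = 16) :
    ∃ t : Cfsg.PSU 3 F 4, orderOf t = 2 ∧ Nonempty (G ≃* Subgroup.centralizer ({t} : Set (Cfsg.PSU 3 F 4))) := by
  have p5 : Nat.Prime 5 := by norm_num
  obtain ⟨a₀, t, ι, g₀, ht, u₀, x₀⟩ := model (F := F) hF
  obtain ⟨g, hg⟩ := exists_prime_orderOf_dvd_card' (G := G) 5 (hp := ⟨p5⟩) (by rw [hG]; norm_num)
  set T := commutator G with hT
  have h2 : IsPGroup 2 T := IsPGroup.of_card (n := 6) hD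
  let a : MulAut T := MulAut.conjNormal g
  have g5 : g ^ 5 = 1 := hg ▸ pow_orderOf_eq_one g
  have a5 : a ^ 5 = 1 := by rw [← map_pow, g5, map_one]
  have gT : g ∉ T := fun h => by
    have := Subgroup.orderOf_dvd_natCard T h
    rw [hg, hD] at this; omega
  have top : T ⊔ Subgroup.zpowers g = ⊤ := Subgroup.eq_top_of_card_eq _ (by
    rw [H7.card_sup_zpowers (hp := ⟨p5⟩) gT (g5 ▸ T.one_mem), hD, hG])
  have x₁ : H2.Ext5 a T.subtype g := ⟨Subtype.val_injective, fun x => rfl, g5, by simpa using gT,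
    fun y => by
      obtain ⟨n, hn, k, rfl⟩ := H7.mem_sup_zpowers.1 (top ▸ Subgroup.mem_top y)
      obtain ⟨i, hi⟩ := (mem_powers_iff_mem_zpowers (x := g)).2 ⟨k, rfl⟩
      exact ⟨⟨n, hn⟩, i, congrArg (n * ·) hi.symm⟩⟩
  have hZ4 := hZ.card_four
  have iF : ∀ x ∈ H2.fx a, a x ∈ H2.fx a := fun x hx => by rw [H2.mem_fx] at hx ⊢; rw [hx, hx]
  have fix : Subgroup.center T ≤ H2.fx a := by
    have k := H2.dvd_card_sub p5 a5 (inf_le_left : Subgroup.center T ⊓ H2.fx a ≤ _)
      (fun _ => H7.mem_of_char a) (fun x hx => ⟨H7.mem_of_char a hx.1, iF x hx.2⟩)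
      fun x h1 h2 => ⟨h1, h2⟩
    have k1 : 0 < Nat.card (Subgroup.center T ⊓ H2.fx a : Subgroup T) := Nat.card_pos
    exact inf_eq_left.1 (Subgroup.eq_of_le_of_card_ge inf_le_left (by omega))
  have cop : (orderOf a).Coprime 2 := Nat.Coprime.coprime_dvd_left (orderOf_dvd_of_pow_eq_one a5)
    (by norm_num)
  have gen : Subgroup.closure {x : T | ∃ g : T, ∃ b ∈ Subgroup.zpowers a, x = g⁻¹ * b g} = ⊤ := by
    set K := Subgroup.closure {x : T | ∃ g : T, ∃ b ∈ Subgroup.zpowers a, x = g⁻¹ * b g}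
    apply frattini_nongenerating
    have n1 : (K ⊔ frattini T).Normal := H7.normal_of_commutator_le
      ((Subgroup.commutator_mono le_top le_rfl).trans (H7.commutator_le_frattini h2)) le_sup_right
    have n2 : ∀ x : T, x⁻¹ * a x ∈ K ⊔ frattini T := fun x =>
      Subgroup.mem_sup_left (Subgroup.subset_closure ⟨x, a, Subgroup.mem_zpowers a, rfl⟩)
    have n3 : ((K ⊔ frattini T).map T.subtype).Normal := by
      rw [← Subgroup.normalizer_eq_top_iff, eq_top_iff, ← top, sup_le_iff, Subgroup.zpowers_le]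
      refine ⟨fun s hs => ?_, ?_⟩ <;> refine Subgroup.mem_normalizer_fintype ?_ <;>
        rintro _ ⟨x, hx, rfl⟩
      · exact ⟨_, n1.conj_mem x hx ⟨s, hs⟩, rfl⟩
      · exact ⟨_, by simpa using mul_mem hx (n2 x), rfl⟩
    have n4 := H9.commutator_le_of_closure_eq_top (s := T ∪ {g}) (by
      rw [Subgroup.closure_union, Subgroup.closure_eq, ← Subgroup.zpowers_eq_closure, top])
      (N := (K ⊔ frattini T).map T.subtype) (by
        have k : ∀ x ∈ T, ⁅x, g⁆ ∈ (K ⊔ frattini T).map T.subtype := fun x hx =>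
          ⟨_, n2 ⟨x, hx⟩⁻¹, by simp [a, commutatorElement_def, mul_assoc]⟩
        rintro x (hx | rfl) y (hy | rfl)
        · exact ⟨⁅⟨x, hx⟩, ⟨y, hy⟩⁆, Subgroup.mem_sup_right (H7.commutator_le_frattini h2
            (Subgroup.commutator_mem_commutator trivial trivial)), rfl⟩
        · exact k x hx
        · rw [← commutatorElement_inv]; exact inv_mem (k y hy)
        · simp)
    exact eq_top_iff.2 fun x _ => by
      obtain ⟨y, hy, e⟩ := n4 x.2
      exact Subtype.ext e ▸ hy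
  have fle : H2.fx a ≤ commutator T := fun x hx => H7.mem_commutator_of_fixed h2
    (Subgroup.zpowers a) (by rwa [Nat.card_zpowers]) gen (by
      rintro _ ⟨k, rfl⟩
      exact MulAction.mem_stabilizer_iff.1 (zpow_mem (MulAction.mem_stabilizer_iff.2 hx :
        a ∈ MulAction.stabilizer (MulAut T) x) k))
  have four : ∀ K : Subgroup T, H2.fx a ≤ K → K ≤ commutator T → (∀ x ∈ K, a x ∈ K) →
      5 ∣ Nat.card K - 4 → K = Subgroup.center T := fun K h1 h3 h4 h5 => by
    have k1 := (Subgroup.card_le_of_le h3).trans (H9.card_commutator_le_of_card (p := 2) (n := 4) hD)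
    have k2 := Subgroup.card_le_of_le (fix.trans h1)
    obtain ⟨n, hn⟩ := H7.card_eq_pow h2 K
    refine (Subgroup.eq_of_le_of_card_ge (fix.trans h1) ?_).symm
    rw [hn] at k1 h5 ⊢
    have : n ≤ 4 := (Nat.pow_le_pow_iff_right one_lt_two).1 k1
    interval_cases n <;> omega
  have fx4 : H2.fx a = Subgroup.center T := four _ le_rfl fle iF (by
    have k := H2.dvd_card_sub p5 a5 (le_top : H2.fx a ≤ ⊤) (by simp) iF fun x _ h => h
    have := Subgroup.card_le_of_le fix
    have := Subgroup.card_le_card_group (H2.fx a)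
    rw [Subgroup.card_top] at k
    omega)
  have der : commutator T = Subgroup.center T := four _ fle le_rfl (fun _ => H7.mem_of_char a) (by
    have k := H2.dvd_card_sub p5 a5 fle (fun _ => H7.mem_of_char a) iF fun x _ h => h
    rwa [fx4, hZ4] at k)
  have cz : ∀ x ∈ Subgroup.center T, ∀ y, Commute x y := fun x hx y =>
    (Subgroup.mem_center_iff.1 hx y).symm
  have ex : ∀ x ∈ Subgroup.center T, x * x = 1 := fun x hx =>
    congrArg Subtype.val (IsKleinFour.mul_self (⟨x, hx⟩ : Subgroup.center T))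
  have cm : ∀ x y : T, x⁻¹ * y⁻¹ * x * y ∈ Subgroup.center T := fun x y => by
    have := Subgroup.commutator_mem_commutator (Subgroup.mem_top x⁻¹) (Subgroup.mem_top y⁻¹)
    rw [commutatorElement_def, inv_inv, inv_inv] at this
    exact der ▸ this
  have u₁ : H2.U5 a := ⟨hD, hZ4, ⟨cz, ex, fun x => Subgroup.mem_center_iff.2 fun y =>
    (H2.cm_eq_one_iff.1 (by rw [H2.cm_mul_l, H2.conj_of_comm (cz _ (cm _ _) _),
      ex _ (cm _ _)])).symm⟩, der, a5, fix, fun x hx => fx4 ▸ H7.aut_apply_eq_of_coprime a (fix hx)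
      (by
        obtain ⟨k, hk⟩ := IsPGroup.iff_orderOf.1 h2 (x⁻¹ * a x)
        rw [hk]; exact cop.symm.pow_left k)⟩
  obtain ⟨e, he⟩ := u₁.equiv u₀
  exact ⟨t, ht, x₁.equiv (ι' := ι.comp e.toMonoidHom) ⟨x₀.inj.comp e.injective,
    fun x => (x₀.conj _).trans (congrArg ι (he x).symm), x₀.ord,
    fun ⟨x, hx⟩ => x₀.nmem ⟨_, hx⟩, fun y => by
      obtain ⟨x, i, h⟩ := x₀.surj y
      exact ⟨e.symm x, i, by simpa using h⟩⟩⟩


end Cfsg.Agent.S1903
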