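import Cfsg.Statements.S4365
import Cfsg.Agent.H92.Mann

set_option autoImplicit false
open Cfsg

namespace Cfsg.Agent.S4365

open Cfsg.Agent.H92
open scoped commutatorElement

theorem commutator_pow_right {G : Type*} [Group G] {a b : G} (h : ⁅a, b⁆ ∈ Subgroup.center G)
    (n : ℕ) : ⁅a, b ^ n⁆ = ⁅a, b⁆ ^ n := by
  induction n with
  | zero => simp
  | succ n ih =>
    have e : ⁅a, b ^ (n + 1)⁆ = ⁅a, b⁆ * (b * ⁅a, b ^ n⁆ * b⁻¹) := by rw [pow_succ']; group
    rw [e, ih, Subgroup.mem_center_iff.1 (Subgroup.pow_mem _ h n) b, mul_inv_cancel_right, pow_succ']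

theorem mul_pow_class_two {G : Type*} [Group G] {a b : G} (h : ⁅b, a⁆ ∈ Subgroup.center G)
    (n : ℕ) : (a * b) ^ n = a ^ n * b ^ n * ⁅b, a⁆ ^ (n.choose 2) := by
  induction n with
  | zero => simp
  | succ n ih =>
    have h' : ⁅a, b⁆ ∈ Subgroup.center G := by
      rw [← commutatorElement_inv]; exact Subgroup.inv_mem _ h
    have e1 : b ^ n * a = ⁅b, a⁆ ^ n * (a * b ^ n) := by
      rw [← commutatorElement_inv a b, inv_pow, ← commutator_pow_right h']; group
    have hc : ∀ (k : ℕ) (g : G), g * ⁅b, a⁆ ^ k = ⁅b, a⁆ ^ k * g := fun k g =>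
      Subgroup.mem_center_iff.1 (Subgroup.pow_mem _ h k) g
    rw [pow_succ, ih, Nat.choose_succ_succ' n 1, Nat.choose_one_right, pow_add]
    calc a ^ n * b ^ n * ⁅b, a⁆ ^ n.choose 2 * (a * b)
        = a ^ n * (b ^ n * a) * b * ⁅b, a⁆ ^ n.choose 2 := by
          rw [mul_assoc (a ^ n * b ^ n), ← hc]; group
      _ = a ^ n * (a * b ^ n * b * ⁅b, a⁆ ^ n) * ⁅b, a⁆ ^ n.choose 2 := by
          rw [e1, hc n (a * b ^ n * b)]; group
      _ = _ := by rw [pow_succ, pow_succ]; group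

theorem aux {P : Type*} [Group P] [Finite P] (p : ℕ) [hp : Fact p.Prime]
    (hP : IsPGroup p P) (m : ℕ) (hcs : ∀ x : P, cs[x] = 1 ∨ cs[x] = m) (x : P) :
    x ^ p ∈ Subgroup.center P := by
  have := hP.isNilpotent
  by_contra hx
  set Z := Subgroup.center P with hZ
  have hxZ : x ∉ Z := fun h => hx (Z.pow_mem h p)
  have hm : ∀ y : P, y ∉ Z → cs[y] = m := fun y hy =>
    (hcs y).resolve_left fun h => hy (cs_eq_one_iff.1 h)
  -- an element of order `p` in the centre of `P / Z`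
  have hnt : Nontrivial (P ⧸ Z) := ⟨⟨x, 1, fun h => hxZ ((QuotientGroup.eq_one_iff x).1 h)⟩⟩
  have hPZ : IsPGroup p (P ⧸ Z) := hP.to_quotient Z
  have hc := hPZ.center_nontrivial
  obtain ⟨k, hk0, hk⟩ := (hPZ.to_subgroup (Subgroup.center (P ⧸ Z))).nontrivial_iff_card.1 hc
  obtain ⟨zb, hzb, hzo⟩ := H3.exists_mem_orderOf_eq_prime (N := Subgroup.center (P ⧸ Z)) hp.out
    (by rw [hk]; exact dvd_pow_self p hk0.ne')
  obtain ⟨z, rfl⟩ := QuotientGroup.mk_surjective zb
  have hzZ : z ∉ Z := by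
    intro h
    rw [(QuotientGroup.eq_one_iff z).2 h, orderOf_one] at hzo
    exact hp.out.one_lt.ne hzo
  have hzp : z ^ p ∈ Z := by
    rw [← QuotientGroup.eq_one_iff, QuotientGroup.mk_pow, ← hzo, pow_orderOf_eq_one]
  have hzc : ∀ y : P, ⁅y, z⁆ ∈ Z := by
    intro y
    rw [← QuotientGroup.eq_one_iff]
    have := Subgroup.mem_center_iff.1 hzb (y : P ⧸ Z)
    exact (map_commutatorElement (QuotientGroup.mk' Z) y z).trans
      (commutatorElement_eq_one_iff_mul_comm.2 this)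
  have key : ∀ y : P, y ∉ Ce[z] → y ^ p ∈ Z := by
    intro y hy
    by_contra h
    have hyZ : y ∉ Z := fun h' => h (Z.pow_mem h' p)
    have h1 : Ce[y] = Ce[y ^ p] :=
      eq_of_le_of_index_eq (C_le_C_pow y p) ((hm y hyZ).trans (hm _ h).symm)
    apply hy
    rw [mem_C_comm, h1, mem_C]
    have h2 : ⁅z, y⁆ ∈ Z := by rw [← commutatorElement_inv]; exact Z.inv_mem (hzc y)
    apply commutatorElement_eq_one_iff_mul_comm.1
    rw [commutator_pow_right h2, ← commutatorElement_inv, inv_pow, ← commutator_pow_right (hzc y),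
      commutatorElement_eq_one_iff_mul_comm.2 (Subgroup.mem_center_iff.1 hzp y), inv_one]
  have hxz : x ∈ Ce[z] := by by_contra h; exact hx (key x h)
  have hCz : Ce[z] ≠ ⊤ := fun h => hzZ (C_eq_top_iff.1 h)
  have hq1 : ∀ y : P, y ∉ Ce[z] → (y : P ⧸ Z) ^ p = 1 := fun y hy => by
    rw [← QuotientGroup.mk_pow, QuotientGroup.eq_one_iff]; exact key y hy
  have hq2 : ∀ y : P, y ∉ Ce[z] → ((x : P ⧸ Z) * y) ^ p = 1 := fun y hy => by
    rw [← QuotientGroup.mk_mul]
    exact hq1 _ fun h => hy ((Subgroup.mul_mem_cancel_left _ hxz).1 h)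
  have hxq : (x : P ⧸ Z) ^ p ≠ 1 := by
    rw [← QuotientGroup.mk_pow, Ne, QuotientGroup.eq_one_iff]; exact hx
  obtain ⟨y, hy⟩ : ∃ y, y ∉ Ce[z] := by
    by_contra h; push Not at h; exact hCz (eq_top_iff.2 fun y _ => h y)
  rcases hp.out.eq_two_or_odd' with rfl | hodd
  · have hinv : ∀ y : P, y ∉ Ce[z] → (y : P ⧸ Z) * x * (y : P ⧸ Z)⁻¹ = (x : P ⧸ Z)⁻¹ := by
      intro y hy
      have h1 := hq1 y hy
      have h2 := hq2 y hy
      rw [pow_two] at h1 h2
      rw [← eq_inv_of_mul_eq_one_left h1]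
      apply eq_inv_of_mul_eq_one_right
      rw [← h2]; group
    have h2 : Ce[z].index = 2 := by
      rw [Subgroup.index_eq_two_iff]
      refine ⟨y, fun b => ?_⟩
      by_cases hb : b ∈ Ce[z]
      · exact Or.inr ⟨hb, fun h => hy ((Subgroup.mul_mem_cancel_left _ hb).1 h)⟩
      · refine Or.inl ⟨?_, hb⟩
        by_contra h
        have h3 := hinv _ h
        rw [QuotientGroup.mk_mul, mul_inv_rev] at h3
        have h4 : (b : P ⧸ Z) * y * x * ((y : P ⧸ Z)⁻¹ * (b : P ⧸ Z)⁻¹) =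
            (b * ((y : P ⧸ Z) * x * (y : P ⧸ Z)⁻¹)⁻¹ * (b : P ⧸ Z)⁻¹)⁻¹ := by group
        rw [h4, hinv y hy, inv_inv, hinv b hb, inv_inv] at h3
        apply hxq
        rw [pow_two]
        nth_rewrite 1 [h3]
        exact inv_mul_cancel _
    apply hx
    rw [Subgroup.mem_center_iff]
    intro g
    by_cases hg : g ∈ Z
    · exact (Subgroup.mem_center_iff.1 hg _).symm
    · have h3 : Ce[g].index = 2 := (hm g hg).trans ((hm z hzZ).symm.trans h2)
      exact (mem_C.1 (Subgroup.sq_mem_of_index_two h3 x)).symm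
  · have h3 := upperCentralSeries_three_of_two_sizes hcs
    have hcl : ∀ a b : P, ⁅(a : P ⧸ Z), (b : P ⧸ Z)⁆ ∈ Subgroup.center (P ⧸ Z) := by
      intro a b
      rw [Subgroup.mem_center_iff]
      intro c
      obtain ⟨c, rfl⟩ := QuotientGroup.mk_surjective c
      have h4 : a ∈ Subgroup.upperCentralSeries P 3 := by rw [h3]; trivial
      have h5 := Subgroup.mem_upperCentralSeries_succ_iff.1
        (Subgroup.mem_upperCentralSeries_succ_iff.1 h4 b) c
      rw [Subgroup.upperCentralSeries_one, ← hZ, ← QuotientGroup.eq_one_iff] at h5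
      refine (commutatorElement_eq_one_iff_mul_comm.1 ?_).symm
      rw [← h5]
      exact ((map_commutatorElement (QuotientGroup.mk' Z) _ _).trans
        (by rw [map_commutatorElement]; rfl)).symm
    have h4 := mul_pow_class_two (hcl y x) p
    have h5 : ⁅(y : P ⧸ Z), (x : P ⧸ Z)⁆ ^ p = 1 := by
      rw [← commutatorElement_inv, inv_pow, ← commutator_pow_right (hcl x y), hq1 y hy]; simp
    obtain ⟨j, hj⟩ : p ∣ p.choose 2 := hp.out.dvd_choose_self (by norm_num)
      (lt_of_le_of_ne hp.out.two_le (by rintro rfl; exact absurd hodd (by decide)))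
    rw [hq2 y hy, hq1 y hy, hj, pow_mul, h5, one_pow, mul_one, mul_one] at h4
    exact hxq h4.symm

/-- Let P be a finite p-group whose conjugacy class sizes are exactly 1 and pᵃ for some a ≥ 1. Then every element of P has its p-th power in the center of P (P/Z(P) has exponent p). -/
theorem result {P : Type*} [Group P] [Finite P] (p : ℕ) [Fact p.Prime]
    (hP : IsPGroup p P) (a : ℕ) (ha : 1 ≤ a)
    (hcs : {k : ℕ | ∃ x : P, (Subgroup.centralizer ({x} : Set P)).index = k} = {1, p ^ a}) (x : P) :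
    x ^ p ∈ Subgroup.center P := by
  refine aux p hP (p ^ a) (fun y => ?_) x
  have : cs[y] ∈ ({1, p ^ a} : Set ℕ) := hcs ▸ ⟨y, rfl⟩
  exact this

end Cfsg.Agent.S4365
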