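import Cfsg.Statements.S4134
import Cfsg.Agent.H92.Ito
import Cfsg.Agent.S4365

set_option autoImplicit false
open Cfsg

namespace Cfsg.Agent.S4134

open Cfsg.Agent.H92



/-- Let G be a finite group whose conjugacy classes have exactly two sizes, 1 and n > 1. Then n is a power of a prime p and G is the direct product of a p-group and an abelian group of order prime to p: its Sylow p-subgroup P is normal with an abelian normal complement centralizing it; moreover P has an abelian normal subgroup A with P/A of exponent dividing p. -/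
theorem result {G : Type*} [Group G] [Finite G] (n : ℕ) (hn : 1 < n)
    (h : ∀ x : G, (Subgroup.centralizer ({x} : Set G)).index = 1 ∨ (Subgroup.centralizer ({x} : Set G)).index = n) (hex : ∃ x : G, (Subgroup.centralizer ({x} : Set G)).index = n) :
    ∃ (p : ℕ) (_ : Fact p.Prime) (a : ℕ), n = p ^ a ∧ ∀ P : Sylow p G, (P : Subgroup G).Normal ∧
      (∃ N : Subgroup G, N.Normal ∧ N.IsComplement' (P : Subgroup G) ∧ IsMulCommutative N ∧
        ∀ x ∈ N, ∀ y ∈ (P : Subgroup G), x * y = y * x) ∧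
      ∃ A : Subgroup (P : Subgroup G), A.Normal ∧ IsMulCommutative A ∧ ∀ y : (P : Subgroup G), y ^ p ∈ A := by
  have h' : ∀ x : G, x ∉ Subgroup.center G → cs[x] = n := fun x hx =>
    (h x).resolve_left fun e => hx (cs_eq_one_iff.1 e)
  obtain ⟨x, hx⟩ := hex
  have hxZ : x ∉ Subgroup.center G := one_lt_cs_iff.1 (by rw [hx]; exact hn)
  obtain ⟨a, -, p, hp, -, ha, haZ⟩ := exists_primePow_not_mem hxZ
  haveI := Fact.mk hp
  have hc : ∀ y : G, ¬ p ∣ orderOf y → y ∈ Subgroup.center G := by
    intro y hy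
    refine mem_of_forall_primePow fun b _ q hq hqy hb => ?_
    by_contra hbZ
    exact hy (ito_central h' hp hq ha hb haZ hbZ ▸ hqy)
  have hdir : ∀ P : Sylow p G, _ := fun P => sylow_direct_of_sup_centralizer P
    (sup_centralizer_eq_top_of_not_dvd_cs P fun y hy => by
      rw [cs_eq_one_iff.2 (hc y hy)]; exact hp.not_dvd_one)
  have hN : ∀ N : Subgroup G, ¬ p ∣ Nat.card N → N ≤ Subgroup.center G := fun N hN y hy =>
    hc y fun hd => hN (hd.trans (N.orderOf_dvd_natCard hy))
  obtain ⟨P₀⟩ : Nonempty (Sylow p G) := inferInstance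
  obtain ⟨-, N₀, -, hN₀c, -, hN₀p, -⟩ := hdir P₀
  obtain ⟨k, hk⟩ : ∃ k, n = p ^ k := by
    rw [← hx]
    refine eq_pow_of_dvd hp (Subgroup.index_dvd_of_le ((hN N₀ hN₀p).trans (center_le_C x))) ?_
    rw [hN₀c.symm.index_eq_card]
    exact P₀.isPGroup'.exists_card_eq
  refine ⟨p, inferInstance, k, hk, fun P => ?_⟩
  obtain ⟨hPn, N, hNn, hNc, hNP, hNp, -⟩ := hdir P
  refine ⟨hPn, ⟨N, hNn, hNc, ⟨⟨fun a b => Subtype.ext (Subgroup.mem_center_iff.1 (hN N hNp b.2) a)⟩⟩,
    fun a ha y hy => (Subgroup.mem_center_iff.1 (hN N hNp ha) y).symm⟩,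
    Subgroup.center P, inferInstance, inferInstance, S4365.aux p P.isPGroup' n fun y => ?_⟩
  rw [cs_subgroup, relIndex_eq_index_of_sup]
  · exact h y
  · rw [eq_top_iff, ← hNc.sup_eq_top]
    exact sup_le_sup_right ((hN N hNp).trans (center_le_C _)) _

end Cfsg.Agent.S4134
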