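import Cfsg.Statements.S4888
import Cfsg.Agent.H21.Principal
import Cfsg.Agent.H24.Thompson

set_option autoImplicit false
open Cfsg

namespace Cfsg.Agent.S4888

open Cfsg.Agent.H19 hiding char_mem_Vr centralChar_mem_Vr
open Cfsg.Agent.H21

theorem lin_mem_iff {G : Type*} [Group G] [Finite G] {M : Ideal AlgInt} (hM : M.IsMaximal)
    (lam : G →* ℂˣ) :
    (⟨_, H11.isIrrCharacter_monoidHom lam⟩ : IrrCharacter G) ∈ principalBlock M G ↔
      ∀ g, val M (((Subgroup.centralizer ({g} : Set G)).index : ℂ) * (1 - lam g)) < 1 := by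
  rw [H21.block_mem_iff hM isPBlock_principal (triv_mem_principal hM), H21.sameBlock_iff hM]
  refine forall_congr' fun g => ?_
  simp only [centralChar, triv_apply, map_one, Units.val_one, div_one, mul_sub]

theorem lin_mem_Vr {G : Type*} [Group G] [Finite G] {M : Ideal AlgInt} (lam : G →* ℂˣ) (g : G) :
    (lam g : ℂ) ∈ Vr M :=
  H21.irr_mem_Vr ⟨_, H11.isIrrCharacter_monoidHom lam⟩ g

/-- Let G be a finite group, p a prime and M a maximal ideal of the algebraic integers containing p. Then all height-zero irreducible characters of the principal p-block of G (equivalently, all its characters of degree prime to p) have the same degree if and only if G has a normal p-complement. -/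
theorem result {G : Type*} [Group G] [Finite G] (p : ℕ) [Fact p.Prime] (M : Ideal Cfsg.AlgInt) (hM : Cfsg.IsPModular p M) : (∃ d : ℕ, ∀ χ : Cfsg.IrrCharacter G, χ ∈ (Cfsg.principalBlock M G) → Cfsg.blockHeight p (Cfsg.principalBlock M G) (χ : G → ℂ) = 0 → Cfsg.charDegree (χ : G → ℂ) = d) ↔ Cfsg.HasNormalPComplement p G := by
  classical
  have hp : p.Prime := Fact.out
  have := Fintype.ofFinite G
  set N := pResidual p G with hN
  obtain ⟨k, hk⟩ : ∃ k, N.index = p ^ k := H8.exists_index_pResidual_eq p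
  constructor
  swap
  · intro h
    refine ⟨1, fun χ hχ h0 => ?_⟩
    rw [height_principal_eq_zero_iff hM] at h0
    have h1 : N ≤ H11.charKer χ.1 := by
      rw [H8.pResidual_le_iff]
      intro g hg
      exact (H11.mem_charKer_irr_iff χ.2).2 ((npc_iff_forall_reg hM).1 h χ hχ g
        ((coprime_iff_not_dvd hp _).1 hg))
    obtain ⟨ψ, hψ, he⟩ := H11.exists_irr_lift χ.2 N h1
    obtain ⟨j, hj⟩ := H24.exists_deg_eq_pow_of_isPGroup (H8.isPGroup_quotient_pResidual p) hψ
    rw [H24.deg_congr (ψ := χ.1) (he 1)] at hj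
    rcases j with _ | j
    · simpa using hj
    · exact absurd (hj ▸ dvd_pow_self p (Nat.succ_ne_zero j)) h0
  rintro ⟨d, hd⟩
  have hd1 : d = 1 := by
    rw [← hd (triv G) (triv_mem_principal hM.2.1) (by rw [triv_coe]; exact height_triv _),
      triv_coe, H21.charDegree_one]
  subst hd1
  rw [H8.hasNormalPComplement_iff_not_dvd]
  intro hpN
  have := Fintype.ofFinite N
  have := Fintype.ofFinite (IrrCharacter N)
  have hcop : ∀ {d : ℕ}, ¬ p ∣ d → d.Coprime N.index := fun hd => by
    rw [hk]; exact Nat.Coprime.pow_right _ ((Nat.Prime.coprime_iff_not_dvd hp).2 hd).symm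
  have hsum : p ∣ ∑ θ ∈ Finset.univ.filter (· ∈ principalBlock M N), charDegree θ.1 ^ 2 := by
    have h1 := factorization_sum_deg_sq hM (isPBlock_principal (G := N) (M := M))
    have h2 : 0 < (Nat.card N).factorization p := hp.factorization_pos_of_dvd Nat.card_pos.ne' hpN
    exact Nat.dvd_of_factorization_pos (by rw [h1]; omega)
  have hreg : ∀ g : G, ¬ p ∣ orderOf g → g ∈ N := fun g hg =>
    H8.mem_pResidual_of_coprime ((coprime_iff_not_dvd hp _).2 hg)
  have hlin : ∀ θ ∈ principalBlock M N, ¬ p ∣ charDegree θ.1 → H14.inertia N θ.1 = ⊤ →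
      charDegree θ.1 = 1 := by
    intro θ hθ h1 h2
    have ho := H24.not_dvd_detOrder_of_pResidual_eq_top hp H8.pResidual_pResidual
      (H11.isCharacter_of_irr θ.2)
    obtain ⟨χ, hχ, h3, -⟩ := H72.exists_irr_extension_of_coprime N θ.2
      ((H14.inertia_eq_top_iff N).1 h2) (H24.irr_deg θ.2) ((hcop ho).mul_left (hcop h1)).symm
    have hdeg : charDegree χ = charDegree θ.1 := H24.deg_congr (h3 1)
    have hmem : (⟨χ, hχ⟩ : IrrCharacter G) ∈ principalBlock M G := by
      rw [mem_principal_iff_regSum hM] at hθ ⊢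
      rw [← regSum_res N hreg]
      simpa only [h3] using hθ
    rw [← hdeg]
    exact hd ⟨χ, hχ⟩ hmem ((height_principal_eq_zero_iff hM _).2 (hdeg ▸ h1))
  rw [← Finset.sum_filter_add_sum_filter_not _
      (fun θ : IrrCharacter N => ¬ p ∣ charDegree θ.1 ∧ H14.inertia N θ.1 = ⊤)] at hsum
  have hrest : p ∣ ∑ θ ∈ (Finset.univ.filter (· ∈ principalBlock M N)).filter
      (fun θ : IrrCharacter N => ¬ (¬ p ∣ charDegree θ.1 ∧ H14.inertia N θ.1 = ⊤)),
      charDegree θ.1 ^ 2 := by
    rw [← Finset.sum_filter_add_sum_filter_not _ (fun θ : IrrCharacter N => p ∣ charDegree θ.1)]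
    apply Nat.dvd_add
    · exact Finset.dvd_sum fun θ hθ => (Finset.mem_filter.1 hθ).2.pow two_ne_zero
    · apply H24.dvd_sum_of_classes (H24.conjSetoid N)
      · rintro θ φ ⟨g, h⟩
        rw [← h, H24.deg_congr (H14.conjChar_apply_one N θ.1 g)]
      · rintro θ hθ φ ⟨g, h⟩
        simp only [Finset.mem_filter, Finset.mem_univ, true_and] at hθ ⊢
        refine ⟨⟨?_, ?_⟩, ?_⟩
        · have : φ = H22.cjIrr N g⁻¹ θ :=
            (H22.eq_cjIrr_inv_iff N g θ φ).1 fun n => (congrFun h n).symm
          rw [this]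
          exact H22.cjIrr_mem_of_mem_stab N (H22.mem_stab_principal _) hθ.1.1
        · rw [← h, H24.deg_congr (H14.conjChar_apply_one N θ.1 g),
            H24.inertia_conjChar_eq_top_iff]
          exact hθ.1.2
        · rw [← h, H24.deg_congr (H14.conjChar_apply_one N θ.1 g)]
          exact hθ.2
      · intro θ hθ
        simp only [Finset.mem_filter, Finset.mem_univ, true_and] at hθ
        rw [H24.card_conjSetoid]
        have h1 := Subgroup.index_dvd_of_le (H14.le_inertia N (H17.irr_isClassFunction θ))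
        rw [hk] at h1
        obtain ⟨j, -, hj⟩ := (Nat.dvd_prime_pow hp).1 h1
        rcases j with _ | j
        · exact absurd ⟨hθ.2, Subgroup.index_eq_one.1 (by simpa using hj)⟩ hθ.1.2
        · rw [hj]; exact dvd_pow_self p (Nat.succ_ne_zero j)
  have hF := (Nat.dvd_add_left hrest).1 hsum
  rw [Finset.sum_congr rfl (g := fun _ => 1) (fun θ hθ => by
    simp only [Finset.mem_filter, Finset.mem_univ, true_and] at hθ
    rw [hlin θ hθ.1 hθ.2.1 hθ.2.2, one_pow]), ← Finset.card_eq_sum_ones] at hF
  have := H11.finite_monoidHom_units (G := N)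
  let S : Subgroup (N →* ℂˣ) :=
    { carrier := {lam | (∀ g, val M (((Subgroup.centralizer ({g} : Set N)).index : ℂ) *
          (1 - lam g)) < 1) ∧ ∀ (g : G) (n : N),
          lam ⟨g * n * g⁻¹, (inferInstance : N.Normal).conj_mem n n.2 g⟩ = lam n}
      one_mem' := ⟨fun g => by simp, fun _ _ => rfl⟩
      mul_mem' := fun {a b} ha hb => ⟨fun g => by
          have : ((Subgroup.centralizer ({g} : Set N)).index : ℂ) * (1 - (a * b) g) =
              ((Subgroup.centralizer ({g} : Set N)).index : ℂ) * (1 - a g) * b g +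
              ((Subgroup.centralizer ({g} : Set N)).index : ℂ) * (1 - b g) := by
            rw [MonoidHom.mul_apply, Units.val_mul]; ring
          rw [this]
          exact val_add_lt_one (val_mul_lt_one_left (ha.1 g) (lin_mem_Vr b g)) (hb.1 g),
        fun g n => by rw [MonoidHom.mul_apply, MonoidHom.mul_apply, ha.2, hb.2]⟩
      inv_mem' := fun {a} ha => ⟨fun g => by
          have : ((Subgroup.centralizer ({g} : Set N)).index : ℂ) * (1 - a⁻¹ g) =
              -(((Subgroup.centralizer ({g} : Set N)).index : ℂ) * (1 - a g) * a⁻¹ g) := by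
            rw [MonoidHom.inv_apply, Units.val_inv_eq_inv_val]
            field_simp
            ring
          rw [this]
          exact val_neg_lt_one (val_mul_lt_one_left (ha.1 g) (lin_mem_Vr a⁻¹ g)),
        fun g n => by rw [MonoidHom.inv_apply, MonoidHom.inv_apply, ha.2]⟩ }
  have hS : Nat.card S = ((Finset.univ.filter (· ∈ principalBlock M N)).filter
      (fun θ : IrrCharacter N => ¬ p ∣ charDegree θ.1 ∧ H14.inertia N θ.1 = ⊤)).card := by
    rw [← Nat.card_eq_finsetCard]
    refine Nat.card_congr (Equiv.ofBijective (fun lam => ⟨⟨_, H11.isIrrCharacter_monoidHom lam.1⟩,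
      ?_⟩) ⟨?_, ?_⟩)
    · simp only [Finset.mem_filter, Finset.mem_univ, true_and]
      refine ⟨(lin_mem_iff hM.2.1 _).2 lam.2.1, ?_, (H14.inertia_eq_top_iff N).2 fun g n => ?_⟩
      · rw [H24.deg_monoidHom]; exact hp.not_dvd_one
      · exact congrArg Units.val (lam.2.2 g n)
    · intro a b hab
      apply Subtype.ext
      ext g
      exact congrFun (congrArg (fun t => t.1.1) hab) g
    · rintro ⟨θ, hθ⟩
      simp only [Finset.mem_filter, Finset.mem_univ, true_and] at hθ
      have h1 := hlin θ hθ.1 hθ.2.1 hθ.2.2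
      obtain ⟨lam, hlam⟩ := H11.exists_monoidHom_of_apply_one_eq_one (H11.isCharacter_of_irr θ.2)
        ((H24.deg_eq_one_iff (H11.isCharacter_of_irr θ.2)).1 h1)
      have he : θ = ⟨_, H11.isIrrCharacter_monoidHom lam⟩ := Subtype.ext hlam
      refine ⟨⟨lam, (lin_mem_iff hM.2.1 _).1 (he ▸ hθ.1), fun g n => ?_⟩, Subtype.ext he.symm⟩
      have := (H14.inertia_eq_top_iff N).1 hθ.2.2 g n
      rw [hlam] at this
      exact Units.val_injective this
  rw [← hS] at hF
  obtain ⟨x, hx⟩ := exists_prime_orderOf_dvd_card' (G := S) p hF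
  have ho := H24.not_dvd_detOrder_of_pResidual_eq_top hp (H8.pResidual_pResidual (G := G))
    (H11.isCharacter_of_irr (H11.isIrrCharacter_monoidHom x.1))
  apply ho
  rw [detOrder, H72.detChar_of_linear]
  let φ : (N →* ℂˣ) →* (N → ℂ) :=
    { toFun := fun l g => l g, map_one' := rfl, map_mul' := fun _ _ => rfl }
  have h3 : orderOf (φ x.1) = p := by
    rw [orderOf_injective φ (fun a b hab => MonoidHom.ext fun g =>
      Units.val_injective (congrFun hab g)) x.1, Subgroup.orderOf_coe, hx]
  change p ∣ orderOf (φ x.1)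
  rw [h3]

end Cfsg.Agent.S4888
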