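import Cfsg.Statements.S5054
import Cfsg.Agent.H36.NonDeg

set_option autoImplicit false
open Cfsg

namespace Cfsg.Agent.S5054

open Cfsg.Agent.H36

/-- Let G be a finite group generated by a non-degenerate conjugacy class D of root involutions. Then for every d ∈ D and every x ∈ D with dx of odd order greater than 1, G is generated by x together with the members of D different from d that commute with d and have product with d in D; and the graph on D joining two different commuting members whose product lies in D is connected. -/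
theorem result {G : Type*} [Group G] [Finite G] {D : Set G} (hD : Cfsg.IsNondegenerateRootInvolutionSet D)
    (hcl : Cfsg.IsRootInvolutionClass D) :
    (∀ d ∈ D, ∀ x ∈ Cfsg.oddPartners D d, Subgroup.closure (Cfsg.productPartners D d ∪ {x}) = ⊤) ∧
    Cfsg.IsConnectedSet (Cfsg.ProdAdj D) D := by
  have hR := RI.of hD.1
  have h1 := oneClass_of_class hcl
  refine ⟨fun d hd x hx => ?_, hR.prod_connected h1 hD.2.2.2⟩
  obtain ⟨hx, ho⟩ := mem_oddPartners.mp hx
  have hX : ∀ c ∈ D, d * c = c * d → d * c ∈ D →
      c ∈ Subgroup.closure (Cfsg.productPartners D d ∪ {x}) := fun c hc h hm =>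
    Subgroup.subset_closure (Or.inl ⟨⟨hc, h.symm, fun e => hR.ne_one hm (by rw [e, hR.sq hd])⟩, h ▸ hm⟩)
  have hdH : d ∈ Subgroup.closure (Cfsg.productPartners D d ∪ {x}) := by
    obtain ⟨a, ha, b, hb, h⟩ := hD.2.2.2
    obtain ⟨h41, h42⟩ := (hR.order_four_iff ha hb).mp h
    obtain ⟨c1, c2, -, -, -, c6, -⟩ := hR.comm_facts ha hb h41 h42
    obtain ⟨c, hc, h, hm⟩ := hR.exists_prod h1 ⟨_, ha, _, c1, c2.symm, c6⟩ hd
    have := hX _ hm (by rw [mul_assoc, ← h]) (by rw [sq' (hR.sq hd)]; exact hc)
    simpa using Subgroup.mul_mem _ this (Subgroup.inv_mem _ (hX c hc h hm))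
  rw [eq_top_iff, ← hD.1.generates, Subgroup.closure_le]
  intro e he
  obtain ⟨g, hg, rfl⟩ := hR.subset_of_partners h1 hD.2.2.2 hd hx ho.symm
    (H := Subgroup.closure (Cfsg.productPartners D d ∪ {x})) (by rw [hD.1.generates]; exact le_top)
    (Subgroup.subset_closure (Or.inr rfl)) hX e he
  exact Subgroup.mul_mem _ (Subgroup.mul_mem _ hg hdH) (Subgroup.inv_mem _ hg)

end Cfsg.Agent.S5054
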