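import Cfsg.Statements.S2180
import Cfsg.Agent.H40.Cent2
-- import your own Cfsg.Agent.* helpers here

set_option autoImplicit false
open Cfsg

namespace Cfsg.Agent.S2180

/-- Centralizers of involutions in the Chevalley group G of type G₂ over a finite field F of characteristic two with at least four elements (this problem's root numbering for type G₂, from the Chevalley data module: a = p₁ short with index 7, b = p₂ long with index 6, −a = 4, −b = 5, 2a + b = 9, 3a + b = 10, 3a + 2b = 11; U generated by the positive root subgroups). For an element z of G with matrix x_{3a+2b}(1): the centralizer of z in G is generated by U and X_{−a}. For an element t of G with matrix x_{2a+b}(1): the centralizer of t in G is generated by X_{2a+b}, X_{3a+b}, X_{3a+2b}, X_b and X_{−b}. -/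
theorem result {F : Type*} [Field F] [Fintype F] [CharP F 2] (hF : 4 ≤ Fintype.card F) (z t : GL Cfsg.Lie.chevG2.Idx F) (hz : (z : Matrix Cfsg.Lie.chevG2.Idx Cfsg.Lie.chevG2.Idx F) = Cfsg.Lie.chevG2.x F 11 1) (ht : (t : Matrix Cfsg.Lie.chevG2.Idx Cfsg.Lie.chevG2.Idx F) = Cfsg.Lie.chevG2.x F 9 1) :
    Cfsg.Lie.chevG2.group F ⊓ Subgroup.centralizer {z} = Cfsg.Lie.chevG2.posUnipotent F ⊔ Cfsg.Lie.chevG2.rootSubgroup F 4 ∧
    Cfsg.Lie.chevG2.group F ⊓ Subgroup.centralizer {t} = Cfsg.Lie.chevG2.rootSubgroup F 9 ⊔ Cfsg.Lie.chevG2.rootSubgroup F 10 ⊔ Cfsg.Lie.chevG2.rootSubgroup F 11 ⊔ Cfsg.Lie.chevG2.rootSubgroup F 6 ⊔ Cfsg.Lie.chevG2.rootSubgroup F 5 := by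
  have C : H34.Cert Cfsg.Lie.chevG2 := H34.cert (by simp)
  have hz' : (z : Matrix _ _ F) = Cfsg.Lie.chevG2.wordMat F ([11].map fun r => (r, 1)) := by
    simpa [Cfsg.Lie.ChevalleyDatum.wordMat] using hz
  have ht' : (t : Matrix _ _ F) = Cfsg.Lie.chevG2.wordMat F ([9].map fun r => (r, 1)) := by
    simpa [Cfsg.Lie.ChevalleyDatum.wordMat] using ht
  have h1 : H40.CentCert Cfsg.Lie.chevG2 2 [11] [] [0] 11 11 1 0 [(0, 0), (1, 0)] := by decide +kernel
  have h2 : H40.CentCert Cfsg.Lie.chevG2 2 [9] [10, 11] [1] 9 9 1 0 [(1, 0), (0, 0)] := by decide +kernel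
  constructor
  · refine h1.centralizer_eq C hz' (sup_le (H40.pos_le_cent (p := 2) C hz' (by decide +kernel))
      (H40.root_le_cent (p := 2) C hz' (by decide +kernel))) (fun j hj => ⟨(H40.root_le_pos ?_).trans
        le_sup_left, ?_⟩) (inf_le_left.trans le_sup_left)
    · revert j; decide +kernel
    · obtain rfl := List.mem_singleton.1 hj
      exact le_sup_right
  · refine h2.centralizer_eq C ht' (sup_le (sup_le (sup_le (sup_le
      (H40.root_le_cent (p := 2) C ht' (by decide +kernel)) (H40.root_le_cent (p := 2) C ht' (by decide +kernel)))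
      (H40.root_le_cent (p := 2) C ht' (by decide +kernel))) (H40.root_le_cent (p := 2) C ht' (by decide +kernel)))
      (H40.root_le_cent (p := 2) C ht' (by decide +kernel))) (fun j hj => ?_)
      ((H40.pos_inf_cent_le (p := 2) C (M := [(7, 10), (8, 11)]) (by decide +kernel) ht').trans ?_)
    · obtain rfl := List.mem_singleton.1 hj
      exact ⟨le_sup_of_le_left le_sup_right, le_sup_right⟩
    · rw [Subgroup.closure_le]
      rintro g ⟨r, c, h, hg⟩
      have h3 : ∀ r < Cfsg.Lie.chevG2.nroots, Cfsg.Lie.chevG2.IsPosRoot r ∧ r ∉ [(7, 10), (8, 11)].map Prod.fst →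
          r = 9 ∨ r = 10 ∨ r = 11 ∨ r = 6 := by decide +kernel
      have h4 : g ∈ Cfsg.Lie.chevG2.rootSubgroup F r := Subgroup.subset_closure ⟨c, hg⟩
      rcases h3 r h.1.1 h with rfl | rfl | rfl | rfl
      exacts [Subgroup.mem_sup_left (Subgroup.mem_sup_left (Subgroup.mem_sup_left (Subgroup.mem_sup_left h4))),
        Subgroup.mem_sup_left (Subgroup.mem_sup_left (Subgroup.mem_sup_left (Subgroup.mem_sup_right h4))),
        Subgroup.mem_sup_left (Subgroup.mem_sup_left (Subgroup.mem_sup_right h4)),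
        Subgroup.mem_sup_left (Subgroup.mem_sup_right h4)]

end Cfsg.Agent.S2180
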