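import Cfsg.Statements.S3968
import Cfsg.Agent.H12.Burnside

set_option autoImplicit false
open Cfsg

namespace Cfsg.Agent.S3968

/-- Let `p` be a prime and `G` a finite group with a faithful irreducible complex character of degree `p` (so `G` is an irreducible linear group in `p` variables). If `p ^ 2` divides the order of `G`, then the centre of `G` is nontrivial. -/
theorem result {G : Type*} [Group G] [Finite G] (p : ℕ) (hp : p.Prime) (χ : Cfsg.IrrCharacter G) (hdeg : χ.1 1 = p) (hfaith : ∀ g : G, χ.1 g = χ.1 1 → g = 1) (hdiv : p ^ 2 ∣ Nat.card G) : Subgroup.center G ≠ ⊥ := by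
  classical
  intro hZ
  have := Fact.mk hp
  have := Fintype.ofFinite G
  obtain ⟨P⟩ : Nonempty (Sylow p G) := inferInstance
  have hχ := H11.isCharacter_of_irr χ.2
  have hker : H11.charKer χ.1 = ⊥ := by
    rw [eq_bot_iff]
    intro g hg
    exact hfaith g (H11.apply_eq_of_mem_charKer hg)
  have hcen : ∀ g : G, ‖χ.1 g‖ = ‖χ.1 1‖ → g = 1 := by
    intro g hg
    rw [← H11.mem_charCenter_iff hχ, H11.charCenter_eq_center χ.2 hker, hZ] at hg
    exact hg
  have hP2 : p ^ 2 ∣ Nat.card (P : Subgroup G) := by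
    rw [P.card_eq_multiplicity]
    exact pow_dvd_pow p ((hp.pow_dvd_iff_le_factorization Nat.card_pos.ne').mp hdiv)
  have hP1 : p ∣ Nat.card (P : Subgroup G) := (dvd_pow_self p two_ne_zero).trans hP2
  have hnt : Nontrivial (P : Subgroup G) := by
    rw [← Finite.one_lt_card_iff_nontrivial]
    exact lt_of_lt_of_le hp.one_lt (Nat.le_of_dvd Nat.card_pos hP1)
  have hR : Cfsg.IsCharacter (P : Subgroup G) (fun x : (P : Subgroup G) => χ.1 x) :=
    H11.isCharacter_comp hχ (P : Subgroup G).subtype
  have hlin : ∀ ψ, Cfsg.IsIrrCharacter (P : Subgroup G) ψ →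
      Cfsg.classInner (fun x : (P : Subgroup G) => χ.1 x) ψ ≠ 0 → ψ 1 = 1 := by
    intro ψ hψ h
    obtain ⟨d, hd⟩ := H11.exists_nat_degree (H11.isCharacter_of_irr hψ)
    have h1 : d ≤ p := H11.degree_le_of_classInner_ne_zero hR hψ h hd hdeg
    have h2 : d ∣ Nat.card (P : Subgroup G) :=
      (H12.irr_degree_dvd_index_center hψ hd).trans (Subgroup.index_dvd_card _)
    obtain ⟨k, hk⟩ := P.2.exists_card_eq
    rw [hk] at h2
    obtain ⟨j, -, rfl⟩ := (Nat.dvd_prime_pow hp).mp h2
    rcases Nat.eq_zero_or_pos j with rfl | hj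
    · simpa using hd
    exfalso
    have h3 : p ^ j = p := le_antisymm h1 (Nat.le_self_pow hj.ne' p)
    have h4 := H11.eq_of_classInner_ne_zero_of_degree_eq hR hψ h (by rw [hd, h3]; exact hdeg)
    have hnc : Nontrivial (Subgroup.center (P : Subgroup G)) := P.2.center_nontrivial
    obtain ⟨⟨z, hz⟩, hz1⟩ := exists_ne (1 : Subgroup.center (P : Subgroup G))
    have h5 := H11.center_le_charCenter hψ hz
    rw [← h4, H11.mem_charCenter_iff hR] at h5
    exact hz1 (Subtype.ext (Subtype.ext (hcen z h5)))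
  have hcomm : ∀ a b : (P : Subgroup G), a * b = b * a := by
    apply H12.comm_of_commutator_eq_bot
    rw [eq_bot_iff]
    intro g hg
    have h1 : g ∈ H11.charKer (fun x : (P : Subgroup G) => χ.1 x) := by
      rw [H11.mem_charKer_iff_forall_constituent hR]
      intro ψ hψ h
      exact H11.commutator_le_charKer (H11.isCharacter_of_irr hψ) (hlin ψ hψ h) hg
    have h2 := H11.apply_eq_of_mem_charKer h1
    exact Subtype.ext (hfaith g h2)
  have hzero : ∀ x : (P : Subgroup G), x ≠ 1 → χ.1 x = 0 := by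
    intro x hx
    refine (H12.irr_eq_zero_or_norm_eq χ.2 hdeg (x : G) ?_).resolve_right fun h => ?_
    · rw [Nat.Prime.coprime_iff_not_dvd hp]
      intro h
      apply P.not_dvd_index
      refine h.trans (Subgroup.index_dvd_of_le ?_)
      intro y hy
      rw [Subgroup.mem_centralizer_singleton_iff]
      exact congrArg Subtype.val (hcomm ⟨y, hy⟩ x)
    · apply hx
      apply Subtype.ext
      apply hcen
      rw [h, hdeg, Complex.norm_natCast]
  obtain ⟨n, hn⟩ := H11.exists_nat_classInner hR (H11.isCharacter_one (G := (P : Subgroup G)))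
  rw [H11.classInner_one_right, Finset.sum_eq_single 1 (fun x _ hx => hzero x hx) (by simp)] at hn
  have h1 : (p : ℂ) = Nat.card (P : Subgroup G) * n := by
    rw [← hn, ← mul_assoc, mul_inv_cancel₀ (H11.card_ne_zero _), one_mul]
    exact hdeg.symm
  have h2 : p = Nat.card (P : Subgroup G) * n := by exact_mod_cast h1
  have h3 : p ^ 2 ∣ p := hP2.trans ⟨n, h2⟩
  have h4 := Nat.le_of_dvd hp.pos h3
  have := hp.two_le
  nlinarith

end Cfsg.Agent.S3968
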