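import Cfsg.Statements.S0806
import Cfsg.Agent.H29.Solvable

set_option autoImplicit false
open Cfsg

namespace Cfsg.Agent.S0806

/-- Minimal index (Galois): if q ∉ {2, 3, 5, 7, 9, 11} then every proper subgroup of PSL_2(q) has index ≥ q + 1, and some subgroup has index exactly q + 1. -/
theorem result {F : Type*} [Field F] [Fintype F] {q : ℕ} (hF : Fintype.card F = q) (hq : q ∉ ({2, 3, 5, 7, 9, 11} : Finset ℕ)) : (∀ H : Subgroup (Matrix.ProjectiveSpecialLinearGroup (Fin 2) F), H ≠ ⊤ → q + 1 ≤ H.index) ∧ ∃ H : Subgroup (Matrix.ProjectiveSpecialLinearGroup (Fin 2) F), H.index = q + 1 := by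
  have := H29.finite_PSL2 (F := F)
  rw [← Nat.card_eq_fintype_card] at hF
  subst hF
  simp only [Finset.mem_insert, Finset.mem_singleton, not_or] at hq
  have h1 : 1 < Nat.card F := Finite.one_lt_card
  refine ⟨fun H hH => ?_, _, H29.index_comap_stabilizer H29.range_pslp.ge H29.inf⟩
  obtain ⟨M, hM, hHM⟩ := (eq_top_or_exists_le_coatom H).resolve_left hH
  refine le_trans ?_ (Subgroup.index_antitone hHM)
  have h2 := H29.card_le_of_covBy (by omega) (by omega) (by omega) (by omega) (by omega)
    ((H29.isCoatom_psl_iff M).1 hM)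
  rw [← Nat.card_congr (H29.pslpEquiv M).toEquiv, ← H29.card_PSL2_eq, ← M.index_mul_card] at h2
  exact Nat.le_of_mul_le_mul_right h2 Nat.card_pos

end Cfsg.Agent.S0806
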