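import Cfsg.Statements.S4006
import Cfsg.Agent.H92.OrdCount
import Cfsg.Agent.H87.Quat
import Cfsg.Agent.S3331
import Cfsg.Agent.S3779
import Cfsg.Agent.H10.ElemCent
import Cfsg.Agent.H29.Pres235
import Cfsg.Agent.H57.SC3Main
import Cfsg.Agent.H1.TwoPrimes
import Cfsg.Agent.H2.SchurZassenhaus
import Cfsg.Agent.H5.Semiregular
import Cfsg.Agent.H5.FPF
import Cfsg.Agent.H3.Cores

set_option autoImplicit false
open Cfsg

namespace Cfsg.Agent.S4006

open Subgroup Cfsg.Agent.H92 Cfsg.Agent.H63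
open scoped commutatorElement

theorem sq_eq_one {K : Type*} [Group K] [Finite K] (s τ : MulAut K)
    (hc : ∀ a b : K, ⁅a, b⁆ ∈ center K) (hfpf : ∀ n, s n = n → n = 1)
    (h1 : ∀ n, n * s n * s (s n) = 1) (h2 : ∀ n, Commute n (s n)) (hτ : ∀ n, τ (τ n) = n)
    (hrel : ∀ n, s (τ n) = τ (s (s n))) (h4 : ∀ n, (n * τ n) ^ 2 = 1) (n : K) : n ^ 2 = 1 := by
  have hcc : ∀ a b c : K, c * ⁅a, b⁆ = ⁅a, b⁆ * c := fun a b c => mem_center_iff.1 (hc a b) c
  have cl : ∀ a b c : K, ⁅a * b, c⁆ = ⁅a, c⁆ * ⁅b, c⁆ := fun a b c => by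
    calc ⁅a * b, c⁆ = a * ⁅b, c⁆ * a⁻¹ * ⁅a, c⁆ := by simp only [commutatorElement_def]; group
      _ = ⁅a, c⁆ * ⁅b, c⁆ := by rw [hcc b c a, mul_inv_cancel_right, hcc]
  have cr : ∀ a b c : K, ⁅a, b * c⁆ = ⁅a, b⁆ * ⁅a, c⁆ := fun a b c => by
    calc ⁅a, b * c⁆ = ⁅a, b⁆ * (b * ⁅a, c⁆ * b⁻¹) := by simp only [commutatorElement_def]; group
      _ = ⁅a, b⁆ * ⁅a, c⁆ := by rw [hcc a c b, mul_inv_cancel_right]
  have sqm : ∀ u v : K, u ^ 2 = 1 → v ^ 2 = 1 → (u * v) ^ 2 = ⁅u, v⁆ := fun u v hu hv => by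
    have e1 : u⁻¹ = u := inv_eq_of_mul_eq_one_right (by rw [← pow_two, hu])
    have e2 : v⁻¹ = v := inv_eq_of_mul_eq_one_right (by rw [← pow_two, hv])
    rw [commutatorElement_def, e1, e2, pow_two]; group
  have dec : ∀ n : K, ∃ a b : K, n = s (a * τ a) * (b * τ b) := fun n => by
    obtain ⟨b, -, hb⟩ := H5.fpf_surj_right_on (s : K →* K) ⊤ (fun g _ h => hfpf g h)
      (fun _ _ => trivial) (mem_top n)
    refine ⟨s.symm b, τ (s b)⁻¹, ?_⟩
    rw [map_mul, hrel, hτ, MulEquiv.apply_symm_apply, map_inv, ← hb]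
    simp only [MonoidHom.coe_coe]
    group
  have hs2 : ∀ u : K, u ^ 2 = 1 → (s u) ^ 2 = 1 := fun u hu => by rw [← map_pow, hu, map_one]
  have csq : ∀ u b : K, u ^ 2 = 1 → ⁅u, b⁆ ^ 2 = 1 := fun u b hu => by
    rw [pow_two, ← cl, ← pow_two, hu, commutatorElement_one_left]
  have cexp : ∀ a b : K, ⁅a, b⁆ ^ 2 = 1 := fun a b => by
    obtain ⟨x, y, rfl⟩ := dec a
    rw [cl, (show Commute _ _ from hcc _ _ _).mul_pow, csq _ _ (hs2 _ (h4 x)), csq _ _ (h4 y), one_mul]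
  have cII : ∀ a b : K, ⁅a * τ a, b * τ b⁆ = 1 := fun a b => by
    have e : a * b * τ (a * b) = ⁅b, τ a⁆ * (a * τ a * (b * τ b)) := by
      calc a * b * τ (a * b) = a * ⁅b, τ a⁆ * (τ a * (b * τ b)) := by
            rw [map_mul, commutatorElement_def]; group
        _ = _ := by rw [hcc]; group
    have := h4 (a * b)
    rwa [e, (show Commute _ _ from (hcc _ _ _).symm).mul_pow, cexp, one_mul, sqm _ _ (h4 a) (h4 b)] at this
  have symm : ∀ a b : K, ⁅a, s b⁆ = ⁅s a, b⁆ := fun a b => by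
    have := (h2 (a * b)).commutator_eq
    rw [map_mul, cl, cr, cr, (h2 a).commutator_eq, (h2 b).commutator_eq, one_mul, mul_one] at this
    rw [eq_inv_of_mul_eq_one_left this, commutatorElement_inv]
  obtain ⟨a, b, rfl⟩ := dec n
  set u := a * τ a
  set x := b * τ b
  have hu : u ^ 2 = 1 := h4 a
  have hx : x ^ 2 = 1 := h4 b
  have e1 : s (s u) = u * s u := by
    have h5 : (u * s u) ^ 2 = 1 := by rw [(h2 u).mul_pow, hu, hs2 u hu, one_mul]
    rw [eq_inv_of_mul_eq_one_right (h1 u)]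
    exact inv_eq_of_mul_eq_one_right (by rw [← pow_two, h5])
  have e2 : ⁅x, s u⁆ = 1 := hfpf _ (by
    rw [map_commutatorElement, e1, cr, ← map_commutatorElement s x u, cII b a, map_one, mul_one, symm])
  rw [sqm _ _ (hs2 u hu) hx, ← commutatorElement_inv, e2, inv_one]

theorem q8_or_c4 {X : Type*} [Group X] [Finite X] (hX : IsPGroup 2 X)
    (hu : ∀ x y : X, orderOf x = 2 → orderOf y = 2 → x = y) (h4 : 4 ∣ Nat.card X)
    (h8 : ∀ g : X, g ^ 4 = 1) : (IsCyclic X ∧ Nat.card X = 4) ∨ Nonempty (X ≃* QuaternionGroup 2) := by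
  have hle : ∀ g : X, orderOf g ≤ 4 := fun g => Nat.le_of_dvd (by norm_num) (orderOf_dvd_of_pow_eq_one (h8 g))
  rcases H87.isCyclic_or_quaternion_of_inv_unique (Q := ⊤) (hX.to_subgroup ⊤)
    (fun x _ y _ hx hy => hu x y hx hy) with hc | ⟨j, hj, ⟨e⟩⟩
  · left
    haveI : IsCyclic X := isCyclic_of_surjective (topEquiv : (⊤ : Subgroup X) ≃* X) topEquiv.surjective
    refine ⟨inferInstance, ?_⟩
    obtain ⟨g, hg⟩ := IsCyclic.exists_generator (α := X)
    have := hle g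
    rw [orderOf_eq_card_of_forall_mem_zpowers hg] at this
    exact le_antisymm this (Nat.le_of_dvd Nat.card_pos h4)
  · right
    let e' : X ≃* QuaternionGroup (2 ^ j) := topEquiv.symm.trans e
    have h8 := hle (e'.symm (QuaternionGroup.a 1))
    rw [MulEquiv.orderOf_eq, QuaternionGroup.orderOf_a_one] at h8
    rcases j with _ | _ | j
    · omega
    · exact ⟨e'⟩
    · have : 2 ^ 2 ≤ 2 ^ (j + 1 + 1) := Nat.pow_le_pow_right two_pos (by omega)
      omega

theorem eq_one_of_34 {X : Type*} [Group X] {x : X} (h3 : x ^ 3 = 1) (h4 : x ^ 4 = 1) : x = 1 := by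
  rw [pow_succ, h3, one_mul] at h4; exact h4

theorem mem_of_34 {X : Type*} [Group X] {N : Subgroup X} {x : X} (h3 : x ^ 3 ∈ N) (h4 : x ^ 4 ∈ N) :
    x ∈ N := by
  rw [pow_succ] at h4; exact (N.mul_mem_cancel_left h3).1 h4

theorem case3 {G : Type*} [Group G] [Finite G] (h34 : ∀ g : G, g ^ 3 = 1 ∨ g ^ 4 = 1)
    {w : G} (hw : orderOf w = 4) (hO : pCore 3 G ≠ ⊥) :
    Cfsg.IsElementaryAbelian 3 (pCore 3 G) ∧ ((IsCyclic (G ⧸ pCore 3 G) ∧ (pCore 3 G).index = 4) ∨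
      Nonempty (G ⧸ pCore 3 G ≃* QuaternionGroup 2)) := by
  haveI : Fact (Nat.Prime 3) := ⟨Nat.prime_three⟩
  set N := pCore 3 G with hN
  have hN3 : IsPGroup 3 N := H3.pCore_isPGroup 3 G
  have hcube : ∀ n ∈ N, n ^ 3 = 1 := fun n hn => by
    rcases h34 n with h | h
    · exact h
    · obtain ⟨k, hk⟩ := orderOf_eq_pow_of_mem hN3 hn
      have h1 : orderOf n = 1 := Nat.Coprime.eq_one_of_dvd
        (hk ▸ Nat.Coprime.pow_left k (by norm_num)) (orderOf_dvd_of_pow_eq_one h)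
      rw [orderOf_eq_one_iff.1 h1, one_pow]
  have hnc : ∀ n y : G, n ^ 3 = 1 → y ^ 4 = 1 → Commute y n → n = 1 ∨ y = 1 := fun n y hn hy hc => by
    rcases h34 (y * n) with h | h
    · right
      rw [hc.mul_pow, hn, mul_one] at h
      exact eq_one_of_34 h hy
    · left
      rw [hc.mul_pow, hy, one_mul] at h
      exact eq_one_of_34 hn h
  have hinv : ∀ t : G, orderOf t = 2 → ∀ n ∈ N, t * n * t⁻¹ = n⁻¹ := fun t ht => by
    have ht2 : t ^ 2 = 1 := by rw [← ht, pow_orderOf_eq_one]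
    refine H10.inverts_of_fixedPointFree (by rw [← pow_two, ht2])
      (fun d hd => Normal.conj_mem inferInstance d hd t) fun d hd hc => ?_
    refine (hnc d t (hcube d hd) (by rw [show 4 = 2 * 2 by rfl, pow_mul, ht2, one_pow]) hc.symm).resolve_right ?_
    rintro rfl; simp at ht
  have hC : C[N] ≤ N := by
    refine H3.le_pCore fun ⟨g, hg⟩ => ⟨1, Subtype.ext ?_⟩
    obtain ⟨n, hn, hn1⟩ := H67.exists_ne_one_of_ne_bot hO
    rcases h34 g with h | h
    · simpa using h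
    · have := (hnc n g (hcube n hn) h (mem_centralizer_iff.1 hg n hn).symm).resolve_left hn1
      simp [this]
  have hsame : ∀ s t : G, orderOf s = 2 → orderOf t = 2 → s⁻¹ * t ∈ N := fun s t hs ht => by
    refine hC (mem_centralizer_iff.2 fun n hn => ?_)
    have h1 := hinv s hs n hn
    have h2 := hinv t ht n hn
    calc n * (s⁻¹ * t) = s⁻¹ * (s * n * s⁻¹) * t := by group
      _ = s⁻¹ * (t * n * t⁻¹) * t := by rw [h1, h2]
      _ = s⁻¹ * t * n := by group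
  have ht : orderOf (w ^ 2) = 2 := by rw [orderOf_pow_of_dvd two_ne_zero (by rw [hw]; norm_num), hw]
  have hw4 : w ^ 4 = 1 := by rw [← hw, pow_orderOf_eq_one]
  set t := w ^ 2 with htw
  have ht2 : t ^ 2 = 1 := by rw [← ht, pow_orderOf_eq_one]
  have htN : t ∉ N := fun h => by
    have := eq_one_of_34 (hcube t h) (by rw [show 4 = 2 * 2 by rfl, pow_mul, ht2, one_pow])
    rw [this] at ht; simp at ht
  have hcomm : ∀ x : G, Commute (x : G ⧸ N) (t : G ⧸ N) := fun x => by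
    have := QuotientGroup.eq.2 (hsame t (x * t * x⁻¹) ht (by rw [orderOf_conj, ht]))
    rw [QuotientGroup.mk_mul, QuotientGroup.mk_mul, QuotientGroup.mk_inv] at this
    exact mul_inv_eq_iff_eq_mul.1 this.symm
  have hq4 : ∀ x : G ⧸ N, x ^ 4 = 1 := fun x => by
    obtain ⟨x, rfl⟩ := QuotientGroup.mk_surjective x
    have ht2' : (t : G ⧸ N) ^ 2 = 1 := by rw [← QuotientGroup.mk_pow, ht2, QuotientGroup.mk_one]
    have ht4' : (t : G ⧸ N) ^ 4 = 1 := by rw [show 4 = 2 * 2 by rfl, pow_mul, ht2', one_pow]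
    rcases h34 x with h | h
    · have hx : (x : G ⧸ N) ^ 3 = 1 := by rw [← QuotientGroup.mk_pow, h, QuotientGroup.mk_one]
      rcases h34 (x * t) with h' | h'
      · have : ((x : G ⧸ N) * t) ^ 3 = 1 := by
          rw [← QuotientGroup.mk_mul, ← QuotientGroup.mk_pow, h', QuotientGroup.mk_one]
        rw [(hcomm x).mul_pow, hx, one_mul] at this
        exact absurd ((QuotientGroup.eq_one_iff t).1 (eq_one_of_34 this ht4')) htN
      · have : ((x : G ⧸ N) * t) ^ 4 = 1 := by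
          rw [← QuotientGroup.mk_mul, ← QuotientGroup.mk_pow, h', QuotientGroup.mk_one]
        rwa [(hcomm x).mul_pow, ht4', mul_one] at this
    · rw [← QuotientGroup.mk_pow, h, QuotientGroup.mk_one]
  refine ⟨⟨⟨⟨fun a b => Subtype.ext ?_⟩⟩, hcube⟩, q8_or_c4 (fun x => ⟨2, hq4 x⟩) ?_ ?_ hq4⟩
  · have h1 := hinv t ht _ (mul_mem a.2 b.2)
    have h2 := hinv t ht _ a.2
    have h3 := hinv t ht _ b.2
    have : (t * a * t⁻¹) * (t * b * t⁻¹) = t * (a * b) * t⁻¹ := by group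
    rw [h1, h2, h3, mul_inv_rev] at this
    simpa using congrArg (·⁻¹) this.symm
  · have key : ∀ x : G ⧸ N, orderOf x = 2 → x = t := fun x hx => by
      obtain ⟨x, rfl⟩ := QuotientGroup.mk_surjective x
      have h1 : (x : G ⧸ N) ^ 2 = 1 := by rw [← hx, pow_orderOf_eq_one]
      have hx1 : (x : G ⧸ N) ≠ 1 := fun h => by rw [h] at hx; simp at hx
      have h2 : x ^ 2 ∈ N := (QuotientGroup.eq_one_iff _).1 h1
      have h3 : x ^ 4 = 1 := (h34 x).resolve_left fun h => hx1 ((QuotientGroup.eq_one_iff x).2 (by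
        have : x ^ 3 ∈ N := h ▸ one_mem N
        rw [pow_succ] at this
        exact (N.mul_mem_cancel_left h2).1 this))
      have h5 : x ^ 2 = 1 := eq_one_of_34 (hcube _ h2) (by rw [← pow_mul, show 2 * 4 = 4 * 2 by rfl, pow_mul, h3, one_pow])
      have h6 : orderOf x = 2 := orderOf_eq_prime h5 (fun h => hx1 (by rw [h]; rfl))
      exact QuotientGroup.eq.2 (hsame x t h6 ht)
    exact fun x y hx hy => (key x hx).trans (key y hy).symm
  · have : orderOf (w : G ⧸ N) = 2 ^ (1 + 1) := by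
      refine orderOf_eq_prime_pow (fun h => htN ?_) (hq4 _)
      rw [pow_one, ← QuotientGroup.mk_pow] at h
      exact (QuotientGroup.eq_one_iff _).1 h
    exact (show 4 = orderOf (w : G ⧸ N) from this.symm) ▸ orderOf_dvd_natCard _

theorem case2 {G : Type*} [Group G] [Finite G] (h34 : ∀ g : G, g ^ 3 = 1 ∨ g ^ 4 = 1)
    {w : G} (hw : orderOf w = 4) {σ : G} (hσ : orderOf σ = 3) {V : Subgroup G} [V.Normal]
    (hV : V ≠ ⊥) (hV2 : IsPGroup 2 V) :
    ∃ (N : Subgroup G) (_ : N.Normal),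
      (IsPGroup 2 ↥N ∧ Monoid.exponent ↥N = 4 ∧ Group.nilpotencyClass ↥N ≤ 2 ∧ N.index = 3) ∨
      (Cfsg.IsElementaryAbelian 2 N ∧ Nonempty (G ⧸ N ≃* Equiv.Perm (Fin 3))) := by
  haveI : Fact (Nat.Prime 3) := ⟨Nat.prime_three⟩
  have hnc : ∀ n y : G, n ^ 3 = 1 → y ^ 4 = 1 → Commute y n → n = 1 ∨ y = 1 := fun n y hn hy hc => by
    rcases h34 (y * n) with h | h
    · right
      rw [hc.mul_pow, hn, mul_one] at h
      exact eq_one_of_34 h hy
    · left
      rw [hc.mul_pow, hy, one_mul] at h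
      exact eq_one_of_34 hn h
  have hσ3 : σ ^ 3 = 1 := by rw [← hσ, pow_orderOf_eq_one]
  have hσ1 : σ ≠ 1 := by rintro rfl; simp at hσ
  have hw4 : w ^ 4 = 1 := by rw [← hw, pow_orderOf_eq_one]
  have h4of : ∀ K : Subgroup G, (Nat.card K).Coprime 3 → ∀ v ∈ K, v ^ 4 = 1 := fun K hK v hv => by
    rcases h34 v with h | h
    · have : orderOf v = 1 := Nat.Coprime.eq_one_of_dvd
        (hK.coprime_dvd_left (H67.orderOf_dvd_card_of_mem hv)) (orderOf_dvd_of_pow_eq_one h)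
      rw [orderOf_eq_one_iff.1 this, one_pow]
    · exact h
  have hV3 : (Nat.card V).Coprime 3 := by
    obtain ⟨k, hk⟩ := IsPGroup.iff_card.1 hV2
    rw [hk]; exact Nat.Coprime.pow_left k (by norm_num)
  have hCσ : ∀ g : G, Commute g σ → g ∈ zpowers σ := fun g hg => by
    rcases h34 g with h | h
    · by_cases hg1 : g = 1
      · rw [hg1]; exact one_mem _
      have hVN : (C1[σ] : Subgroup G) ≤ N[V] := by rw [normalizer_eq_top]; exact le_top
      letI := H5.conjAction (C1[σ] : Subgroup G) V hVN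
      haveI : Nontrivial V := (nontrivial_iff_ne_bot V).2 hV
      have hs := H5.semireg_conjAction hVN (fun y hy hy1 => by
        rw [eq_bot_iff]
        intro v hv
        have hy3 : y ^ 3 = 1 := (h34 y).resolve_right fun hy4 =>
          hy1 ((hnc σ y hσ3 hy4 (mem_C.1 hy)).resolve_left hσ1)
        exact (hnc y v hy3 (h4of V hV3 v hv.1) (mem_C.1 hv.2)).resolve_left hy1)
      have := hs.mem_zpowers_of_commute Nat.prime_three (x := ⟨g, mem_C.2 hg⟩) (y := ⟨σ, self_mem_C σ⟩)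
        (by rw [← Subgroup.orderOf_coe]; exact orderOf_eq_prime h hg1)
        (by rw [← Subgroup.orderOf_coe]; exact hσ) (Subtype.ext hg)
      obtain ⟨k, hk⟩ := this
      exact ⟨k, congrArg Subtype.val hk⟩
    · rw [(hnc σ g hσ3 h hg).resolve_left hσ1]; exact one_mem _
  have hprime : ∀ r : ℕ, r.Prime → r ∣ Nat.card G → r ≤ 4 := fun r hr hd => by
    haveI := Fact.mk hr
    obtain ⟨g, hg⟩ := exists_prime_orderOf_dvd_card' r hd
    rcases h34 g with h | h
    · exact (Nat.le_of_dvd (by norm_num) (hg ▸ orderOf_dvd_of_pow_eq_one h)).trans (by norm_num)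
    · exact Nat.le_of_dvd (by norm_num) (hg ▸ orderOf_dvd_of_pow_eq_one h)
  rcases S3331.result (zpowers σ) (by rw [Nat.card_zpowers, hσ]) (le_antisymm
      (fun g hg => hCσ g (mem_centralizer_iff.1 hg σ (mem_zpowers σ)).symm)
      (le_centralizer _)) with ⟨N, hN, hnil, hcop, hq⟩ | ⟨N, hN, -, -, ⟨e⟩⟩ | ⟨⟨e⟩⟩
  rotate_left
  · have := hprime 5 (by norm_num) (Dvd.dvd.trans (by rw [Nat.card_congr e.toEquiv, H29.card_A5]; norm_num)
      (card_quotient_dvd_card N))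
    omega
  · have := hprime 7 (by norm_num) (by rw [Nat.card_congr e.toEquiv, H57.card_L27]; norm_num)
    omega
  have hN4 := h4of N hcop
  have hfix : ∀ n ∈ N, Commute σ n → n = 1 := fun n hn hc =>
    (hnc σ n hσ3 (hN4 n hn) hc.symm).resolve_left hσ1
  have hσN : σ ∉ N := fun h => hσ1 (hfix σ h (Commute.refl σ))
  let s : MulAut N := MulAut.conjNormal σ
  have hs : ∀ n : N, (s n : G) = σ * n * σ⁻¹ := fun n => rfl
  have hfpf : ∀ n : N, s n = n → n = 1 := fun n hn => Subtype.ext (hfix n n.2 (by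
    have := congrArg Subtype.val hn
    rw [hs] at this
    exact mul_inv_eq_iff_eq_mul.1 this))
  have hcl : (⊤ : Subgroup N).lowerCentralSeries 2 = ⊥ := by
    by_cases hs1 : s = 1
    · haveI : Subsingleton N := ⟨fun a b => by rw [hfpf a (by rw [hs1]; rfl), hfpf b (by rw [hs1]; rfl)]⟩
      exact Subsingleton.elim _ _
    · refine (S3779.result Nat.prime_three s (orderOf_eq_prime ?_ hs1) hfpf).2.1 rfl
      rw [← map_pow, hσ3, map_one]
  refine ⟨N, hN, ?_⟩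
  rcases hq with hq | ⟨⟨e⟩⟩
  · left
    refine ⟨fun n => ⟨2, Subtype.ext (hN4 n n.2)⟩, ?_,
      Subgroup.lowerCentralSeries_eq_bot_iff_nilpotencyClass_le.1 hcl, hq⟩
    have hwN : w ∈ N := mem_of_34 (hq ▸ N.pow_index_mem w) (hw4 ▸ one_mem N)
    refine Nat.dvd_antisymm (Monoid.exponent_dvd_of_forall_pow_eq_one fun n => Subtype.ext (hN4 n n.2)) ?_
    rw [← hw, ← Subgroup.orderOf_mk (ha := hwN)]
    exact Monoid.order_dvd_exponent _
  right
  refine ⟨?_, ⟨e⟩⟩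
  obtain ⟨t, ht⟩ : ∃ t : G, t * σ * t⁻¹ = σ⁻¹ := by
    obtain ⟨y, hy⟩ := (by decide : ∀ x : Equiv.Perm (Fin 3), ∃ y : Equiv.Perm (Fin 3), y * x * y⁻¹ = x⁻¹)
      (e (σ : G ⧸ N))
    obtain ⟨t, ht⟩ := QuotientGroup.mk_surjective (e.symm y)
    have h1 : ((t * σ * t⁻¹ * σ : G) : G ⧸ N) = 1 := e.injective (by
      simp only [QuotientGroup.mk_mul, QuotientGroup.mk_inv, map_mul, map_inv, ht,
        MulEquiv.apply_symm_apply, hy, inv_mul_cancel, map_one])
    obtain ⟨m, -, hm⟩ := exists_conj_eq_of_fpf N (h := σ⁻¹) (fun n hn hc => hfix n hn (by simpa using hc))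
      ((QuotientGroup.eq_one_iff _).1 h1)
    refine ⟨m⁻¹ * t, ?_⟩
    calc m⁻¹ * t * σ * (m⁻¹ * t)⁻¹ = m⁻¹ * (t * σ * t⁻¹ * σ * σ⁻¹) * m := by group
      _ = σ⁻¹ := by rw [← hm]; group
  have hσ2 : σ⁻¹ = σ * σ := inv_eq_of_mul_eq_one_right (by rw [← hσ3, pow_succ, pow_two, mul_assoc])
  have hmod : ∀ x : G, ∀ n ∈ N, (n * x) ^ 4 = 1 → x ^ 4 ∈ N := fun x n hn h => by
    rw [← QuotientGroup.eq_one_iff, QuotientGroup.mk_pow, ← one_mul (x : G ⧸ N),
      ← (QuotientGroup.eq_one_iff n).2 hn, ← QuotientGroup.mk_mul, ← QuotientGroup.mk_pow, h,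
      (QuotientGroup.eq_one_iff n).2 hn, QuotientGroup.mk_one]
  have hc1 : ∀ n ∈ N, (n * σ) ^ 3 = 1 := fun n hn => (h34 _).resolve_right fun h =>
    hσN (mem_of_34 (hσ3 ▸ one_mem N) (hmod σ n hn h))
  have hc2 : ∀ n ∈ N, (n * σ⁻¹) ^ 3 = 1 := fun n hn => (h34 _).resolve_right fun h =>
    hσN (inv_mem_iff.1 (mem_of_34 (by rw [inv_pow, hσ3, inv_one]; exact one_mem N) (hmod σ⁻¹ n hn h)))
  have hc3 : ∀ n ∈ N, (n * t) ^ 4 = 1 := fun n hn => (h34 _).resolve_left fun h => by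
    have h1 : (t : G ⧸ N) ^ 3 = 1 := by
      rw [← one_mul (t : G ⧸ N), ← (QuotientGroup.eq_one_iff n).2 hn, ← QuotientGroup.mk_mul,
        ← QuotientGroup.mk_pow, h, (QuotientGroup.eq_one_iff n).2 hn, QuotientGroup.mk_one]
    have h2 : (t : G ⧸ N) * σ * (t : G ⧸ N)⁻¹ = (σ : G ⧸ N)⁻¹ := by
      rw [← QuotientGroup.mk_inv, ← QuotientGroup.mk_mul, ← QuotientGroup.mk_mul, ht, QuotientGroup.mk_inv]
    have h3 : (t : G ⧸ N) * (σ : G ⧸ N)⁻¹ * (t : G ⧸ N)⁻¹ = σ := by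
      rw [← inv_inj]; refine Eq.trans ?_ h2; group
    have h4 : (t : G ⧸ N) ^ 3 * σ * ((t : G ⧸ N) ^ 3)⁻¹ = (σ : G ⧸ N)⁻¹ := by
      calc (t : G ⧸ N) ^ 3 * σ * ((t : G ⧸ N) ^ 3)⁻¹ =
          t * (t * (t * σ * (t : G ⧸ N)⁻¹) * (t : G ⧸ N)⁻¹) * (t : G ⧸ N)⁻¹ := by
            rw [pow_succ, pow_two]; group
        _ = _ := by rw [h2, h3, h2]
    rw [h1, one_mul, inv_one, mul_one] at h4
    have h5 : σ⁻¹ ∈ N := by
      rw [hσ2, ← QuotientGroup.eq_one_iff, QuotientGroup.mk_mul]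
      nth_rw 1 [h4]; exact inv_mul_cancel _
    exact hσN (inv_mem_iff.1 h5)
  have ht2 : t * t = 1 := by
    have h1 : (t * t) ^ 4 = 1 := by
      have := hc3 1 (one_mem N)
      rw [one_mul] at this
      rw [← pow_two, ← pow_mul, show 2 * 4 = 4 * 2 by rfl, pow_mul, this, one_pow]
    refine (hnc σ _ hσ3 h1 ?_).resolve_left hσ1
    have h3 : t * σ⁻¹ * t⁻¹ = σ := by rw [← inv_inj]; refine Eq.trans ?_ ht; group
    calc t * t * σ = t * (t * σ * t⁻¹) * t⁻¹ * (t * t) := by group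
      _ = σ * (t * t) := by rw [ht, h3]
  have hti : t⁻¹ = t := inv_eq_of_mul_eq_one_right ht2
  let τ : MulAut N := MulAut.conjNormal t
  have hτ : ∀ n : N, (τ n : G) = t * n * t⁻¹ := fun n => rfl
  have h1 : ∀ n : N, n * s n * s (s n) = 1 := fun n => Subtype.ext (by
    have := hc1 n n.2
    simp only [coe_mul, hs, coe_one]
    calc (n : G) * (σ * n * σ⁻¹) * (σ * (σ * n * σ⁻¹) * σ⁻¹) = (n * σ) ^ 3 * (σ ^ 3)⁻¹ := by
          rw [pow_succ, pow_two, pow_succ, pow_two]; group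
      _ = 1 := by rw [this, hσ3]; group)
  have hsq : ∀ n : N, n ^ 2 = 1 := by
    refine sq_eq_one s τ (fun a b => mem_center_iff.2 fun c => ?_) hfpf h1 (fun n => ?_)
      (fun n => Subtype.ext ?_) (fun n => Subtype.ext ?_) (fun n => Subtype.ext ?_)
    · have : ⁅⁅a, b⁆, c⁆ ∈ (⊤ : Subgroup N).lowerCentralSeries 2 :=
        commutator_mem_commutator (commutator_mem_commutator (mem_top a) (mem_top b)) (mem_top c)
      rw [hcl, mem_bot, commutatorElement_eq_one_iff_mul_comm] at this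
      exact this.symm
    · have e1 := congrArg Subtype.val (h1 n)
      simp only [coe_mul, hs, coe_one] at e1
      have e2 := hc2 _ (s n).2
      rw [hs] at e2
      refine Subtype.ext ?_
      simp only [coe_mul, hs]
      have e3 : (σ * n * σ⁻¹) * n * (σ * (σ * n * σ⁻¹) * σ⁻¹) = 1 := by
        calc (σ * n * σ⁻¹) * n * (σ * (σ * n * σ⁻¹) * σ⁻¹) =
            (σ * n * σ⁻¹ * σ⁻¹) * (σ * n * σ⁻¹ * σ⁻¹) * (σ ^ 3 * (σ * n * σ⁻¹ * σ⁻¹)) := by
              rw [pow_succ, pow_two]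
              simp only [mul_assoc, inv_mul_cancel_left, mul_inv_cancel_left]
          _ = (σ * n * σ⁻¹ * σ⁻¹) ^ 3 := by rw [hσ3, one_mul, pow_succ, pow_two]
          _ = 1 := e2
      exact mul_right_cancel (e1.trans e3.symm)
    · rw [hτ, hτ, hti]
      calc t * (t * n * t) * t = (t * t) * n * (t * t) := by group
        _ = n := by rw [ht2]; group
    · rw [hs, hτ, hτ, hs, hs]
      have h3 : σ * t = t * (σ * σ) := by rw [← hσ2, ← ht, ← mul_assoc, ← mul_assoc, ht2, hti, one_mul]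
      calc σ * (t * n * t⁻¹) * σ⁻¹ = (σ * t) * n * (σ * t)⁻¹ := by group
        _ = _ := by rw [h3]; group
    · have := hc3 n n.2
      simp only [coe_pow, coe_mul, hτ, coe_one]
      rw [hti, ← this, show 4 = 2 * 2 by rfl, pow_mul, pow_two (_ * t), mul_assoc (n : G) t, mul_assoc t]
  refine ⟨⟨⟨fun a b => ?_⟩⟩, fun n hn => congrArg Subtype.val (hsq ⟨n, hn⟩)⟩
  have hi : ∀ n : N, n⁻¹ = n := fun n => inv_eq_of_mul_eq_one_right (by rw [← pow_two, hsq])
  rw [← hi (a * b), mul_inv_rev, hi, hi]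

/-- A finite group whose set of element orders is exactly {1, 2, 3, 4} has a normal subgroup N such that either N is a 2-group of exponent 4 and nilpotency class at most 2 with G/N of order 3, or N is an elementary abelian 2-group with G/N isomorphic to the symmetric group of degree 3, or N is an elementary abelian 3-group with G/N cyclic of order 4 or quaternion of order 8. -/
theorem result {G : Type*} [Group G] [Finite G] (h : Set.range (orderOf : G → ℕ) = {k : ℕ | 1 ≤ k ∧ k ≤ 4}) :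
    ∃ (N : Subgroup G) (_ : N.Normal),
      (IsPGroup 2 ↥N ∧ Monoid.exponent ↥N = 4 ∧ Group.nilpotencyClass ↥N ≤ 2 ∧ N.index = 3) ∨
      (Cfsg.IsElementaryAbelian 2 N ∧ Nonempty (G ⧸ N ≃* Equiv.Perm (Fin 3))) ∨
      (Cfsg.IsElementaryAbelian 3 N ∧ ((IsCyclic (G ⧸ N) ∧ N.index = 4) ∨ Nonempty (G ⧸ N ≃* QuaternionGroup 2))) := by
  have hle : ∀ g : G, orderOf g ≤ 4 := fun g => by
    have : orderOf g ∈ Set.range (orderOf : G → ℕ) := ⟨g, rfl⟩
    rw [h] at this; exact this.2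
  have h34 : ∀ g : G, g ^ 3 = 1 ∨ g ^ 4 = 1 := fun g => by
    have h1 := hle g
    have h2 := orderOf_pos g
    rw [← orderOf_dvd_iff_pow_eq_one, ← orderOf_dvd_iff_pow_eq_one]
    interval_cases orderOf g <;> norm_num
  obtain ⟨w, hw⟩ : (4 : ℕ) ∈ Set.range (orderOf : G → ℕ) := by rw [h]; exact ⟨by norm_num, le_rfl⟩
  obtain ⟨σ, hσ⟩ : (3 : ℕ) ∈ Set.range (orderOf : G → ℕ) := by rw [h]; exact ⟨by norm_num, by norm_num⟩
  have hall : ∀ r : ℕ, r.Prime → r ∣ Nat.card G → r = 2 ∨ r = 3 := fun r hr hd => by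
    haveI := Fact.mk hr
    obtain ⟨g, hg⟩ := exists_prime_orderOf_dvd_card' r hd
    have h1 := hle g
    have h2 := hr.two_le
    rw [hg] at h1
    interval_cases r
    · exact Or.inl rfl
    · exact Or.inr rfl
    · norm_num at hr
  haveI : Group.IsSolvable G := H1.isSolvable_of_two_primes Nat.prime_two Nat.prime_three hall
  haveI : Nontrivial G := ⟨⟨w, 1, by rintro rfl; simp at hw⟩⟩
  obtain ⟨V, hVn, hV, -, r, hr, hVr⟩ := H2.exists_abelian_pgroup_normal (G := G)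
  rcases hall r hr ((H67.dvd_card_of_isPGroup hr hVr hV).trans (card_subgroup_dvd_card V)) with rfl | rfl
  · obtain ⟨N, hN, h⟩ := case2 h34 hw hσ hV hVr
    exact ⟨N, hN, h.imp_right Or.inl⟩
  · exact ⟨pCore 3 G, inferInstance, Or.inr (Or.inr
      (case3 h34 hw (H67.ne_bot_mono hV (H3.le_pCore hVr))))⟩

end Cfsg.Agent.S4006
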