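import Cfsg.Statements.S4167
import Cfsg.Agent.H89.ClassSq
import Cfsg.Agent.H89.OddHall
import Cfsg.Agent.H89.SylowSmall
import Cfsg.Agent.H89.SolvInd
import Cfsg.Agent.H87.Transfer
import Cfsg.Agent.H86.Theta
import Cfsg.Agent.S1279
import Cfsg.Agent.S0217

set_option autoImplicit false
open Cfsg

namespace Cfsg.Agent.S4167

open Subgroup H92 H89

universe u

theorem aux (G : Type u) [Group G] [Finite G] (h : ∀ x : G, ¬ 2 ^ 2 ∣ cs[x]) :
    Group.IsSolvable G := by
  induction hn : Nat.card G using Nat.strong_induction_on generalizing G with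
  | _ n ih =>
  by_cases hs : ∀ N : Subgroup G, N.Normal → N = ⊥ ∨ N = ⊤
  swap
  · push Not at hs
    obtain ⟨N, hN, h0, h1⟩ := hs
    have h2 : Group.IsSolvable N := ih _ (hn ▸ H2.card_lt_of_ne_top h1) N
      (fun x hx => h x (hx.trans (cs_subgroup_dvd N x))) rfl
    have h3 : Group.IsSolvable (G ⧸ N) := ih _ (hn ▸ H1.card_quotient_lt h0) (G ⧸ N)
      (fun x hx => by
        obtain ⟨x, rfl⟩ := QuotientGroup.mk_surjective x
        exact h x (hx.trans (cs_mk_dvd N x))) rfl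
    exact Group.isSolvable_of_ker_le_range N.subtype (QuotientGroup.mk' N) (by simp)
  by_contra hns
  have hna : ¬ IsMulCommutative G := fun hc => hns (Group.isSolvable_of_comm hc.is_comm.comm)
  have hnt : Nontrivial G := by
    by_contra h1
    rw [not_nontrivial_iff_subsingleton] at h1
    exact hns inferInstance
  have : IsSimpleGroup G := ⟨hs⟩
  have hZ : center G = ⊥ := (hs _ inferInstance).resolve_right fun h1 =>
    hna ⟨⟨fun a b => mem_center_iff.1 (h1 ▸ mem_top b) a⟩⟩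
  have h2 : 2 ∣ Nat.card G := by
    by_contra h1
    exact hns (isSolvable_of_not_two_dvd h1)
  obtain ⟨S⟩ : Nonempty (Sylow 2 G) := inferInstance
  have hexp : ∀ s ∈ (S : Subgroup G), s ^ 2 = 1 := fun s hs =>
    mem_bot.1 (hZ ▸ pow_mem_center_of_not_sq_dvd h S hs)
  have hcomm : IsMulCommutative S := ⟨⟨fun a b => Subtype.ext (commutatorElement_eq_one_iff_mul_comm.1
    (mem_bot.1 (hZ ▸ commutator_mem_center_of_not_sq_dvd h S a.2 b.2)))⟩⟩
  obtain ⟨k, hk⟩ := IsPGroup.iff_card.1 S.isPGroup'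
  have hk2 : 2 ≤ k := by
    by_contra h1
    refine not_isCyclic_sylow_two hna h2 S (isCyclic_of_card_dvd_prime (p := 2) ?_)
    rw [hk]
    simpa using pow_dvd_pow 2 (show k ≤ 1 by omega)
  have hcov : ∀ x : G, ∃ g : G, ∃ d ∈ (S : Subgroup G), d ≠ 1 ∧ g * x * g⁻¹ ∈ Ce[d] := by
    intro x
    obtain ⟨g, hg⟩ := exists_conj_relIndex_dvd S (h x)
    have h1 : Ce[g * x * g⁻¹] ⊓ S ≠ ⊥ := by
      intro h1
      rw [← inf_relIndex_right, h1, relIndex_bot_left, hk] at hg
      exact absurd ((pow_dvd_pow 2 hk2).trans hg) (by norm_num)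
    obtain ⟨⟨d, hd⟩, hd1⟩ := ne_bot_iff_exists_ne_one.1 h1
    exact ⟨g, d, hd.2, fun h => hd1 (Subtype.ext h), mem_C_comm.1 hd.1⟩
  have hne : ∀ d : G, d ≠ 1 → Ce[d] ≠ ⊤ := fun d hd h1 => hd (mem_bot.1 (hZ ▸ C_eq_top_iff.1 h1))
  rcases hk2.eq_or_lt with rfl | hk3
  · obtain ⟨-, d, hd, hd1, -⟩ := hcov 1
    have hdo : orderOf d = 2 := orderOf_eq_prime (hexp d hd) hd1
    have h3 : (zpowers d).relIndex S = 2 := by
      have h4 := H3.card_inf_mul_relIndex (zpowers d) (S : Subgroup G)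
      rw [inf_eq_left.2 (zpowers_le.2 hd), Nat.card_zpowers, hdo, hk] at h4
      omega
    refine hne d hd1 (eq_top_of_forall_conj_mem fun x => ?_)
    obtain ⟨g, e, he, he1, hx⟩ := hcov x
    obtain ⟨y, hy⟩ : ∃ y : G, y * e * y⁻¹ ∈ zpowers d := by
      by_contra h4
      push Not at h4
      obtain ⟨K, hK, hK2, -⟩ := H87.thompson_transfer_involution
        (Nat.not_even_iff_odd.1 fun h5 => S.not_dvd_index h5.two_dvd) h3 (hexp e he) h4
      rcases hs K hK with rfl | rfl
      · rw [index_bot] at hK2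
        have h5 := card_subgroup_dvd_card (S : Subgroup G)
        rw [hk, hK2] at h5
        exact absurd h5 (by norm_num)
      · simp at hK2
    have h4 : zpowers d = zpowers (y * e * y⁻¹) := H58.eq_zpowers_of_card_prime Nat.prime_two
      (by rw [Nat.card_zpowers, hdo]) hy (by simpa using he1)
    refine ⟨y * g, C_le_C_of_mem_zpowers (h4 ▸ mem_zpowers d) (mem_C_conj.2 ?_)⟩
    simpa [mul_assoc] using hx
  have hsol : ∀ d ∈ (S : Subgroup G), d ≠ 1 → Group.IsSolvable (Ce[d]) := by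
    intro d hd hd1
    refine ih _ (hn ▸ H2.card_lt_of_ne_top (hne d hd1)) _ ?_ rfl
    rw [← centralizer_closure, ← zpowers_eq_closure]
    exact not_sq_dvd_centralizer h S (S.isPGroup'.to_le (zpowers_le.2 hd))
  obtain ⟨⟨θ1, θ2, θ3, θ4⟩, θ5⟩ := S1279.result 2 (S : Subgroup G) ⟨hcomm, hexp⟩
    (hk ▸ Nat.pow_le_pow_right (by norm_num) hk2) hsol
  have hW := (S0217.result (p := 2) (S : Subgroup G) (fun a ha b hb => setLike_mul_comm ha hb) hexp
    (hk ▸ Nat.pow_le_pow_right (by norm_num) hk3) _ θ1 θ2 θ3 θ5 θ4).1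
  have hN := H86.normalizer_le_normalizer_iSup_theta (p := 2) (S : Subgroup G)
  set W := ⨆ a : {a : G // a ∈ (S : Subgroup G) ∧ a ≠ 1}, centralizerPPrimeCore 2 (a : G)
  have hM : normalizer ((S : Subgroup G) : Set G) ⊔ W = ⊤ := by
    refine eq_top_of_forall_conj_mem fun x => ?_
    obtain ⟨g, d, hd, hd1, hx⟩ := hcov x
    refine ⟨g, ?_⟩
    have h3 := hsol d hd hd1
    have h4 : (S : Subgroup G) ≤ Ce[d] := fun s hs => mem_C.2 (setLike_mul_comm hs hd)
    have h5 : IsMulCommutative (S.subtype h4) := ⟨⟨fun a b =>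
      Subtype.ext (Subtype.ext (setLike_mul_comm (s := (S : Subgroup G)) a.2 b.2))⟩⟩
    obtain ⟨a, ha, b, hb, hab⟩ := exists_normalizer_mul_of_comm (S.subtype h4) ⟨_, hx⟩
    rw [show g * x * g⁻¹ = a * b from congrArg Subtype.val hab]
    refine mul_mem (mem_sup_left ?_) (mem_sup_right ?_)
    · rwa [Sylow.coe_subtype, ← subgroupOf_normalizer_eq h4] at ha
    · exact le_iSup (fun a : {a : G // a ∈ (S : Subgroup G) ∧ a ≠ 1} =>
        centralizerPPrimeCore 2 (a : G)) ⟨d, hd, hd1⟩ (mem_map_of_mem _ hb)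
  rcases hs W (normalizer_eq_top_iff.1 (eq_top_iff.2 (hM ▸ sup_le hN le_normalizer))) with h3 | h3
  · rw [h3, sup_bot_eq, normalizer_eq_top_iff] at hM
    rcases hs _ hM with h4 | h4
    · rw [h4, card_bot] at hk
      exact absurd (hk ▸ pow_dvd_pow 2 hk2) (by norm_num)
    · exact hns (isSolvable_of_isPGroup Nat.prime_two ((h4 ▸ S.isPGroup').of_equiv topEquiv))
  · rw [h3, card_top] at hW
    exact hW h2

/-- Let G be a finite group in which no conjugacy class has size divisible by 4. Then G is solvable. -/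
theorem result {G : Type*} [Group G] [Finite G]
    (h : ∀ x : G, ¬ 4 ∣ (Subgroup.centralizer ({x} : Set G)).index) : Group.IsSolvable G := by
  exact aux G h

end Cfsg.Agent.S4167
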