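import Cfsg.Statements.S4130
import Cfsg.Agent.H89.Breadth
import Cfsg.Agent.H5.Supersolvable
import Cfsg.Agent.H86.HSub
import Cfsg.Agent.S4167

set_option autoImplicit false
open Cfsg

namespace Cfsg.Agent.S4130

open Subgroup H92 H89

universe u

theorem supersolvable (n : ℕ) : ∀ (G : Type u) [Group G] [Finite G], Nat.card G = n →
    Group.IsSolvable G → (∀ x : G, Squarefree cs[x]) → IsSupersolvable G := by
  induction n using Nat.strong_induction_on with
  | _ n ih =>
  intro G _ _ hn hs h
  by_cases h1 : (⊤ : Subgroup G) = ⊥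
  · have h2 : ∀ a : G, a = 1 := fun a => mem_bot.1 (h1 ▸ mem_top a)
    have : Subsingleton G := ⟨fun a b => by rw [h2 a, h2 b]⟩
    exact H5.supersolvable_of_isCyclic
  obtain ⟨M, p, hp, hM, hM0, -, hE, hmin⟩ :=
    H3.exists_minimal_normal_elementary_le (⊤ : Subgroup G) inferInstance h1
  have := Fact.mk hp
  have := hE.1
  have h2 : IsPGroup p M := fun x => ⟨1, Subtype.ext (by simpa using hE.2 x x.2)⟩
  have h3 := card_dvd_of_minimal_normal (p := p)
    (fun x hx => hp.one_lt.ne' (Nat.isUnit_iff.1 (h x p (sq p ▸ hx)))) h2 hmin hE.2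
  have : IsCyclic M := isCyclic_of_card_dvd_prime h3
  refine H5.supersolvable_of_quotient_cyclic M (ih _ (hn ▸ H5.card_quotient_lt hM0) _ rfl
    inferInstance fun x => ?_)
  obtain ⟨x, rfl⟩ := QuotientGroup.mk_surjective x
  exact (h x).squarefree_of_dvd (cs_mk_dvd M x)

theorem squarefree_card_commutator {G : Type*} [Group G] [Finite G]
    (hn : Group.IsNilpotent (commutator G)) (h : ∀ x : G, Squarefree cs[x]) :
    Squarefree (Nat.card (commutator G)) := by
  rw [Nat.squarefree_iff_prime_squarefree]
  intro p hp hd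
  have := Fact.mk hp
  have hK : (pPrimeCore p G).Normal := sSup_normal _ fun _ h => h.1
  have h1 : commutator (G ⧸ pPrimeCore p G) =
      (commutator G).map (QuotientGroup.mk' (pPrimeCore p G)) := by
    rw [commutator_def, commutator_def, map_commutator,
      map_top_of_surjective _ (QuotientGroup.mk'_surjective _)]
  have h2 : IsPGroup p (commutator (G ⧸ pPrimeCore p G)) := by
    have h3 := H3.le_fitting (N := commutator (G ⧸ pPrimeCore p G)) (h1 ▸ H3.isNilpotent_map hn _)
    rw [H3.fitting_eq_pCore (H3.pPrimeCore_quotient_pPrimeCore p G)] at h3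
    exact (H3.pCore_isPGroup p _).to_le h3
  have h3 := card_commutator_dvd (p := p) (fun x hx => by
    obtain ⟨x, rfl⟩ := QuotientGroup.mk_surjective x
    exact hp.one_lt.ne' (Nat.isUnit_iff.1 (h x p (sq p ▸ hx.trans (cs_mk_dvd _ x))))) h2
  rw [h1, ← relIndex_ker, QuotientGroup.ker_mk'] at h3
  rw [← ((pPrimeCore p G).subgroupOf (commutator G)).card_mul_index] at hd
  have h4 : (Nat.card ((pPrimeCore p G).subgroupOf (commutator G))).Coprime p :=
    (H3.pPrimeCore_coprime p G).coprime_dvd_left (card_comap_dvd_of_injective _ _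
      (commutator G).subtype_injective)
  have h5 := ((h4.mul_right h4).symm.dvd_of_dvd_mul_left hd).trans h3
  exact hp.one_lt.ne' (Nat.isUnit_iff.1 (hp.prime.squarefree p h5))

/-- Let G be a finite group all of whose conjugacy class sizes are square-free. Then G is supersolvable, G/F(G) and the derived subgroup G′ are cyclic of square-free order (F(G) the Fitting subgroup, which is normal), F(G) has nilpotency class at most 2, and G is metabelian. -/
theorem result {G : Type*} [Group G] [Finite G]
    (h : ∀ x : G, Squarefree (Subgroup.centralizer ({x} : Set G)).index) :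
    Cfsg.IsSupersolvable G ∧ (Cfsg.fittingSubgroup G).Normal ∧
    (∀ _h : (Cfsg.fittingSubgroup G).Normal, IsCyclic (G ⧸ Cfsg.fittingSubgroup G) ∧ Squarefree (Cfsg.fittingSubgroup G).index) ∧
    IsCyclic (commutator G) ∧ Squarefree (Nat.card (commutator G)) ∧
    Subgroup.upperCentralSeries ↥(Cfsg.fittingSubgroup G) 2 = ⊤ ∧ commutator ↥(commutator G) = ⊥ := by
  have h1 := supersolvable _ G rfl (S4167.result fun x hx =>
    absurd (Nat.isUnit_iff.1 (h x 2 hx)) (by norm_num)) h
  have h2 := H5.supersolvable_commutator_isNilpotent h1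
  have h3 := squarefree_card_commutator h2 h
  have := IsZGroup.of_squarefree h3
  have h4 : IsCyclic (commutator G) := inferInstance
  have hF := H3.fitting_normal G
  obtain ⟨c, hc⟩ := (Subgroup.isCyclic_iff_exists_zpowers_eq_top _).1 h4
  have h5 : centralizer (commutator G : Set G) = Ce[c] := by
    rw [← hc, zpowers_eq_closure, centralizer_closure]
  have h6 : Ce[c] ≤ fittingSubgroup G := by
    rw [← h5]
    refine H3.le_fitting (H3.isNilpotent_of_commutator_commutator_eq_bot ?_)
    rw [commutator_eq_bot_iff_le_centralizer]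
    exact (commutator_mono le_top le_top).trans (le_centralizer_iff.1 le_rfl)
  have h7 : Squarefree (fittingSubgroup G).index := (h c).squarefree_of_dvd (index_dvd_of_le h6)
  have h8 : fittingSubgroup G ≤ centralizer (commutator G : Set G) := by
    rw [← hc, ← le_centralizer_iff, zpowers_le]
    refine mem_of_forall_primePow fun y hy q hq _ ⟨k, hk⟩ => ?_
    rw [hc] at hy
    have h9 : (zpowers y).Normal := normalizer_eq_top_iff.1 (top_le_iff.1
      ((normalizer_eq_top (commutator G)).ge.trans
        (H86.normalizer_le_of_isCyclic h4 (zpowers_le.2 hy))))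
    have h10 : Nat.card (zpowers y) ∣ q := by
      have h11 := h3.squarefree_of_dvd (orderOf_dvd_natCard _ hy)
      rw [Nat.card_zpowers, hk] at *
      rcases k with _ | k
      · simp
      · rw [show k + 1 = 1 from ((Nat.squarefree_pow_iff hq.one_lt.ne' k.succ_ne_zero).1 h11).2,
          pow_one]
    refine le_centralizer_iff.1 (H3.fitting_le_centralizer_minimal_normal fun K _ hK => ?_)
      (mem_zpowers y)
    rcases (Nat.dvd_prime hq).1 ((card_dvd_of_le hK).trans h10) with h11 | h11
    · exact Or.inl (card_eq_one.1 h11)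
    · exact Or.inr (eq_of_le_of_card_ge hK ((Nat.le_of_dvd hq.pos h10).trans h11.ge))
  refine ⟨h1, hF, fun _ => ⟨?_, h7⟩, h4, h3, ?_, ?_⟩
  · have := IsZGroup.of_squarefree (G := G ⧸ fittingSubgroup G) h7
    have h9 : IsMulCommutative (G ⧸ fittingSubgroup G) :=
      Normal.quotient_commutative_iff_commutator_le.2 (H3.le_fitting h2)
    have : Group.IsNilpotent (G ⧸ fittingSubgroup G) := H3.isNilpotent_of_isMulCommutative
    infer_instance
  · refine top_le_iff.1 fun x _ => Subgroup.mem_upperCentralSeries_succ_iff.2 fun y => ?_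
    rw [Subgroup.upperCentralSeries_one]
    refine mem_center_iff.2 fun z => Subtype.ext ?_
    exact (h8 z.2 _ (commutator_mem_commutator (mem_top (x : G)) (mem_top (y : G)))).symm
  · exact commutator_eq_bot _

end Cfsg.Agent.S4130
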