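import Cfsg.Statements.S2469
import Cfsg.Agent.H76.SpSpec

set_option autoImplicit false
open Cfsg

namespace Cfsg.Agent.S2469

/-- Adjacency of two odd primes in the prime graph of PSp(2n,q): let F be a finite field of characteristic p with q elements, n ≥ 2 with PSp(2n,F) simple, and let r ≠ s be odd primes different from p dividing the order of PSp(2n,F). Let k, l be the multiplicative orders of q modulo r and s, put η(m) = m for odd m and η(m) = m/2 for even m, and suppose η(k) ≤ η(l). Then PSp(2n,F) has NO element of order r·s if and only if η(k) + η(l) > n and l/k is not an odd integer. -/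
theorem result {F : Type*} [Field F] [Fintype F] (p : ℕ) [Fact p.Prime] [CharP F p] (n : ℕ) (hn : 2 ≤ n) (hsmall : n = 2 → 3 ≤ Fintype.card F)
    (r s : ℕ) (hr : r.Prime) (hs : s.Prime) (hr2 : r ≠ 2) (hs2 : s ≠ 2) (hrp : r ≠ p) (hsp : s ≠ p) (hrs : r ≠ s)
    (hrG : r ∣ Nat.card (Cfsg.PSp n F)) (hsG : s ∣ Nat.card (Cfsg.PSp n F))
    (k l ηk ηl : ℕ) (hk : k = orderOf ((Fintype.card F : ℕ) : ZMod r)) (hl : l = orderOf ((Fintype.card F : ℕ) : ZMod s))
    (hηk : (Odd k ∧ ηk = k) ∨ (Even k ∧ 2 * ηk = k)) (hηl : (Odd l ∧ ηl = l) ∨ (Even l ∧ 2 * ηl = l)) (hkl : ηk ≤ ηl) :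
    (r * s ∉ Set.range (orderOf : Cfsg.PSp n F → ℕ)) ↔ (n < ηk + ηl ∧ ¬ ∃ t : ℕ, Odd t ∧ l = k * t) := by
  have : CharP (AlgebraicClosure F) p := charP_of_injective_algebraMap (algebraMap F _).injective p
  exact (H76.models_psp F (AlgebraicClosure F) p n).sp_not_adj_primes_iff (H76.char_dvd_card F p)
    (H76.card_eq_char_pow F p) hr hs hr2 hs2 hrp hsp hrs hsG (by rw [hk, Int.cast_natCast])
    (by rw [hl, Int.cast_natCast]) hηk hηl hkl

end Cfsg.Agent.S2469
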