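import Cfsg.Statements.S2391

set_option autoImplicit false
open Cfsg

namespace Cfsg.Agent.S2391

theorem exists_fixed {F G V : Type*} [Field F] [Finite F] (p : ℕ) [hp : Fact p.Prime] [CharP F p]
    [Group G] (hG : IsPGroup p G) [AddCommGroup V] [Module F V] [FiniteDimensional F V]
    (ρ : G →* Module.End F V) {W : Submodule F V} (hW : ∀ g, ∀ v ∈ W, ρ g v ∈ W) (h : W ≠ ⊤) :
    ∃ v, v ∉ W ∧ ∀ g, ρ g v - v ∈ W := by
  let act : MulAction G (V ⧸ W) :=
    { smul := fun g x => W.mapQ W (ρ g) (hW g) x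
      one_smul := fun x => by
        obtain ⟨v, rfl⟩ := W.mkQ_surjective x
        exact congrArg W.mkQ (by simp)
      mul_smul := fun g h x => by
        obtain ⟨v, rfl⟩ := W.mkQ_surjective x
        exact congrArg W.mkQ (by simp) }
  have : Finite (V ⧸ W) := Module.finite_of_finite F
  have : Nontrivial (V ⧸ W) := Submodule.Quotient.nontrivial_iff.2 h
  have := Fintype.ofFinite F
  obtain ⟨f, -, hf⟩ := FiniteField.card F p
  obtain ⟨x, hx, hx0⟩ := hG.exists_fixed_point_of_prime_dvd_card_of_fixed_point (V ⧸ W)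
    (a := 0) (by
      rw [Module.natCard_eq_pow_finrank (K := F), Nat.card_eq_fintype_card, hf, ← pow_mul]
      exact dvd_pow_self p (mul_ne_zero f.ne_zero Module.finrank_pos.ne'))
    fun g => map_zero (W.mapQ W (ρ g) (hW g))
  obtain ⟨v, rfl⟩ := W.mkQ_surjective x
  exact ⟨v, fun h => hx0 ((Submodule.Quotient.mk_eq_zero W).2 h).symm,
    fun g => (Submodule.Quotient.eq W).1 (hx g)⟩

/-- The Borel–Tits property of `SL_n(q)` in flag form: for a field `F` of characteristic `p` with finitely many elements and a non-trivial `p`-subgroup `U` of `SL_n(F)`, there is a flag `0 = V₀ < V₁ < ⋯ < V_{k+1} = F^n` with at least one proper non-zero member such that every element of the normaliser of `U` maps each `V_i` onto itself and every element of `U` acts trivially on each quotient `V_{i+1}/V_i` (so the normaliser lies in the parabolic subgroup of the flag and `U` in its unipotent radical). -/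
theorem result {F : Type*} [Field F] [Fintype F] (p : ℕ) [Fact p.Prime] [CharP F p] (n : ℕ)
    (U : Subgroup (Matrix.SpecialLinearGroup (Fin n) F)) (hU : IsPGroup p ↥U) (hne : U ≠ ⊥) :
    ∃ (k : ℕ) (V : Fin (k + 2) → Submodule F (Fin n → F)), 1 ≤ k ∧ StrictMono V ∧ V 0 = ⊥ ∧ V (Fin.last (k + 1)) = ⊤ ∧
      (∀ g ∈ Subgroup.normalizer (U : Set (Matrix.SpecialLinearGroup (Fin n) F)), ∀ i, (V i).map (Matrix.mulVecLin (g : Matrix (Fin n) (Fin n) F)) = V i) ∧
      (∀ u ∈ U, ∀ i : Fin (k + 1), ∀ v ∈ V i.succ, (u : Matrix (Fin n) (Fin n) F).mulVec v - v ∈ V (Fin.castSucc i)) := by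
  let ρ : Matrix.SpecialLinearGroup (Fin n) F →* Module.End F (Fin n → F) :=
    { toFun g := Matrix.mulVecLin g.1
      map_one' := Matrix.mulVecLin_one
      map_mul' a b := Matrix.mulVecLin_mul _ _ }
  let V : ℕ → Submodule F (Fin n → F) := fun i =>
    Nat.rec ⊥ (fun _ W => ⨅ u : U, W.comap (ρ u - 1)) i
  have hV : ∀ i v, v ∈ V (i + 1) ↔ ∀ u ∈ U, ρ u v - v ∈ V i := fun i v => by simp [V]
  have hN : ∀ i, ∀ g ∈ Subgroup.normalizer (U : Set (Matrix.SpecialLinearGroup (Fin n) F)),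
      ∀ v ∈ V i, ρ g v ∈ V i := fun i => by
    induction i with
    | zero => intro g _ v hv; rw [show v = 0 from hv, map_zero]; exact zero_mem _
    | succ i ih =>
      intro g hg v hv
      refine (hV _ _).2 fun u hu => ?_
      have := ih g hg _ ((hV _ _).1 hv (g⁻¹ * u * g) ((Subgroup.mem_normalizer_iff''.1 hg u).1 hu))
      rwa [map_sub, ← Module.End.mul_apply, ← map_mul, ← mul_assoc, ← mul_assoc, mul_inv_cancel,
        one_mul, map_mul] at this
  have hle : ∀ i, V i ≤ V (i + 1) := fun i v hv =>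
    (hV _ _).2 fun u hu => sub_mem (hN i u (Subgroup.le_normalizer hu) v hv) hv
  have hlt : ∀ i, V i ≠ ⊤ → V i < V (i + 1) := fun i hi => by
    obtain ⟨v, h1, h2⟩ := exists_fixed p hU (ρ.comp U.subtype)
      (fun u => hN i u (Subgroup.le_normalizer u.2)) hi
    exact (hle i).lt_of_ne fun h => h1 (h ▸ (hV _ _).2 fun u hu => h2 ⟨u, hu⟩)
  have hex : ∃ i, V i = ⊤ := by
    by_contra! h
    exact not_strictMono_of_wellFoundedGT V (strictMono_nat_of_lt_succ fun i => hlt i (h i))
  have h1 : V 1 ≠ ⊤ := fun h => hne ((Subgroup.eq_bot_iff_forall U).2 fun u hu =>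
    Subtype.ext (Matrix.mulVec_injective (funext fun v => by
      have := (hV 0 v).1 (h ▸ Submodule.mem_top) u hu
      simpa [ρ] using sub_eq_zero.1 this)))
  have h0 : V 0 ≠ ⊤ := fun h => h1 (top_le_iff.1 (h ▸ hle 0))
  obtain ⟨N, h2, h3⟩ : ∃ N, V N = ⊤ ∧ ∀ i < N, V i ≠ ⊤ := by
    classical exact ⟨Nat.find hex, Nat.find_spec hex, fun i => Nat.find_min hex⟩
  obtain ⟨k, rfl⟩ : ∃ k, N = k + 2 := by
    rcases N with _ | _ | k
    exacts [absurd h2 h0, absurd h2 h1, ⟨k, rfl⟩]
  refine ⟨k + 1, fun i => V i, by omega, Fin.strictMono_iff_lt_succ.2 fun i =>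
    hlt i (h3 i (by omega)), rfl, h2, fun g hg i => ?_,
    fun u hu i v hv => (hV _ _).1 hv u hu⟩
  refine le_antisymm (Submodule.map_le_iff_le_comap.2 (hN i g hg)) fun v hv => ?_
  refine ⟨ρ g⁻¹ v, hN i _ (inv_mem hg) v hv, ?_⟩
  change ρ g _ = _
  rw [← Module.End.mul_apply, ← map_mul, mul_inv_cancel, map_one, Module.End.one_apply]

end Cfsg.Agent.S2391
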