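import Cfsg.Statements.S0803
import Cfsg.Agent.H29.PSLFacts

set_option autoImplicit false
open Cfsg

namespace Cfsg.Agent.S0803

/-- PSL_2(q) has a subgroup isomorphic to S_4 iff q² ≡ 1 (mod 16). -/
theorem result {F : Type*} [Field F] [Fintype F] {q : ℕ} (hF : Fintype.card F = q) : (∃ H : Subgroup (Matrix.ProjectiveSpecialLinearGroup (Fin 2) F), Nonempty (H ≃* Equiv.Perm (Fin 4))) ↔ q ^ 2 % 16 = 1 := by
  have := H29.finite_PGL2 (F := F)
  rw [← Nat.card_eq_fintype_card] at hF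
  have h0 : q ^ 2 % 16 = 1 ↔ q % 8 = 1 ∨ q % 8 = 7 := by
    rw [Nat.pow_mod, ← Nat.mod_mod_of_dvd q (show 8 ∣ 16 by norm_num)]
    have : q % 16 < 16 := Nat.mod_lt _ (by norm_num)
    generalize q % 16 = r at this ⊢
    interval_cases r <;> simp
  rw [H29.exists_psl_subgroup_iff, h0, ← hF]
  constructor
  · rintro ⟨H, hH, ⟨e⟩⟩
    obtain ⟨φ, hφ, rfl⟩ := H29.exists_hom_of_equiv e
    obtain ⟨t, -, h1, h2, -⟩ := H29.S4_dih4
    have := Fact.mk Nat.prime_two
    have h3 : orderOf (φ t) = 4 := by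
      rw [orderOf_injective _ hφ]
      exact orderOf_eq_prime_pow (p := 2) (n := 1) h2 h1
    refine H29.mod_eight_of_order_four ?_ (hH ⟨t, rfl⟩) h3
    rw [H29.odd_card_iff]
    intro h
    have : CharP F 2 := CharTwo.of_one_ne_zero_of_two_eq_zero one_ne_zero h
    obtain ⟨x, hx⟩ := H29.exists_mem_uni_of_pow_char 2 (g := φ t) (n := 2)
      (orderOf_dvd_iff_pow_eq_one.1 h3.dvd)
    have := orderOf_dvd_of_pow_eq_one (H29.pow_char_eq_one_of_mem_uni 2 hx)
    rw [h3] at this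
    omega
  · intro h
    have ho : Odd (Nat.card F) := by rw [Nat.odd_iff]; omega
    obtain ⟨a, b, hab, ha, hb⟩ := H29.exists_kpair_L ho
    exact ⟨_, (hab.normalizer_le_L_iff ho ha hb).2 h, hab.normalizer_S4 ho ha hb⟩

end Cfsg.Agent.S0803
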