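import Cfsg.Statements.S2517
import Cfsg.Agent.H76.OSpec

set_option autoImplicit false
open Cfsg

namespace Cfsg.Agent.S2517

open H76 Polynomial

section Upper

variable {F : Type*} [Field F] [Fintype F] {L : Type*} [Field L] [Algebra F L]

/-- the maximal element orders -/
structure Wit (p q : ℕ) (G : Type*) [Group G] : Prop where
  w1 : ∀ (D j H : ℕ) (ε : ℤ), 0 < D → D + j = 4 → (ε = 1 ∨ ε = -1) → 2 * (H : ℤ) = q ^ D - ε →
    ∃ g : G, H ∣ orderOf g ∧ p ^ Nat.clog p (2 * j + 1) ∣ orderOf g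
  w2 : ∀ (D D' j H H' : ℕ) (ε ε' : ℤ), 0 < D → 0 < D' → D + D' + j = 4 → (ε = 1 ∨ ε = -1) →
    (ε' = 1 ∨ ε' = -1) → (j = 0 → ε' = -ε) → 2 * (H : ℤ) = q ^ D - ε → 2 * (H' : ℤ) = q ^ D' - ε' →
    ∃ g : G, 2 * H ∣ orderOf g ∧ 2 * H' ∣ orderOf g ∧ p ^ Nat.clog p (2 * j + 1) ∣ orderOf g
  w4 : ∃ g : G, p ^ Nat.clog p 9 ∣ orderOf g

theorem exists_half {q : ℕ} (hq : Odd q) (D : ℕ) {ε : ℤ} (hε : ε = 1 ∨ ε = -1) :
    ∃ H : ℕ, 2 * (H : ℤ) = q ^ D - ε := by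
  obtain ⟨k, hk⟩ := hq.pow (n := D)
  have : (q : ℤ) ^ D = 2 * k + 1 := by exact_mod_cast hk
  rcases hε with rfl | rfl
  · exact ⟨k, by omega⟩
  · exact ⟨k + 1, by omega⟩

theorem wt_filter_add {T : Type*} (s : Multiset (T × ℕ)) (P : T × ℕ → Prop) [DecidablePred P] :
    wt (s.filter P) + wt (s.filter fun x => ¬ P x) = wt s := by
  rw [← wt_add, Multiset.filter_add_not]

theorem parity [DecidableEq L] (h2 : (2 : F) ≠ 0) {m : ℕ} {t : Multiset (Lˣ × ℕ)}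
    (ht : FAdm Odd (Fintype.card F : ℤ) m t) (hd : ddet t = 1) :
    Even (m + wt (t.filter fun x => x.1 = 1)) := by
  have h1 := neg_one_ne_one_of_two (two_ne_zero_ext (L := L) h2)
  have h3 := (ht.ddet_eq (card_eq_two_mul F h2)).resolve_right h1
  by_contra h4
  rw [hd, Odd.neg_one_pow (by convert Nat.not_even_iff_odd.1 h4)] at h3
  exact h1 h3.symm

theorem add_two_le (h2 : (2 : F) ≠ 0) {m : ℕ} {t : Multiset (Lˣ × ℕ)}
    (ht : FAdm Odd (Fintype.card F : ℤ) m t) (hd : ddet t = 1) (hm : Odd m) {y : Lˣ × ℕ}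
    (hy : y ∈ t) (hy1 : y.1 ≠ 1) {x : Lˣ × ℕ} (hx : x ∈ t) : x.2 + 2 ≤ m := by
  classical
  have h3 := Nat.even_iff.1 (parity h2 ht hd)
  have h4 := wt_filter_add t fun x => x.1 = 1
  rw [ht.adm.wt_eq] at h4
  have h5 := le_wt_of_mem (Multiset.mem_filter.2 ⟨hy, hy1⟩ : y ∈ t.filter fun x => ¬ x.1 = 1)
  have h6 := ht.adm.pos y hy
  rw [Nat.odd_iff] at hm
  by_cases hx1 : x.1 = 1
  · have := le_wt_of_mem (Multiset.mem_filter.2 ⟨hx, hx1⟩ : x ∈ t.filter fun x => x.1 = 1)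
    omega
  · have := le_wt_of_mem (Multiset.mem_filter.2 ⟨hx, hx1⟩ : x ∈ t.filter fun x => ¬ x.1 = 1)
    rcases ht.two_mul_le_or hx with h | ⟨h, -⟩
    · omega
    · rw [Nat.odd_iff] at h
      omega

theorem exists_atom_ne (h2 : (2 : F) ≠ 0) {n : ℕ} {s : Multiset (Lˣ × ℕ)}
    (hs : FAdm Odd (Fintype.card F : ℤ) n s) {x : Lˣ × ℕ} (hx : x ∈ s) (hx2 : x.1 ^ 2 ≠ 1) :
    ∃ (a t : Multiset (Lˣ × ℕ)) (D e m : ℕ) (ε : ℤ), s = a + t ∧
      FAdm Odd (Fintype.card F : ℤ) m t ∧ n = 2 * (D * e) + m ∧ 0 < D ∧ 0 < e ∧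
      (ε = 1 ∨ ε = -1) ∧
      ∀ y ∈ a, y.2 = e ∧ (orderOf y.1 : ℤ) ∣ (Fintype.card F : ℤ) ^ D - ε := by
  obtain ⟨a, t, w, m, rfl, h3, h4, h5, rfl⟩ := hs.exists_atom hx
  obtain ⟨D, e, H, ε, k1, k2, k3, rfl, k5, -, k7, -⟩ := h4.spec_of_ne h2 h3 hx2
  exact ⟨a, t, D, e, m, ε, rfl, h5, rfl, k1, k2, k3, fun y hy => ⟨(k7 y hy).1,
    k5 ▸ by exact_mod_cast orderOf_dvd_of_pow_eq_one (k7 y hy).2.2.1⟩⟩

theorem upper (h2 : (2 : F) ≠ 0) {p : ℕ} {G : Type*} [Group G]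
    (hG : Wit p (Fintype.card F) G) {s : Multiset (Lˣ × ℕ)} (hs : NecO F 9 s) :
    ∃ g : G, OK p s (orderOf g) := by
  have hodd := H30.two_ne_zero_iff_odd_card.1 h2
  have hcl : ∀ {e j k : ℕ}, e ≤ j → p ^ Nat.clog p j ∣ k → p ^ Nat.clog p e ∣ k := fun h h' =>
    (pow_dvd_pow p (Nat.clog_mono_right p h)).trans h'
  have fin1 : ∀ (D j H : ℕ) (ε : ℤ), 0 < D → D + j = 4 → (ε = 1 ∨ ε = -1) →
      2 * (H : ℤ) = (Fintype.card F : ℤ) ^ D - ε → (∀ x ∈ s, x.1 ^ H = 1 ∧ x.2 ≤ 2 * j + 1) →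
      ∃ g : G, OK p s (orderOf g) := fun D j H ε k1 k2 k3 k4 k5 => by
    obtain ⟨g, ⟨c, hc⟩, k6⟩ := hG.w1 D j H ε k1 k2 k3 k4
    exact ⟨g, fun x hx => ⟨by rw [hc, pow_mul, (k5 x hx).1, one_pow], hcl (k5 x hx).2 k6⟩⟩
  have fin2 : ∀ (D D' j : ℕ) (ε ε' : ℤ), 0 < D → 0 < D' → D + D' + j = 4 → (ε = 1 ∨ ε = -1) →
      (ε' = 1 ∨ ε' = -1) → (j = 0 → ε' = -ε) →
      (∀ x ∈ s, (x.1 ^ 2 = 1 ∨ (orderOf x.1 : ℤ) ∣ (Fintype.card F : ℤ) ^ D - ε ∨
        (orderOf x.1 : ℤ) ∣ (Fintype.card F : ℤ) ^ D' - ε') ∧ x.2 ≤ 2 * j + 1) →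
      ∃ g : G, OK p s (orderOf g) := fun D D' j ε ε' k1 k2 k3 k4 k5 k6 k7 => by
    obtain ⟨H, hH⟩ := exists_half hodd D k4
    obtain ⟨H', hH'⟩ := exists_half hodd D' k5
    obtain ⟨g, k8, k9, k10⟩ := hG.w2 D D' j H H' ε ε' k1 k2 k3 k4 k5 k6 hH hH'
    refine ⟨g, fun x hx => ⟨orderOf_dvd_iff_pow_eq_one.1 ?_, hcl (k7 x hx).2 k10⟩⟩
    rcases (k7 x hx).1 with h | h | h
    · exact ((orderOf_dvd_of_pow_eq_one h).mul_right H).trans k8
    · rw [← hH] at h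
      exact Dvd.dvd.trans (by exact_mod_cast h) k8
    · rw [← hH'] at h
      exact Dvd.dvd.trans (by exact_mod_cast h) k9
  by_cases h0 : ∀ x ∈ s, x.1 ^ 2 = 1
  · by_cases h1 : ∀ x ∈ s, x.1 = 1
    · obtain ⟨g, hg⟩ := hG.w4
      exact ⟨g, fun x hx => ⟨by rw [h1 x hx, one_pow], hcl (hs.fadm.adm.le hx) hg⟩⟩
    push Not at h1
    obtain ⟨y, hy, hy1⟩ := h1
    have k : ∀ H : ℕ, ∀ x ∈ s, x.1 ^ (2 * H) = 1 ∧ x.2 ≤ 2 * 3 + 1 := fun H x hx =>
      ⟨by rw [pow_mul, h0 x hx, one_pow], by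
        have := add_two_le h2 hs.fadm hs.det (by decide) hy hy1 hx; omega⟩
    obtain ⟨z, hz⟩ := hodd
    rcases Nat.even_or_odd' z with ⟨y, rfl | rfl⟩
    · exact fin1 1 3 (2 * y) 1 one_pos rfl (Or.inl rfl) (by rw [hz]; push_cast; ring) (k _)
    · exact fin1 1 3 (2 * (y + 1)) (-1) one_pos rfl (Or.inr rfl) (by rw [hz]; push_cast; ring) (k _)
  push Not at h0
  obtain ⟨x, hx, hx2⟩ := h0
  obtain ⟨a, t, D, e, H, m, ε, rfl, -, k2, k3, k4, k5, k6, k7, k8, k9, k10⟩ :=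
    hs.exists_atom h2 hx hx2
  have k11 : ∀ y ∈ a, (orderOf y.1 : ℤ) ∣ (Fintype.card F : ℤ) ^ D - ε := fun y hy =>
    k8 ▸ by exact_mod_cast orderOf_dvd_of_pow_eq_one (k9 y hy).2.2
  have hDe := Nat.le_mul_of_pos_right D k6
  have hDe' : D + e ≤ D * e + 1 := by nlinarith
  have hneg : -ε = 1 ∨ -ε = -1 := by omega
  by_cases h1 : ∀ y ∈ t, y.1 ^ 2 = 1
  · by_cases h3 : (∀ y ∈ t, y.1 = 1) ∧ Odd e
    · refine fin1 D (4 - D) H ε k5 (by omega) k7 k8 fun y hy => ?_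
      rcases Multiset.mem_add.1 hy with hy | hy
      · exact ⟨k10 h3.1 h3.2 y hy, by rw [(k9 y hy).1]; omega⟩
      · exact ⟨by rw [h3.1 y hy, one_pow], by have := k2.adm.le hy; omega⟩
    have h4 : D ≤ 3 ∧ e ≤ 2 * (3 - D) + 1 ∧ ∀ y ∈ t, y.2 ≤ 2 * (3 - D) + 1 := by
      rcases not_and_or.1 h3 with h3 | h3
      · push Not at h3
        obtain ⟨y, hy, hy1⟩ := h3
        have h4 := fun x hx => add_two_le h2 k2 k3 (Nat.odd_iff.2 (by omega)) hy hy1 (x := x) hx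
        have h5 := h4 y hy
        have h6 := k2.adm.pos y hy
        exact ⟨by omega, by omega, fun x hx => by have := h4 x hx; omega⟩
      · have h4 : D * 2 ≤ D * e := Nat.mul_le_mul_left D (by rw [Nat.odd_iff] at h3; omega)
        exact ⟨by omega, by omega, fun x hx => by have := k2.adm.le hx; omega⟩
    refine fin2 D 1 (3 - D) ε (-ε) k5 one_pos (by omega) k7 hneg (fun _ => rfl) fun y hy => ?_
    rcases Multiset.mem_add.1 hy with hy | hy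
    · exact ⟨Or.inr (Or.inl (k11 y hy)), (k9 y hy).1 ▸ h4.2.1⟩
    · exact ⟨Or.inl (h1 y hy), h4.2.2 y hy⟩
  push Not at h1
  obtain ⟨y, hy, hy2⟩ := h1
  obtain ⟨a', t', D', e', m', ε', rfl, l2, l4, l5, l6, l7, l9⟩ := exists_atom_ne h2 k2 hy hy2
  have hDe2 := Nat.le_mul_of_pos_right D' l6
  have hDe2' : D' + e' ≤ D' * e' + 1 := by nlinarith
  by_cases h1 : ∀ z ∈ t', z.1 ^ 2 = 1
  · have key : ∀ (E E' : ℕ) (η η' : ℤ), 0 < E → 0 < E' → E + E' = D + D' → (η = 1 ∨ η = -1) →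
        (η' = 1 ∨ η' = -1) → (D + D' = 4 → η' = -η) →
        (∀ z ∈ a + a', (orderOf z.1 : ℤ) ∣ (Fintype.card F : ℤ) ^ E - η ∨
          (orderOf z.1 : ℤ) ∣ (Fintype.card F : ℤ) ^ E' - η') →
        ∃ g : G, OK p (a + (a' + t')) (orderOf g) := fun E E' η η' m1 m2 m3 m4 m5 m6 m7 => by
      refine fin2 E E' (4 - (D + D')) η η' m1 m2 (by omega) m4 m5 (fun h => m6 (by omega))
        fun z hz => ?_
      rw [← add_assoc] at hz
      rcases Multiset.mem_add.1 hz with hz | hz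
      · refine ⟨Or.inr (m7 z hz), ?_⟩
        rcases Multiset.mem_add.1 hz with hz | hz
        · rw [(k9 z hz).1]; omega
        · rw [(l9 z hz).1]; omega
      · exact ⟨Or.inl (h1 z hz), by have := l2.adm.le hz; omega⟩
    by_cases h3 : D + D' = 4 → ε' = -ε
    · exact key D D' ε ε' k5 l5 rfl k7 l7 h3 fun z hz =>
        (Multiset.mem_add.1 hz).imp (k11 z) fun hz => (l9 z hz).2
    obtain ⟨h4, rfl⟩ : D + D' = 4 ∧ ε' = ε := by omega
    have h5 : (Fintype.card F : ℤ) ^ 1 - ε' ∣ (Fintype.card F : ℤ) ^ 3 - ε' :=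
      ⟨(Fintype.card F : ℤ) ^ 2 + Fintype.card F * ε' + 1, by rcases k7 with rfl | rfl <;> ring⟩
    obtain ⟨rfl, rfl⟩ | ⟨rfl, rfl⟩ | ⟨rfl, rfl⟩ :
        (D = 1 ∧ D' = 3) ∨ (D = 2 ∧ D' = 2) ∨ (D = 3 ∧ D' = 1) := by omega
    · exact key 3 1 ε' (-ε') three_pos one_pos rfl k7 hneg (fun _ => rfl) fun z hz => Or.inl
        ((Multiset.mem_add.1 hz).elim (fun hz => (k11 z hz).trans h5) fun hz => (l9 z hz).2)
    · exact key 2 2 ε' (-ε') two_pos two_pos rfl k7 hneg (fun _ => rfl) fun z hz => Or.inl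
        ((Multiset.mem_add.1 hz).elim (k11 z) fun hz => (l9 z hz).2)
    · exact key 3 1 ε' (-ε') three_pos one_pos rfl k7 hneg (fun _ => rfl) fun z hz => Or.inl
        ((Multiset.mem_add.1 hz).elim (k11 z) fun hz => (l9 z hz).2.trans h5)
  push Not at h1
  obtain ⟨z, hz, hz2⟩ := h1
  obtain ⟨a'', t'', D'', e'', m'', ε'', rfl, n2, n4, n5, n6, n7, n9⟩ := exists_atom_ne h2 l2 hz hz2
  have hDe3 := Nat.le_mul_of_pos_right D'' n6
  have hDe3' : D'' + e'' ≤ D'' * e'' + 1 := by nlinarith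
  have hall : ∀ w ∈ a + (a' + (a'' + t'')), (w.1 ^ 2 = 1 ∨ ∃ (E : ℕ) (η : ℤ), (η = 1 ∨ η = -1) ∧
      (E = D ∨ E = D' ∨ E = D'' ∨ E = 1) ∧ (orderOf w.1 : ℤ) ∣ (Fintype.card F : ℤ) ^ E - η) ∧
      (w.2 = e ∨ w.2 = e' ∨ w.2 = e'' ∨ w.2 ≤ m'') := fun w hw => by
    simp only [Multiset.mem_add] at hw
    rcases hw with hw | hw | hw | hw
    · exact ⟨Or.inr ⟨D, ε, k7, by simp, k11 w hw⟩, by simp [(k9 w hw).1]⟩
    · exact ⟨Or.inr ⟨D', ε', l7, by simp, (l9 w hw).2⟩, by simp [(l9 w hw).1]⟩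
    · exact ⟨Or.inr ⟨D'', ε'', n7, by simp, (n9 w hw).2⟩, by simp [(n9 w hw).1]⟩
    · refine ⟨or_iff_not_imp_left.2 fun h => ?_, by simp [n2.adm.le hw]⟩
      obtain ⟨E, η, o1, o2, o3, o4⟩ := n2.two_points hw hw h
      have := Nat.le_mul_of_pos_right E (n2.adm.pos w hw)
      refine ⟨E, η, o2, Or.inr (Or.inr (Or.inr ?_)), o3⟩
      rcases o4 with ⟨-, -, o4⟩ | ⟨_, _, -, -, o4⟩ <;> omega
  by_cases h3 : D = 1 ∧ D' = 1 ∧ D'' = 1
  · refine fin2 1 1 2 1 (-1) one_pos one_pos rfl (Or.inl rfl) (Or.inr rfl) (fun _ => rfl)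
      fun w hw => ⟨(hall w hw).1.imp_right fun ⟨E, η, o1, o2, o3⟩ => ?_, by
        have := (hall w hw).2; omega⟩
    obtain rfl : E = 1 := by omega
    rcases o1 with rfl | rfl
    · exact Or.inl o3
    · exact Or.inr o3
  · refine fin2 2 2 0 1 (-1) two_pos two_pos rfl (Or.inl rfl) (Or.inr rfl) (fun _ => rfl)
      fun w hw => ⟨(hall w hw).1.imp_right fun ⟨E, η, o1, o2, o3⟩ => ?_, by
        have := (hall w hw).2; omega⟩
    obtain rfl | rfl : E = 1 ∨ E = 2 := by omega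
    · exact Or.inl (dvd_pow_two_mul_sub_one o1 o3)
    · rcases o1 with rfl | rfl
      · exact Or.inl o3
      · exact Or.inr o3

theorem merge [DecidableEq L] (h2 : (2 : F) ≠ 0) {s : Multiset (Lˣ × ℕ)} (hs : NecO F 8 s) :
    NecO F 9 ((s.filter fun x => ¬ x.1 = 1) + {(1, wt (s.filter fun x => x.1 = 1) + 1)}) := by
  have h1 : ∀ Q : ℤ, (s.filter fun x => x.1 = 1).map (frob Q) = s.filter fun x => x.1 = 1 :=
    fun Q => (Multiset.map_congr rfl fun x hx => by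
      rw [frob, (Multiset.mem_filter.1 hx).2, one_zpow, ← (Multiset.mem_filter.1 hx).2]
      rfl).trans (Multiset.map_id _)
  have h3 : FAdm Odd (Fintype.card F : ℤ) (wt (s.filter fun x => x.1 = 1))
      (s.filter fun x => x.1 = 1) :=
    ⟨⟨fun x hx => hs.fadm.adm.pos x (Multiset.mem_filter.1 hx).1, h1 _, rfl⟩, h1 _,
      fun α hα e he => by
        have : Even ((s.filter fun x => x.1 = 1).count (α, e)) := by
          rw [Multiset.count_filter]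
          split_ifs
          · convert hs.fadm.par α hα e he
          · exact Even.zero
        convert this⟩
  have h4 := Multiset.filter_add_not (fun x : Lˣ × ℕ => x.1 = 1) s
  obtain ⟨h5, h6⟩ := FAdm.of_add (h4.symm ▸ hs.fadm) h3
  have h7 := Nat.even_iff.1 (parity h2 hs.fadm hs.det)
  have h8 := two_ne_zero_ext (L := L) h2
  refine ⟨(h5.add (fadm_single (one_zpow _) (one_pow 2) (Nat.add_one_pos _)
    (Nat.odd_iff.2 (by omega)))).cast (by omega), ?_, fun h => ?_⟩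
  · have h9 := hs.det
    rw [← h4, ddet_add, ddet_eq_pow_wt fun x hx => (Multiset.mem_filter.1 hx).2] at h9
    simpa using h9
  · have h9 := hs.spin fun x hx hx1 => h x (Multiset.mem_add.2 (Or.inl (Multiset.mem_filter.2
      ⟨hx, hx1 ▸ neg_one_ne_one_of_two h8⟩))) hx1
    rw [← h4, dprod_add, dprod_eq_one fun x hx => by rw [(Multiset.mem_filter.1 hx).2, zp_one h8],
      one_mul] at h9
    rw [dprod_add, dprod_eq_one (s := {_}) fun x hx => by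
      rw [Multiset.mem_singleton.1 hx, zp_one h8], mul_one, h9]

end Upper

section Real

variable {F : Type*} [Field F] [Fintype F] {L : Type*} [Field L] [Algebra F L] [IsAlgClosed L]
  [Algebra.IsAlgebraic F L] {ι : Type} [Fintype ι] [DecidableEq ι] {Q : QuadraticForm F (ι → F)}
  {h2 : (2 : F) ≠ 0}

theorem exists_add_unip (hQ : (QuadraticMap.polarBilin Q).Nondegenerate)
    {t u : Multiset (Lˣ × ℕ)} {δ : L} (ht : RealO h2 t δ 1) (hd : ddet t = 1) {k : ℕ}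
    (hu : FAdm Odd (Fintype.card F : ℤ) k u) (h1 : ∀ x ∈ u, x.1 = 1) {e : ℕ} (he : Odd e)
    (hm : (1, e) ∈ u) (hι : wt t + k = Fintype.card ι) : ∃ g : Omega F ⇑Q, ojord L g = t + u := by
  have h3 := mul_self_eq_one_iff.1 (dch_mul_self (L := L) h2 hQ)
  refine ((ht.add (realO_unip hu h1 he hm (δ := δ * dch L Q) ?_)).cast rfl rfl
    (mul_one _)).exists_Omega ?_ hQ (by rw [wt_add, hu.adm.wt_eq, hι]) ?_
  · rcases ht.sign with rfl | rfl <;> rcases h3 with h | h <;> simp [h]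
  · rw [ddet_add, hd, ddet_eq_pow_wt h1, one_pow, one_mul]
  · rw [← mul_assoc, mul_self_eq_one_iff.2 ht.sign, one_mul]

theorem real_w1 {D H : ℕ} (hD : 0 < D) {ε : ℤ} (hε : ε = 1 ∨ ε = -1)
    (hH : 2 * (H : ℤ) = (Fintype.card F : ℤ) ^ D - ε) :
    ∃ t : Multiset (Lˣ × ℕ), RealO h2 t ((-1) ^ H) 1 ∧ ddet t = 1 ∧ wt t = 2 * D ∧
      ∀ k, (∀ x ∈ t, x.1 ^ k = 1) → H ∣ k := by
  obtain ⟨α, a, k1, k2, k3, k4, k5⟩ := realO_torus (h2 := h2) (L := L) hD hε hH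
  refine ⟨_, k5.sq, ?_, (wt_map _ _).trans k2, fun k hk => ?_⟩
  · simp only [ddet, dpow, Multiset.map_map, Function.comp_def, zpow_pow_comm] at k4 ⊢
    rw [Multiset.prod_map_zpow, k4, one_zpow]
  · have := hk _ (Multiset.mem_map_of_mem _ k3)
    rw [zpow_ofNat, ← pow_mul] at this
    exact Nat.dvd_of_mul_dvd_mul_left two_pos (k1 ▸ orderOf_dvd_of_pow_eq_one this)

theorem real_w2 {D D' H H' : ℕ} (hD : 0 < D) (hD' : 0 < D') {ε ε' : ℤ} (hε : ε = 1 ∨ ε = -1)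
    (hε' : ε' = 1 ∨ ε' = -1) (hH : 2 * (H : ℤ) = (Fintype.card F : ℤ) ^ D - ε)
    (hH' : 2 * (H' : ℤ) = (Fintype.card F : ℤ) ^ D' - ε') :
    ∃ t : Multiset (Lˣ × ℕ), RealO h2 t ((-1) ^ (H + H')) 1 ∧ ddet t = 1 ∧ wt t = 2 * (D + D') ∧
      ∀ k, (∀ x ∈ t, x.1 ^ k = 1) → 2 * H ∣ k ∧ 2 * H' ∣ k := by
  obtain ⟨α, a, k1, k2, k3, k4, k5⟩ := realO_torus (h2 := h2) (L := L) hD hε hH
  obtain ⟨β, b, l1, l2, l3, l4, l5⟩ := realO_torus (h2 := h2) (L := L) hD' hε' hH'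
  exact ⟨a + b, (k5.add l5).cast rfl (pow_add _ _ _).symm (by simp), by simp [k4, l4],
    by rw [wt_add, k2, l2, mul_add], fun k hk =>
      ⟨k1 ▸ orderOf_dvd_of_pow_eq_one (hk (α, 1) (by simp [k3])),
        l1 ▸ orderOf_dvd_of_pow_eq_one (hk (β, 1) (by simp [l3]))⟩⟩

variable (p : ℕ) [hpp : Fact p.Prime] [CharP F p]

include h2 in
theorem wit_odd (L : Type*) [Field L] [Algebra F L] [IsAlgClosed L] [Algebra.IsAlgebraic F L]
    (hQ : (QuadraticMap.polarBilin Q).Nondegenerate) (hι : Fintype.card ι = 9) :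
    Wit p (Fintype.card F) (Omega F ⇑Q) := by
  have key : ∀ (t : Multiset (Lˣ × ℕ)) (δ : L) (j : ℕ), RealO h2 t δ 1 → ddet t = 1 →
      wt t + 2 * j = 8 → ∃ g : Omega F ⇑Q, (∀ x ∈ t, x.1 ^ orderOf g = 1) ∧
        p ^ Nat.clog p (2 * j + 1) ∣ orderOf g := fun t δ j k1 k2 k3 => by
    obtain ⟨g, hg⟩ := exists_add_unip hQ k1 k2 (fadm_single (one_zpow _) (one_pow 2)
      (Nat.add_one_pos _) (odd_two_mul_add_one j)) (by simp) (odd_two_mul_add_one j) (by simp)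
      (by omega)
    have := (orderOf_omega_dvd_iff (L := L) p g _).1 dvd_rfl
    rw [hg] at this
    exact ⟨g, fun x hx => (this x (by simp [hx])).1, (this (1, 2 * j + 1) (by simp)).2⟩
  refine ⟨fun D j H ε k1 k2 k3 k4 => ?_, fun D D' j H H' ε ε' k1 k2 k3 k4 k5 _ k7 k8 => ?_, ?_⟩
  · obtain ⟨t, l1, l2, l3, l4⟩ := real_w1 (h2 := h2) (L := L) k1 k3 k4
    obtain ⟨g, l5, l6⟩ := key t _ j l1 l2 (by omega)
    exact ⟨g, l4 _ l5, l6⟩
  · obtain ⟨t, l1, l2, l3, l4⟩ := real_w2 (h2 := h2) (L := L) k1 k2 k4 k5 k7 k8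
    obtain ⟨g, l5, l6⟩ := key t _ j l1 l2 (by omega)
    exact ⟨g, (l4 _ l5).1, (l4 _ l5).2, l6⟩
  · obtain ⟨g, hg⟩ := (realO_single (h2 := h2) (L := L) (e := 9) (by decide)
      (mul_self_eq_one_iff.1 (dch_mul_self h2 hQ))).exists_Omega (by simp) hQ (by simp [hι]) rfl
    exact ⟨g, ((orderOf_omega_dvd_iff (L := L) p g _).1 dvd_rfl (1, 9) (by simp [ojord, hg])).2⟩

include h2 in
variable (L) in
theorem wit_minus (hQ : (QuadraticMap.polarBilin Q).Nondegenerate) (hι : Fintype.card ι = 8)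
    (hδ : dch L Q = -1) {G : Type*} [Group G]
    (h0 : ∀ g : Omega F ⇑Q, ∃ x : G, orderOf g ∣ orderOf x)
    (h1 : ∀ (g : Omega F ⇑Q) e, (1, e) ∈ ojord L g → ∃ x : G, orderOf g ∣ orderOf x ∧
      p ^ Nat.clog p (e + 1) ∣ orderOf x) : Wit p (Fintype.card F) G := by
  have hp2 : p ≠ 2 := fun h => h2 ((two_eq_zero_iff F p).2 h)
  have hodd := H30.two_ne_zero_iff_odd_card.1 h2
  have hcl : ∀ j, Nat.clog p (2 * j + 1 + 1) = Nat.clog p (2 * (j + 1) + 1) := fun j => by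
    refine clog_pred_eq (n := 2 * (j + 1) + 1) hpp.out.one_lt (by omega) fun ⟨i, hi⟩ => ?_
    have := (hpp.out.odd_of_ne_two hp2).pow (n := i)
    rw [← hi, Nat.odd_iff] at this
    omega
  have hu : ∀ j, FAdm Odd (Fintype.card F : ℤ) (2 * j + 1 + 1)
      ({(1, 2 * j + 1)} + {(1, 1)} : Multiset (Lˣ × ℕ)) := fun j =>
    (fadm_single (one_zpow _) (one_pow 2) (Nat.add_one_pos _) (odd_two_mul_add_one j)).add
      (fadm_single (one_zpow _) (one_pow 2) one_pos odd_one)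
  have key : ∀ (t : Multiset (Lˣ × ℕ)) (δ : L) (j : ℕ), RealO h2 t δ 1 → ddet t = 1 →
      wt t + 2 * j = 8 → (j = 0 → δ = -1) → ∃ g : G, (∀ x ∈ t, x.1 ^ orderOf g = 1) ∧
        p ^ Nat.clog p (2 * j + 1) ∣ orderOf g := fun t δ j k1 k2 k3 k4 => by
    rcases j with _ | j
    · obtain ⟨g, hg⟩ := k1.exists_Omega k2 hQ (by omega) (hδ.trans (k4 rfl).symm)
      obtain ⟨x, hx⟩ := h0 g
      have := (orderOf_omega_dvd_iff (L := L) p g _).1 hx
      exact ⟨x, fun y hy => (this y (by rwa [ojord, hg])).1, by simp⟩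
    · obtain ⟨g, hg⟩ := exists_add_unip hQ k1 k2 (hu j) (by simp) odd_one (by simp) (by omega)
      obtain ⟨x, hx, hx'⟩ := h1 g (2 * j + 1) (by simp [hg])
      have := (orderOf_omega_dvd_iff (L := L) p g _).1 hx
      rw [hg] at this
      exact ⟨x, fun y hy => (this y (by simp [hy])).1, hcl j ▸ hx'⟩
  have hq : ∃ z : ℤ, (Fintype.card F : ℤ) = 2 * z + 1 := by
    obtain ⟨z, hz⟩ := hodd
    exact ⟨z, by exact_mod_cast hz⟩
  obtain ⟨z, hz⟩ := hq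
  have w2 : ∀ (D D' j H H' : ℕ) (ε ε' : ℤ), 0 < D → 0 < D' → D + D' + j = 4 → (ε = 1 ∨ ε = -1) →
      (ε' = 1 ∨ ε' = -1) → (j = 0 → ε' = -ε) → 2 * (H : ℤ) = (Fintype.card F : ℤ) ^ D - ε →
      2 * (H' : ℤ) = (Fintype.card F : ℤ) ^ D' - ε' → ∃ g : G, 2 * H ∣ orderOf g ∧
        2 * H' ∣ orderOf g ∧ p ^ Nat.clog p (2 * j + 1) ∣ orderOf g := by
    intro D D' j H H' ε ε' k1 k2 k3 k4 k5 k6 k7 k8
    obtain ⟨t, l1, l2, l3, l4⟩ := real_w2 (h2 := h2) (L := L) k1 k2 k4 k5 k7 k8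
    obtain ⟨g, l5, l6⟩ := key t _ j l1 l2 (by omega) fun hj => Odd.neg_one_pow (by
      rw [k6 hj, hz] at k8
      rw [hz] at k7
      rw [← Int.odd_coe_nat]
      obtain ⟨rfl, rfl⟩ | ⟨rfl, rfl⟩ | ⟨rfl, rfl⟩ :
          (D = 1 ∧ D' = 3) ∨ (D = 2 ∧ D' = 2) ∨ (D = 3 ∧ D' = 1) := by omega
      · exact ⟨2 * z ^ 3 + 3 * z ^ 2 + 2 * z, by push_cast; linarith⟩
      · exact ⟨2 * z ^ 2 + 2 * z, by push_cast; linarith⟩
      · exact ⟨2 * z ^ 3 + 3 * z ^ 2 + 2 * z, by push_cast; linarith⟩)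
    exact ⟨g, (l4 _ l5).1, (l4 _ l5).2, l6⟩
  refine ⟨fun D j H ε k1 k2 k3 k4 => ?_, w2, ?_⟩
  · by_cases hj : j = 0 ∧ ε = 1
    · obtain ⟨rfl, rfl⟩ := hj
      obtain rfl : D = 4 := by omega
      obtain ⟨H', hH'⟩ := exists_half hodd 2 (Or.inl rfl)
      obtain ⟨g, l1, l2, l3⟩ := w2 2 2 0 H' (H' + 1) 1 (-1) two_pos two_pos rfl (Or.inl rfl)
        (Or.inr rfl) (fun _ => rfl) hH' (by push_cast; linarith)
      refine ⟨g, ?_, l3⟩
      obtain rfl : H = 2 * (H' * (H' + 1)) := by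
        zify
        have : (Fintype.card F : ℤ) ^ 4 = (2 * H' + 1) ^ 2 := by rw [hH']; ring
        linarith
      obtain ⟨c, hc⟩ := (dvd_mul_right 2 H').trans l1
      rw [hc] at l1 l2 ⊢
      exact Nat.mul_dvd_mul_left 2 (Nat.Coprime.mul_dvd_of_dvd_of_dvd (by simp)
        (Nat.dvd_of_mul_dvd_mul_left two_pos l1) (Nat.dvd_of_mul_dvd_mul_left two_pos l2))
    obtain ⟨t, l1, l2, l3, l4⟩ := real_w1 (h2 := h2) (L := L) k1 k3 k4
    obtain ⟨g, l5, l6⟩ := key t _ j l1 l2 (by omega) fun hj' => Odd.neg_one_pow (by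
      obtain rfl : D = 4 := by omega
      obtain rfl : ε = -1 := by omega
      rw [hz] at k4
      rw [← Int.odd_coe_nat]
      exact ⟨4 * z ^ 4 + 8 * z ^ 3 + 6 * z ^ 2 + 2 * z, by linarith⟩)
    exact ⟨g, l4 _ l5, l6⟩
  · obtain ⟨g, hg⟩ := (realO_unip (h2 := h2) (L := L) (hu 3) (by simp) odd_one (by simp)
      (Or.inr rfl)).exists_Omega (by simp) hQ (by simp [hι]) hδ
    obtain ⟨x, -, hx⟩ := h1 g 7 (by simp [ojord, hg])
    exact ⟨x, hcl 3 ▸ hx⟩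

end Real

section Affine

variable {F : Type*} [Field F] {ι : Type*} [Fintype ι] [DecidableEq ι]

theorem exists_vec {A : Matrix ι ι F} {x : F[X] × ℕ} (hx : x ∈ med A) :
    ∃ v, ∀ a : F[X], (aeval A a).mulVec v = 0 → x.1 ^ x.2 ∣ a := by
  obtain ⟨-, t, y, h1, e, he⟩ := hasED_med A
  rw [← h1] at hx
  obtain ⟨i, -, rfl⟩ := Multiset.mem_map.1 hx
  refine ⟨e.symm (Pi.single i 1), fun a ha => ?_⟩
  have h2 := congrFun (aeval_intertwine (f := Matrix.toLin' A) (g := model fun i => (y i).1 ^ (y i).2)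
    e.toLinearMap he a (e.symm (Pi.single i 1))) i
  rw [aeval_toLin', Matrix.toLin'_apply, ha, map_zero, aeval_model_apply] at h2
  simpa [AdjoinRoot.mk_eq_zero] using h2.symm

theorem semidirect_pow {H : Type*} [Group H] (ρ : H →* GL ι F)
    (φ : H →* MulAut (Multiplicative (ι → F)))
    (hφ : ∀ h v, (φ h v).toAdd = (ρ h : Matrix ι ι F).mulVec v.toAdd)
    (x : Multiplicative (ι → F) ⋊[φ] H) (k : ℕ) : x ^ k = 1 ↔ x.right ^ k = 1 ∧
      (aeval (ρ x.right : Matrix ι ι F) (∑ i ∈ Finset.range k, X ^ i : F[X])).mulVec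
        x.left.toAdd = 0 := by
  have h1 : ∀ k, (x ^ k).right = x.right ^ k := fun k => map_pow SemidirectProduct.rightHom x k
  have h2 : ∀ k, (x ^ k).left.toAdd = (aeval (ρ x.right : Matrix ι ι F)
      (∑ i ∈ Finset.range k, X ^ i : F[X])).mulVec x.left.toAdd := fun k => by
    induction k with
    | zero => simp
    | succ k ih =>
      rw [pow_succ, SemidirectProduct.mul_left, toAdd_mul, ih, hφ, h1, Finset.sum_range_succ,
        map_add, Matrix.add_mulVec]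
      simp
  rw [← h1, ← h2, SemidirectProduct.ext_iff, and_comm]
  rfl

theorem hgeom (R : Type*) [CommRing R] (k : ℕ) :
    (∑ i ∈ Finset.range k, X ^ i : R[X]) * (X - C 1) = X ^ k - C 1 := by
  rw [C_1, geom_sum_mul]

end Affine

/-- Let F be a finite field of odd order q, let Ω₉ be the simple orthogonal group PΩ(9, F), and let Ω₈⁻ be the commutator subgroup of the isometry group of a minus-type non-singular quadratic form on V = F⁸ (the simple group PΩ⁻(8, F), acting on its natural module V). Then Ω₉ and the semidirect product V ⋊ Ω₈⁻ have exactly the same set of element orders. -/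
theorem result {F : Type*} [Field F] [Fintype F] (hF : Odd (Fintype.card F)) (a b : F)
    (hab : ∀ z₁ z₂ : F, z₁ ^ 2 + a * z₁ * z₂ + b * z₂ ^ 2 = 0 → z₁ = 0 ∧ z₂ = 0) :
    Set.range (orderOf : Cfsg.POmega F (Cfsg.quadFormOdd 4 F) → ℕ) =
      Set.range (orderOf :
        (Multiplicative (((Fin 3 ⊕ Fin 3) ⊕ Fin 2) → F)) ⋊[
          (MulAutMultiplicative (((Fin 3 ⊕ Fin 3) ⊕ Fin 2) → F)).symm.toMonoidHom.comp
           ((DistribMulAction.toAddAut (LinearMap.GeneralLinearGroup F (((Fin 3 ⊕ Fin 3) ⊕ Fin 2) → F))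
              (((Fin 3 ⊕ Fin 3) ⊕ Fin 2) → F)).comp
            (Matrix.GeneralLinearGroup.toLin.toMonoidHom.comp
              ((Cfsg.isometryGroup F (Cfsg.quadFormMinus 3 F a b)).subtype.comp
                (Cfsg.Omega F (Cfsg.quadFormMinus 3 F a b)).subtype)))]
          ↥(Cfsg.Omega F (Cfsg.quadFormMinus 3 F a b)) → ℕ) := by
  obtain ⟨p, hp⟩ := CharP.exists F
  have hpp := Fact.mk (CharP.char_is_prime F p)
  let L := AlgebraicClosure F
  have : CharP L p := charP_of_injective_algebraMap (algebraMap F _).injective p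
  have h2 := H30.two_ne_zero_iff_odd_card.2 hF
  have hQ := H30.qOdd_nondegenerate h2 4
  have hQ' := H30.qMinus_nondegenerate 3 hab
  rw [← H30.coe_qOdd, range_orderOf_pomega_odd h2 hQ (by decide) (by decide), ← H30.coe_qMinus]
  let ρ := (isometryGroup F ⇑(H30.qMinus F 3 a b)).subtype.comp
    (Omega F ⇑(H30.qMinus F 3 a b)).subtype
  let φ := (MulAutMultiplicative (((Fin 3 ⊕ Fin 3) ⊕ Fin 2) → F)).symm.toMonoidHom.comp
    ((DistribMulAction.toAddAut (LinearMap.GeneralLinearGroup F (((Fin 3 ⊕ Fin 3) ⊕ Fin 2) → F))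
      (((Fin 3 ⊕ Fin 3) ⊕ Fin 2) → F)).comp (Matrix.GeneralLinearGroup.toLin.toMonoidHom.comp ρ))
  change _ = Set.range (orderOf : (Multiplicative (((Fin 3 ⊕ Fin 3) ⊕ Fin 2) → F)) ⋊[φ]
    Omega F ⇑(H30.qMinus F 3 a b) → ℕ)
  have hpow := semidirect_pow ρ φ fun _ _ => rfl
  have : Finite (Multiplicative (((Fin 3 ⊕ Fin 3) ⊕ Fin 2) → F) ⋊[φ]
      Omega F ⇑(H30.qMinus F 3 a b)) :=
    Finite.of_equiv _ SemidirectProduct.equivProd.symm
  have W1 := wit_odd p (h2 := h2) L hQ (by decide)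
  have W2 : Wit p (Fintype.card F) (Multiplicative (((Fin 3 ⊕ Fin 3) ⊕ Fin 2) → F) ⋊[φ]
      Omega F ⇑(H30.qMinus F 3 a b)) := by
    refine wit_minus L p (h2 := h2) hQ' (by decide) ?_ (fun g => ⟨⟨1, g⟩,
      orderOf_dvd_of_pow_eq_one ((hpow _ _).1 (pow_orderOf_eq_one _)).1⟩) fun g e he => ?_
    · have h3 := det_gram_ne_zero hQ'
      refine (mul_self_eq_one_iff.1 (dch_mul_self h2 hQ')).resolve_left fun h => ?_
      rw [dch, ← isSquare_iff_map_pow h2 h3, H30.coe_qMinus, H79.det_gram_minus,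
        Even.neg_one_pow (by decide), one_mul] at h
      exact H79.Aniso.not_isSquare hab h2 h
    · obtain ⟨v, hv⟩ := exists_vec (mem_med_of_mem_ujord he)
      obtain ⟨h3, h4⟩ := (hpow ⟨Multiplicative.ofAdd v, g⟩ _).1 (pow_orderOf_eq_one _)
      refine ⟨⟨Multiplicative.ofAdd v, g⟩, orderOf_dvd_of_pow_eq_one h3,
        ((X_sub_C_pow_dvd_X_pow_sub_C p (c := 1) (one_ne_zero (α := F)) (Nat.add_one_pos e) _).1 ?_).2⟩
      rw [← hgeom, pow_succ]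
      refine mul_dvd_mul_right ?_ _
      simpa using hv _ h4
  ext m
  constructor
  · rintro ⟨g, rfl⟩
    obtain ⟨x, hx⟩ := upper h2 W2 (necO_ojord (L := L) h2 hQ g)
    exact exists_orderOf_eq_of_dvd x ((orderOf_omega_dvd_iff p g _).2 hx)
  · rintro ⟨x, rfl⟩
    classical
    obtain ⟨g, hg⟩ := upper h2 W1 (merge h2 (necO_ojord (L := L) h2 hQ' x.right))
    refine exists_orderOf_eq_of_dvd g (orderOf_dvd_of_pow_eq_one ?_)
    generalize orderOf g = K at hg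
    have h3 : ∀ y ∈ ojord L x.right, y.1 = 1 → p ^ Nat.clog p (y.2 + 1) ∣ K := fun y hy hy1 =>
      (pow_dvd_pow p (Nat.clog_mono_right p (Nat.add_le_add_right
        (le_wt_of_mem (Multiset.mem_filter.2 ⟨hy, hy1⟩)) 1))).trans
        (hg _ (Multiset.mem_add.2 (Or.inr (Multiset.mem_singleton_self _)))).2
    have h4 : OK p (ojord L x.right) K := fun y hy => by
      by_cases hy1 : y.1 = 1
      · exact ⟨by rw [hy1, one_pow],
          (pow_dvd_pow p (Nat.clog_mono_right p (Nat.le_succ _))).trans (h3 y hy hy1)⟩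
      · exact hg y (Multiset.mem_add.2 (Or.inl (Multiset.mem_filter.2 ⟨hy, hy1⟩)))
    refine (hpow x K).2 ⟨orderOf_dvd_iff_pow_eq_one.1 ((orderOf_omega_dvd_iff p _ _).2 h4), ?_⟩
    rw [(aeval_eq_zero_iff_jord (L := L) _ _).2, Matrix.zero_mulVec]
    rw [← dval_ujord, forall_mem_dval]
    intro y hy
    have hy0 := pos_of_mem_ujord hy
    simp only [Polynomial.map_sum, Polynomial.map_pow, map_X]
    by_cases hy1 : y.1 = 1
    · rw [hy1, Units.val_one, ← mul_dvd_mul_iff_right (X_sub_C_ne_zero 1), hgeom, ← pow_succ,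
        X_sub_C_pow_dvd_X_pow_sub_C p one_ne_zero (Nat.add_one_pos _)]
      exact ⟨one_pow _, h3 y hy hy1⟩
    · refine (IsCoprime.pow_left (isCoprime_X_sub_C_of_isUnit_sub (b := 1)
        (sub_ne_zero.2 fun h => hy1 (Units.ext h)).isUnit)).dvd_of_dvd_mul_right ?_
      rw [hgeom, X_sub_C_pow_dvd_X_pow_sub_C p y.1.ne_zero hy0]
      exact ⟨by rw [← Units.val_pow_eq_pow_val, (h4 y hy).1, Units.val_one], (h4 y hy).2⟩

end Cfsg.Agent.S2517
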