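import Cfsg.Statements.S2144
import Cfsg.Agent.H33.OrthDeg8

set_option autoImplicit false
open Cfsg

namespace Cfsg.Agent.S2144

/-- Minimal index of a proper subgroup of the odd-dimensional orthogonal groups over the field with 3 elements: for m ≥ 3, every proper subgroup of PΩ_(2m+1)(3) (for the form x₀² + Σ xᵢyᵢ) has index at least 3^m(3^m − 1)/2, and that index is attained. -/
theorem result {F : Type*} [Field F] [Fintype F] (hF : Fintype.card F = 3) (m : ℕ) (hm : 3 ≤ m) : (∀ H : Subgroup (Cfsg.POmega F (Cfsg.quadFormOdd m F)), H ≠ ⊤ → 3 ^ m * (3 ^ m - 1) / 2 ≤ H.index) ∧ (∃ H : Subgroup (Cfsg.POmega F (Cfsg.quadFormOdd m F)), H.index = 3 ^ m * (3 ^ m - 1) / 2) := by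
  obtain ⟨k, rfl⟩ : ∃ k, m = k + 1 := ⟨m - 1, by omega⟩
  have nd := H30.qOdd_nondegenerate (F := F)
    (H30.two_ne_zero_iff_odd_card.2 (by rw [hF]; decide)) (k + 1)
  have hV : Module.finrank F (Unit ⊕ (Fin (k + 1) ⊕ Fin (k + 1)) → F) = 2 * k + 3 := by
    simp; omega
  have hN := H33.OD.mul_div_int (a := 3 ^ (k + 1) * (3 ^ (k + 1) - 1)) (b := 2)
    (X := 3 ^ (k + 1) * (3 ^ (k + 1) - 1)) (Y := 2) rfl
    (by rw [Nat.cast_mul, Nat.cast_sub (Nat.one_le_pow _ _ (by omega))]; push_cast; ring)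
    (Dvd.dvd.mul_left (by simpa using sub_dvd_pow_sub_pow (3 : ℤ) 1 (k + 1)) _)
  obtain ⟨c, hc, hc'⟩ := H33.OD.exists_nc_odd nd hF (m := k + 1) hV
  refine H33.OD.min_index_POmega (H33.OD.data_odd nd (by omega) hV (Or.inr ⟨hF, hN⟩))
    (c := c) (Or.inr hF.le) ?_
  rw [H33.OD.card_ne_zero_and hc, hc', hF]
  linear_combination -hN

end Cfsg.Agent.S2144
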