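import Cfsg.Statements.S0669

set_option autoImplicit false
open Cfsg

namespace Cfsg.Agent.S0669

/-- The rank of a transitive action: orbits on ordered pairs correspond to orbits of a point stabiliser. -/
theorem result {G : Type*} [Group G] {Ω : Type*} [Finite Ω] [MulAction G Ω] [MulAction.IsPretransitive G Ω] (a : Ω) : Nat.card (MulAction.orbitRel.Quotient G (Ω × Ω)) = Nat.card (MulAction.orbitRel.Quotient (MulAction.stabilizer G a) Ω) := by
  symm
  refine Nat.card_eq_of_bijective
    (Quotient.map' (fun b : Ω => (a, b)) ?_) ⟨?_, ?_⟩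
  · rintro x y ⟨⟨g, hg⟩, h⟩
    refine ⟨g, ?_⟩
    have hg' : g • a = a := hg
    have h' : g • y = x := h
    simp [hg', h']
  · intro x y
    induction x using Quotient.inductionOn' with | h x => ?_
    induction y using Quotient.inductionOn' with | h y => ?_
    intro h
    rw [Quotient.map'_mk'', Quotient.map'_mk'', Quotient.eq''] at h
    obtain ⟨g, hg⟩ := h
    have h1 : g • a = a := congrArg Prod.fst hg
    have h2 : g • y = x := congrArg Prod.snd hg
    exact Quotient.sound' ⟨⟨g, h1⟩, h2⟩
  · intro z
    induction z using Quotient.inductionOn' with | h z => ?_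
    obtain ⟨g, hg⟩ := MulAction.exists_smul_eq G z.1 a
    refine ⟨Quotient.mk'' (g • z.2), ?_⟩
    rw [Quotient.map'_mk'']
    refine Quotient.sound' ⟨g, ?_⟩
    ext <;> simp [hg]

end Cfsg.Agent.S0669
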