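import Cfsg.Statements.S2141
import Cfsg.Agent.H33.SpDeg5

set_option autoImplicit false
open Cfsg

namespace Cfsg.Agent.S2141

/-- Minimal index of a proper subgroup of the symplectic groups over fields with at least 3 elements: for m ≥ 2 and a field F with q ≥ 3 elements, (m, q) ≠ (2, 3), every proper subgroup of PSp_2m(F) has index at least (q^(2m) − 1)/(q − 1), and that index is attained. -/
theorem result {F : Type*} [Field F] [Fintype F] {q : ℕ} (hF : Fintype.card F = q) (m : ℕ) (hm : 2 ≤ m) (hq : 3 ≤ q) (hexc : ¬ (m = 2 ∧ q = 3)) : (∀ H : Subgroup (Cfsg.PSp m F), H ≠ ⊤ → (q ^ (2 * m) - 1) / (q - 1) ≤ H.index) ∧ (∃ H : Subgroup (Cfsg.PSp m F), H.index = (q ^ (2 * m) - 1) / (q - 1)) := by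
  subst hF
  have hA := H27.jBilin_isAlt (l := Fin m) (F := F)
  have hV : Module.finrank F (Fin m ⊕ Fin m → F) = 2 * m := by
    simp; omega
  have D : H33.SD.Dat (H27.jBilin (Fin m) F)
      ((Fintype.card F ^ (2 * m) - 1) / (Fintype.card F - 1)) :=
    ⟨H27.jBilin_nondegenerate, by omega, hq, fun h => by omega, by
      rw [hV, Nat.mul_div_cancel' (by simpa using Nat.sub_dvd_pow_sub_pow (Fintype.card F) 1 (2 * m)),
        Nat.sub_add_cancel (Nat.one_le_pow _ _ (by omega))]⟩
  exact H33.min_index_quotient _ (H28.centerQuotEquiv (H27.spEquiv (Fin m) F))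
    (H33.SD.le_index hA D) (H33.SD.exists_index hA D)

end Cfsg.Agent.S2141
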