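import Cfsg.Statements.S2150
import Cfsg.Agent.H31.U4C
import Cfsg.Agent.H31.PsuIdx

set_option autoImplicit false
open Cfsg

namespace Cfsg.Agent.S2150

open Cfsg.Agent.H31

/-- Minimal index of a proper subgroup of the four-dimensional unitary groups: for a field F with q² elements, every proper subgroup of PSU₄(q) has index at least (q + 1)(q³ + 1), and that index is attained. -/
theorem result {F : Type*} [Field F] [Fintype F] (q : ℕ) (hF : Fintype.card F = q ^ 2) (hq : 2 ≤ q) : (∀ H : Subgroup (Cfsg.PSU 4 F q), H ≠ ⊤ → (q + 1) * (q ^ 3 + 1) ≤ H.index) ∧ (∃ H : Subgroup (Cfsg.PSU 4 F q), H.index = (q + 1) * (q ^ 3 + 1)) := by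
  refine ⟨fun K hK => ?_, ?_⟩
  · obtain ⟨H, hH, h1, h2, -⟩ := exists_subgroup_of_PSU hF (by omega) hK
    rw [← h1]
    exact (isHerm_hermB hF 4).le_relIndex_four hF (fun _ => rfl) (by rw [finrank_fin]) hH h2
  · obtain ⟨W, hW⟩ := (isHerm_hermB hF 4).exists_relIndex_four hF (fun _ => rfl)
      (by rw [finrank_fin])
    obtain ⟨K, hK⟩ := exists_PSU_of_subgroup hF (n := 4) (by omega) (stab W) fun g _ a ha =>
      mem_stab_of_le fun x hx => by rw [ha]; exact W.smul_mem a hx
    exact ⟨K, hK.trans hW⟩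

end Cfsg.Agent.S2150
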