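import Cfsg.Statements.S3071
import Cfsg.Agent.H51.QdFus

set_option autoImplicit false
open Cfsg

namespace Cfsg.Agent.S3071

/-- Let p be an odd prime and S a Sylow p-subgroup of the finite group G such that, for every subgroup P with Z(S) ≤ P ≤ S, the normalizer N_G(P) has no section isomorphic to SL₂(p). Let J(S) be the subgroup generated by the abelian subgroups of S of largest order. Then two elements of S are conjugate in G if and only if they are conjugate in N_G(Z(J(S))). -/
theorem result {G : Type*} [Group G] [Finite G] {p : ℕ} [Fact p.Prime]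
    (hp : p ≠ 2) (S : Sylow p G)
    (hfree : ∀ P : Subgroup G, (S : Subgroup G) ⊓ Subgroup.centralizer ((S : Subgroup G) : Set G) ≤ P → P ≤ S →
      ¬ ∃ (H K : Subgroup G) (hK : (K.subgroupOf H).Normal), H ≤ Subgroup.normalizer (P : Set G) ∧
        Nonempty ((H ⧸ K.subgroupOf H) ≃* Matrix.SpecialLinearGroup (Fin 2) (ZMod p))) :
    ∀ x ∈ S, ∀ y ∈ S, (∃ g : G, g * x * g⁻¹ = y) ↔
      ∃ n ∈ Subgroup.normalizer (Cfsg.centerThompsonAOf (S : Subgroup G) : Set G), n * x * n⁻¹ = y := by
  have hS := H85.isSyl_top S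
  have hW := H51.isConjugacyFunctor_zj (G := G) (p := p) (dvd_zero p)
  have key : H56.SubFus (Subgroup.normalizer (centerThompsonAOf (S : Subgroup G) : Set G)) ⊤ S := by
    refine H56.local_to_global_wp (H56.isGood_sub _) hS hW
      (fun U => (S : Subgroup G) ⊓ Subgroup.centralizer ((S : Subgroup G) : Set G) ≤ U)
      (fun U hU _ => ?_) (fun U hU hZ h A hA y hy hyA => ?_)
      (fun A _ y hy _ => ⟨y, H51.sInf_maxEA_zero (S : Subgroup G) ▸ hy.2, by simp⟩)
      (fun U hU hZ ih y hy hyU => ?_)
    · rw [H51.sInf_maxEA_zero]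
      exact (le_inf (H51.center_le_inf_normalizer hU.le) (inf_le_right.trans
        (Subgroup.centralizer_le inf_le_left))).trans (H51.center_le_centerThompsonAOf _)
    · have h1 := hU.extremal
      rw [H56.Extremal, top_inf_eq] at h1
      have h2 := (H51.scCtl_of_qdFree hp (dvd_zero p) (Subgroup.normalizer (U : Set G)) fun h' =>
        hfree U hZ hU.le (H51.exists_section_le_of_involves
          (H54.involves_trans H51.involves_SL2_qd h'))).subgroup h1 (H51.isStronglyClosed_self _)
      obtain ⟨x, hx, hxy⟩ := h2 A hA y hy.2 hyA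
      have hN := le_inf (inf_le_left (b := Subgroup.normalizer (U : Set G)))
        (Subgroup.le_normalizer.trans (H56.functor_normalizer hW hS.isPGroup.to_inf_left))
      obtain ⟨z, hz, hzx⟩ := h A (hA.trans hN) x ⟨trivial, hx.2⟩
        (by rw [← H56.cj_eq_of_mem_centralizer hxy]; exact hyA.trans hN)
      exact ⟨z, hz, by simpa [mul_assoc] using (Subgroup.centralizer _).mul_mem hzx hxy⟩
    · exact (H56.isGood_sub _).of_not_centric (fun _ c hc => ⟨1, one_mem _, by simpa using hc⟩) hS
        hU.le hU.extremal (fun h => hZ ((inf_le_inf_left _ (Subgroup.centralizer_le hU.le)).trans h))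
        ih hy hyU
  intro x hx y hy
  refine ⟨fun ⟨g, hg⟩ => ?_, fun ⟨n, _, hn⟩ => ⟨n, hn⟩⟩
  obtain ⟨n, hn, h⟩ := H56.subFus_iff.mp key {x} g trivial (by simpa using hx)
    (by simpa [hg] using hy)
  exact ⟨n, hn, (h x rfl).trans hg⟩

end Cfsg.Agent.S3071
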