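import Cfsg.Statements.S2474
import Cfsg.Agent.H76.OSpec

set_option autoImplicit false
open Cfsg

namespace Cfsg.Agent.S2474

open H76 in
theorem core {L : Type*} [Field L] [IsAlgClosed L] {p : ℕ} [hpp : Fact p.Prime] [CharP L p]
    {q n : ℕ} (hpq : (p : ℤ) ∣ q) (hq : ∃ j : ℕ, (q : ℤ) = p ^ j) (hodd : Odd q) (hp2 : p ≠ 2)
    (hn : 3 ≤ n) {G G' : Type*} [Group G] [Group G'] [Finite G'] 
    (hG' : Models G' (PK p) (FAdm (A := Lˣ) Even q (2 * n)))
    (hout : ∀ g : G, ∃ s : Multiset (Lˣ × ℕ), FAdm Odd q (2 * n + 1) s ∧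
      (∀ k, OK p s k → orderOf g ∣ k) ∧ ∀ x ∈ s, ∀ r : ℕ, r.Prime → r ≠ 2 → r ∣ orderOf x.1 →
        IsEta (orderOf ((q : ℤ) : ZMod r)) n → ∃ (H : ℕ) (ε : ℤ), (ε = 1 ∨ ε = -1) ∧
          2 * (H : ℤ) = q ^ n - ε ∧ r ∣ 2 * H ∧ OK p s H)
    (hout' : ∀ s : Multiset (Lˣ × ℕ), FAdm Even q (2 * n) s → ∀ x ∈ s, ∀ r : ℕ, r.Prime → r ≠ 2 →
      r ∣ orderOf x.1 → IsEta (orderOf ((q : ℤ) : ZMod r)) n → ∃ (H : ℕ) (ε : ℤ), (ε = 1 ∨ ε = -1) ∧
          2 * (H : ℤ) = q ^ n - ε ∧ r ∣ 2 * H ∧ PK p s H)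
    (hin : ∀ s : Multiset (Lˣ × ℕ), FAdm Odd q (2 * n + 1) s → ∀ m, (∀ k, OK p s (2 * k) → m ∣ k) →
      m ∈ Set.range (orderOf : G → ℕ)) (r s : ℕ) (hr : r.Prime) (hs : s.Prime) (hrs : r ≠ s) :
    r * s ∈ Set.range (orderOf : G → ℕ) ↔ r * s ∈ Set.range (orderOf : G' → ℕ) := by
  have hp1 := hpp.out.one_lt
  have one1 : FAdm Odd (q : ℤ) 1 ({(1, 1)} : Multiset (Lˣ × ℕ)) :=
    fadm_single (one_zpow _) (one_pow 2) one_pos odd_one
  have one3 : FAdm Odd (q : ℤ) 3 ({(1, 3)} : Multiset (Lˣ × ℕ)) :=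
    fadm_single (one_zpow _) (one_pow 2) three_pos (by decide)
  have hc2 : ∀ {r : ℕ}, r.Prime → r ≠ 2 → r.Coprime 2 := fun hr hr2 =>
    (Nat.coprime_primes hr Nat.prime_two).2 hr2
  have hclog : ∀ {e k : ℕ}, 2 ≤ e → p ^ Nat.clog p e ∣ 2 * k → p ∣ k := fun he h =>
    (hc2 hpp.out hp2).dvd_of_dvd_mul_left
      ((dvd_pow_self p (Nat.one_le_iff_ne_zero.1 (one_le_clog hp1 he))).trans h)
  obtain ⟨γ, c, hγ, hc, hγc, -⟩ : ∃ (γ : Lˣ) (c : Multiset (Lˣ × ℕ)), orderOf γ = 4 ∧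
      FAdm Odd (q : ℤ) (2 * 1) c ∧ (γ, 1) ∈ c ∧ (γ⁻¹, 1) ∈ c ∧
      ∀ x ∈ c, x.2 = 1 ∧ ∀ k, 4 ∣ k → x.1 ^ k = 1 := by
    obtain ⟨z, hz⟩ := hodd
    rcases Nat.even_or_odd' z with ⟨y, rfl | rfl⟩
    · exact exists_fadm_torus hpq one_pos (Or.inl rfl) (c := 4) ⟨y, by rw [hz]; push_cast; ring⟩
    · exact exists_fadm_torus hpq one_pos (Or.inr rfl) (c := 4) ⟨y + 1, by rw [hz]; push_cast; ring⟩
  have hγ2 : ∀ k, γ ^ (2 * k) = 1 → 2 ∣ k := fun k hk =>
    Nat.dvd_of_mul_dvd_mul_left two_pos (hγ ▸ orderOf_dvd_of_pow_eq_one hk : 4 ∣ 2 * k)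
  have hq' : Odd (q : ℤ) := by exact_mod_cast hodd
  have hneg : ∀ j, FAdm Even (q : ℤ) (2 * (j * 1)) (Multiset.replicate (2 * j) ((-1 : Lˣ), 1)) :=
    fun j => fadm_replicate hq'.neg_one_zpow neg_one_sq one_pos j
  have hneg2 : ∀ k, (-1 : Lˣ) ^ k = 1 → 2 ∣ k := fun k hk => by
    by_contra h
    rw [(Nat.odd_iff.2 (by omega)).neg_one_pow] at hk
    exact neg_one_ne_one_units hp2 hk
  -- two odd primes different from `p`
  have key1 : ∀ r s : ℕ, r.Prime → s.Prime → r ≠ 2 → s ≠ 2 → r ≠ p → s ≠ p → r ≠ s → ∀ η η',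
      IsEta (orderOf ((q : ℤ) : ZMod r)) η → IsEta (orderOf ((q : ℤ) : ZMod s)) η' → η ≤ η' →
      (r * s ∈ Set.range (orderOf : G → ℕ) ↔ r * s ∈ Set.range (orderOf : G' → ℕ)) := by
    intro r s hr hs hr2 hs2 hrp hsp hrs η η' hη hη' hle
    have nec : ∀ (good : ℕ → Prop) (m : ℕ) (t : Multiset (Lˣ × ℕ)), FAdm good q m t →
        m ≤ 2 * n + 1 → (∀ k, OK p t k → r * s ∣ k) → ∀ good' : ℕ → Prop,
        ∃ t' : Multiset (Lˣ × ℕ), FAdm good' q (2 * n) t' ∧ ∀ j, PK p t' j → r * s ∣ j := by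
      intro good m t ht hm h good'
      obtain ⟨x, hx, h3⟩ := ht.adm.exists_dvd_orderOf hpp.out hr hrp
        fun k hk => (dvd_mul_right _ _).trans (h k hk)
      obtain ⟨y, hy, h4⟩ := ht.adm.exists_dvd_orderOf hpp.out hs hsp
        fun k hk => (dvd_mul_left _ _).trans (h k hk)
      have h5 := ht.exists_eta_le hy hs hs2 rfl hη' h4
      obtain ⟨t', h6, -, h7⟩ := exists_fadm_adj_primes (L := L) (good := good') (n := n) hpq hr hs
        hr2 hs2 hrs (not_dvd_of_ne_char hq hr hrp) (not_dvd_of_ne_char hq hs hsp) rfl rfl hη hη'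
        (by omega) ((ht.adj_primes hx hy hr hs hr2 hs2 rfl rfl hη hη' hle h3 h4).imp_left
          (by omega))
      exact ⟨t', h6, h7⟩
    constructor
    · rintro ⟨g, hg⟩
      obtain ⟨t, h1, h2, -⟩ := hout g
      obtain ⟨t', h3, h4⟩ := nec _ _ t h1 le_rfl (hg ▸ h2) Even
      exact hG'.exists_eq h3 h4
    · rintro ⟨g, hg⟩
      obtain ⟨t, h1, h2⟩ := hG'.out_ok g
      obtain ⟨t', h3, h4⟩ := nec _ _ t h1 (by omega) (hg ▸ h2) Odd
      exact hin _ (h3.add one1) _ fun k hk => ((hc2 hr hr2).mul_left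
        (hc2 hs hs2)).dvd_of_dvd_mul_left (h4 _ (hk.pk.mono fun x hx => by simp [hx]))
  -- an odd prime and the characteristic
  have key2 : ∀ r : ℕ, r.Prime → r ≠ 2 → r ≠ p →
      (r * p ∈ Set.range (orderOf : G → ℕ) ↔ r * p ∈ Set.range (orderOf : G' → ℕ)) := by
    intro r hr hr2 hrp
    obtain ⟨η, hη⟩ := exists_isEta (orderOf ((q : ℤ) : ZMod r))
    have hk0 := orderOf_zmod_pos hr (not_dvd_of_ne_char hq hr hrp)
    have h0 := not_iff_not.1 ((hG'.sp_not_adj_char_iff hpq hq hr hr2 hrp rfl hη).trans not_le.symm)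
    rw [h0]
    constructor
    · rintro ⟨g, hg⟩
      obtain ⟨t, h1, h2, -⟩ := hout g
      obtain ⟨x, hx, h3⟩ := h1.adm.exists_dvd_orderOf hpp.out hr hrp
        fun k hk => (dvd_mul_right _ _).trans (hg ▸ h2 k hk)
      obtain ⟨y, hy, h4⟩ := h1.adm.exists_two_le hpp.out hpq
        fun k hk => (dvd_mul_left _ _).trans (hg ▸ h2 k hk)
      have := h1.adj_char hx hy hr hr2 rfl hη h3 h4
      omega
    · intro h
      obtain ⟨ε, hε, h1⟩ := hη.exists_sign hr rfl hk0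
      obtain ⟨α, a, h2, h3, h4, -, -⟩ := exists_fadm_torus (L := L) (good := Odd) hpq
        (hη.pos hk0) hε h1
      refine hin _ (((h3.add one3).add (fadm_replicate_one (n - 1 - η))).cast (by omega)) _
        fun k hk => ((Nat.coprime_primes hr hpp.out).2 hrp).mul_dvd_of_dvd_of_dvd ?_ ?_
      · exact (hc2 hr hr2).dvd_of_dvd_mul_left
          (h2 ▸ orderOf_dvd_of_pow_eq_one (hk (α, 1) (by simp [h4])).1)
      · exact hclog (by norm_num) (hk (1, 3) (by simp)).2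
  -- two and the characteristic
  have key3 : 2 * p ∈ Set.range (orderOf : G → ℕ) ↔ 2 * p ∈ Set.range (orderOf : G' → ℕ) := by
    refine iff_of_true (hin _ (((hc.add one3).add (fadm_replicate_one (n - 2))).cast (by omega)) _
      fun k hk => (hc2 hpp.out hp2).symm.mul_dvd_of_dvd_of_dvd
        (hγ2 k (hk (γ, 1) (by simp [hγc])).1) (hclog (by norm_num) (hk (1, 3) (by simp)).2)) ?_
    refine hG'.exists_eq (((hneg (n - 1)).add
      (fadm_single (one_zpow _) (one_pow 2) two_pos even_two)).cast (by omega)) fun k hk => ?_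
    have h1 := hk.ok (e := 2) (by simp)
    exact (hc2 hpp.out hp2).symm.mul_dvd_of_dvd_of_dvd
      (hneg2 k (h1 (-1, 1) (by simp [Multiset.mem_replicate]; omega)).1)
      (hclog le_rfl ((h1 (1, 2) (by simp)).2.mul_left 2))
  -- two and an odd prime
  have key4 : ∀ r : ℕ, r.Prime → r ≠ 2 → r ≠ p →
      (2 * r ∈ Set.range (orderOf : G → ℕ) ↔ 2 * r ∈ Set.range (orderOf : G' → ℕ)) := by
    intro r hr hr2 hrp
    obtain ⟨η, hη⟩ := exists_isEta (orderOf ((q : ℤ) : ZMod r))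
    have hk0 := orderOf_zmod_pos hr (not_dvd_of_ne_char hq hr hrp)
    have hη0 := hη.pos hk0
    rcases lt_trichotomy η n with h | rfl | h
    · obtain ⟨ε, hε, h1⟩ := hη.exists_sign hr rfl hk0
      obtain ⟨α, a, h2, h3, h4, -, -⟩ := exists_fadm_torus (L := L) (good := Odd) hpq hη0 hε h1
      obtain ⟨β, b, h2', h3', h4', h5', -⟩ := exists_fadm_torus (L := L) (good := Even) hpq hη0 hε h1
      refine iff_of_true (hin _ ((((hc.add h3).add one1).add
        (fadm_replicate_one (n - 1 - η))).cast (by omega)) _ fun k hk =>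
          (hc2 hr hr2).symm.mul_dvd_of_dvd_of_dvd (hγ2 k (hk (γ, 1) (by simp [hγc])).1)
          ((hc2 hr hr2).dvd_of_dvd_mul_left
            (h2 ▸ orderOf_dvd_of_pow_eq_one (hk (α, 1) (by simp [h4])).1))) ?_
      refine hG'.exists_eq ((h3'.add (hneg (n - η))).cast (by omega)) fun k hk => ?_
      have h6 : r ∣ k := (hc2 hr hr2).dvd_of_dvd_mul_left
        (h2' ▸ hk.dvd_two_mul (e := 1) (e' := 1) (by simp [h4']) (by simp [h5']))
      refine (hc2 hr hr2).symm.mul_dvd_of_dvd_of_dvd (hneg2 k ?_) h6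
      exact (hk.1 (-1, 1) (by simp [Multiset.mem_replicate]; omega) (β, 1) (by simp [h4'])).trans
        (orderOf_dvd_iff_pow_eq_one.1 (h2' ▸ h6))
    · constructor
      · rintro ⟨g, hg⟩
        obtain ⟨t, h1, h2, h3⟩ := hout g
        obtain ⟨x, hx, h4⟩ := h1.adm.exists_dvd_orderOf hpp.out hr hrp
          fun k hk => (dvd_mul_left _ _).trans (hg ▸ h2 k hk)
        obtain ⟨H, ε, hε, h5, -, h6⟩ := h3 x hx r hr hr2 h4 hη
        obtain ⟨β, b, h2', h3', h4', h5', -⟩ := exists_fadm_torus (L := L) (good := Even) hpq hη0 hε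
          (c := 2 * H) (by push_cast; rw [h5])
        exact hG'.exists_eq h3' fun k hk => (hg ▸ h2 H h6).trans
          (Nat.dvd_of_mul_dvd_mul_left two_pos (h2' ▸ hk.dvd_two_mul h4' h5'))
      · rintro ⟨g, hg⟩
        obtain ⟨t, h1, h2⟩ := hG'.out g
        obtain ⟨x, hx, h4⟩ := h1.adm.exists_dvd_orderOf hpp.out hr hrp
          fun k hk => (dvd_mul_left _ _).trans (hg ▸ (h2 k).2 hk.pk)
        obtain ⟨H, ε, hε, h5, -, h6⟩ := hout' t h1 x hx r hr hr2 h4 hη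
        obtain ⟨β, b, h2', h3', h4', -⟩ := exists_fadm_torus (L := L) (good := Odd) hpq hη0 hε
          (c := 2 * H) (by push_cast; rw [h5])
        exact hin _ (h3'.add one1) _ fun k hk => (hg ▸ (h2 H).2 h6).trans
          (Nat.dvd_of_mul_dvd_mul_left two_pos
            (h2' ▸ orderOf_dvd_of_pow_eq_one (hk (β, 1) (by simp [h4'])).1))
    · refine iff_of_false ?_ ?_
      · rintro ⟨g, hg⟩
        obtain ⟨t, h1, h2, -⟩ := hout g
        obtain ⟨x, hx, h4⟩ := h1.adm.exists_dvd_orderOf hpp.out hr hrp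
          fun k hk => (dvd_mul_left _ _).trans (hg ▸ h2 k hk)
        have := h1.exists_eta_le hx hr hr2 rfl hη h4
        omega
      · rintro ⟨g, hg⟩
        obtain ⟨t, h1, h2⟩ := hG'.out_ok g
        obtain ⟨x, hx, h4⟩ := h1.adm.exists_dvd_orderOf hpp.out hr hrp
          fun k hk => (dvd_mul_left _ _).trans (hg ▸ h2 k hk)
        have := h1.exists_eta_le hx hr hr2 rfl hη h4
        omega
  by_cases hr2 : r = 2
  · subst hr2
    by_cases hsp : s = p
    · exact hsp ▸ key3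
    · exact key4 s hs hrs.symm hsp
  by_cases hs2 : s = 2
  · subst hs2
    rw [mul_comm]
    by_cases hrp : r = p
    · exact hrp ▸ key3
    · exact key4 r hr hrs hrp
  by_cases hsp : s = p
  · subst hsp
    exact key2 r hr hr2 hrs
  by_cases hrp : r = p
  · subst hrp
    rw [mul_comm]
    exact key2 s hs hs2 hsp
  obtain ⟨η, hη⟩ := exists_isEta (orderOf ((q : ℤ) : ZMod r))
  obtain ⟨η', hη'⟩ := exists_isEta (orderOf ((q : ℤ) : ZMod s))
  rcases le_total η η' with h | h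
  · exact key1 r s hr hs hr2 hs2 hrp hsp hrs η η' hη hη' h
  · rw [mul_comm]
    exact key1 s r hs hr hs2 hr2 hsp hrp hrs.symm η' η hη' hη h

theorem eq_of_dvd {n D e : ℕ} (hD : 0 < D) (he : 0 < e) (h : n ∣ D) (h' : D * e ≤ n) :
    D = n ∧ e = 1 := by
  have h1 := Nat.le_of_dvd hD h
  have h2 := Nat.le_mul_of_pos_right D he
  obtain rfl : D = n := by omega
  exact ⟨rfl, by nlinarith⟩

/-- For q odd and n ≥ 3 the simple groups PΩ(2n+1,q) and PSp(2n,q) (which have the same order but different sets of element orders) have the same prime graph: for all distinct primes r, s, one of them has an element of order r·s if and only if the other does. -/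
theorem result {F : Type*} [Field F] [Fintype F] (hodd : Odd (Fintype.card F)) (n : ℕ) (hn : 3 ≤ n) (r s : ℕ) (hr : r.Prime) (hs : s.Prime) (hrs : r ≠ s) :
    (r * s ∈ Set.range (orderOf : Cfsg.POmega F (Cfsg.quadFormOdd n F) → ℕ)) ↔ (r * s ∈ Set.range (orderOf : Cfsg.PSp n F → ℕ)) := by
  obtain ⟨p, hp⟩ := CharP.exists F
  have hpp := Fact.mk (CharP.char_is_prime F p)
  let L := AlgebraicClosure F
  have : CharP L p := charP_of_injective_algebraMap (algebraMap F _).injective p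
  have h2 := H30.two_ne_zero_iff_odd_card.2 hodd
  have hQ := H30.qOdd_nondegenerate h2 n
  have hι : Fintype.card (Unit ⊕ (Fin n ⊕ Fin n)) = 2 * n + 1 := by simp; ring
  rw [← H30.coe_qOdd, H76.range_orderOf_pomega_odd h2 hQ (hι ▸ odd_two_mul_add_one _) (by omega)]
  refine core (H76.char_dvd_card F p) (H76.card_eq_char_pow F p) hodd
    (fun h => h2 ((H76.two_eq_zero_iff F p).2 h)) hn (H76.models_psp F L p n) (fun g => ?_) ?_
    (fun s hs m hm => H76.exists_omega_sq p h2 hQ (hι ▸ odd_two_mul_add_one _) (hι ▸ hs) hm)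
    r s hr hs hrs
  · have hs := H76.necO_ojord (L := L) h2 hQ g
    rw [hι] at hs
    refine ⟨_, hs.fadm, fun k => (H76.orderOf_omega_dvd_iff p g k).2, fun x hx r hr hr2 h3 hη => ?_⟩
    obtain ⟨a, t, D, e, H, m, ε, k0, k1, k2, k3, k4, k5, k6, k7, k8, k9, k10⟩ :=
      hs.exists_atom h2 hx (H76.sq_ne_one_of_dvd hr hr2 h3)
    have k11 := h3.trans (orderOf_dvd_of_pow_eq_one (k9 x k1).2.2)
    obtain ⟨rfl, rfl⟩ := eq_of_dvd k5 k6 (hη.dvd_of rfl k7 (k8 ▸ by exact_mod_cast k11)) (by omega)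
    obtain ⟨β, -, rfl⟩ := (k2.adm.cast (by omega)).eq_singleton
    obtain rfl : β = 1 := by simpa using k3
    refine ⟨H, ε, k7, k8, k11, k0 ▸ fun z hz => ?_⟩
    rcases Multiset.mem_add.1 hz with hz | hz
    · exact ⟨k10 (by simp) odd_one z hz, by simp [(k9 z hz).1]⟩
    · rw [Multiset.mem_singleton.1 hz]
      simp
  · intro s hs x hx r hr hr2 h3 hη
    obtain ⟨a, t, w, m, rfl, k1, k2, k3, k4⟩ := hs.exists_atom hx
    obtain ⟨D, e, H, ε, k5, k6, k7, rfl, k8, -, k9, -⟩ :=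
      k2.spec_of_ne h2 k1 (H76.sq_ne_one_of_dvd hr hr2 h3)
    have k11 := h3.trans (orderOf_dvd_of_pow_eq_one (k9 x k1).2.2.1)
    obtain ⟨rfl, rfl⟩ := eq_of_dvd k5 k6 (hη.dvd_of rfl k7 (k8 ▸ by exact_mod_cast k11)) (by omega)
    obtain rfl := (k3.adm.cast (show m = 0 by omega)).eq_zero
    rw [add_zero]
    exact ⟨H, ε, k7, k8, k11, fun y hy z hz => (k9 y hy).2.2.2.trans (k9 z hz).2.2.2.symm,
      fun y hy => by simp [(k9 y hy).1]⟩

end Cfsg.Agent.S2474
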