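import Cfsg.Statements.S5321
import Cfsg.Agent.H47.J2Local
import Cfsg.Agent.H98.Simple

set_option autoImplicit false
open Cfsg

namespace Cfsg.Agent.S5321

open Cfsg.Agent.H43 Cfsg.Agent.H47 Cfsg.Agent.H47.J2P Cfsg.Agent.H98

theorem syl : SylIn 2 (grp 100 l_S) (grp 100 h_E0) := by
  obtain ⟨T, hT, -⟩ := exists_sylIn_ge (p := 2) (bot_le (a := grp 100 h_E0)) IsPGroup.of_bot
  refine hT.of_card_le (lS_le_lK.trans lK_le) (IsPGroup.of_card (n := 7) l_So_card) ?_
  obtain ⟨m, hm⟩ := IsPGroup.iff_card.1 hT.isPGroup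
  have h := Subgroup.card_dvd_of_le hT.le
  rw [h_card0, hm] at h
  rw [hm, l_So_card]
  by_contra hc
  have h8 : 8 ≤ m := by
    by_contra h8
    exact hc (Nat.pow_le_pow_right (by norm_num) (by omega : m ≤ 7))
  exact absurd ((pow_dvd_pow 2 h8).trans h) (by norm_num)

theorem comm_z {x : Equiv.Perm (Fin 100)} (hx : x ∈ grp 100 l_S) :
    x * Net.toPerm 100 h_a0 = Net.toPerm 100 h_a0 * x :=
  Subgroup.mem_centralizer_singleton_iff.1 (cz_eq.ge (lS_le_lK hx)).2

theorem simple : (fusionSystemOfSubgroup _ _ syl.le).IsSimple 2 := by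
  have hz := lQ_le_lS l_xs.mem
  refine sub_isSimple_of_good syl (fun h => l_xs.ne (by rwa [h, Subgroup.mem_bot] at hz))
    (fun N hN g hg hgS _ => ?_) fun T hT h0 hc => ?_
  · have hn := H96.mem_normalizer_of_conj_mem hgS
    have h1 : g * Net.toPerm 100 h_a0 * g⁻¹ = Net.toPerm 100 h_a0 := by
      refine (cent_lQ (syl.le (hgS _ hz)) fun y hy => ?_).resolve_left
        (fun e => l_xs.ne (by simpa using e))
      have := comm_z (H96.conj_mem_of_mem_normalizer (inv_mem hn) (lQ_le_lS hy))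
      calc y * (g * Net.toPerm 100 h_a0 * g⁻¹)
          = g * (g⁻¹ * y * g⁻¹⁻¹ * Net.toPerm 100 h_a0) * g⁻¹ := by group
        _ = _ := by rw [this]; group
    have h2 : g ∈ grp 100 l_K :=
      cz_eq.le ⟨hg, Subgroup.mem_centralizer_singleton_iff.2 (mul_inv_eq_iff_eq_mul.1 h1)⟩
    have h3 : ∀ k ∈ grp 100 l_K, orderOf k = 4 → k ∈ N (grp 100 l_Q) := fun k hk ho =>
      hN.pElt _ lQ_le_lS k (lK_le hk) (fun x hx => conj_mem_lQ hk hx)
        ⟨2, by rw [show 2 ^ 2 = orderOf k from ho.symm, pow_orderOf_eq_one]⟩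
    have h4 : grp 100 l_K ≤ N (grp 100 l_Q) :=
      grp_cons_le (h3 _ (toPerm_mem_grp (.head _)) l_K_ord0)
        (grp_cons_le (h3 _ (toPerm_mem_grp (.tail _ (.head _))) l_K_ord1)
          (grp_cons_le (h3 _ (toPerm_mem_grp (.tail _ (.tail _ (.head _)))) l_K_ord2)
            (grp_nil_le _)))
    refine hN.extend _ _ lQ_le_lS le_rfl (fun x hx h _ => ?_) g (h4 h2) hgS
    rcases cent_lQ hx fun y hy => (mul_inv_eq_iff_eq_mul.1 (h y hy)).symm with rfl | rfl
    exacts [one_mem _, l_xs.mem]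
  · obtain ⟨w, hw, w1, -, wc⟩ := exists_central_of_ne_bot syl.isPGroup hT
      (fun s hs x hx => hc x hx s (syl.le hs) (mul_mem (mul_mem hs (hT hx)) (inv_mem hs))) h0
    obtain rfl := (cent_lQ (syl.le (hT hw)) fun y hy => wc y (lQ_le_lS hy)).resolve_left w1
    have key : ∀ {x y}, x ∈ T → y ∈ grp 100 l_S → CjIn (grp 100 h_E0) x y → y ∈ T := by
      rintro x _ hx hy ⟨g, hg, rfl⟩
      exact hc x hx g hg hy
    have hQ : grp 100 l_Q ≤ T :=
      grp_cons_le (key hw (lQ_le_lS (toPerm_mem_grp (.head _))) l_cj0)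
        (grp_cons_le (key hw (lQ_le_lS (toPerm_mem_grp (.tail _ (.head _)))) l_cj1)
          (grp_cons_le (key hw (lQ_le_lS (toPerm_mem_grp (.tail _ (.tail _ (.head _))))) l_cj2)
            (grp_cons_le (key hw (lQ_le_lS (toPerm_mem_grp (.tail _ (.tail _ (.tail _ (.head _))))))
              l_cj3) (grp_nil_le _))))
    exact grp_cons_le (key (hQ l_u_memQ) (toPerm_mem_grp (.head _)) l_cju0)
      (grp_cons_le (key (hQ l_u_memQ) (toPerm_mem_grp (.tail _ (.head _))) l_cju1) hQ)

/-- For a finite group G isomorphic to the Hall–Janko group J₂ (as constructed in the problem's definitions), the 2-fusion system of G on a Sylow 2-subgroup is simple: saturated, over a nontrivial 2-group, with no normal subsystem other than the trivial one and itself. -/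
theorem result {G : Type*} [Group G] [Finite G] (hG : Cfsg.Spor.IsoJ2 G) (S : Sylow 2 G) : (Cfsg.groupFusionSystem (S : Subgroup G)).IsSimple 2 := by
  obtain ⟨e⟩ := hG
  exact group_isSimple_of_sub (e.trans eH0) syl simple S

end Cfsg.Agent.S5321
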