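import Cfsg.Statements.S0276
import Cfsg.Agent.H29.PSLFacts

set_option autoImplicit false
open Cfsg

namespace Cfsg.Agent.S0276

/-- For q = 3 or 5 mod 8 the Sylow 2-subgroups of PSL_2(q) are elementary abelian of order 4. -/
theorem result {F : Type*} [Field F] [Fintype F] {q : ℕ} (hF : Fintype.card F = q) (hq : q % 8 = 3 ∨ q % 8 = 5) (P : Sylow 2 (Matrix.ProjectiveSpecialLinearGroup (Fin 2) F)) : IsKleinFour (P : Subgroup (Matrix.ProjectiveSpecialLinearGroup (Fin 2) F)) := by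
  have := H29.finite_PSL2 (F := F)
  have := Fact.mk Nat.prime_two
  rw [← Nat.card_eq_fintype_card] at hF
  have hodd : Odd (Nat.card F) := by rw [hF, Nat.odd_iff]; omega
  have h1 := H29.card_L_of_odd hodd
  rw [← H29.card_PSL2_eq, hF] at h1
  obtain ⟨m, hm, hm'⟩ : ∃ m, Nat.card (Matrix.ProjectiveSpecialLinearGroup (Fin 2) F) = 4 * m ∧
      ¬ 2 ∣ m := by
    obtain ⟨a, rfl | rfl⟩ : ∃ a, q = 8 * a + 3 ∨ q = 8 * a + 5 := ⟨q / 8, by omega⟩
    · refine ⟨(2 * a + 1) * ((8 * a + 3) * (4 * a + 1)), ?_, ?_⟩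
      · rw [show 8 * a + 3 - 1 = 8 * a + 2 by omega] at h1; nlinarith
      · simp only [Nat.prime_two.dvd_mul]; omega
    · refine ⟨(4 * a + 3) * ((8 * a + 5) * (2 * a + 1)), ?_, ?_⟩
      · rw [show 8 * a + 5 - 1 = 8 * a + 4 by omega] at h1; nlinarith
      · simp only [Nat.prime_two.dvd_mul]; omega
  have hc : Nat.card (P : Subgroup (Matrix.ProjectiveSpecialLinearGroup (Fin 2) F)) = 4 := by
    rw [P.card_eq_multiplicity, hm, show 4 = 2 ^ 2 from rfl,
      Nat.factorization_mul (by norm_num) (by rintro rfl; simp at hm'), Finsupp.add_apply,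
      Nat.factorization_eq_zero_of_not_dvd hm', Nat.prime_two.factorization_pow]
    simp
  refine ⟨hc, ?_⟩
  have : Nontrivial (P : Subgroup (Matrix.ProjectiveSpecialLinearGroup (Fin 2) F)) :=
    Finite.one_lt_card_iff_nontrivial.1 (by omega)
  rw [Monoid.exponent_eq_prime_iff Nat.prime_two]
  intro g hg
  have h2 : orderOf g ∣ 2 ^ 2 := by rw [show 2 ^ 2 = 4 from rfl, ← hc]; exact orderOf_dvd_natCard g
  obtain ⟨k, hk, e⟩ := (Nat.dvd_prime_pow Nat.prime_two).1 h2
  interval_cases k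
  · exact absurd (orderOf_eq_one_iff.1 e) hg
  · exact e
  · exfalso
    have := H29.mod_eight_of_order_four hodd (H29.pslp_mem_L g) (by
      rw [orderOf_injective _ H29.pslp_injective, Subgroup.orderOf_coe, e]; rfl)
    omega

end Cfsg.Agent.S0276
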