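import Cfsg.Statements.S3345
import Cfsg.Agent.H69.O8f

set_option autoImplicit false
open Cfsg

namespace Cfsg.Agent.S3345

/-- Let G be a finite group with O^2(G) = G and an involution t with centralizer C such that F*(C) is extraspecial of order 2^9, C/O₂(C) is isomorphic to Sym(3) × Sym(3) × Sym(3), and C_G(O₂(C)) ≤ O₂(C). Then either the image of t is central in G/O_{2'}(G), or G is isomorphic to Ω⁺(8,2), the commutator subgroup of the isometry group of the hyperbolic quadratic form in dimension 8 over the field with 2 elements. -/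
theorem result {G : Type*} [Group G] [Finite G]
    (hG : Cfsg.pResidual 2 G = ⊤) (t : G) (ht : orderOf t = 2)
    (C : Subgroup G) (hC : C = Subgroup.centralizer ({t} : Set G))
    (hF : Cfsg.IsExtraspecial 2 (Cfsg.generalizedFittingSubgroup C))
    (hFcard : Nat.card (Cfsg.generalizedFittingSubgroup C) = 2 ^ 9)
    (e : C ⧸ Cfsg.pCore 2 C ≃* Equiv.Perm (Fin 3) × Equiv.Perm (Fin 3) × Equiv.Perm (Fin 3))
    (hcc : Subgroup.centralizer (((Cfsg.pCore 2 C).map C.subtype : Subgroup G) : Set G) ≤ (Cfsg.pCore 2 C).map C.subtype) :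
    (∀ g : G, g * t * g⁻¹ * t⁻¹ ∈ Cfsg.oddCore G) ∨
      Nonempty (G ≃* Cfsg.Omega (ZMod 2) (Cfsg.quadFormPlus 4 (ZMod 2))) := by
  subst hC
  have hz1 : t ≠ 1 := (H49.orderOf_two_iff.1 ht).1
  obtain ⟨hl, hO⟩ := H49.LX.of_fstar hz1 rfl
    ((H49.isExtraspecial_map_iff (Subgroup.subtype_injective _)).2 hF)
  have hc : Nat.card (H49.O2C t) = 512 := by
    rw [← show _ = H49.O2C t from hO, Subgroup.card_map_of_injective (Subgroup.subtype_injective _),
      hFcard]; rfl
  rw [hO] at hl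
  obtain ⟨π, h, hs⟩ := H69.XV.exists_Hy hl hc rfl e.toMonoidHom e.injective
  rcases H69.XV.exists_conj_comm hl with ⟨N, n1, n2, n3⟩ | ⟨s, s1, s2, s3⟩
  · refine Or.inl fun g => H3.le_pPrimeCore (N := N) (Nat.coprime_two_right.2 n2) ?_
    simpa [mul_assoc] using N.inv_mem (n3 g)
  · have := h.not_WC_small (by simp; decide) s1 s2 s3
    obtain ⟨g, g1, g2⟩ : ∃ g : G, g * t * g⁻¹ ∈ H49.O2C t ∧ g * t * g⁻¹ ≠ t := by
      by_contra a
      push Not at a
      exact this ⟨hl, a⟩
    obtain ⟨d, k⟩ := H69.O8.exists_TC h (fun l => hs l ⟨e.symm l, e.apply_symm_apply l⟩)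
      ⟨hl, hc, ⟨g, rfl⟩, g1, g2⟩
    exact Or.inr k.iso

end Cfsg.Agent.S3345
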