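import Cfsg.Statements.S4028
import Cfsg.Agent.H91.Basic

set_option autoImplicit false
open Cfsg

namespace Cfsg.Agent.S4028

/-- An element whose order is coprime to the totient of the order of `x` and which normalises
`⟨x⟩` centralises `x`. -/
theorem commute_of_coprime {G : Type*} [Group G] [Finite G] {x g : G}
    (hg : g ∈ Subgroup.normalizer ((Subgroup.zpowers x : Subgroup G) : Set G))
    (hc : (orderOf g).Coprime (orderOf x).totient) : g ∈ Subgroup.centralizer ({x} : Set G) := by
  let φ := (Subgroup.zpowers x).normalizerMonoidHom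
  have h1 : orderOf (φ ⟨g, hg⟩) ∣ orderOf g := by
    have := orderOf_map_dvd φ ⟨g, hg⟩
    rwa [Subgroup.orderOf_mk] at this
  have h2 : orderOf (φ ⟨g, hg⟩) ∣ (orderOf x).totient := by
    rw [← Nat.card_zpowers x, ← IsCyclic.card_mulAut]
    exact orderOf_dvd_natCard _
  have h3 : φ ⟨g, hg⟩ = 1 := orderOf_eq_one_iff.mp (Nat.eq_one_of_dvd_coprimes hc h1 h2)
  have h4 := congrArg (fun f : MulAut (Subgroup.zpowers x) =>
    ((f ⟨x, Subgroup.mem_zpowers x⟩ : Subgroup.zpowers x) : G)) h3
  have h5 : g * x * g⁻¹ = x := h4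
  rw [H91.mem_centralizer_singleton]
  exact (mul_inv_eq_iff_eq_mul.mp h5).symm

theorem mem_normalizer_zpowers_iff {G : Type*} [Group G] [Finite G] {x g : G} :
    g ∈ Subgroup.normalizer ((Subgroup.zpowers x : Subgroup G) : Set G) ↔
      g * x * g⁻¹ ∈ Subgroup.zpowers x := by
  constructor
  · intro h
    exact (Subgroup.mem_normalizer_iff.mp h x).mp (Subgroup.mem_zpowers x)
  · intro h
    apply Subgroup.mem_normalizer_fintype
    rintro _ ⟨k, rfl⟩
    simp only
    rw [← conj_zpow]
    exact Subgroup.zpow_mem _ h k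

/-- Let G be a finite group with Sylow 2-subgroup P. Then N_G(⟨x⟩) = C_G(x) holds for every 2-element x of G if and only if N_P(⟨y⟩) = C_P(y) holds for every y ∈ P (computed inside P). -/
theorem result {G : Type*} [Group G] [Finite G] (P : Sylow 2 G) :
    (∀ x : G, (∀ r : ℕ, r.Prime → r ∣ orderOf x → r = 2) →
      Subgroup.normalizer ((Subgroup.zpowers x : Subgroup G) : Set G) ≤ Subgroup.centralizer {x}) ↔
    (∀ y : ↥(P : Subgroup G), Subgroup.normalizer ((Subgroup.zpowers y : Subgroup ↥(P : Subgroup G)) : Set ↥(P : Subgroup G)) ≤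
        Subgroup.centralizer {y}) := by
  have : Fact (Nat.Prime 2) := ⟨Nat.prime_two⟩
  constructor
  · intro h y n hn
    obtain ⟨k, hk⟩ := H91.orderOf_eq_pow_of_mem P.isPGroup' y.2
    have h1 := h y (fun r hr hd => (Nat.prime_dvd_prime_iff_eq hr Nat.prime_two).mp
      (hr.dvd_of_dvd_pow (hk ▸ hd)))
    obtain ⟨j, hj⟩ := mem_normalizer_zpowers_iff.mp hn
    have h2 : (n : G) ∈ Subgroup.normalizer ((Subgroup.zpowers (y : G) : Subgroup G) : Set G) :=
      mem_normalizer_zpowers_iff.mpr ⟨j, by simpa using congrArg Subtype.val hj⟩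
    rw [H91.mem_centralizer_singleton]
    exact Subtype.ext (H91.mem_centralizer_singleton.mp (h1 h2))
  · intro h x hx g hg
    obtain ⟨k, hk⟩ := H91.exists_pow_of_prime_dvd_imp_eq (orderOf_pos x).ne' hx
    obtain ⟨a, b, hab, ⟨j, hj⟩, hb⟩ := H91.exists_p_parts Nat.prime_two g (isOfFinOrder_of_finite g)
    rw [← hab]
    refine Subgroup.mul_mem _ ?_ (commute_of_coprime (Subgroup.pow_mem _ hg b) ?_)
    · set t := g ^ a
      have ht : t ∈ Subgroup.normalizer ((Subgroup.zpowers x : Subgroup G) : Set G) :=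
        Subgroup.pow_mem _ hg a
      have hsup : IsPGroup 2 (Subgroup.zpowers x ⊔ Subgroup.zpowers t : Subgroup G) :=
        IsPGroup.to_sup_of_normal_left' (H91.isPGroup_zpowers_of_orderOf hk)
          (H91.isPGroup_zpowers_of_orderOf hj) (Subgroup.zpowers_le.mpr ht)
      obtain ⟨Q, hQ⟩ := hsup.exists_le_sylow
      obtain ⟨c, rfl⟩ := MulAction.exists_smul_eq G P Q
      have hmem : ∀ w, w ∈ ((c • P : Sylow 2 G) : Subgroup G) → c⁻¹ * w * c ∈ (P : Subgroup G) := by
        intro w hw
        rw [Sylow.coe_subgroup_smul, Subgroup.mem_pointwise_smul_iff_inv_smul_mem] at hw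
        simpa using hw
      have hxP := hmem x (hQ (Subgroup.mem_sup_left (Subgroup.mem_zpowers x)))
      have htP := hmem t (hQ (Subgroup.mem_sup_right (Subgroup.mem_zpowers t)))
      obtain ⟨i, hi⟩ := mem_normalizer_zpowers_iff.mp ht
      have h3 := h ⟨_, hxP⟩ (x := ⟨_, htP⟩) (mem_normalizer_zpowers_iff.mpr ⟨i, Subtype.ext (by
        simp only at hi
        have e : (c⁻¹ * x * c) ^ i = c⁻¹ * x ^ i * c := by
          simpa using conj_zpow (a := c⁻¹) (b := x) (i := i)
        simp only [SubgroupClass.coe_zpow, Subgroup.coe_mul, Subgroup.coe_inv, e, hi]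
        group)⟩)
      have h4 := congrArg Subtype.val (H91.mem_centralizer_singleton.mp h3)
      simp only [Subgroup.coe_mul] at h4
      rw [H91.mem_centralizer_singleton]
      calc x * t = c * (c⁻¹ * x * c * (c⁻¹ * t * c)) * c⁻¹ := by group
        _ = t * x := by rw [h4]; group
    · rw [hk]
      rcases Nat.eq_zero_or_pos k with rfl | hk0
      · simp
      · rw [Nat.totient_prime_pow Nat.prime_two hk0]
        simpa using hb.pow_right _

end Cfsg.Agent.S4028
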