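import Cfsg.Statements.S5752
import Cfsg.Agent.H33.ThompsonWielandt
import Cfsg.Agent.H33.PermBasic

set_option autoImplicit false
open Cfsg

namespace Cfsg.Agent.S5752

/-- A form of the Thompson–Wielandt Theorem on primitive permutation groups. Let G be a finite group and M₁, M₂ two distinct conjugate maximal subgroups of G with trivial core in G; define two descending sequences of subgroups by A₀ = M₁, B₀ = M₂ and, for every i, A_{i+1} = the core in M₁ of A_i ∩ B_i and B_{i+1} = the core in M₂ of A_i ∩ B_i (the core in M of a subgroup Y ≤ M is the largest normal subgroup of M contained in Y). If A₂ and B₂ are both non-trivial, then for some prime p the subgroup generated by A₂ and B₂ is a p-group, and for each j the generalized Fitting subgroups of M_j and of its first core (A₁, resp. B₁) are their largest normal p-subgroups. -/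
theorem result {G : Type*} [Group G] [Finite G] (M₁ M₂ : Subgroup G) (hmax : IsCoatom M₁) (g : G)
    (hconj : M₂ = M₁.map (MulAut.conj g).toMonoidHom) (hne : M₁ ≠ M₂) (hcore : M₁.normalCore = ⊥)
    (A B : ℕ → Subgroup G) (hA0 : A 0 = M₁) (hB0 : B 0 = M₂)
    (hA : ∀ i, A (i + 1) = ((A i ⊓ B i).subgroupOf M₁).normalCore.map M₁.subtype)
    (hB : ∀ i, B (i + 1) = ((A i ⊓ B i).subgroupOf M₂).normalCore.map M₂.subtype) (hA2 : A 2 ≠ ⊥) (hB2 : B 2 ≠ ⊥) :
    ∃ p : ℕ, p.Prime ∧ IsPGroup p ↥(A 2 ⊔ B 2) ∧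
      Cfsg.generalizedFittingSubgroup ↥M₁ = Cfsg.pCore p ↥M₁ ∧ Cfsg.generalizedFittingSubgroup ↥(A 1) = Cfsg.pCore p ↥(A 1) ∧
      Cfsg.generalizedFittingSubgroup ↥M₂ = Cfsg.pCore p ↥M₂ ∧ Cfsg.generalizedFittingSubgroup ↥(B 1) = Cfsg.pCore p ↥(B 1) := by
  subst hA0 hB0
  have hN : IsCoatom (B 0) := by
    rw [hconj]
    exact (H33.isCoatom_map_mulEquiv (MulAut.conj g) _).2 hmax
  have hcN : (B 0).normalCore = ⊥ := by
    rw [eq_bot_iff, ← hcore]
    intro x hx b
    have := hx (g * b)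
    rw [hconj] at this
    obtain ⟨y, hy, h⟩ := this
    have h2 : y = b * x * b⁻¹ := by
      apply (MulAut.conj g).injective
      rw [show (MulAut.conj g) y = _ from h]
      simp [mul_assoc]
    exact h2 ▸ hy
  have hcard : ∀ p, Nat.card (H52.Op p (A 0)) = Nat.card (H52.Op p (B 0)) := fun p => by
    rw [hconj, ← H52.map_Op_of_injective _ (MulAut.conj g).injective]
    exact (Subgroup.card_map_of_injective (MulAut.conj g).injective).symm
  have hA1 : A 1 = H33.coreIn (A 0 ⊓ B 0) (A 0) := hA 0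
  have hB1 : B 1 = H33.coreIn (A 0 ⊓ B 0) (B 0) := hB 0
  have hA2' : A 2 = H33.coreIn (A 1 ⊓ B 1) (A 0) := hA 1
  have hB2' : B 2 = H33.coreIn (A 1 ⊓ B 1) (B 0) := hB 1
  have hAn : A 0 ≤ Subgroup.normalizer (A 2 : Set G) := hA2' ▸ H33.le_normalizer_coreIn _ _
  have hBn : B 0 ≤ Subgroup.normalizer (B 2 : Set G) := hB2' ▸ H33.le_normalizer_coreIn _ _
  have hAB : A 2 ≤ B 1 := hA2' ▸ (H33.coreIn_le _ _).trans inf_le_right
  have hBA : B 2 ≤ A 1 := hB2' ▸ (H33.coreIn_le _ _).trans inf_le_left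
  obtain ⟨p, hp, h1, h2, h3, h4⟩ := H33.thompson_wielandt hmax hcore hN hcN hne hcard hAn
    (hB1 ▸ hAB) hA2 hBn (hA1 ▸ hBA) hB2
  haveI : Fact p.Prime := ⟨hp⟩
  refine ⟨p, hp, h1.to_sup_of_normal_left' h2 ?_, h3, ?_, h4, ?_⟩
  · exact (hBA.trans (hA1 ▸ H33.coreIn_le_right _ _)).trans hAn
  · exact H33.fstar_eq_pCore_of_normal (hA1 ▸ H33.coreIn_le_right _ _)
      (hA1 ▸ H33.le_normalizer_coreIn _ _) h3
  · exact H33.fstar_eq_pCore_of_normal (hB1 ▸ H33.coreIn_le_right _ _)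
      (hB1 ▸ H33.le_normalizer_coreIn _ _) h4

end Cfsg.Agent.S5752
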