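import Cfsg.Statements.S3682
import Cfsg.Agent.H62.Suborbit
import Cfsg.Agent.S5752

set_option autoImplicit false
open Cfsg

namespace Cfsg.Agent.S3682

open MulAction Cfsg.Agent.H62 in
/-- Packaged Thompson–Wielandt dichotomy for a suborbit. -/
theorem tw_dichotomy {G Ω : Type*} [Group G] [Finite G] [MulAction G Ω] [FaithfulSMul G Ω]
    (hprim : MulAction.IsPreprimitive G Ω) (a b : Ω) (d : ℕ)
    (hd : Nat.card (MulAction.orbit (MulAction.stabilizer G a) b) = d) (h2 : 2 ≤ d) :
    (coreIn (stabilizer G a) (coreIn (stabilizer G a) (stabilizer G a ⊓ stabilizer G b) ⊓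
        coreIn (stabilizer G b) (stabilizer G a ⊓ stabilizer G b)) = ⊥ ∨
      coreIn (stabilizer G b) (coreIn (stabilizer G a) (stabilizer G a ⊓ stabilizer G b) ⊓
        coreIn (stabilizer G b) (stabilizer G a ⊓ stabilizer G b)) = ⊥) ∨
    ∃ p : ℕ, p.Prime ∧
      coreIn (stabilizer G a) (coreIn (stabilizer G a) (stabilizer G a ⊓ stabilizer G b) ⊓
        coreIn (stabilizer G b) (stabilizer G a ⊓ stabilizer G b)) ≠ ⊥ ∧
      IsPGroup p ↥(coreIn (stabilizer G a) (coreIn (stabilizer G a) (stabilizer G a ⊓ stabilizer G b) ⊓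
        coreIn (stabilizer G b) (stabilizer G a ⊓ stabilizer G b))) ∧
      Cfsg.generalizedFittingSubgroup (stabilizer G a) = Cfsg.pCore p (stabilizer G a) := by
  by_cases hA : coreIn (stabilizer G a) (coreIn (stabilizer G a) (stabilizer G a ⊓ stabilizer G b) ⊓
        coreIn (stabilizer G b) (stabilizer G a ⊓ stabilizer G b)) = ⊥
  · exact Or.inl (Or.inl hA)
  by_cases hB : coreIn (stabilizer G b) (coreIn (stabilizer G a) (stabilizer G a ⊓ stabilizer G b) ⊓
        coreIn (stabilizer G b) (stabilizer G a ⊓ stabilizer G b)) = ⊥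
  · exact Or.inl (Or.inr hB)
  right
  have hne := stabilizer_ne_of_two_le a b (hd ▸ h2)
  have hab : a ≠ b := fun h => hne (by rw [h])
  haveI : Nontrivial Ω := ⟨⟨a, b, hab⟩⟩
  obtain ⟨g, hg⟩ := exists_smul_eq G a b
  obtain ⟨p, hp, h1, h3, -⟩ := Cfsg.Agent.S5752.result (stabilizer G a) (stabilizer G b)
    (IsPreprimitive.isCoatom_stabilizer_of_isPreprimitive G a) g
    (by rw [← hg, stabilizer_smul_eq_stabilizer_map_conj]) hne (stabilizer_normalCore_eq_bot a)
    (fun i => (coreSeq (stabilizer G a) (stabilizer G b) i).1)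
    (fun i => (coreSeq (stabilizer G a) (stabilizer G b) i).2) rfl rfl (fun _ => rfl) (fun _ => rfl)
    hA hB
  exact ⟨p, hp, hA, h1.to_le le_sup_left, h3⟩

open MulAction Cfsg.Agent.H62 in
theorem card_dvd_of_bot {G Ω : Type*} [Group G] [Finite G] [MulAction G Ω] [FaithfulSMul G Ω]
    [IsPretransitive G Ω] (a b : Ω) (d : ℕ)
    (hd : Nat.card (MulAction.orbit (MulAction.stabilizer G a) b) = d)
    (h : coreIn (stabilizer G a) (coreIn (stabilizer G a) (stabilizer G a ⊓ stabilizer G b) ⊓
        coreIn (stabilizer G b) (stabilizer G a ⊓ stabilizer G b)) = ⊥ ∨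
      coreIn (stabilizer G b) (coreIn (stabilizer G a) (stabilizer G a ⊓ stabilizer G b) ⊓
        coreIn (stabilizer G b) (stabilizer G a ⊓ stabilizer G b)) = ⊥) :
    Nat.card (MulAction.stabilizer G a) ∣ Nat.factorial d * (Nat.factorial (d - 1)) ^ d := by
  have h1 := (relIndex_inf_stabilizer (G := G) a b).trans hd
  have h2 := (relIndex_inf_stabilizer' (G := G) a b).trans hd
  rcases h with h | h
  · have := second_coreIn_relIndex_dvd _ _ d h1 h2
    rwa [h, Subgroup.relIndex_bot_left] at this
  · have := second_coreIn_relIndex_dvd (stabilizer G b) (stabilizer G a) d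
      (by rw [inf_comm]; exact h2) (by rw [inf_comm]; exact h1)
    rw [inf_comm (stabilizer G b), inf_comm (coreIn (stabilizer G b) _), h,
      Subgroup.relIndex_bot_left] at this
    rwa [card_stabilizer_eq a b]

/-- Wielandt's bound toward the Sims conjecture. Let a finite group G act faithfully and primitively on a set Ω, let a and b be points, and suppose the orbit of b under the stabilizer of a has length d ≥ 2. Then there are a prime p and a normal p-subgroup P of the stabilizer of a, all of whose elements fix b, such that the index of P in the stabilizer of a divides d! · ((d - 1)!)^d. -/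
theorem result {G Ω : Type*} [Group G] [Finite G] [MulAction G Ω] [FaithfulSMul G Ω] [Finite Ω]
    (hprim : MulAction.IsPreprimitive G Ω) (a b : Ω) (d : ℕ) (hd : Nat.card (MulAction.orbit (MulAction.stabilizer G a) b) = d) (h2 : 2 ≤ d) :
    ∃ p : ℕ, p.Prime ∧ ∃ P : Subgroup (MulAction.stabilizer G a), P.Normal ∧ IsPGroup p P ∧ (∀ g : P, ((g : MulAction.stabilizer G a) : G) • b = b) ∧
      P.index ∣ Nat.factorial d * (Nat.factorial (d - 1)) ^ d := by
  have h1 := (H62.relIndex_inf_stabilizer (G := G) a b).trans hd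
  have h3 := (H62.relIndex_inf_stabilizer' (G := G) a b).trans hd
  rcases tw_dichotomy hprim a b d hd h2 with h | ⟨p, hp, -, hP, -⟩
  · refine ⟨2, Nat.prime_two, ⊥, inferInstance, IsPGroup.of_bot, ?_, ?_⟩
    · intro g
      have : (g : MulAction.stabilizer G a) = 1 := Subgroup.mem_bot.1 g.2
      rw [this]; simp
    · rw [Subgroup.index_bot]
      exact card_dvd_of_bot a b d hd h
  · refine ⟨p, hp, Subgroup.subgroupOf (H62.coreIn (MulAction.stabilizer G a) (H62.coreIn (MulAction.stabilizer G a) (MulAction.stabilizer G a ⊓ MulAction.stabilizer G b) ⊓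
        H62.coreIn (MulAction.stabilizer G b) (MulAction.stabilizer G a ⊓ MulAction.stabilizer G b))) (MulAction.stabilizer G a), ?_, ?_, ?_, ?_⟩
    · rw [H62.coreIn_subgroupOf]; infer_instance
    · exact hP.comap_subtype
    · intro g
      exact (H62.coreIn_le_right _ _ (H62.coreIn_le_right _ _ g.2).1).2
    · exact H62.second_coreIn_relIndex_dvd _ _ d h1 h3

end Cfsg.Agent.S3682
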