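import Cfsg.Statements.S2738
import Cfsg.Agent.H26.SLBasic

set_option autoImplicit false
open Cfsg

namespace Cfsg.Agent.S2738

/-- The special linear group SL(3, 4) has centre of order 3 and does not split over it: no subgroup is a complement to the centre (so SL(3, 4) is a non-split central extension of PSL(3, 4) by a group of order 3). -/
theorem result (F : Type*) [Field F] [Fintype F] (hF : Fintype.card F = 4) : Nat.card ↥(Subgroup.center (Matrix.SpecialLinearGroup (Fin 3) F)) = 3 ∧ ¬ ∃ K : Subgroup (Matrix.SpecialLinearGroup (Fin 3) F), Subgroup.IsComplement' (Subgroup.center (Matrix.SpecialLinearGroup (Fin 3) F)) K := by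
  have h1 : Nat.card ↥(Subgroup.center (Matrix.SpecialLinearGroup (Fin 3) F)) = 3 := by
    rw [H26.card_center_sl, Nat.card_eq_fintype_card, hF]
    rfl
  refine ⟨h1, fun ⟨K, hK⟩ => ?_⟩
  have hn : K.Normal := ⟨fun n hn g => by
    obtain ⟨⟨z, k⟩, rfl⟩ := hK.2 g
    have hz := Subgroup.mem_center_iff.mp z.2
    change z.1 * k.1 * n * (z.1 * k.1)⁻¹ ∈ K
    rw [show z.1 * k.1 * n * (z.1 * k.1)⁻¹ = z.1 * (k.1 * n * k.1⁻¹) * z.1⁻¹ by group, ← hz, mul_inv_cancel_right]
    exact K.mul_mem (K.mul_mem k.2 hn) (K.inv_mem k.2)⟩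
  have h2 : K.index = 3 := hK.index_eq_card.trans h1
  have h3 : commutator (Matrix.SpecialLinearGroup (Fin 3) F) ≤ K := by
    have : Fact (Nat.Prime 3) := ⟨Nat.prime_three⟩
    have := isCyclic_of_prime_card (α := _ ⧸ K) h2
    let _ := IsCyclic.commGroup (α := _ ⧸ K)
    simpa using Abelianization.commutator_subset_ker (QuotientGroup.mk' K)
  rw [H26.sl_commutator_eq_top (Or.inl (by simp)), top_le_iff] at h3
  rw [h3, Subgroup.index_top] at h2
  omega

end Cfsg.Agent.S2738
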