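import Cfsg.Statements.S0434
import Cfsg.Agent.H13.M11Crit

set_option autoImplicit false
open Cfsg

namespace Cfsg.Agent.S0434

open Cfsg.Agent.H13 Cfsg.Agent.H13.M11 Cfsg.Agent.H58

attribute [local instance] fact11 fact5

theorem model : ∃ g a : Γ0, g ^ 8 = 1 ∧ g ^ 4 ≠ 1 ∧ a ^ 3 = 1 ∧ a ≠ 1 ∧
    a * (g * a * g⁻¹) = (g * a * g⁻¹) * a ∧ g * a * g⁻¹ ≠ a ∧ g * a * g⁻¹ ≠ a ^ 2 ∧
    g * (g * a * g⁻¹) * g⁻¹ = a * (g * a * g⁻¹) ^ 2 := by
  have hx : x0 ∈ Γ0 := Subgroup.subset_closure (by simp)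
  have hy : y0 ∈ Γ0 := Subgroup.subset_closure (by simp)
  have hw : w0 ∈ Γ0 := Subgroup.subset_closure (by simp)
  refine ⟨⟨x0 * x0 * w0 * y0, mul_mem (mul_mem (mul_mem hx hx) hw) hy⟩,
    ⟨y0 * w0 * x0 * w0, mul_mem (mul_mem (mul_mem hy hw) hx) hw⟩, ?_⟩
  simp only [ne_eq, Subtype.ext_iff, Subgroup.coe_mul, Subgroup.coe_inv, Subgroup.coe_pow,
    Subgroup.coe_one]
  decide +kernel

theorem not_dvd {G : Type*} [Group G] [Finite G] {p : ℕ} [hp : Fact p.Prime] (h : SelfCent p G)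
    (hp3 : p ≠ 3) (h3 : ¬ 3 ≡ 1 [MOD p]) (h9 : ¬ 9 ≡ 1 [MOD p]) {P : Subgroup G}
    (hP : Nat.card P = 9) : ¬ p ∣ Nat.card (Subgroup.normalizer (P : Set G)) := by
  intro hd
  obtain ⟨y, hy⟩ := exists_prime_orderOf_dvd_card' p hd
  have hy' : orderOf (y : G) = p := by rw [Subgroup.orderOf_coe, hy]
  have hQ : Nat.card (Subgroup.zpowers (y : G)) = p := by rw [Nat.card_zpowers, hy']
  have hne : ¬ p ∣ 3 := fun h => hp3 ((Nat.prime_dvd_prime_iff_eq hp.out Nat.prime_three).1 h)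
  have h1 := (Crit.dvd_card_inf_centralizer (IsPGroup.of_card (n := 1) (by rw [hQ, pow_one]))
    (Subgroup.zpowers_le.2 y.2) (by rw [hP]; exact fun h => hne (hp.out.dvd_of_dvd_pow (n := 2) h))
    Nat.prime_three (by rw [hP]; norm_num) fun a ha hd => by
      rw [hP] at hd
      have : a < 3 := by
        by_contra hlt
        exact absurd ((pow_dvd_pow 3 (not_lt.1 hlt)).trans hd) (by norm_num)
      interval_cases a
      · exact h3
      · exact h9).trans (Subgroup.card_dvd_of_le (inf_le_right.trans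
        (Subgroup.centralizer_le (by simp : ({(y : G)} : Set G) ⊆ Subgroup.zpowers (y : G)))))
  rw [h.card_centralizer hy'] at h1
  exact hp3 ((Nat.prime_dvd_prime_iff_eq Nat.prime_three hp.out).1 h1).symm

/-- Sylow 3-normalisers in a simple group of order 7920 have order 144 (so there are 55 Sylow 3-subgroups). -/
theorem result {G : Type*} [Group G] [Finite G] (hG : Cfsg.IsM11 G) (P : Sylow 3 G) : Nat.card (Subgroup.normalizer ((P : Subgroup G) : Set G)) = 144 := by
  classical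
  obtain ⟨hs, hG⟩ := hG
  have := Fintype.ofFinite G
  obtain ⟨e⟩ := nonempty_equiv_model hG
  obtain ⟨g, a, h1, h2, h3, h4, h5, h6, h7, h8⟩ : ∃ g a : G, g ^ 8 = 1 ∧ g ^ 4 ≠ 1 ∧ a ^ 3 = 1 ∧
      a ≠ 1 ∧ a * (g * a * g⁻¹) = (g * a * g⁻¹) * a ∧ g * a * g⁻¹ ≠ a ∧ g * a * g⁻¹ ≠ a ^ 2 ∧
      g * (g * a * g⁻¹) * g⁻¹ = a * (g * a * g⁻¹) ^ 2 := by
    obtain ⟨g, a, h⟩ := model
    refine ⟨e.symm g, e.symm a, ?_⟩
    simpa only [← map_mul, ← map_inv, ← map_pow, ne_eq, EmbeddingLike.apply_eq_iff_eq,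
      EmbeddingLike.map_eq_one_iff] using h
  set b := g * a * g⁻¹ with hb
  have hb3 : b ^ 3 = 1 := by rw [hb, conj_pow, h3]; group
  have hoa : orderOf a = 3 := orderOf_eq_prime h3 h4
  have hog : orderOf g = 8 := orderOf_eq_prime_pow (p := 2) (n := 2) h2 h1
  have hP9 : ∀ Q : Sylow 3 G, Nat.card Q = 9 := fun Q =>
    (card_sylow_of_eq Q (k := 2) (m := 880) (by rw [hG]; norm_num) (by norm_num)).trans
      (by norm_num)
  set P0 := Subgroup.closure ({a, b} : Set G) with hP0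
  have ha0 : a ∈ P0 := Subgroup.subset_closure (by simp)
  have hb0 : b ∈ P0 := Subgroup.subset_closure (by simp)
  have hc : ∀ x ∈ P0, ∀ y ∈ P0, Commute x y := by
    have := Subgroup.isMulCommutative_closure (k := ({a, b} : Set G)) (by
      rintro x (rfl | rfl) y (rfl | rfl) <;> simp [h5])
    exact fun x hx y hy => congrArg Subtype.val (mul_comm' (⟨x, hx⟩ : P0) ⟨y, hy⟩)
  have hp : IsPGroup 3 P0 := fun x => ⟨1, Subtype.ext (by
    obtain ⟨x, hx⟩ := x
    change x ^ 3 = 1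
    induction hx using Subgroup.closure_induction with
    | mem x hx => rcases hx with rfl | rfl <;> assumption
    | one => simp
    | mul x y hx hy ix iy => rw [(hc x hx y hy).mul_pow, ix, iy, one_mul]
    | inv x hx ix => rw [inv_pow, ix, inv_one])⟩
  obtain ⟨Q, hQ⟩ := hp.exists_le_sylow
  have hE : P0 = Q := by
    refine Subgroup.eq_of_le_of_card_ge hQ ?_
    have d1 := Subgroup.card_dvd_of_le hQ
    have d2 := Subgroup.card_dvd_of_le (Subgroup.zpowers_le.2 ha0)
    rw [Nat.card_zpowers, hoa] at d2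
    have d3 : Nat.card P0 ≠ 3 := fun h => by
      have := Subgroup.eq_of_le_of_card_ge (Subgroup.zpowers_le.2 ha0)
        (by rw [h, Nat.card_zpowers, hoa])
      rw [← this, ← mem_powers_iff_mem_zpowers, mem_powers_iff_mem_range_orderOf, hoa] at hb0
      obtain ⟨k, hk, hk'⟩ := Finset.mem_image.1 hb0
      have := Finset.mem_range.1 hk
      interval_cases k
      · exact h4 (by rw [pow_zero, hb] at hk'; exact conj_eq_one_iff.1 hk'.symm)
      · exact h6 (by rw [← hk', pow_one])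
      · exact h7 hk'.symm
    rw [hP9] at d1 ⊢
    have := Nat.le_of_dvd (by norm_num) d1
    interval_cases Nat.card P0 <;> omega
  have hg : g ∈ Subgroup.normalizer ((Q : Subgroup G) : Set G) := by
    rw [← hE]
    refine Subgroup.mem_normalizer_fintype fun x hx => ?_
    induction hx using Subgroup.closure_induction with
    | mem x hx =>
      rcases hx with rfl | rfl
      · exact hb0
      · rw [h8]; exact mul_mem ha0 (pow_mem hb0 2)
    | one => simp
    | mul x y _ _ ix iy => rw [← conj_mul]; exact mul_mem ix iy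
    | inv x _ ix => rw [← conj_inv]; exact inv_mem ix
  have d8 := Subgroup.card_dvd_of_le (Subgroup.zpowers_le.2 hg)
  rw [Nat.card_zpowers, hog] at d8
  have d9 := Subgroup.card_dvd_of_le (Subgroup.le_normalizer (H := (Q : Subgroup G)))
  rw [hP9] at d9
  obtain ⟨R⟩ : Nonempty (Sylow 11 G) := inferInstance
  obtain ⟨R5⟩ : Nonempty (Sylow 5 G) := inferInstance
  obtain ⟨s11, -, ⟨D⟩⟩ := data11 hG R
  have n11 := not_dvd s11 (by norm_num) (by decide) (by decide) (hP9 Q)
  have n5 := not_dvd (data5 hG D R5).1 (by norm_num) (by decide) (by decide) (hP9 Q)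
  have e1 := card_normalizer_mul_card_sylow Q
  have e2 := card_normalizer_mul_card_sylow P
  obtain ⟨n, hn⟩ := exists_card_sylow_eq 3 G
  change Nat.card (Subgroup.normalizer ((Q : Subgroup G) : Set G)) * _ = _ at e1
  change Nat.card (Subgroup.normalizer ((P : Subgroup G) : Set G)) * _ = _ at e2
  obtain ⟨c, hc⟩ : 72 ∣ Nat.card (Subgroup.normalizer ((Q : Subgroup G) : Set G)) :=
    Nat.Coprime.mul_dvd_of_dvd_of_dvd (by norm_num : Nat.Coprime 8 9) d8 d9
  rw [hc] at n11 n5 e1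
  rw [hG] at e1 e2
  have d110 : c ∣ 110 := ⟨Nat.card (Sylow 3 G), by linarith⟩
  have := Nat.le_of_dvd (by norm_num) d110
  have h55 : Nat.card (Sylow 3 G) = 55 := by
    interval_cases c <;> omega
  rw [h55] at e2
  omega

end Cfsg.Agent.S0434
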