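import Cfsg.Statements.S3157
import Cfsg.Agent.H2.F3

set_option autoImplicit false
open Cfsg

namespace Cfsg.Agent.S3157

/-- Let T be a non-abelian group of order 64 admitting automorphisms ρ of order 3 and x of order 2 with x ρ x⁻¹ = ρ⁻¹ (so they generate a symmetric group of degree 3), where ρ fixes only the identity. Then T is isomorphic to a Sylow 2-subgroup of the projective special linear group of dimension 3 over the field with 4 elements, and the subgroup of fixed points of x is dihedral of order 8 or quaternion of order 8. -/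
theorem result {T : Type*} [Group T] [Finite T] (hT : Nat.card T = 64) (hna : ¬ IsMulCommutative T) (ρ x : MulAut T) (hρ : orderOf ρ = 3) (hx : orderOf x = 2)
    (hxr : x * ρ * x⁻¹ = ρ⁻¹) (hfp : ∀ y : T, ρ y = y → y = 1) (C : Subgroup T) (hC : ∀ y : T, y ∈ C ↔ x y = y) :
    (∃ (F : Type) (_ : Field F) (_ : Fintype F), Fintype.card F = 4 ∧
        ∃ S : Sylow 2 (Matrix.ProjectiveSpecialLinearGroup (Fin 3) F), Nonempty (T ≃* ↥(S : Subgroup (Matrix.ProjectiveSpecialLinearGroup (Fin 3) F)))) ∧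
      (Nonempty (↥C ≃* DihedralGroup 4) ∨ Nonempty (↥C ≃* QuaternionGroup 2)) := by
  have h : H2.F3 ρ := ⟨hρ, hfp⟩
  have hna' : ∃ a b : T, ¬ Commute a b := by
    by_contra hc; push Not at hc; exact hna ⟨⟨hc⟩⟩
  have xx : ∀ t, x (x t) = t := fun t => by
    rw [← MulAut.mul_apply, ← sq, ← hx, pow_orderOf_eq_one]; rfl
  have xρ : ∀ t, x (ρ t) = ρ (ρ (x t)) := fun t => ρ.injective (by
    have := DFunLike.congr_fun (mul_inv_eq_iff_eq_mul.1 hxr) t
    rw [h.three, show x (ρ t) = _ from this]; simp)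
  have xρρ : ∀ t, x (ρ (ρ t)) = ρ (x t) := fun t => by rw [xρ, xρ, h.three]
  obtain ⟨hZ, hs⟩ := h.sp2 hT hna'
  constructor
  · rcases h.cases hT hna' with ⟨F, _, _, hF, k⟩ | hu
    · exact ⟨F, inferInstance, inferInstance, hF, default, k _⟩
    have fix := fun w => hu.fix_center x (fun t => by simp [xx]) (w := w)
    obtain ⟨z, hz, z1⟩ := (Subgroup.nontrivial_iff_exists_ne_one (Subgroup.center T)).1
      (Finite.one_lt_card_iff_nontrivial.1 (by rw [hZ]; norm_num))
    have := xρ z
    rw [fix _ (H7.mem_of_char ρ hz), fix _ hz] at this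
    exact absurd (hfp z (ρ.injective this).symm) z1
  let f : C × C → T := fun p => p.1 * ρ (ρ p.2)
  have finj : Function.Injective f := fun p q e => by
    have e' : ((q.1⁻¹ * p.1 : C) : T) = ρ (ρ (q.2 * p.2⁻¹ : C)) := by
      simp only [f] at e
      simp [inv_mul_eq_iff_eq_mul, ← mul_assoc, ← e]
    have k := (hC _).1 (q.1⁻¹ * p.1).2
    rw [e', xρρ, (hC _).1 (q.2 * p.2⁻¹).2] at k
    have k2 := hfp _ (ρ.injective k).symm
    rw [k2, map_one, map_one] at e'
    exact Prod.ext (inv_mul_eq_one.1 (Subtype.ext e')).symm (mul_inv_eq_one.1 (Subtype.ext k2)).symm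
  have k1 := Nat.card_le_card_of_injective f finj
  have φi : ∀ a b, ρ a * (ρ (ρ a))⁻¹ = ρ b * (ρ (ρ b))⁻¹ → a = b := fun a b e =>
    ρ.injective (MonoidHom.FixedPointFree.commutatorMap_injective (φ := ρ) hfp
      (by simpa [div_eq_mul_inv] using e))
  choose g hg using Finite.injective_iff_surjective.1
    (show Function.Injective fun a => ρ a * (ρ (ρ a))⁻¹ from φi)
  simp only at hg
  have k2 := H2.relIndex_le_card' (M := C) (K := ⊤) C (fun t => g (t * (x t)⁻¹)) (fun t _ =>
    (hC _).2 (φi _ _ (inv_injective (by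
      have := congrArg x (hg (t * (x t)⁻¹))
      simp only [map_mul, map_inv, xρ, xx, h.three] at this
      rw [hg, mul_inv_rev, inv_inv, this]; simp)))) fun a _ b _ e => (hC _).2 (by
        have := congrArg (fun a => ρ a * (ρ (ρ a))⁻¹) e
        simp only [hg] at this
        rw [map_mul, map_inv, inv_mul_eq_iff_eq_mul, ← mul_assoc, ← mul_inv_eq_iff_eq_mul,
          ← inv_inj]
        simp [this])
  have k3 := C.card_mul_index
  rw [Subgroup.relIndex_top_right] at k2
  rw [Nat.card_prod, hT] at k1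
  have h8 : Nat.card C = 8 := by nlinarith
  have fs := ((Nat.bijective_iff_injective_and_card f).2 ⟨finj, by rw [Nat.card_prod, h8, hT]⟩).2
  refine H2.d8_or_q8 h8 ?_
  by_contra hc
  push Not at hc
  have c0 : ∀ a b : C, Commute (a : T) b := fun a b => congrArg Subtype.val (hc a b)
  have c1 : ∀ u v : T, (ρ u)⁻¹ * v⁻¹ * ρ u * v = u⁻¹ * (ρ v)⁻¹ * u * ρ v := fun u v => by
    have := H2.cm_eq_one_iff.2 (h.comm (u * v))
    rw [map_mul, hs.cm_mul_left, hs.cm_mul_right, hs.cm_mul_right, H2.cm_eq_one_iff.2 (h.comm u),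
      H2.cm_eq_one_iff.2 (h.comm v), one_mul, mul_one] at this
    rw [eq_inv_of_mul_eq_one_left this]; group
  have c2 : ∀ a b : C, Commute (ρ (ρ a)) b := fun a b =>
    H2.cm_eq_one_iff.1 (by rw [c1]; exact H2.cm_eq_one_iff.2 ((c0 a b).map ρ))
  obtain ⟨a, b, hab⟩ := hna'
  obtain ⟨p, rfl⟩ := fs a
  obtain ⟨q, rfl⟩ := fs b
  exact hab (Commute.mul_left ((c0 _ _).mul_right (c2 _ _).symm)
    ((c2 _ _).mul_right (((c0 _ _).map ρ).map ρ)))


end Cfsg.Agent.S3157
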