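import Cfsg.Statements.S1552
import Cfsg.Agent.H42.Decomp

set_option autoImplicit false
set_option maxRecDepth 1000000
open scoped Pointwise
open Cfsg

namespace Cfsg.Agent.S1552

open Cfsg.Agent.H42

theorem cls : Classes GS sextets (fun x => (MulAction.orbit GS x).ncard)
    (decReps (famDec 6) [(11150382242010895008167239022564679587348520, 1, 1), (11150427435294991104236103652999386573717510, 90, 90), (11150387722154438044499046504969320890639680, 240, 240), (11150406163585501068896520124106678678553600, 1440, 1440)]) :=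
  classes_size_sext inM_gensS GS GS_eq _ (by decide +kernel) (by decide +kernel)
    (by decide) (by decide)

theorem coatom : IsCoatom GS :=
  isCoatom_of_classes (encFam 6) (fun _ h => h) (fun _ => rfl) (x0 := sext0) famOk_sext0 cls
    (fun k => msmul_mem_sextets k sext0_mem) gensS_mem (L := [(378080223165398071934009703666859219, [[5, 1, 4, 4, 0, 2],
    [7, 7, 2, 6, 6],
    [2, 0, 2, 2, 2],
    [0, 5, 5, 9, 10, 6, 6],
    [1, 3, 3, 1, 4, 0, 12, 11, 8, 13, 10],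
    [3, 0, 2, 2, 0, 0, 3],
    [5, 1, 6, 3, 11, 3, 4, 6, 10],
    [5, 1, 1, 7, 4, 9, 4, 0, 9],
    [2, 4, 4, 3, 4],
    [1, 3, 7, 4, 11, 7, 5, 2, 5, 11],
    [20, 25, 0, 18, 7, 14, 12, 11, 6, 2, 0, 4, 0],
    [16, 20, 14, 17, 12, 14, 10, 8, 12, 7]]),
    (750921555001731064902698778643153191, [[4, 2, 0, 2, 1, 4],
    [0, 7, 4, 0, 5, 7],
    [0, 2, 1, 3, 1, 2, 1, 2, 0, 2],
    [2, 1, 1, 3, 5, 2, 5, 2, 4, 4, 0, 5],
    [2, 1, 5, 6, 3, 6, 3, 5, 6],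
    [1, 2, 4, 0, 3, 5, 5],
    [3, 1, 2, 1, 6, 0, 9, 7, 11, 6, 2, 10, 4, 11],
    [0, 2, 5, 1, 4, 8, 8, 4, 6, 6, 8],
    [9, 21, 4, 14, 11, 12, 11, 3, 6, 1, 2, 0],
    [12, 17, 15, 6, 10, 8, 2, 4, 6, 3]]),
    (60082915393771082854831732048604819, [[4, 3, 4, 3, 0],
    [4, 2, 5, 6],
    [2, 2, 2, 2, 2],
    [3, 4, 2, 4],
    [1, 1, 2, 5, 0, 12, 6, 8, 8],
    [5, 2, 4, 0, 3, 1, 4],
    [2, 0, 0, 7, 4, 2, 7],
    [5, 2, 4, 1, 3],
    [1, 3, 7, 5, 10, 4, 14, 2, 0, 8, 14],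
    [4, 4, 2, 8, 1, 13, 3, 0, 13],
    [2, 5, 3, 6, 1, 6],
    [10, 26, 18, 21, 4, 16, 8, 13, 5, 9, 0],
    [20, 22, 4, 18, 2, 15, 10, 6, 2]])])
    (by decide +kernel) (by
      by_contra h
      push Not at h
      have h1 : GS = ⊤ := (Subgroup.eq_top_iff' _).mpr h
      have h2 := card_stab_sextet sext0_mem
      rw [show MulAction.stabilizer Cfsg.M24 (famDec 6 sext0) = ⊤ from h1, Subgroup.card_top, card_M24] at h2
      omega) (by decide +kernel)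

/-- A sextet stabiliser has four orbits on the 1771 sextets, of sizes 1, 90, 240, 1440; and the stabiliser is a maximal proper subgroup. -/
theorem result (S : Finset (Finset Cfsg.GolayPt)) (hS : S ∈ Cfsg.sextets) : ∃ X₁ ∈ Cfsg.sextets, ∃ X₂ ∈ Cfsg.sextets, ∃ X₃ ∈ Cfsg.sextets, (MulAction.orbit ↥(MulAction.stabilizer Cfsg.M24 S) X₁).ncard = 90 ∧ (MulAction.orbit ↥(MulAction.stabilizer Cfsg.M24 S) X₂).ncard = 240 ∧ (MulAction.orbit ↥(MulAction.stabilizer Cfsg.M24 S) X₃).ncard = 1440 ∧ Cfsg.sextets = {S} ∪ MulAction.orbit ↥(MulAction.stabilizer Cfsg.M24 S) X₁ ∪ MulAction.orbit ↥(MulAction.stabilizer Cfsg.M24 S) X₂ ∪ MulAction.orbit ↥(MulAction.stabilizer Cfsg.M24 S) X₃ ∧ IsCoatom (MulAction.stabilizer Cfsg.M24 S) := by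
  obtain ⟨g, rfl⟩ := exists_smul_sext0 hS
  obtain ⟨X₁, h1, X₂, h2, X₃, h3, h4, h5, h6, h7⟩ :=
    (cls.stab_smul g (fun _ => msmul_mem_sextets_iff g)).exists13 (fun _ h => h)
  exact ⟨X₁, h1, X₂, h2, X₃, h3, h4, h5, h6, h7, isCoatom_stabilizer_smul g _ coatom⟩

end Cfsg.Agent.S1552
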