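import Cfsg.Statements.S1563
import Cfsg.Agent.H42.Flags

set_option autoImplicit false
set_option maxRecDepth 1000000
open scoped Pointwise
open Cfsg

namespace Cfsg.Agent.S1563

open Cfsg.Agent.H42

theorem cls : Classes GD2 {s | s.card = 2} (fun x => (MulAction.orbit GD2 x).ncard)
    (decReps toSet [(8388609, 1, 1), (3, 44, 44), (6, 231, 231)]) :=
  encSet.classes_size (gens := gensD2) inM_gensD2 GD2 GD2_eq {s | s.card = 2} (Set.toFinite _)
    (fun g _ x hx => (Finset.card_smul_finset g x).trans hx) _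
    (fun r hr => by
      have h := repsChk_spec (p := fun n => Nat.ble (n + 1) (2 ^ 24) && Nat.beq (pc n) 2)
        (by decide +kernel) hr
      rw [Bool.and_eq_true, ble_iff, beq_iff] at h
      exact ⟨h.1.1, (card_toSet h.1.1).trans h.1.2, h.2⟩) 1200 (sizesChk_set (by decide +kernel))
    (by decide) (by rw [ncard_card_eq]; decide)

theorem coatom : IsCoatom GD2 :=
  isCoatom_of_classes encSet (fun _ h => h) (fun _ => rfl) (x0 := duad0) duad0_lt cls
    (fun k => (Finset.card_smul_finset k _).trans card_duad0) gensD2_mem (L := [(22455574466609597391795794193397921, [[1, 4, 3, 0, 5, 0],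
    [3, 4, 0, 4, 6, 4, 2],
    [2, 0, 2, 0, 3, 1, 3],
    [3, 1, 11, 6, 4, 2, 6],
    [2, 7, 7, 2, 0, 5, 7],
    [4, 3, 1, 9, 9, 6, 4, 6],
    [2, 1, 1, 11, 11, 2, 10, 7, 10],
    [4, 1, 9, 13, 8, 10, 4, 12],
    [3, 0, 6, 0, 10, 0, 14, 13, 4, 12, 15],
    [0, 5, 2, 4, 0, 4, 0, 3, 5],
    [7, 1, 6, 2, 5, 7],
    [6, 23, 26, 4, 20, 11, 16, 11, 6, 12, 8, 6, 1, 5, 2],
    [13, 22, 16, 19, 13, 14, 6, 8]]),
    (113678525589814728098703950060596833, [[1, 1, 5, 2, 5, 2, 5, 0],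
    [3, 3, 4, 7, 3],
    [9, 1, 8, 5, 8],
    [4, 4, 4, 4, 3],
    [1, 2, 2, 2, 0],
    [8, 1, 4, 7, 9],
    [3, 1, 3, 1, 5, 11, 5, 8, 11, 11],
    [1, 3, 5, 0, 6, 8, 12, 5, 19, 15, 0, 14, 18],
    [3, 3, 1, 2, 2, 0, 3],
    [0, 4, 4, 2, 9, 2, 4, 12, 7, 17, 12, 12, 14, 16],
    [6, 24, 18, 18, 14, 12, 14, 7, 9, 7, 7, 3, 4, 1],
    [17, 20, 14, 16, 9, 11, 6, 9, 2]])])
    (by decide +kernel) (exists_ne_of_card _ (card_stab_duad card_duad0) (by norm_num))
    (by decide +kernel)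

/-- The stabiliser of a pair of points (setwise) is a maximal proper subgroup of the group of the length-24 code. -/
theorem result (s : Finset Cfsg.GolayPt) (hs : s.card = 2) : IsCoatom (MulAction.stabilizer Cfsg.M24 s) := by
  obtain ⟨g, rfl⟩ := exists_smul_duad0 hs
  exact isCoatom_stabilizer_smul g _ coatom

end Cfsg.Agent.S1563
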