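import Cfsg.Statements.S4034
import Cfsg.Agent.H92.Kazarin

set_option autoImplicit false
open Cfsg

namespace Cfsg.Agent.S4034

open Cfsg.Agent.H92
open Cfsg.Agent.H2 (IsPiNum)
open scoped Pointwise



/-- Let G be a finite group and p a prime. Every conjugacy class of p-regular elements of G (elements of order prime to p) has p-power size if and only if G has an abelian p-complement, i.e. an abelian subgroup of order prime to p and p-power index. -/
theorem result {G : Type*} [Group G] [Finite G] {p : ℕ} (hp : p.Prime) :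
    (∀ x : G, (orderOf x).Coprime p → ∃ k : ℕ, (ConjClasses.mk x).carrier.ncard = p ^ k) ↔
    (∃ H : Subgroup G, IsMulCommutative H ∧ ¬ p ∣ Nat.card H ∧ ∃ k : ℕ, H.index = p ^ k) := by
  haveI := Fact.mk hp
  simp only [ncard_carrier]
  have hsolv : ∀ K : Subgroup G, (∀ x ∈ K, ∃ k, cs[x] = p ^ k) → (∃ k, K.index = p ^ k) →
      Group.IsSolvable G := by
    intro K hK hi
    haveI := H3.fitting_normal (G ⧸ pCore p G)
    let L := (fittingSubgroup (G ⧸ pCore p G)).comap (QuotientGroup.mk' (pCore p G))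
    have hKL : K ≤ L := fun x hx => (mem_fitting_of_cs_pow (H3.pCore_quotient_pCore p G)
      (eq_pow_of_dvd hp (cs_mk_dvd (pCore p G) x) (hK x hx))).1
    haveI := (H3.pCore_isPGroup p G).isNilpotent
    haveI := H3.fitting_isNilpotent (G ⧸ pCore p G)
    haveI : Group.IsSolvable L := isSolvable_comap_mk' _ inferInstance inferInstance
    have h1 : IsPGroup p (G ⧸ L) :=
      IsPGroup.iff_card.2 (eq_pow_of_dvd hp (Subgroup.index_dvd_of_le hKL) hi)
    haveI := h1.isNilpotent
    exact H1.isSolvable_of_normal_of_quotient L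
  constructor
  · intro h
    haveI : Group.IsSolvable G := by
      haveI := H3.fitting_normal (G ⧸ pCore p G)
      let L := (fittingSubgroup (G ⧸ pCore p G)).comap (QuotientGroup.mk' (pCore p G))
      have hKL : pResidual p G ≤ L := H8.pResidual_le_iff.2 fun x hx =>
        (mem_fitting_of_cs_pow (H3.pCore_quotient_pCore p G)
          (eq_pow_of_dvd hp (cs_mk_dvd (pCore p G) x) (h x hx))).1
      haveI := (H3.pCore_isPGroup p G).isNilpotent
      haveI := H3.fitting_isNilpotent (G ⧸ pCore p G)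
      haveI : Group.IsSolvable L := isSolvable_comap_mk' _ inferInstance inferInstance
      haveI := (H8.isPGroup_quotient_of_pResidual_le hKL).isNilpotent
      exact H1.isSolvable_of_normal_of_quotient L
    obtain ⟨H, hH⟩ := H2.exists_isPiHall {q | q ≠ p} G
    have h1 : ¬ p ∣ Nat.card H := fun hd => hH.1 p hp hd rfl
    have h2 : ∀ x ∈ H, (orderOf x).Coprime p := fun x hx =>
      ((Nat.Prime.coprime_iff_not_dvd hp).2 fun hd => h1 (hd.trans (H.orderOf_dvd_natCard hx))).symm
    refine ⟨H, ⟨⟨fun a b => Subtype.ext ?_⟩⟩, h1, (eq_pow_iff_forall hp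
      Subgroup.FiniteIndex.index_ne_zero).2 fun q hq hd => by_contra fun hne => hH.2 q hq hne hd⟩
    have h3 : (a : G) * b * (a : G)⁻¹ * (b : G)⁻¹ ∈ pCore p G ⊓ H :=
      ⟨commutator_mem_pCore_of_cs_pow (h a (h2 a a.2)) (h b (h2 b b.2)),
        H.mul_mem (H.mul_mem (H.mul_mem a.2 b.2) (H.inv_mem a.2)) (H.inv_mem b.2)⟩
    rw [H3.inf_eq_bot_of_isPGroup_of_coprime (H3.pCore_isPGroup p G)
      ((Nat.Prime.coprime_iff_not_dvd hp).2 h1).symm, Subgroup.mem_bot, mul_inv_eq_one,
      mul_inv_eq_iff_eq_mul] at h3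
    exact h3
  · rintro ⟨H, hab, h1, h2⟩ x hx
    have h3 : ∀ y ∈ H, ∃ k, cs[y] = p ^ k := fun y hy => eq_pow_of_dvd hp
      (Subgroup.index_dvd_of_le fun z hz =>
        mem_C.2 (congrArg Subtype.val (hab.is_comm.comm ⟨z, hz⟩ ⟨y, hy⟩))) h2
    haveI := hsolv H h3 h2
    have hH : IsPiHall {q | q ≠ p} H := ⟨fun q _ hd he => h1 (he ▸ hd),
      fun q hq hne => not_dvd_of_eq_pow hq hp hne h2⟩
    obtain ⟨g, hg⟩ := H2.le_conj_isPiHall hH (K := Subgroup.zpowers x) (by
      rw [Nat.card_zpowers]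
      exact fun q _ hd he => (Nat.Prime.coprime_iff_not_dvd hp).1 hx.symm (he ▸ hd))
    have h4 := h3 _ (mem_conj_smul.1 (hg (Subgroup.mem_zpowers x)))
    rwa [cs_conj'] at h4

end Cfsg.Agent.S4034
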