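import Cfsg.Statements.S4033
import Cfsg.Agent.H61.TwoReg4

set_option autoImplicit false
open Cfsg

namespace Cfsg.Agent.S4033

open Cfsg.Agent.H92 Cfsg.Agent.H61.TR Subgroup

/-- Let G be a finite group and p a prime, and suppose the conjugacy classes of p-regular elements of G (elements of order prime to p) have exactly two distinct sizes. Then either G has an abelian p-complement (an abelian subgroup of order prime to p and p-power index), or there are a prime q ≠ p, a Sylow p-subgroup P, a Sylow q-subgroup Q and a central subgroup A such that PQ is a normal subgroup of order #P·#Q and G is the internal direct product PQ × A. -/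
theorem result {G : Type*} [Group G] [Finite G] {p : ℕ} (hp : p.Prime)
    (h2 : Set.ncard (Set.range fun x : {x : G // (orderOf x).Coprime p} => (ConjClasses.mk (x : G)).carrier.ncard) = 2) :
    (∃ H : Subgroup G, IsMulCommutative H ∧ ¬ p ∣ Nat.card H ∧ ∃ k : ℕ, H.index = p ^ k) ∨
    (∃ (q : ℕ) (_ : Fact q.Prime) (P : Sylow p G) (Q : Sylow q G) (A : Subgroup G), q ≠ p ∧
        A ≤ Subgroup.center G ∧ Nat.card ↥((P : Subgroup G) ⊔ (Q : Subgroup G)) = Nat.card P * Nat.card Q ∧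
        ((P : Subgroup G) ⊔ (Q : Subgroup G)).Normal ∧
        ((P : Subgroup G) ⊔ (Q : Subgroup G)) ⊓ A = ⊥ ∧ ((P : Subgroup G) ⊔ (Q : Subgroup G)) ⊔ A = ⊤) := by
  simp only [ncard_carrier] at h2
  obtain ⟨a, b, hab, he⟩ := Set.ncard_eq_two.1 h2
  have hm : ∀ x : G, ¬ p ∣ orderOf x → cs[x] = a ∨ cs[x] = b := fun x hx => by
    have : cs[x] ∈ ({a, b} : Set ℕ) :=
      he ▸ ⟨⟨x, ((Nat.Prime.coprime_iff_not_dvd hp).2 hx).symm⟩, rfl⟩
    simpa using this
  have h1 := hm 1 (by simp [hp.ne_one])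
  rw [cs_one] at h1
  obtain ⟨m, hm0, hm1⟩ : ∃ m, (∃ x : G, ¬ p ∣ orderOf x ∧ cs[x] = m ∧ m ≠ 1) ∧
      ∀ x : G, Rg p x → cs[x] = m := by
    have ex : ∀ c ∈ ({a, b} : Set ℕ), ∃ x : G, ¬ p ∣ orderOf x ∧ cs[x] = c := fun c hc => by
      obtain ⟨x, hx⟩ := he.ge hc
      exact ⟨x, (Nat.Prime.coprime_iff_not_dvd hp).1 x.2.symm, hx⟩
    rcases h1 with rfl | rfl
    · obtain ⟨x, h3, h4⟩ := ex b (by simp)
      exact ⟨b, ⟨x, h3, h4, hab.symm⟩, fun x hx =>
        (hm x hx.1).resolve_left fun e => hx.2 (cs_eq_one_iff.1 e)⟩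
    · obtain ⟨x, h3, h4⟩ := ex a (by simp)
      exact ⟨a, ⟨x, h3, h4, hab⟩, fun x hx =>
        (hm x hx.1).resolve_right fun e => hx.2 (cs_eq_one_iff.1 e)⟩
  obtain ⟨x, hx1, hx2, hx3⟩ := hm0
  rcases pow_or_two hp hm1 (hx2 ▸ cs_ne_zero x) with h3 | ⟨q, hq, h3⟩
  · exact Or.inl (exists_compl hp hm1 h3)
  have hqp : q ≠ p := by
    rintro rfl
    obtain ⟨y, hy1, r, hr, hr1, hy2, hy3⟩ := exists_primePow_not_mem (K := center G) (g := x)
      fun e => hx3 (hx2 ▸ cs_eq_one_iff.2 e)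
    exact hx1 ((h3 r hr (dvd_index_of_not_mem hr _ hy2 hy3)).elim id id ▸ hr1)
  have := Fact.mk hp
  have := Fact.mk hq
  obtain ⟨P⟩ := (inferInstance : Nonempty (Sylow p G))
  obtain ⟨Q⟩ := (inferInstance : Nonempty (Sylow q G))
  obtain ⟨A, h4⟩ := split_two hqp h3 P Q
  exact Or.inr ⟨q, this, P, Q, A, hqp, h4⟩

end Cfsg.Agent.S4033
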