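import Cfsg.Statements.S4035
import Cfsg.Agent.H92.Direct

set_option autoImplicit false
open Cfsg

namespace Cfsg.Agent.S4035

open Cfsg.Agent.H92



/-- Let G be a finite group and p a prime such that p divides the size of no conjugacy class of p-regular elements (elements of order prime to p). Then G is the internal direct product of a Sylow p-subgroup P and a normal subgroup H of order prime to p: P is normal, P ⊓ H = 1 and PH = G. -/
theorem result {G : Type*} [Group G] [Finite G] {p : ℕ} [Fact p.Prime]
    (h : ∀ x : G, (orderOf x).Coprime p → ¬ p ∣ (ConjClasses.mk x).carrier.ncard) (P : Sylow p G) :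
    (P : Subgroup G).Normal ∧ ∃ H : Subgroup G, H.Normal ∧ ¬ p ∣ Nat.card H ∧
      (P : Subgroup G) ⊓ H = ⊥ ∧ (P : Subgroup G) ⊔ H = ⊤ := by
  have h1 := sup_centralizer_eq_top_of_not_dvd_cs P fun x hx => by
    rw [← ncard_carrier]
    exact h x ((Nat.Prime.coprime_iff_not_dvd Fact.out).2 hx).symm
  obtain ⟨hP, H, hH, hc, -, hcard, -⟩ := sylow_direct_of_sup_centralizer P h1
  exact ⟨hP, H, hH, hcard, disjoint_iff.1 hc.symm.disjoint, hc.symm.sup_eq_top⟩

end Cfsg.Agent.S4035
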