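import Cfsg.Statements.S3366
import Cfsg.Agent.H91.PrD2
import Cfsg.Agent.H23.X3a
import Cfsg.Agent.H69.FixLift

set_option autoImplicit false
open Cfsg

namespace Cfsg.Agent.S3366

open Subgroup H33.J4O H91.Pr Matrix

/-- The matrix of an element of the model. -/
def mat (g : Z9) : Matrix (Fin 2 ⊕ Fin 2) (Fin 2 ⊕ Fin 2) (ZMod 3) :=
  fromBlocks !![1, g.p * g.c - g.q * g.a; 0, g.a] !![-g.z, g.p * g.d - g.q * g.b; g.p, g.b]
    !![0, 0; 0, g.c] !![1, 0; g.q, g.d]

theorem mat_mem : ∀ g ∈ Z9.C, mat g * J (Fin 2) (ZMod 3) * (mat g)ᵀ = J (Fin 2) (ZMod 3) := by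
  intro g (h : g.a * g.d - g.b * g.c = 1)
  ext i j
  rcases i with i | i <;> rcases j with j | j <;> fin_cases i <;> fin_cases j <;>
    simp [mat, J, Matrix.mul_apply, Fintype.sum_sum_type, Fin.sum_univ_two, Matrix.one_apply] <;>
    first | ring1 | linear_combination h | linear_combination -h | linear_combination g.p * h |
      linear_combination -g.p * h | linear_combination g.q * h | linear_combination -g.q * h

theorem mat_mul {g : Z9} (h : g ∈ Z9.C) (k : Z9) : mat (g * k) = mat g * mat k := by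
  change g.a * g.d - g.b * g.c = 1 at h
  ext i j
  rcases i with i | i <;> rcases j with j | j <;> fin_cases i <;> fin_cases j <;>
    simp [mat, Z9.mul_def, Matrix.mul_apply, Fintype.sum_sum_type, Fin.sum_univ_two] <;>
    first | ring1 | linear_combination (k.p * k.c - k.q * k.a) * h |
      linear_combination (k.p * k.d - k.q * k.b) * h | linear_combination -k.z * h

/-- The embedding. -/
def emb : Z9.C →* PSp 2 (ZMod 3) := (QuotientGroup.mk' _).comp
  (MonoidHom.mk' (fun g => ⟨mat g, mat_mem g g.2⟩) fun g k => Subtype.ext (mat_mul g.2 k))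

theorem emb_inj : Function.Injective emb := (injective_iff_map_eq_one _).2 fun g h => by
  rcases H89.Sp43.mk_eq_iff.1 (h.trans (QuotientGroup.mk_one _).symm).symm with e | e
  · have f := fun i j => congrFun (congrFun e i) j
    exact Subtype.ext (Z9.ext (neg_eq_zero.1 (f (.inl 0) (.inr 0))) (f (.inl 1) (.inr 0))
      (f (.inr 1) (.inr 0)) (f (.inl 1) (.inl 1)) (f (.inl 1) (.inr 1)) (f (.inr 1) (.inl 1))
      (f (.inr 1) (.inr 1)))
  · exact absurd (show (1 : ZMod 3) = -1 from congrFun (congrFun e (.inl 0)) (.inl 0)) (by decide)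

/-- Representatives of the points. -/
def pts : List (Fin 2 ⊕ Fin 2 → ZMod 3) :=
  ([0, 1, 2].flatMap fun a => [0, 1, 2].flatMap fun b => [0, 1, 2].map fun c => Sum.elim ![1, a] ![b, c]) ++
  ([0, 1, 2].flatMap fun b => [0, 1, 2].map fun c => Sum.elim ![0, 1] ![b, c]) ++
  ([0, 1, 2].map fun c => Sum.elim ![0, 0] ![1, c]) ++ [Sum.elim ![0, 0] ![0, 1]]

theorem pts_ok : pts.length = 40 ∧ (∀ v ∈ pts, v ≠ 0) ∧ pts.Pairwise fun v w =>
    ¬ ((H27.spTv w (-1)).1 = (H27.spTv v (-1)).1 ∨ (H27.spTv w (-1)).1 = -(H27.spTv v (-1)).1) := by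
  decide +kernel

theorem emb_range : emb.range = centralizer {emb ZC.a} := by
  have e : emb ZC.a = QuotientGroup.mk (H27.spTv (Sum.elim ![1, 0] ![0, 0]) (-1)) :=
    congrArg QuotientGroup.mk (Subtype.ext (by decide +kernel))
  refine eq_of_le_of_card_ge ?_ ?_
  · rintro _ ⟨g, rfl⟩
    exact mcs.2 (by rw [← map_mul, ← map_mul]; exact congrArg emb (Subtype.ext ((Z9.mem_C _).1 g.2)))
  · have := H89.Rec.length_mul_card_le (z := emb ZC.a)
      (l := pts.map fun v => QuotientGroup.mk (H27.spTv v (-1)))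
      (List.pairwise_map.2 (pts_ok.2.2.imp fun h e => h (H89.Sp43.mk_eq_iff.1 e))) fun y hy => by
        obtain ⟨v, hv, rfl⟩ := List.mem_map.1 hy
        obtain ⟨g, -, hg⟩ := H27.sp_exists_mulVec_eq ⊤ (fun _ _ => trivial)
          (v := Sum.elim ![1, 0] ![0, 0]) (by decide) (pts_ok.2.1 v hv)
        exact ⟨QuotientGroup.mk g, by
          rw [e, ← QuotientGroup.mk_inv, ← QuotientGroup.mk_mul, ← QuotientGroup.mk_mul, H27.spTv_conj, hg]⟩
    rw [List.length_map, pts_ok.1, H89.Sp43.card] at this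
    rw [← Nat.card_congr (MonoidHom.ofInjective emb_inj).toEquiv, Z9.card_C]
    omega

theorem sl23 : (∀ g : SpecialLinearGroup (Fin 2) (ZMod 3), ∃ h k, g = h * h * (k * k)) ∧
    ∀ g : SpecialLinearGroup (Fin 2) (ZMod 3), g * g = 1 → ∀ h, h * g * h⁻¹ * g⁻¹ = 1 := by
  decide +kernel

/-- Let X be a finite group with O₃(X) extraspecial of order 27 and exponent 3, X/O₃(X) isomorphic to SL(2,3), O₂(X) = 1, and a Sylow 3-subgroup of X containing an elementary abelian subgroup of order 27. Then X is isomorphic to the centralizer in PSp(4,3) of a 3-central element of order 3 (an element of order 3 in the centre of a Sylow 3-subgroup). -/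
theorem result {X : Type*} [Group X] [Finite X]
    (hR : Cfsg.IsExtraspecial 3 (Cfsg.pCore 3 X)) (hRcard : Nat.card (Cfsg.pCore 3 X) = 27)
    (hRexp : ∀ r ∈ Cfsg.pCore 3 X, r ^ 3 = 1)
    (e : X ⧸ Cfsg.pCore 3 X ≃* Matrix.SpecialLinearGroup (Fin 2) (ZMod 3))
    (hO2 : Cfsg.pCore 2 X = ⊥)
    (hE : ∃ E : Subgroup X, IsMulCommutative E ∧ (∀ a ∈ E, a ^ 3 = 1) ∧ Nat.card E = 27)
    (F : Type*) [Field F] [Fintype F] (hF : Fintype.card F = 3) :
    ∃ (c : Cfsg.PSp 2 F) (S : Sylow 3 (Cfsg.PSp 2 F)), orderOf c = 3 ∧ c ∈ (S : Subgroup (Cfsg.PSp 2 F)) ∧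
      c ∈ Subgroup.centralizer ((S : Subgroup (Cfsg.PSp 2 F)) : Set (Cfsg.PSp 2 F)) ∧
      Nonempty (X ≃* Subgroup.centralizer ({c} : Set (Cfsg.PSp 2 F))) := by
  have := Fact.mk Nat.prime_three
  have := Fact.mk Nat.prime_two
  obtain ⟨E, hE1, hE2, hE3⟩ := hE
  set Q := pCore 3 X
  have nQ : Q.Normal := inferInstance
  obtain ⟨a, aZ, ha⟩ := exists_ord (A := Q ⊓ centralizer (Q : Set X)) Nat.prime_three
    (by rw [H69.extraspecial_center_card hR])
  have x3 : H23.X3 Q a := H23.X3.of_isExtraspecial hR aZ.1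
    (fun e => by rw [e, orderOf_one] at ha; omega) aZ.2
  let π := e.toMonoidHom.comp (QuotientGroup.mk' Q)
  have hπ : Function.Surjective π := e.surjective.comp (QuotientGroup.mk'_surjective _)
  have hk : ∀ g, π g = 1 ↔ g ∈ Q := fun g => e.map_eq_one_iff.trans (QuotientGroup.eq_one_iff g)
  have hC : ⊤ = centralizer {a} := by
    refine le_antisymm (fun g _ => ?_) le_top
    obtain ⟨d, d1, -, d2⟩ := card_norm Nat.prime_three ha
    have sq : ∀ y : X, y * y ∈ centralizer {a} := fun y => by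
      obtain ⟨m, hm⟩ := d1
      have := pow_mem (mcs.2 (d2 y (mem_norm_zp (x3.nd _ (nQ.conj_mem _ aZ.1 y) fun b hb => by
        have := x3.cen _ (nQ.conj_mem' _ hb y)
        calc _ = y * (a * (y⁻¹ * b * y)) * y⁻¹ := by group
          _ = _ := by rw [← this]; group)))) m
      rwa [← pow_mul, ← hm, show 3 - 1 = 2 from rfl, pow_two] at this
    obtain ⟨h, k, e⟩ := sl23.1 (π g)
    obtain ⟨h, rfl⟩ := hπ h
    obtain ⟨k, rfl⟩ := hπ k
    have := (hk ((h * h * (k * k))⁻¹ * g)).1 (by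
      rw [map_mul, map_inv, e, map_mul, map_mul, map_mul, inv_mul_cancel])
    exact (mul_mem_cancel_left (inv_mem (mul_mem (sq h) (sq k)))).1 (mcs.2 (x3.cen _ this))
  have ca : ∀ g, g * a = a * g := fun g => mcs.1 (hC.le trivial)
  have cz : ∀ g, ∀ z ∈ zpowers a, g * z = z * g := fun g z hz => zp_comm hz (ca g)
  have ab : ∀ x ∈ E, ∀ y ∈ E, x * y = y * x := fun x hx y hy =>
    congrArg Subtype.val (hE1.is_comm.comm (⟨x, hx⟩ : E) ⟨y, hy⟩)
  have cX : Nat.card X = 648 := by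
    rw [card_eq_card_quotient_mul_card_subgroup Q, hRcard, Nat.card_congr e.toEquiv, card_sl23]
  have c9 : 9 ≤ Nat.card ↥(Q ⊓ E) := by
    have h1 := H3.card_inf_mul_relIndex Q E
    have h2 : Q.relIndex E ∣ 24 := by
      rw [← card_sl23, ← Nat.card_congr e.toEquiv]; exact relIndex_dvd_index_of_normal _ _
    have h3 := Nat.le_of_dvd three_pos (Nat.dvd_gcd h2 (hE3 ▸ Dvd.intro_left _ h1))
    rw [hE3] at h1; nlinarith
  have sc : ∀ c ∈ Q, (∀ b ∈ Q ⊓ E, b * c = c * b) → c ∈ Q ⊓ E := fun c hc h => by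
    by_contra h0
    have h1 : Q ⊓ E < Q ⊓ E ⊔ zpowers c := lt_of_le_of_ne le_sup_left fun e =>
      h0 (e.ge (mem_sup_right (mem_zpowers c)))
    have h2 : Q ⊓ E ⊔ zpowers c ≤ Q := sup_le inf_le_left (zpowers_le.2 hc)
    have h3 := lt_of_le_of_ne (card_le_of_le h1.le) fun e => h1.ne (eq_of_le_of_card_ge h1.le e.ge)
    have h4 := card_dvd_of_le h2
    have h5 := eq_of_le_of_card_ge h2 (by
      rw [hRcard] at h4 ⊢
      have := Nat.le_of_dvd (by norm_num) h4
      generalize Nat.card ↥(Q ⊓ E ⊔ zpowers c) = n at *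
      interval_cases n <;> omega)
    obtain ⟨x, hx, y, hy, hn⟩ := x3.nab (by rw [hRcard]; norm_num)
    have h6 : Q ⊓ E ⊔ zpowers c ≤ centralizer ((Q ⊓ E ⊔ zpowers c : Subgroup X) : Set X) :=
      sup_le (le_centralizer_iff.2 (sup_le (fun x hx y hy => ab y hy.2 x hx.2) (zpowers_le.2 h)))
        (zpowers_le.2 (le_centralizer_iff.1 (sup_le (fun b hb z hz => (zp_comm hz (h b hb)).symm)
          fun b hb z hz => (zp_comm hz (zp_comm hb rfl).symm).symm) (mem_zpowers c)))
    rw [h5] at h6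
    exact hn (h6 hy x hx)
  obtain ⟨S, s1, -⟩ := exists_setC hC ha x3.mem le_top hRcard hRexp
    (fun q hq h => x3.nd q hq fun r hr => (h r hr).symm) x3.comm (π.comp (⊤ : Subgroup X).subtype)
    (hπ.comp fun g => ⟨⟨g, trivial⟩, rfl⟩) (fun g => hk g) le_top ab hE2 hE3 fun K h1 h2 => by
      by_contra h0
      obtain ⟨p, hp, h3⟩ := Nat.exists_prime_and_dvd (mt card_eq_one.1 h0)
      obtain rfl : p = 2 := by
        have h4 := h3.trans (card_subgroup_dvd_card K)
        rw [cX, show 648 = 2 ^ 3 * 3 ^ 4 from rfl] at h4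
        rcases (Nat.Prime.dvd_mul hp).1 h4 with h | h
        · exact (Nat.prime_dvd_prime_iff_eq hp Nat.prime_two).1 (hp.dvd_of_dvd_pow h)
        · rw [(Nat.prime_dvd_prime_iff_eq hp Nat.prime_three).1 (hp.dvd_of_dvd_pow h)] at h3
          exact absurd h3 (Nat.prime_three.coprime_iff_not_dvd.1 h1.symm)
      obtain ⟨k, hk1, hk2⟩ := exists_ord hp h3
      have kk : k * k = 1 := by rw [← pow_two, ← hk2, pow_orderOf_eq_one]
      have ki := inv_eq_of_mul_eq_one_right kk
      have q1 : ∀ g, g * k * g⁻¹ * k⁻¹ ∈ Q := fun g => (hk _).1 (by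
        rw [map_mul, map_mul, map_mul, map_inv, map_inv]
        exact sl23.2 _ (by rw [← map_mul, kk, map_one]) _)
      have q2 : ∀ j ∈ E, j * k = k * j := fun j hj => by
        rw [← mul_inv_eq_iff_eq_mul, ← mul_inv_eq_one]
        exact eq_one_of_pow h1 (pow_card (mul_mem (norm_mem (h2 hj) hk1) (inv_mem hk1))) (hRexp _ (q1 j))
      have q3 : ∀ y ∈ Q, y * k = k * y := fun y hy => by
        have h4 := sc (y⁻¹ * k * y⁻¹⁻¹ * k⁻¹) (q1 _) fun b hb => by
          have h5 := cz k _ (x3.comm y hy b hb.1)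
          have h6 := q2 b hb.2
          calc _ = y⁻¹ * (y * b * y⁻¹ * b⁻¹ * k) * (k⁻¹ * (b * k)) * y * k⁻¹ := by group
            _ = y⁻¹ * k * y * (b * (y⁻¹ * b⁻¹ * b * y) * k) * k⁻¹ * k⁻¹ := by rw [← h5, h6]; group
            _ = y⁻¹ * k * y * (b * k) * k⁻¹ * k⁻¹ := by group
            _ = _ := by rw [h6, ki]; simp only [mul_assoc, inv_inv, ← h6, kk, one_mul]
        have h8 := (show Commute _ k from q2 _ h4.2).mul_pow 2
        rw [inv_mul_cancel_right, conj_pow, pow_two k, kk, mul_one, mul_one, mul_inv_cancel, eq_comm] at h8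
        have := eq_one_of_pow (by norm_num) h8 (hRexp _ h4.1)
        rw [mul_inv_eq_one, inv_inv, mul_assoc, inv_mul_eq_iff_eq_mul] at this
        exact this.symm
      have q4 : ∀ g, g * k * g⁻¹ = k := fun g => by
        have h4 : Commute (g * k * g⁻¹ * k⁻¹) k := q3 _ (q1 g)
        have h5 := h4.mul_pow 2
        rw [inv_mul_cancel_right, conj_pow, pow_two k, kk, mul_one, mul_one, mul_inv_cancel] at h5
        exact mul_inv_eq_one.1 (eq_one_of_pow (by norm_num) h5.symm (hRexp _ (q1 g)))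
      have h4 : zpowers k ≤ pCore 2 X := le_sSup ⟨⟨fun c hc g => zp_conj hc (by
        rw [q4]; exact mem_zpowers k)⟩, IsPGroup.of_card (n := 1) (by rw [Nat.card_zpowers, hk2]; rfl)⟩
      rw [hO2, le_bot_iff, zpowers_eq_bot] at h4
      rw [h4, orderOf_one] at hk2
      omega
  let f := (H28.pspEquiv (H28.equivZMod 3 hF) 2).symm
  let φ := f.toMonoidHom.comp emb
  have hφ : Function.Injective φ := f.injective.comp emb_inj
  have hr : φ.range = centralizer {φ ZC.a} := by
    refine le_antisymm ?_ fun g hg => ?_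
    · rintro _ ⟨g, rfl⟩
      exact mcs.2 (by rw [← map_mul, ← map_mul]; exact congrArg φ (Subtype.ext ((Z9.mem_C _).1 g.2)))
    · obtain ⟨g, rfl⟩ := f.surjective g
      obtain ⟨c, rfl⟩ := emb_range.ge (x := g) (mcs.2 (f.injective (by
        rw [map_mul, map_mul]; exact mcs.1 hg)))
      exact ⟨c, rfl⟩
  have : Finite (PSp 2 F) := Nat.finite_of_card_ne_zero (by
    rw [← Nat.card_congr f.toEquiv, H89.Sp43.card]; norm_num)
  obtain ⟨P, hP⟩ := exists_sylow (p := 3) (k := 4) (A := (Z9.S.subgroupOf Z9.C).map φ)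
    (by rw [card_map_of_injective hφ, Nat.card_congr (subgroupOfEquivOfLe Z9.S_le_C).toEquiv, Z9.card_S]; rfl)
    (by rw [← Nat.card_congr f.toEquiv, H89.Sp43.card]; norm_num)
  refine ⟨φ ZC.a, P, ?_, hP.ge ⟨_, (by decide : ZC.a.1 ∈ Z9.S), rfl⟩, ?_, ⟨?_⟩⟩
  · rw [orderOf_injective φ hφ]; exact orderOf_eq_prime (by decide +kernel) (by decide +kernel)
  · rw [hP]
    exact fun g hg => mcs.1 (hr.le (map_le_range _ _ hg))
  · have h1 : S.μ.range = ⊤ := by rw [S.μ_range, s1, hC]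
    exact (MulEquiv.ofBijective S.μ ⟨S.μ_inj, MonoidHom.range_eq_top.1 h1⟩).symm.trans
      ((MonoidHom.ofInjective hφ).trans (MulEquiv.subgroupCongr hr))

end Cfsg.Agent.S3366
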