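import Cfsg.Statements.S0550
import Cfsg.Agent.H3.Primitive

set_option autoImplicit false
open Cfsg

namespace Cfsg.Agent.S0550

/-- Let U be a maximal subgroup with trivial normal core in a finite group G, and A ≠ B two minimal normal subgroups. Then A is the centralizer of B and B that of A, U complements each of them, A and B are non-abelian, and A, B and (A ⊔ B) ∩ U are pairwise isomorphic. -/
theorem result {G : Type*} [Group G] [Finite G] (U : Subgroup G) (hU : IsCoatom U) (hcore : U.normalCore = ⊥) (A B : Subgroup G) [A.Normal] [B.Normal] (hA : A ≠ ⊥) (hB : B ≠ ⊥) (hAmin : ∀ K : Subgroup G, K.Normal → K ≤ A → K = ⊥ ∨ K = A) (hBmin : ∀ K : Subgroup G, K.Normal → K ≤ B → K = ⊥ ∨ K = B) (hAB : A ≠ B) : Subgroup.centralizer (B : Set G) = A ∧ Subgroup.centralizer (A : Set G) = B ∧ Subgroup.IsComplement' A U ∧ Subgroup.IsComplement' B U ∧ ¬ IsMulCommutative A ∧ Nonempty (A ≃* B) ∧ Nonempty (A ≃* ↥((A ⊔ B) ⊓ U)) := by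
  have hinf : A ⊓ B = ⊥ := by
    by_contra h
    have h1 := (hAmin _ inferInstance inf_le_left).resolve_left h
    have h2 := (hBmin _ inferInstance inf_le_right).resolve_left h
    exact hAB (h1.symm.trans h2)
  have hc : A ≤ Subgroup.centralizer (B : Set G) :=
    Subgroup.commutator_eq_bot_iff_le_centralizer.mp
      (Subgroup.commutator_eq_bot_of_disjoint (disjoint_iff.mpr hinf))
  have h1 := H3.eq_centralizer_of_coreFree hU hcore B hB hA hc
  have h2 := H3.eq_centralizer_of_coreFree hU hcore A hA hB (Subgroup.le_centralizer_iff.mp hc)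
  have hAU : A ⊓ U = ⊥ := by rw [h1]; exact H3.centralizer_inf_eq_bot_of_coreFree hU hcore B hB
  have hBU : B ⊓ U = ⊥ := by rw [h2]; exact H3.centralizer_inf_eq_bot_of_coreFree hU hcore A hA
  have hUA := H3.sup_eq_top_of_coreFree hU hcore A hA
  have hUB := H3.sup_eq_top_of_coreFree hU hcore B hB
  have e1 : Nonempty (A ≃* ↥((A ⊔ B) ⊓ U)) := by
    refine H3.nonempty_mulEquiv_of_sup_eq (B := B) hinf ?_ ?_
    · rw [eq_bot_iff, ← hBU]; exact le_inf inf_le_right (inf_le_left.trans inf_le_right)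
    · rw [inf_comm, ← H3.sup_inf_of_normal_le le_sup_right, hUB, top_inf_eq]
  have e2 : Nonempty (B ≃* ↥((A ⊔ B) ⊓ U)) := by
    refine H3.nonempty_mulEquiv_of_sup_eq (B := A) (by rw [inf_comm, hinf]) ?_ ?_
    · rw [eq_bot_iff, ← hAU]; exact le_inf inf_le_right (inf_le_left.trans inf_le_right)
    · rw [inf_comm, ← H3.sup_inf_of_normal_le le_sup_left, hUA, top_inf_eq, sup_comm]
  refine ⟨h1.symm, h2.symm, H3.isComplement'_of_inf_eq_bot_of_sup_eq_top hAU (by rwa [sup_comm]),
    H3.isComplement'_of_inf_eq_bot_of_sup_eq_top hBU (by rwa [sup_comm]), fun h => ?_,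
    ⟨e1.some.trans e2.some.symm⟩, e1⟩
  have h3 : A ≤ B := h2 ▸ Subgroup.le_centralizer A
  exact hA (by rw [← hinf, inf_of_le_left h3])

end Cfsg.Agent.S0550
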