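import Cfsg.Statements.S3549
import Cfsg.Agent.H62.Derangement

set_option autoImplicit false
open Cfsg

namespace Cfsg.Agent.S3549

/-- Let G act faithfully, transitively but imprimitively on a finite set with n points, and let D be the subgroup generated by the derangements. Then the index of D in G is at most √n − 1. -/
theorem result {G Ω : Type*} [Group G] [Finite G] [MulAction G Ω] [FaithfulSMul G Ω] [Finite Ω]
    (htrans : MulAction.IsPretransitive G Ω) (himp : ¬ MulAction.IsPreprimitive G Ω) :
    ((Subgroup.closure {g : G | ∀ ω : Ω, g • ω ≠ ω}).index : ℝ) ≤ Real.sqrt (Nat.card Ω) - 1 := by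
  set D := Subgroup.closure {g : G | ∀ ω : Ω, g • ω ≠ ω} with hD
  have hnt : Nontrivial Ω := by
    by_contra h
    rw [not_nontrivial_iff_subsingleton] at h
    exact himp MulAction.IsPreprimitive.of_subsingleton
  have hDex : ∀ g : G, g ∉ D → ∃ x : Ω, g • x = x := H62.exists_fixed_of_notMem_closure_derangements
  obtain ⟨a⟩ : Nonempty Ω := inferInstance
  rw [← MulAction.isCoatom_stabilizer_iff_preprimitive G a] at himp
  obtain ⟨K, hK1, hK2⟩ : ∃ K : Subgroup G, MulAction.stabilizer G a < K ∧ K ≠ ⊤ := by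
    by_contra h
    push Not at h
    exact himp ⟨H62.stabilizer_ne_top a, h⟩
  have hn : (MulAction.stabilizer G a).relIndex K * K.index = Nat.card Ω := by
    rw [Subgroup.relIndex_mul_index hK1.le, MulAction.index_stabilizer_of_transitive]
  have hm : D.index ∣ K.index - 1 := by
    have : Nonempty (G ⧸ K) := ⟨(1 : G)⟩
    apply H62.index_dvd_card_sub_one (X := G ⧸ K) D
    intro g hg
    obtain ⟨x, hx⟩ := hDex g hg
    obtain ⟨h, rfl⟩ := MulAction.exists_smul_eq G a x
    refine ⟨(h : G ⧸ K), ?_⟩
    rw [MulAction.Quotient.smul_coe, smul_eq_mul, eq_comm, QuotientGroup.eq]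
    apply hK1.le
    rw [MulAction.mem_stabilizer_iff, mul_smul, mul_smul, hx, inv_smul_smul]
  have hb : D.index ∣ (MulAction.stabilizer G a).relIndex K - 1 := by
    have := H62.index_dvd_ncard D hDex a (MulAction.orbit K a \ {a}) (by simp) (by
      rintro g hg _ ⟨⟨k, rfl⟩, hx⟩
      refine ⟨⟨⟨g, hK1.le hg⟩ * k, by simp only [mul_smul]; rfl⟩, fun h => hx ?_⟩
      simp only [Set.mem_singleton_iff] at h ⊢
      exact smul_left_cancel g (h.trans hg.symm))
    rwa [Set.ncard_sdiff_singleton_of_mem (MulAction.mem_orbit_self a), ← Nat.card_coe_set_eq,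
      H62.card_orbit_subgroup_eq_relIndex] at this
  have hm2 : 2 ≤ K.index := by
    have h0 : K.index ≠ 0 := Subgroup.index_ne_zero_of_finite
    have h1 : K.index ≠ 1 := by rwa [Ne, Subgroup.index_eq_one]
    omega
  have hb2 : 2 ≤ (MulAction.stabilizer G a).relIndex K := by
    have h0 : (MulAction.stabilizer G a).relIndex K ≠ 0 := Subgroup.index_ne_zero_of_finite
    have h1 : (MulAction.stabilizer G a).relIndex K ≠ 1 := by
      rw [Ne, Subgroup.relIndex_eq_one]; exact hK1.not_ge
    omega
  have e1 := Nat.le_of_dvd (by omega) hm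
  have e2 := Nat.le_of_dvd (by omega) hb
  have e3 : (D.index + 1) ^ 2 ≤ Nat.card Ω := by
    rw [← hn, sq]
    exact Nat.mul_le_mul (by omega) (by omega)
  rw [le_sub_iff_add_le]
  apply Real.le_sqrt_of_sq_le
  exact_mod_cast e3

end Cfsg.Agent.S3549
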