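import Cfsg.Statements.S4068
import Cfsg.Agent.H15.Even2
import Cfsg.Agent.H15.CN1
import Cfsg.Agent.S0183
import Cfsg.Agent.S0144
import Cfsg.Agent.S1230
import Cfsg.Agent.H10.ElemCent
import Cfsg.Agent.H29.SmallGroups

set_option autoImplicit false
open Cfsg

namespace Cfsg.Agent.S4068

open Subgroup H15 H29 in
theorem three_primes {G : Type*} [Group G] [Finite G] (hns : ¬ Group.IsSolvable G) :
    ∃ p q r : ℕ, p.Prime ∧ q.Prime ∧ r.Prime ∧ p ≠ q ∧ p ≠ r ∧ q ≠ r ∧ p ∣ Nat.card G ∧
      q ∣ Nat.card G ∧ r ∣ Nat.card G := by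
  have h0 : Nat.card G ≠ 0 := Nat.card_pos.ne'
  have h3 : 2 < (Nat.card G).primeFactors.card := by
    by_contra hc
    push Not at hc
    obtain ⟨p, q, hp, hq, hs⟩ : ∃ p q : ℕ, p.Prime ∧ q.Prime ∧
        ∀ r ∈ (Nat.card G).primeFactors, r = p ∨ r = q := by
      rcases Nat.lt_or_ge (Nat.card G).primeFactors.card 2 with h | h
      · rcases Finset.eq_empty_or_nonempty (Nat.card G).primeFactors with h1 | ⟨p, hp⟩
        · exact ⟨2, 2, Nat.prime_two, Nat.prime_two, by simp [h1]⟩
        · refine ⟨p, p, Nat.prime_of_mem_primeFactors hp, Nat.prime_of_mem_primeFactors hp, ?_⟩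
          intro r hr
          exact Or.inl (Finset.card_le_one.1 (by omega) r hr p hp)
      · obtain ⟨p, q, hpq, h⟩ := Finset.card_eq_two.1 (le_antisymm hc h)
        refine ⟨p, q, Nat.prime_of_mem_primeFactors (by rw [h]; simp),
          Nat.prime_of_mem_primeFactors (by rw [h]; simp), ?_⟩
        intro r hr
        rw [h] at hr
        simpa using hr
    apply hns
    by_cases hpq : p = q
    · subst hpq
      have := Nat.eq_prime_pow_of_unique_prime_dvd h0 (p := p) (fun {d} hd hdn => by
        rcases hs d (Nat.mem_primeFactors.2 ⟨hd, hdn, h0⟩) with h | h <;> exact h)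
      exact S0144.result p p (Nat.card G).primeFactorsList.length 0 hp hp (by simpa using this)
    · refine S0144.result p q ((Nat.card G).factorization p) ((Nat.card G).factorization q) hp hq ?_
      apply Nat.eq_of_factorization_eq h0 (mul_ne_zero (pow_ne_zero _ hp.ne_zero) (pow_ne_zero _ hq.ne_zero))
      intro r
      rw [Nat.factorization_mul (pow_ne_zero _ hp.ne_zero) (pow_ne_zero _ hq.ne_zero),
        hp.factorization_pow, hq.factorization_pow]
      simp only [Finsupp.coe_add, Pi.add_apply, Finsupp.single_apply]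
      by_cases h1 : p = r
      · subst h1; simp [Ne.symm hpq]
      · by_cases h2 : q = r
        · subst h2; simp [hpq]
        · simp only [h1, h2, if_false, add_zero]
          by_contra h3
          have hr : r ∈ (Nat.card G).primeFactors := by
            rw [← Nat.support_factorization, Finsupp.mem_support_iff]; exact h3
          rcases hs r hr with h | h
          · exact h1 h.symm
          · exact h2 h.symm
  obtain ⟨p, hp, q, hq, r, hr, hpq, hpr, hqr⟩ := Finset.two_lt_card.1 h3
  exact ⟨p, q, r, Nat.prime_of_mem_primeFactors hp, Nat.prime_of_mem_primeFactors hq,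
    Nat.prime_of_mem_primeFactors hr, hpq, hpr, hqr, Nat.dvd_of_mem_primeFactors hp,
    Nat.dvd_of_mem_primeFactors hq, Nat.dvd_of_mem_primeFactors hr⟩

open Subgroup H15 H29 in
/-- A non-solvable group all of whose non-identity elements have prime order is `A₅`. -/
theorem iso_A5_of_prime_orders {G : Type*} [Group G] [Finite G] (hns : ¬ Group.IsSolvable G)
    (h : ∀ g : G, g ≠ 1 → (orderOf g).Prime) : Nonempty (G ≃* alternatingGroup (Fin 5)) := by
  have hc : ∀ x y : G, x ≠ 1 → y ≠ 1 → y * x = x * y → orderOf y = orderOf x := by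
    intro x y hx hy hxy
    by_contra hne
    have hcop : (orderOf y).Coprime (orderOf x) := (Nat.coprime_primes (h y hy) (h x hx)).2 hne
    have h1 : orderOf (y * x) = orderOf y * orderOf x :=
      Commute.orderOf_mul_eq_mul_orderOf_of_coprime hxy hcop
    have h2 : y * x ≠ 1 := by
      intro h3
      rw [h3, orderOf_one] at h1
      exact (h x hx).one_lt.ne' (Nat.eq_one_of_mul_eq_one_left h1.symm)
    exact Nat.not_prime_mul (h y hy).one_lt.ne' (h x hx).one_lt.ne' (h1 ▸ h _ h2)
  have hCN : IsCNGroup G := by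
    intro x hx
    haveI := Fact.mk (h x hx)
    have : IsPGroup (orderOf x) (centralizer ({x} : Set G)) := by
      intro ⟨y, hy⟩
      refine ⟨1, Subtype.ext ?_⟩
      simp only [pow_one, SubmonoidClass.mk_pow, OneMemClass.coe_one]
      by_cases h1 : y = 1
      · simp [h1]
      · rw [← hc x y hx h1 (mem_centralizer_singleton_iff.1 hy), pow_orderOf_eq_one]
    exact this.isNilpotent
  let T : Sylow 2 G := default
  have hnc : ¬ IsCyclic (T : Subgroup G) := fun hT =>
    hns (isSolvable_of_npc_two (hasNormalPComplement_two_of_cyclic T hT)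
      fun H hH => S0183.result hH (cn_subgroup hCN H))
  have hnn : ¬ (T : Subgroup G).Normal := fun hT =>
    hns (isSolvable_of_normal (T : Subgroup G) (isSolvable_of_isPGroup T.2)
      (S0183.result (odd_card_quotient_sylow T) (cn_quotient hCN _ (isSolvable_of_isPGroup T.2))))
  have hsq : ∀ t : G, orderOf t = 2 → ∀ c ∈ centralizer ({t} : Set G), c ^ 2 = 1 := by
    intro t ht c hct
    by_cases h1 : c = 1
    · simp [h1]
    · have ht1 : t ≠ 1 := by rintro rfl; simp at ht
      rw [← ht, ← hc t c ht1 h1 (mem_centralizer_singleton_iff.1 hct), pow_orderOf_eq_one]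
  obtain ⟨F, _, _, hF, ⟨e⟩⟩ := S1230.result T hnc hnn fun t ht => ⟨⟨⟨fun a b => by
    have h1 := hsq t ht _ a.2
    have h2 := hsq t ht _ b.2
    have h3 := hsq t ht _ (a * b).2
    apply Subtype.ext
    simp only [Subgroup.coe_mul] at h3 ⊢
    rw [pow_two] at h1 h2 h3
    calc (a : G) * b = a * (a * b * (a * b)) * b := by rw [h3]; group
        _ = (a * a) * (b * a) * (b * b) := by group
        _ = b * a := by rw [h1, h2]; group⟩⟩, hsq t ht⟩
  rw [← Nat.card_eq_fintype_card] at hF
  obtain ⟨n, hn⟩ := T.2.exists_card_eq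
  have h2 := H10.two_lt_card_of_not_isCyclic hnc
  have hn2 : 2 ≤ n := by
    by_contra hlt
    have : n = 0 ∨ n = 1 := by omega
    rcases this with rfl | rfl <;> omega
  have hFn : Nat.card F = 2 ^ n := hF.trans hn
  have he : Even (Nat.card F) := by rw [hFn]; exact (Nat.even_pow.2 ⟨even_two, by omega⟩)
  let e' := e.trans (pslEquivPGL he)
  have hp : ∀ m : ℕ, (∃ g : Matrix.ProjGenLinGroup (Fin 2) F, orderOf g = m) → m ≠ 1 → m.Prime := by
    rintro m ⟨g, hg⟩ hm
    have h1 : orderOf (e'.symm g) = m := by rw [MulEquiv.orderOf_eq, hg]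
    refine h1 ▸ h _ ?_
    intro h3
    rw [h3, orderOf_one] at h1
    exact hm h1.symm
  have hq1 := hp _ exists_orderOf_sub_one (by omega)
  have hq2 := hp _ exists_orderOf_add_one (by omega)
  have h4 : Nat.card F = 4 := by
    have h3 : Nat.card F % 3 ≠ 0 := by
      intro h5
      have : 3 ∣ 2 ^ n := hFn ▸ Nat.dvd_of_mod_eq_zero h5
      have := (Nat.prime_three.dvd_of_dvd_pow this)
      omega
    have : 3 ∣ Nat.card F - 1 ∨ 3 ∣ Nat.card F + 1 := by omega
    rcases this with h5 | h5
    · have := (Nat.prime_dvd_prime_iff_eq Nat.prime_three hq1).1 h5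
      omega
    · have := (Nat.prime_dvd_prime_iff_eq Nat.prime_three hq2).1 h5
      omega
  have h60 : Nat.card G = 60 := by
    rw [Nat.card_congr e'.toEquiv, card_PGL2, h4]
  refine nonempty_mulEquiv_A5 h60 fun g => ?_
  by_cases h1 : g = 1
  · left; simp [h1]
  · have h2 := h g h1
    have h3 : orderOf g ∣ 60 := h60 ▸ orderOf_dvd_natCard g
    have h5 := Nat.le_of_dvd (by norm_num) h3
    generalize orderOf g = m at h2 h3 h5
    interval_cases m <;> first | omega | (exfalso; revert h2; norm_num)


/-- A finite non-solvable group on which its automorphism group has exactly four orbits is isomorphic to the alternating group of degree 5. -/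
theorem result {G : Type*} [Group G] [Finite G] (hns : ¬ Group.IsSolvable G)
    (h4 : Nat.card (MulAction.orbitRel.Quotient (MulAut G) G) = 4) : Nonempty (G ≃* alternatingGroup (Fin 5)) := by
  classical
  obtain ⟨p, q, r, hp, hq, hr, hpq, hpr, hqr, h1, h2, h3⟩ := three_primes hns
  haveI := Fact.mk hp
  haveI := Fact.mk hq
  haveI := Fact.mk hr
  obtain ⟨x, hx⟩ := exists_prime_orderOf_dvd_card' p h1
  obtain ⟨y, hy⟩ := exists_prime_orderOf_dvd_card' q h2
  obtain ⟨z, hz⟩ := exists_prime_orderOf_dvd_card' r h3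
  let f : MulAction.orbitRel.Quotient (MulAut G) G → ℕ := Quotient.lift orderOf (by
    rintro a b ⟨σ, hσ⟩
    simp only [MulAut.smul_def] at hσ
    rw [← hσ, MulEquiv.orderOf_eq])
  haveI : Finite (MulAction.orbitRel.Quotient (MulAut G) G) := Nat.finite_of_card_ne_zero (by omega)
  haveI := Fintype.ofFinite (MulAction.orbitRel.Quotient (MulAut G) G)
  have hle : (Finset.univ.image f).card ≤ 4 := by
    refine Finset.card_image_le.trans ?_
    rw [Finset.card_univ, ← Nat.card_eq_fintype_card, h4]
  have hmem : ∀ g : G, orderOf g ∈ Finset.univ.image f := fun g =>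
    Finset.mem_image.2 ⟨Quotient.mk _ g, Finset.mem_univ _, rfl⟩
  have hsub : ({1, p, q, r} : Finset ℕ) ⊆ Finset.univ.image f := by
    intro m hm
    simp only [Finset.mem_insert, Finset.mem_singleton] at hm
    rcases hm with rfl | rfl | rfl | rfl
    · simpa using hmem 1
    · exact hx ▸ hmem x
    · exact hy ▸ hmem y
    · exact hz ▸ hmem z
  have hc4 : ({1, p, q, r} : Finset ℕ).card = 4 := by
    rw [Finset.card_eq_four]
    exact ⟨1, p, q, r, hp.one_lt.ne, hq.one_lt.ne, hr.one_lt.ne, hpq, hpr, hqr, rfl⟩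
  have heq := Finset.eq_of_subset_of_card_le hsub (by omega)
  refine iso_A5_of_prime_orders hns fun g hg => ?_
  have := hmem g
  rw [← heq] at this
  simp only [Finset.mem_insert, Finset.mem_singleton] at this
  rcases this with h | h | h | h
  · exact absurd (orderOf_eq_one_iff.1 h) hg
  · exact h ▸ hp
  · exact h ▸ hq
  · exact h ▸ hr

end Cfsg.Agent.S4068
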