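import Cfsg.Statements.S4291
import Cfsg.Agent.H91.FCStruct
import Cfsg.Agent.H91.OrderType

set_option autoImplicit false
open Cfsg

namespace Cfsg.Agent.S4291

theorem eq_of_zgroup {M : Type*} [Group M] [IsZGroup M] {a b : M} (ha : a * a = 1) (ha1 : a ≠ 1)
    (hb : b * b = 1) (hb1 : b ≠ 1) (hc : a * b = b * a) : a = b := by
  let V : Subgroup M :=
    { carrier := {g | g = 1 ∨ g = a ∨ g = b ∨ g = a * b}
      one_mem' := Or.inl rfl
      mul_mem' := by
        have h1 : ∀ x, a * (a * x) = x := fun x => by rw [← mul_assoc, ha, one_mul]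
        have h2 : ∀ x, b * (a * x) = a * (b * x) := fun x => by rw [← mul_assoc, ← hc, mul_assoc]
        rintro _ _ (rfl | rfl | rfl | rfl) (rfl | rfl | rfl | rfl) <;>
          simp [mul_assoc, h1, h2, ha, hb, ← hc]
      inv_mem' := by
        have h1 : a⁻¹ = a := inv_eq_of_mul_eq_one_right ha
        have h2 : b⁻¹ = b := inv_eq_of_mul_eq_one_right hb
        rintro _ (rfl | rfl | rfl | rfl) <;> simp [h1, h2, ← hc] }
  have hV : IsPGroup 2 V := by
    rintro ⟨g, rfl | rfl | rfl | rfl⟩ <;> refine ⟨1, Subtype.ext ?_⟩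
    · simp
    · simpa [sq] using ha
    · simpa [sq] using hb
    · simp only [pow_one, sq, Subgroup.coe_mul, Subgroup.coe_one]
      rw [mul_assoc, ← mul_assoc b, ← hc, mul_assoc, hb, mul_one, ha]
  obtain ⟨⟨g, hg⟩, h⟩ := hV.isCyclic_of_isZGroup.exists_generator
  have key : ∀ x ∈ V, x = 1 ∨ x = g := fun x hx => by
    obtain ⟨k, hk⟩ := h ⟨x, hx⟩
    have h1 : g ^ k = x := congrArg Subtype.val hk
    have h2 : g ^ (2 : ℤ) = 1 := by
      rcases hg with rfl | rfl | rfl | rfl
      · simp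
      · rw [zpow_two, ha]
      · rw [zpow_two, hb]
      · rw [zpow_two, mul_assoc, ← mul_assoc b, ← hc, mul_assoc, hb, mul_one, ha]
    rcases Int.even_or_odd' k with ⟨m, rfl | rfl⟩
    · left; rw [← h1, zpow_mul, h2, one_zpow]
    · right; rw [← h1, zpow_add, zpow_mul, h2, one_zpow, one_mul, zpow_one]
  rw [(key a (Or.inr (Or.inl rfl))).resolve_left ha1,
    (key b (Or.inr (Or.inr (Or.inl rfl)))).resolve_left hb1]

theorem perm_four : ∀ σ : Equiv.Perm (Fin 4), σ ≠ 1 → ∃ τ : Equiv.Perm (Fin 4),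
    Equiv.Perm.sign τ = 1 ∧ (σ * (τ * σ⁻¹ * τ⁻¹)) * (σ * (τ * σ⁻¹ * τ⁻¹)) = 1 ∧
      σ * (τ * σ⁻¹ * τ⁻¹) ≠ 1 ∧ ∃ ρ : Equiv.Perm (Fin 4), Equiv.Perm.sign ρ = 1 ∧
      σ * (τ * σ⁻¹ * τ⁻¹) ≠ ρ * (σ * (τ * σ⁻¹ * τ⁻¹)) * ρ⁻¹ ∧
      σ * (τ * σ⁻¹ * τ⁻¹) * (ρ * (σ * (τ * σ⁻¹ * τ⁻¹)) * ρ⁻¹) =
        (ρ * (σ * (τ * σ⁻¹ * τ⁻¹)) * ρ⁻¹) * (σ * (τ * σ⁻¹ * τ⁻¹)) := by
  decide +kernel

theorem eq_bot_four (K : Subgroup (Equiv.Perm (Fin 4))) [IsZGroup K]
    (h : ∀ τ, Equiv.Perm.sign τ = 1 → ∀ σ ∈ K, τ * σ * τ⁻¹ ∈ K) : K = ⊥ := by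
  rw [eq_bot_iff]
  intro σ hσ
  by_contra h1
  obtain ⟨τ, h2, h3, h4, ρ, h5, h6, h7⟩ := perm_four σ h1
  have h8 := mul_mem hσ (h τ h2 _ (inv_mem hσ))
  generalize σ * (τ * σ⁻¹ * τ⁻¹) = c at *
  refine h6 (congrArg Subtype.val (eq_of_zgroup (M := K) (a := ⟨c, h8⟩) (b := ⟨_, h ρ h5 c h8⟩)
    (Subtype.ext h3) (fun e => h4 (congrArg Subtype.val e)) (Subtype.ext ?_)
    (fun e => h4 ?_) (Subtype.ext h7)))
  · simp only [Subgroup.coe_mul, Subgroup.coe_one]
    rw [conj_mul, h3, mul_one, mul_inv_cancel]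
  · simpa using congrArg Subtype.val e

theorem not_solvable_five : ¬ Group.IsSolvable (alternatingGroup (Fin 5)) := by
  have := alternatingGroup.isSimpleGroup (α := Fin 5) (by simp)
  rw [← IsSimpleGroup.comm_iff_isSolvable]
  decide +kernel

theorem le_ker {G H : Type*} [Group G] [Finite G] [Group H] (f : G →* H)
    (hf : Function.Surjective f) (hH : ∀ K : Subgroup H, K.Normal → IsZGroup K → K = ⊥)
    (M : Subgroup G) (hM : M.Normal) (hZ : IsZGroup M) : M ≤ f.ker := by
  rw [← Subgroup.map_eq_bot_iff]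
  exact hH _ (hM.map f hf) (IsZGroup.of_surjective (f.subgroupMap_surjective M))

theorem index_ker {G H : Type*} [Group G] [Group H] (f : G →* H) (hf : Function.Surjective f) :
    f.ker.index = Nat.card H := by
  rw [Subgroup.index_ker, MonoidHom.range_eq_top.mpr hf, Subgroup.card_top]

theorem exists_of_le {G : Type*} [Group G] {n : ℕ} (φ : G →* Equiv.Perm (Fin (n + 2)))
    (h : alternatingGroup (Fin (n + 2)) ≤ φ.range) :
    (∃ f : G →* alternatingGroup (Fin (n + 2)), Function.Surjective f ∧ f.ker = φ.ker) ∨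
      ∃ f : G →* Equiv.Perm (Fin (n + 2)), Function.Surjective f ∧ f.ker = φ.ker := by
  have h1 := Subgroup.index_dvd_of_le h
  rw [alternatingGroup.index_eq_two, Nat.dvd_prime Nat.prime_two] at h1
  rcases h1 with h1 | h1
  · exact Or.inr ⟨φ, MonoidHom.range_eq_top.mp (Subgroup.index_eq_one.mp h1), rfl⟩
  · have h2 := Equiv.Perm.eq_alternatingGroup_of_index_eq_two h1
    refine Or.inl ⟨φ.codRestrict _ fun g => h2 ▸ ⟨g, rfl⟩, fun σ => ?_, MonoidHom.ker_codRestrict ..⟩
    obtain ⟨g, hg⟩ := h σ.2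
    exact ⟨g, Subtype.ext hg⟩

/-- Let G be a finite group that occurs as a Frobenius complement. Then G has exactly one normal subgroup N such that every Sylow subgroup of N is cyclic and the quotient of G by N is trivial or isomorphic to one of the following five groups: the Klein four-group, the alternating group of degree 4, the symmetric group of degree 4, the alternating group of degree 5, the symmetric group of degree 5. (The quotient is described by a surjective homomorphism with kernel N; the Klein four-group is written as the dihedral group of order 4.) -/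
theorem result {G : Type*} [Group G] [Finite G]
    (hFC : (∃ (L : Type) (_ : Group L) (_ : Finite L) (H : Subgroup L), Cfsg.IsFrobeniusComplement H ∧ Nonempty (G ≃* H))) :
    ∃! N : Subgroup G, N.Normal ∧ (∀ (p : ℕ) [Fact p.Prime] (P : Sylow p N), IsCyclic P) ∧
      (N = ⊤ ∨
        (∃ f : G →* DihedralGroup 2, Function.Surjective f ∧ f.ker = N) ∨
        (∃ f : G →* alternatingGroup (Fin 4), Function.Surjective f ∧ f.ker = N) ∨
        (∃ f : G →* Equiv.Perm (Fin 4), Function.Surjective f ∧ f.ker = N) ∨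
        (∃ f : G →* alternatingGroup (Fin 5), Function.Surjective f ∧ f.ker = N) ∨
        (∃ f : G →* Equiv.Perm (Fin 5), Function.Surjective f ∧ f.ker = N)) := by
  have hG := H91.IsFC.hasIntFPF hFC
  have hZ : ∀ N : Subgroup G, (∀ (p : ℕ) [Fact p.Prime] (P : Sylow p N), IsCyclic P) ↔
      IsZGroup N := fun N =>
    ⟨fun h => ⟨fun p hp P => by have := Fact.mk hp; exact h p P⟩, fun _ _ _ _ => inferInstance⟩
  simp only [hZ]
  refine existsUnique_of_exists_of_unique ?_ ?_
  · by_cases hs : Group.IsSolvable G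
    · rcases hG.solvable with h | ⟨φ, h1, h2⟩ | ⟨φ, h1, h2⟩
      · exact ⟨⊤, inferInstance, inferInstance, Or.inl rfl⟩
      · exact ⟨φ.ker, inferInstance, h2, Or.inr (Or.inl ⟨φ, h1, rfl⟩)⟩
      · refine ⟨φ.ker, inferInstance, h2, ?_⟩
        exact Or.inr (Or.inr ((exists_of_le φ h1).imp_right Or.inl))
    · obtain ⟨f, φ, -, h1, -, h2⟩ := hG.nonsolvable hs
      refine ⟨φ.ker, inferInstance, h2, ?_⟩
      exact Or.inr (Or.inr (Or.inr (Or.inr
        (exists_of_le φ (by rw [← h1]; rintro _ ⟨s, rfl⟩; exact ⟨_, rfl⟩)))))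
  have key : ∀ N : Subgroup G, (N = ⊤ ∨
        (∃ f : G →* DihedralGroup 2, Function.Surjective f ∧ f.ker = N) ∨
        (∃ f : G →* alternatingGroup (Fin 4), Function.Surjective f ∧ f.ker = N) ∨
        (∃ f : G →* Equiv.Perm (Fin 4), Function.Surjective f ∧ f.ker = N) ∨
        (∃ f : G →* alternatingGroup (Fin 5), Function.Surjective f ∧ f.ker = N) ∨
        (∃ f : G →* Equiv.Perm (Fin 5), Function.Surjective f ∧ f.ker = N)) →
      N = ⊤ ∨ (∃ f : G →* DihedralGroup 2, Function.Surjective f ∧ f.ker = N) ∨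
        (12 ≤ N.index ∧ ∀ M : Subgroup G, M.Normal → IsZGroup M → M ≤ N) := by
    rintro N (h | h | ⟨f, hf, rfl⟩ | ⟨f, hf, rfl⟩ | ⟨f, hf, rfl⟩ | ⟨f, hf, rfl⟩)
    · exact Or.inl h
    · exact Or.inr (Or.inl h)
    · refine Or.inr (Or.inr ⟨?_, le_ker f hf fun K hK hz => ?_⟩)
      · rw [index_ker f hf, nat_card_alternatingGroup]; simp [Nat.factorial]
      · have := IsZGroup.of_surjective ((alternatingGroup (Fin 4)).subtype.subgroupMap_surjective K)
        refine (Subgroup.map_eq_bot_iff_of_injective _ (Subgroup.subtype_injective _)).mp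
          (eq_bot_four _ ?_)
        rintro τ hτ _ ⟨σ, hσ, rfl⟩
        exact ⟨_, hK.conj_mem σ hσ ⟨τ, hτ⟩, rfl⟩
    · refine Or.inr (Or.inr ⟨?_, le_ker f hf fun K hK hz => ?_⟩)
      · rw [index_ker f hf, Nat.card_perm]; simp [Nat.factorial]
      · exact eq_bot_four _ fun τ _ σ hσ => hK.conj_mem σ hσ τ
    · refine Or.inr (Or.inr ⟨?_, le_ker f hf fun K hK hz => ?_⟩)
      · rw [index_ker f hf, nat_card_alternatingGroup]; simp [Nat.factorial]
      · refine (alternatingGroup.normal_subgroup_eq_bot_or_eq_top (by simp)).resolve_right ?_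
        rintro rfl
        exact not_solvable_five (Group.isSolvable_of_surjective (f := (⊤ : Subgroup _).subtype)
          fun g => ⟨⟨g, trivial⟩, rfl⟩)
    · refine Or.inr (Or.inr ⟨?_, le_ker f hf fun K hK hz => ?_⟩)
      · rw [index_ker f hf, Nat.card_perm]; simp [Nat.factorial]
      · by_contra h
        exact not_solvable_five (Group.isSolvable_of_isSolvable_injective
          (Subgroup.inclusion_injective (Equiv.Perm.alternatingGroup_le_of_normal (by simp)
            ((Subgroup.nontrivial_iff_ne_bot K).mpr h))))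
  have hD : Nat.card (DihedralGroup 2) = 4 := DihedralGroup.nat_card
  have hTV : IsZGroup (⊤ : Subgroup G) → ∀ f : G →* DihedralGroup 2, Function.Surjective f →
      False := fun h f hf => by
    have := IsZGroup.of_surjective (f := f.comp (⊤ : Subgroup G).subtype)
      (hf.comp fun g => ⟨⟨g, trivial⟩, rfl⟩)
    exact absurd (eq_of_zgroup (a := DihedralGroup.r (1 : ZMod 2)) (b := DihedralGroup.sr 0)
      (by decide) (by decide) (by decide) (by decide) (by decide)) (by decide)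
  have hVV : ∀ f g : G →* DihedralGroup 2, Function.Surjective f → f.ker ≤ g.ker := by
    intro f g hf
    have h1 := (hG.smallSyl.of_surjective (f.prod g).rangeRestrict_surjective).card_le
      Nat.prime_two (A := ⊤) fun a _ => Subtype.ext (by
        have : ∀ x : DihedralGroup 2 × DihedralGroup 2, x ^ 2 = 1 := by decide
        exact this _)
    rw [Subgroup.card_top, ← Subgroup.index_ker, MonoidHom.ker_prod] at h1
    have h2 := Subgroup.relIndex_mul_index (inf_le_left (a := f.ker) (b := g.ker))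
    rw [index_ker f hf, hD] at h2
    have h3 : (f.ker ⊓ g.ker).index ≠ 0 := Subgroup.index_ne_zero_of_finite
    exact (Subgroup.relIndex_eq_one.mp (by omega : (f.ker ⊓ g.ker).relIndex f.ker = 1)).trans
      inf_le_right
  have hVB : ∀ (f : G →* DihedralGroup 2) (N : Subgroup G), Function.Surjective f →
      12 ≤ N.index → ¬ f.ker ≤ N := fun f N hf h1 h2 => by
    have := Nat.le_of_dvd (by rw [index_ker f hf, hD]; norm_num) (Subgroup.index_dvd_of_le h2)
    rw [index_ker f hf, hD] at this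
    omega
  rintro N M ⟨hN, zN, cN⟩ ⟨hM, zM, cM⟩
  rcases key N cN with rfl | ⟨f, hf, rfl⟩ | ⟨a1, a2⟩ <;>
    rcases key M cM with rfl | ⟨g, hg, rfl⟩ | ⟨b1, b2⟩
  · rfl
  · exact (hTV zN g hg).elim
  · rw [top_le_iff.mp (b2 _ hN zN)]
  · exact (hTV zM f hf).elim
  · exact le_antisymm (hVV f g hf) (hVV g f hg)
  · exact absurd (b2 _ hN zN) (hVB f M hf b1)
  · rw [top_le_iff.mp (a2 _ hM zM)]
  · exact absurd (a2 _ hM zM) (hVB g N hg a1)
  · exact le_antisymm (b2 _ hN zN) (a2 _ hM zM)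

end Cfsg.Agent.S4291
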