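import Cfsg.Statements.S5913

set_option autoImplicit false
open Cfsg

namespace Cfsg.Agent.S5913

/-- Let S be a non-abelian simple group and n a natural number. Every normal subgroup N of the direct power S^n (functions Fin n → S) is a subproduct: there is a set T of coordinates such that N consists exactly of the elements whose coordinates outside T are trivial. In particular the minimal normal subgroups of S^n are its n factors. -/
theorem result {S : Type*} [Group S] [IsSimpleGroup S] (hS : ¬ IsMulCommutative S) (n : ℕ)
    (N : Subgroup (Fin n → S)) [N.Normal] :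
    ∃ T : Finset (Fin n), ∀ x : Fin n → S, x ∈ N ↔ ∀ i, i ∉ T → x i = 1 := by
  classical
  refine ⟨Finset.univ.filter (fun i => ∃ x ∈ N, x i ≠ 1), fun x => ⟨fun hx i hi => ?_, fun hx => ?_⟩⟩
  · by_contra h
    exact hi (Finset.mem_filter.2 ⟨Finset.mem_univ _, x, hx, h⟩)
  · have hcen : Subgroup.center S = ⊥ := by
      rcases (inferInstance : (Subgroup.center S).Normal).eq_bot_or_eq_top with h | h
      · exact h
      · refine absurd ⟨⟨fun a b => ?_⟩⟩ hS
        have : b ∈ Subgroup.center S := h ▸ Subgroup.mem_top b
        exact Subgroup.mem_center_iff.1 this a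
    have key : ∀ i : Fin n, (∃ y ∈ N, y i ≠ 1) → ∀ s : S, (Pi.mulSingle i s : Fin n → S) ∈ N := by
      rintro i ⟨y, hy, hyi⟩ s
      let f : S →* (Fin n → S) := MonoidHom.mulSingle (fun _ => S) i
      have hn : (N.comap f).Normal := inferInstance
      rcases hn.eq_bot_or_eq_top with h | h
      · exfalso
        apply hyi
        rw [← Subgroup.mem_bot, ← hcen, Subgroup.mem_center_iff]
        intro t
        have h1 : y * (f t * y⁻¹ * (f t)⁻¹) ∈ N :=
          N.mul_mem hy (‹N.Normal›.conj_mem _ (N.inv_mem hy) _)
        have h2 : y * (f t * y⁻¹ * (f t)⁻¹) = f (y i * (t * (y i)⁻¹ * t⁻¹)) := by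
          ext j
          by_cases hj : j = i
          · subst hj; simp [f]
          · simp [f, Pi.mulSingle_eq_of_ne hj]
        rw [h2] at h1
        have h3 : y i * (t * (y i)⁻¹ * t⁻¹) ∈ N.comap f := h1
        rw [h, Subgroup.mem_bot] at h3
        calc t * y i = (y i * (t * (y i)⁻¹ * t⁻¹)) * (t * y i) := by rw [h3, one_mul]
          _ = y i * t := by group
      · have : s ∈ N.comap f := h ▸ Subgroup.mem_top s
        exact this
    have hx' : x ∈ Subgroup.pi Set.univ (fun i => N.comap (MonoidHom.mulSingle (fun _ => S) i)) := by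
      intro i _
      by_cases hi : ∃ y ∈ N, y i ≠ 1
      · exact key i hi _
      · rw [hx i (by simpa using hi)]
        exact Subgroup.one_mem _
    exact Subgroup.pi_le_iff.2 (fun i => Subgroup.map_comap_le _ _) hx'

end Cfsg.Agent.S5913
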