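import Cfsg.Statements.S5914
import Cfsg.Agent.S5913

set_option autoImplicit false
open Cfsg

namespace Cfsg.Agent.S5914

theorem forward {G : Type*} [Group G] [Finite G] [Nontrivial G]
    (h : ∀ H : Subgroup G, H.Characteristic → H = ⊥ ∨ H = ⊤) :
    ∃ (N : Subgroup G) (_ : IsSimpleGroup N) (n : ℕ), 1 ≤ n ∧ Nonempty (G ≃* (Fin n → N)) := by
  classical
  -- a non-trivial normal subgroup of least order
  obtain ⟨N, ⟨hN, hN0⟩, hmin⟩ := exists_minimalFor_of_wellFoundedLT
    (fun N : Subgroup G => N.Normal ∧ N ≠ ⊥) (fun N => Nat.card N) ⟨⊤, inferInstance, top_ne_bot⟩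
  have hmin' : ∀ K : Subgroup G, K.Normal → K ≠ ⊥ → Nat.card N ≤ Nat.card K := by
    intro K h1 h2
    by_contra hlt
    push Not at hlt
    exact absurd (hmin ⟨h1, h2⟩ hlt.le) (not_le.2 hlt)
  -- a normal subgroup which is a direct power of `N`, maximal with this property
  obtain ⟨M, ⟨hM, k, ⟨e⟩⟩, hmax⟩ := exists_maximalFor_of_wellFoundedGT
    (fun M : Subgroup G => M.Normal ∧ ∃ k : ℕ, Nonempty (M ≃* (Fin k → N))) id
    ⟨⊥, inferInstance, 0, ⟨MulEquiv.ofUnique⟩⟩
  have hle : ∀ φ : G ≃* G, N.map φ.toMonoidHom ≤ M := by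
    intro φ
    by_contra hnot
    set N' := N.map φ.toMonoidHom with hN'
    haveI hN'n : N'.Normal := hN.map _ φ.surjective
    have hcard : Nat.card N' = Nat.card N := Subgroup.card_map_of_injective φ.injective
    have hinf : N' ⊓ M = ⊥ := by
      by_contra hne
      have h1 := hmin' (N' ⊓ M) inferInstance hne
      rw [← hcard] at h1
      have := Subgroup.eq_of_le_of_card_ge (inf_le_left : N' ⊓ M ≤ N') h1
      exact hnot (inf_eq_left.1 this)
    have hcomm : ∀ (x : N') (y : M), Commute (N'.subtype x) (M.subtype y) := fun x y =>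
      Subgroup.commute_of_normal_of_disjoint N' M hN'n hM (disjoint_iff.2 hinf) x y x.2 y.2
    let f : N' × M →* G := MonoidHom.noncommCoprod N'.subtype M.subtype hcomm
    have hf : Function.Injective f := by
      rw [MonoidHom.noncommCoprod_injective]
      refine ⟨N'.subtype_injective, M.subtype_injective, ?_⟩
      rw [Subgroup.range_subtype, Subgroup.range_subtype]
      exact disjoint_iff.2 hinf
    have hrange : f.range = N' ⊔ M := by
      rw [MonoidHom.noncommCoprod_range, Subgroup.range_subtype, Subgroup.range_subtype]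
    let e1 : (N' ⊔ M : Subgroup G) ≃* N' × M :=
      (MulEquiv.subgroupCongr hrange).symm.trans (MonoidHom.ofInjective hf).symm
    let e2 : N' × M ≃* N × (Fin k → N) := MulEquiv.prodCongr (φ.subgroupMap N).symm e
    let e3 : N × (Fin k → N) ≃* (Fin (k + 1) → N) :=
      { Fin.consEquiv (fun _ : Fin (k + 1) => N) with
        map_mul' := fun x y => by
          ext i
          refine Fin.cases ?_ (fun i => ?_) i <;> simp [Fin.consEquiv] }
    have := hmax (j := N' ⊔ M) ⟨inferInstance, k + 1, ⟨e1.trans (e2.trans e3)⟩⟩ le_sup_right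
    exact hnot (le_sup_left.trans this)
  have hchar : (⨆ φ : G ≃* G, N.map φ.toMonoidHom).Characteristic := by
    rw [Subgroup.characteristic_iff_map_le]
    intro ψ
    rw [Subgroup.map_iSup, iSup_le_iff]
    intro φ
    rw [Subgroup.map_map]
    exact le_iSup (fun φ : G ≃* G => N.map φ.toMonoidHom) (φ.trans ψ)
  have htop : M = ⊤ := by
    rcases h _ hchar with h1 | h1
    · exfalso
      apply hN0
      have := le_iSup (fun φ : G ≃* G => N.map φ.toMonoidHom) (MulEquiv.refl G)
      rw [h1] at this
      simpa using this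
    · rw [eq_top_iff, ← h1, iSup_le_iff]
      exact hle
  let E : G ≃* (Fin k → N) := (Subgroup.topEquiv.symm.trans (MulEquiv.subgroupCongr htop).symm).trans e
  have hk : 1 ≤ k := by
    rcases Nat.eq_zero_or_pos k with rfl | hk
    · exact absurd E.toEquiv.subsingleton (not_subsingleton G)
    · exact hk
  haveI : Nontrivial N := (Subgroup.nontrivial_iff_ne_bot N).2 hN0
  refine ⟨N, ⟨fun K hK => ?_⟩, k, hk, ⟨E⟩⟩
  by_cases hK0 : K = ⊥
  · exact Or.inl hK0
  right
  let i : Fin k := ⟨0, hk⟩
  let s : N →* (Fin k → N) := MonoidHom.mulSingle (fun _ => N) i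
  have hs : Function.Injective s := Pi.mulSingle_injective (M := fun _ => N) i
  have hKn : (K.map s).Normal := by
    refine ⟨?_⟩
    rintro _ ⟨x, hx, rfl⟩ g
    refine ⟨g i * x * (g i)⁻¹, hK.conj_mem x hx _, ?_⟩
    ext j
    by_cases hj : j = i
    · subst hj; simp [s]
    · simp [s, Pi.mulSingle_eq_of_ne hj]
  have h1 := hmin' ((K.map s).map E.symm.toMonoidHom) (hKn.map _ E.symm.surjective) (by
    rw [Ne, Subgroup.map_eq_bot_iff_of_injective _ E.symm.injective,
      Subgroup.map_eq_bot_iff_of_injective _ hs]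
    exact hK0)
  rw [Subgroup.card_map_of_injective E.symm.injective, Subgroup.card_map_of_injective hs] at h1
  exact Subgroup.eq_top_of_le_card _ h1

theorem backward {S : Type*} [Group S] [IsSimpleGroup S] {n : ℕ}
    (H : Subgroup (Fin n → S)) (hH : H.Characteristic) : H = ⊥ ∨ H = ⊤ := by
  classical
  by_cases h0 : H = ⊥
  · exact Or.inl h0
  right
  have hmem : ∀ φ : (Fin n → S) ≃* (Fin n → S), ∀ x ∈ H, φ x ∈ H := fun φ x hx =>
    (Subgroup.characteristic_iff_map_le.1 hH φ) ⟨x, hx, rfl⟩
  -- some factor meets `H`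
  have hex : ∃ (j : Fin n) (s : S), s ≠ 1 ∧ (Pi.mulSingle j s : Fin n → S) ∈ H := by
    obtain ⟨⟨x, hx⟩, hx1⟩ := (Subgroup.ne_bot_iff_exists_ne_one).1 h0
    have hx1' : x ≠ 1 := fun h => hx1 (Subtype.ext h)
    obtain ⟨i, hi⟩ := Function.ne_iff.1 hx1'
    by_cases hS : IsMulCommutative S
    · by_cases hj : ∃ j, j ≠ i
      · obtain ⟨j, hj⟩ := hj
        have hc : ∀ a b : S, a * b = b * a := hS.is_comm.comm
        let φ : (Fin n → S) ≃* (Fin n → S) :=
          { toFun := fun y => y * Pi.mulSingle j (y i)
            invFun := fun y => y * Pi.mulSingle j (y i)⁻¹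
            left_inv := fun y => by
              ext l
              by_cases hl : l = j
              · subst hl; simp [Pi.mulSingle_eq_of_ne hj.symm]
              · simp [Pi.mulSingle_eq_of_ne hl]
            right_inv := fun y => by
              ext l
              by_cases hl : l = j
              · subst hl; simp [Pi.mulSingle_eq_of_ne hj.symm]
              · simp [Pi.mulSingle_eq_of_ne hl]
            map_mul' := fun y z => by
              ext l
              by_cases hl : l = j
              · subst hl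
                simp only [Pi.mul_apply, Pi.mulSingle_eq_same]
                rw [mul_assoc, mul_assoc, ← mul_assoc (z l), hc (z l) (y i), mul_assoc]
              · simp [Pi.mulSingle_eq_of_ne hl] }
        refine ⟨j, x i, hi, ?_⟩
        have := H.mul_mem (H.inv_mem hx) (hmem φ x hx)
        simpa [φ] using this
      · push Not at hj
        refine ⟨i, x i, hi, ?_⟩
        convert hx
        ext l
        rw [hj l]; simp
    · obtain ⟨T, hT⟩ := S5913.result hS n H
      refine ⟨i, x i, hi, (hT _).2 fun l hl => ?_⟩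
      have : l ≠ i := fun h => hi ((hT x).1 hx i (h ▸ hl))
      exact Pi.mulSingle_eq_of_ne this _
  obtain ⟨j, s, hs, hjs⟩ := hex
  have hj : ∀ t : S, (Pi.mulSingle j t : Fin n → S) ∈ H := by
    intro t
    let f : S →* (Fin n → S) := MonoidHom.mulSingle (fun _ => S) j
    have hn : (H.comap f).Normal := inferInstance
    rcases hn.eq_bot_or_eq_top with h | h
    · have : s ∈ H.comap f := hjs
      rw [h] at this
      exact absurd this hs
    · have : t ∈ H.comap f := h ▸ Subgroup.mem_top t
      exact this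
  have hall : ∀ (l : Fin n) (t : S), (Pi.mulSingle l t : Fin n → S) ∈ H := by
    intro l t
    have := hmem (MulEquiv.arrowCongr (Equiv.swap j l) (MulEquiv.refl S)) _ (hj t)
    convert this
    ext m
    by_cases hm : m = l
    · subst hm; simp
    · have : Equiv.swap j l m ≠ j := by
        rw [Ne, Equiv.swap_apply_eq_iff]; simpa using hm
      simp [Pi.mulSingle_eq_of_ne hm, Pi.mulSingle_eq_of_ne this]
  rw [eq_top_iff]
  intro x _
  have hx' : x ∈ Subgroup.pi Set.univ (fun i => H.comap (MonoidHom.mulSingle (fun _ => S) i)) :=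
    fun i _ => hall i _
  exact Subgroup.pi_le_iff.2 (fun i => Subgroup.map_comap_le _ _) hx'

/-- A non-trivial finite group G is characteristically simple (its only characteristic subgroups are 1 and G) if and only if G is isomorphic to a direct power S^n (n ≥ 1) of some simple group S (possibly cyclic of prime order). -/
theorem result {G : Type*} [Group G] [Finite G] [Nontrivial G] :
    (∀ H : Subgroup G, H.Characteristic → H = ⊥ ∨ H = ⊤) ↔
    ∃ (S : Type) (_ : Group S) (_ : IsSimpleGroup S) (n : ℕ), 1 ≤ n ∧ Nonempty (G ≃* (Fin n → S)) := by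
  constructor
  · intro h
    obtain ⟨N, hN, n, hn, ⟨e⟩⟩ := forward h
    obtain ⟨S, hS, _, ⟨f⟩⟩ := Finite.exists_type_univ_nonempty_mulEquiv.{_, 0} N
    exact ⟨S, hS, f.symm.isSimpleGroup, n, hn, ⟨e.trans (MulEquiv.piCongrRight fun _ => f)⟩⟩
  · rintro ⟨S, _, _, n, -, ⟨e⟩⟩ H hH
    have h1 : (H.map e.toMonoidHom).Characteristic := by
      rw [Subgroup.characteristic_iff_map_le] at hH ⊢
      rintro φ _ ⟨_, ⟨x, hx, rfl⟩, rfl⟩
      refine ⟨_, hH ((e.trans φ).trans e.symm) ⟨x, hx, rfl⟩, ?_⟩
      simp
    rcases backward _ h1 with h2 | h2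
    · exact Or.inl ((Subgroup.map_eq_bot_iff_of_injective _ e.injective).1 h2)
    · right
      apply Subgroup.map_injective (f := e.toMonoidHom) e.injective
      rw [h2, Subgroup.map_top_of_surjective _ e.surjective]

end Cfsg.Agent.S5914
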