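import Cfsg.Statements.S0721
import Cfsg.Agent.S5914

set_option autoImplicit false
open Cfsg

namespace Cfsg.Agent.S0721

/-- A minimal normal subgroup of a finite group is isomorphic to a direct power `T ^ m` of a simple group `T` (possibly of prime order). -/
theorem result {H : Type*} [Group H] [Finite H] (N : Subgroup H) [N.Normal] (hN : N ≠ ⊥) (hmin : ∀ M : Subgroup H, M.Normal → M ≤ N → M = ⊥ ∨ M = N) : ∃ (T : Type) (_ : Group T) (m : ℕ), IsSimpleGroup T ∧ 0 < m ∧ Nonempty (N ≃* (Fin m → T)) := by
  haveI : Nontrivial N := (Subgroup.nontrivial_iff_ne_bot N).2 hN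
  have h : ∀ K : Subgroup N, K.Characteristic → K = ⊥ ∨ K = ⊤ := by
    intro K hK
    have hn : (K.map N.subtype).Normal := inferInstance
    rcases hmin _ hn (Subgroup.map_subtype_le K) with h | h
    · left
      exact (Subgroup.map_eq_bot_iff_of_injective _ N.subtype_injective).1 h
    · right
      apply Subgroup.map_injective N.subtype_injective
      rw [h, ← MonoidHom.range_eq_map, Subgroup.range_subtype]
  obtain ⟨S, iS, hS, n, hn, e⟩ := (Cfsg.Agent.S5914.result (G := N)).1 h
  exact ⟨S, iS, n, hS, hn, e⟩

end Cfsg.Agent.S0721
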