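import Cfsg.Statements.S0723
import Cfsg.Agent.S0721
import Cfsg.Agent.S0722
import Cfsg.Agent.H57.ONS

set_option autoImplicit false
open Cfsg

namespace Cfsg.Agent.S0723

open Cfsg.Agent.H57 in
theorem core {H : Type*} [Group H] [Finite H] (K N : Subgroup H) [N.Normal]
    (hmin : ∀ M : Subgroup H, M.Normal → M ≤ N → M = ⊥ ∨ M = N) (hK : IsCoatom K) (hNK : ¬ N ≤ K)
    (hmax : ∀ X : Subgroup H, X ≤ N → K ⊓ N ≤ X → K ≤ Subgroup.normalizer (X : Set H) →
      X = K ⊓ N ∨ X = N)
    {T : Type} [Group T] [IsSimpleGroup T] (hT : ¬ IsMulCommutative T) {m : ℕ} (hm : 0 < m)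
    (e : N ≃* (Fin m → T)) :
    ∃ e : N ≃* (Fin m → T),
    ((∃ K' : Fin m → Subgroup T, (∀ i, K' i ≠ ⊤) ∧ ∀ n : N, (n : H) ∈ K ↔ ∀ i, e n i ∈ K' i) ∨ (∃ (k : ℕ) (c : Fin m → Fin m), 2 ≤ k ∧ (∀ j : Fin m, Nat.card {i : Fin m // c i = j} = k ∨ Nat.card {i : Fin m // c i = j} = 0) ∧ ∀ n : N, (n : H) ∈ K ↔ ∀ i j : Fin m, c i = c j → e n i = e n j)) := by
  classical
  haveI : Finite (Fin m → T) := Finite.of_equiv _ e.toEquiv
  haveI : Finite T := Finite.of_injective (fun t : T => (fun _ : Fin m => t))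
    (fun a b h => congrFun h ⟨0, hm⟩)
  let ψ : H →* MulAut (Fin m → T) := (MulAut.congr e).toMonoidHom.comp MulAut.conjNormal
  have hψ : ∀ (h : H) (n : N), ψ h (e n) = e (MulAut.conjNormal h n) := by
    intro h n
    simp [ψ]
  let L : Subgroup (Fin m → T) := (K.subgroupOf N).map e.toMonoidHom
  have hL : ∀ n : N, e n ∈ L ↔ (n : H) ∈ K := by
    intro n
    constructor
    · rintro ⟨n', hn', h⟩
      have : n' = n := e.injective h
      exact this ▸ hn'
    · intro h
      exact ⟨n, h, rfl⟩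
  have hψL : ∀ k ∈ K, ∀ f ∈ L, ψ k f ∈ L := by
    intro k hk f hf
    obtain ⟨n, rfl⟩ := e.surjective f
    rw [hψ, hL, MulAut.conjNormal_apply]
    exact K.mul_mem (K.mul_mem hk ((hL n).1 hf)) (K.inv_mem hk)
  -- subgroups of `N` given by subgroups of `T ^ m`
  let up : Subgroup (Fin m → T) → Subgroup H := fun Y => (Y.comap e.toMonoidHom).map N.subtype
  have hup : ∀ Y (n : N), (n : H) ∈ up Y ↔ e n ∈ Y := by
    intro Y n
    constructor
    · rintro ⟨n', hn', h⟩
      have : n' = n := Subtype.ext h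
      exact this ▸ hn'
    · intro h
      exact ⟨n, h, rfl⟩
  have hupN : ∀ Y, up Y ≤ N := fun Y => Subgroup.map_subtype_le _
  have hupn : ∀ (Y : Subgroup (Fin m → T)) (A : Subgroup H), (∀ k ∈ A, ∀ f ∈ Y, ψ k f ∈ Y) →
      A ≤ Subgroup.normalizer (up Y : Set H) := by
    intro Y A hA
    have key : ∀ k ∈ A, ∀ x ∈ up Y, k * x * k⁻¹ ∈ up Y := by
      intro k hk x hx
      have h1 := hA k hk _ ((hup Y ⟨x, hupN Y hx⟩).1 hx)
      rw [hψ, ← hup] at h1
      exact h1
    intro k hk
    rw [Subgroup.mem_normalizer_iff]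
    intro x
    refine ⟨key k hk x, fun h => ?_⟩
    have := key k⁻¹ (A.inv_mem hk) _ h
    simpa [mul_assoc] using this
  -- transitivity of `K` on the coordinates
  have htr : ∀ i j : Fin m, ∃ k ∈ K, CoordRel (ψ k) i j := by
    intro i
    let Y : Subgroup (Fin m → T) :=
      { carrier := {f | ∀ j, (¬ ∃ k ∈ K, CoordRel (ψ k) i j) → f j = 1}
        one_mem' := fun _ _ => rfl
        mul_mem' := fun ha hb j hj => by simp [ha j hj, hb j hj]
        inv_mem' := fun ha j hj => by simp [ha j hj] }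
    have h1 : K ≤ Subgroup.normalizer (up Y : Set H) := by
      apply hupn
      intro k hk f hf j hj
      obtain ⟨σ, hσ⟩ := exists_perm_coordRel hT (ψ k)
      obtain ⟨i', rfl⟩ := σ.surjective j
      have h2 : f i' = 1 := by
        apply hf
        rintro ⟨k', hk', h⟩
        exact hj ⟨k * k', K.mul_mem hk hk', by rw [map_mul]; exact h.comp (hσ i')⟩
      obtain ⟨φ, hφ⟩ := hσ i'
      rw [hφ, h2, map_one]
    have h2 : N ≤ Subgroup.normalizer (up Y : Set H) := by
      apply hupn
      intro k hk f hf j hj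
      obtain ⟨n, rfl⟩ := e.surjective f
      have : MulAut.conjNormal k n = ⟨k, hk⟩ * n * ⟨k, hk⟩⁻¹ := Subtype.ext rfl
      rw [hψ, this, map_mul, map_mul, map_inv]
      simp [hf j hj]
    have h3 : Subgroup.normalizer (up Y : Set H) = ⊤ :=
      hK.2 _ (lt_of_le_of_ne h1 fun h => hNK (h ▸ h2))
    obtain ⟨t, ht⟩ := exists_ne (1 : T)
    rcases hmin _ (Subgroup.normalizer_eq_top_iff.1 h3) (hupN Y) with h | h
    · exfalso
      have h4 : ((e.symm (Pi.mulSingle i t) : N) : H) ∈ up Y := by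
        rw [hup, e.apply_symm_apply]
        intro j hj
        have : j ≠ i := by
          rintro rfl
          exact hj ⟨1, K.one_mem, by rw [map_one]; exact coordRel_one j⟩
        simp [this]
      rw [h, Subgroup.mem_bot, OneMemClass.coe_eq_one, MulEquiv.map_eq_one_iff] at h4
      have := congrFun h4 i
      simp at this
      exact ht this
    · intro j
      by_contra hj
      have h4 : ((e.symm (Pi.mulSingle j t) : N) : H) ∈ up Y := by
        rw [h]; exact (e.symm (Pi.mulSingle j t)).2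
      rw [hup, e.apply_symm_apply] at h4
      have := h4 j hj
      simp at this
      exact ht this
  by_cases hsub : ∀ i, Function.Surjective (prj L i)
  · obtain ⟨c, φ, hc, hφ⟩ := scott_lemma hT hsub
    let e' : N ≃* (Fin m → T) := e.trans (MulEquiv.piCongrRight φ)
    have hcard : ∀ i j, Nat.card {x // c x = c i} = Nat.card {x // c x = c j} := by
      intro i j
      obtain ⟨k, hk, hij⟩ := htr i j
      obtain ⟨σ, hσ⟩ := exists_perm_coordRel hT (ψ k)
      have hj : j = σ i := hij.unique (hσ i)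
      subst hj
      refine Nat.card_congr (σ.subtypeEquiv fun x => ?_)
      rw [hc, hc]
      obtain ⟨φ₁, h₁⟩ := hσ x
      obtain ⟨φ₂, h₂⟩ := hσ i
      constructor
      · intro h f hf
        have h3 := hψL k⁻¹ (K.inv_mem hk) f hf
        have h4 := h _ h3
        have h5 : f = ψ k (ψ k⁻¹ f) := by rw [← MulAut.mul_apply, ← map_mul]; simp
        rw [h5, h₁, h₂, MulEquiv.map_eq_one_iff, MulEquiv.map_eq_one_iff]
        exact h4
      · intro h f hf
        have h4 := h _ (hψL k hk f hf)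
        rwa [h₁, h₂, MulEquiv.map_eq_one_iff, MulEquiv.map_eq_one_iff] at h4
    refine ⟨e', Or.inr ⟨Nat.card {x // c x = c ⟨0, hm⟩}, c, ?_, fun j => ?_, fun n => ?_⟩⟩
    · by_contra hlt
      apply hNK
      intro x hx
      refine (hL ⟨x, hx⟩).1 ((hφ _).2 fun i j hij => ?_)
      have h1 : Nat.card {x // c x = c j} ≤ 1 := by rw [hcard j ⟨0, hm⟩]; omega
      have h2 := Finite.card_le_one_iff_subsingleton.1 h1
      have h3 : i = j := congrArg Subtype.val (Subsingleton.elim (⟨i, hij⟩ : {x // c x = c j}) ⟨j, rfl⟩)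
      rw [h3]
    · by_cases hj : ∃ i, c i = j
      · obtain ⟨i, rfl⟩ := hj
        exact Or.inl (hcard _ _)
      · right
        haveI : IsEmpty {i // c i = j} := ⟨fun x => hj ⟨x.1, x.2⟩⟩
        exact Nat.card_of_isEmpty
    · rw [← hL, hφ]
      rfl
  · refine ⟨e, Or.inl ⟨fun i => (prj L i).range, ?_, ?_⟩⟩
    · push Not at hsub
      obtain ⟨i, hi⟩ := hsub
      intro j hj
      apply hi
      obtain ⟨k, hk, φ, hφ⟩ := htr j i
      intro t
      obtain ⟨f, hf⟩ : φ.symm t ∈ (prj L j).range := by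
        have hj' : (prj L j).range = ⊤ := hj
        rw [hj']; exact Subgroup.mem_top _
      refine ⟨⟨ψ k f, hψL k hk f f.2⟩, ?_⟩
      rw [prj_apply] at hf
      change ψ k f i = t
      rw [hφ, hf, φ.apply_symm_apply]
    · let Y : Subgroup (Fin m → T) := Subgroup.pi Set.univ fun i => (prj L i).range
      have hY : ∀ f, f ∈ Y ↔ ∀ i, f i ∈ (prj L i).range := fun f => by
        simp only [Y, Subgroup.mem_pi, Set.mem_univ, true_imp_iff]
      have h1 : K ⊓ N ≤ up Y := by
        intro x hx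
        refine (hup Y ⟨x, hx.2⟩).2 ((hY _).2 fun i => ⟨⟨_, (hL ⟨x, hx.2⟩).2 hx.1⟩, rfl⟩)
      have h2 : K ≤ Subgroup.normalizer (up Y : Set H) := by
        apply hupn
        intro k hk f hf
        rw [hY] at hf ⊢
        intro j
        obtain ⟨σ, hσ⟩ := exists_perm_coordRel hT (ψ k)
        obtain ⟨i, rfl⟩ := σ.surjective j
        obtain ⟨φ, hφ⟩ := hσ i
        obtain ⟨g, hg⟩ := hf i
        refine ⟨⟨ψ k g, hψL k hk g g.2⟩, ?_⟩
        rw [prj_apply] at hg
        change ψ k g (σ i) = _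
        rw [hφ, hφ, hg]
      rcases hmax _ (hupN Y) h1 h2 with h | h
      · intro n
        rw [← hY, ← hup, h]
        exact ⟨fun h => ⟨h, n.2⟩, fun h => h.1⟩
      · exfalso
        apply hsub
        intro i t
        have h3 : ((e.symm (Pi.mulSingle i t) : N) : H) ∈ up Y := by
          rw [h]; exact (e.symm (Pi.mulSingle i t)).2
        rw [hup, e.apply_symm_apply, hY] at h3
        simpa using h3 i

/-- The core of the O'Nan–Scott Theorem. Let `H` be a primitive permutation group on a finite set whose unique minimal normal subgroup `N` is non-abelian, and `K` a point stabiliser. Then there are a non-abelian simple group `T` and an isomorphism `N ≃* T^m` (`m ≥ 1`) under which `K ⊓ N` becomes either a product `∏ K_i` of proper subgroups `K_i < T`, or the set of functions constant on each block of a partition of the index set into blocks of one common size `k ≥ 2`. -/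
theorem result {α : Type*} [Finite α] (H : Subgroup (Equiv.Perm α)) [MulAction.IsPreprimitive H α] (N : Subgroup H) [N.Normal] (hN : N ≠ ⊥) (hmin : ∀ M : Subgroup H, M.Normal → M ≤ N → M = ⊥ ∨ M = N) (huniq : ∀ L : Subgroup H, L.Normal → L ≠ ⊥ → (∀ M : Subgroup H, M.Normal → M ≤ L → M = ⊥ ∨ M = L) → L = N) (hnab : ¬ IsMulCommutative N) (a : α) : ∃ (T : Type) (_ : Group T) (m : ℕ) (e : N ≃* (Fin m → T)), IsSimpleGroup T ∧ ¬ IsMulCommutative T ∧ 0 < m ∧ ((∃ K : Fin m → Subgroup T, (∀ i, K i ≠ ⊤) ∧ ∀ n : N, (n : H) ∈ MulAction.stabilizer H a ↔ ∀ i, e n i ∈ K i) ∨ (∃ (k : ℕ) (c : Fin m → Fin m), 2 ≤ k ∧ (∀ j : Fin m, Nat.card {i : Fin m // c i = j} = k ∨ Nat.card {i : Fin m // c i = j} = 0) ∧ ∀ n : N, (n : H) ∈ MulAction.stabilizer H a ↔ ∀ i j : Fin m, c i = c j → e n i = e n j)) := by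
  obtain ⟨T, iT, m, hT, hm, ⟨e⟩⟩ := Cfsg.Agent.S0721.result N hN hmin
  have hTc : ¬ IsMulCommutative T := by
    intro h
    apply hnab
    exact ⟨⟨fun x y => e.injective (by
      rw [map_mul, map_mul]; funext i; exact h.is_comm.comm _ _)⟩⟩
  have hα : Nontrivial α := by
    by_contra hc
    rw [not_nontrivial_iff_subsingleton] at hc
    exact hN (Subsingleton.elim _ _)
  have hK : IsCoatom (MulAction.stabilizer H a) :=
    MulAction.IsPreprimitive.isCoatom_stabilizer_of_isPreprimitive H a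
  have hNK : ¬ N ≤ MulAction.stabilizer H a := by
    intro h
    apply hN
    rw [eq_bot_iff]
    intro n hn
    rw [Subgroup.mem_bot]
    apply Subtype.ext
    ext b
    obtain ⟨g, rfl⟩ := MulAction.exists_smul_eq H a b
    have h1 : (g⁻¹ * n * g⁻¹⁻¹) • a = a := h ((inferInstance : N.Normal).conj_mem n hn g⁻¹)
    rw [inv_inv, mul_smul, mul_smul, inv_smul_eq_iff] at h1
    exact h1
  obtain ⟨e', h⟩ := core _ N hmin hK hNK
    (fun X h1 h2 h3 => Cfsg.Agent.S0722.result H N hN hmin a X h1 h2 h3) hTc hm e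
  exact ⟨T, iT, m, e', hT, hTc, hm, h⟩

end Cfsg.Agent.S0723
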