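import Cfsg.Statements.S3168
import Cfsg.Agent.H87.ProdFin
import Cfsg.Agent.S0507
import Cfsg.Agent.H51.Gold2Glue0
import Cfsg.Agent.H51.Gold2Tr

set_option autoImplicit false
open Cfsg

namespace Cfsg.Agent.S3168

/-- Fusion-simple groups whose Sylow 2-subgroup is a direct product of two semidihedral groups. Let G be a finite group with no subgroup of index 2, no nontrivial normal subgroup of odd order and trivial centre, and suppose a Sylow 2-subgroup S of G is the internal direct product of two semidihedral (quasi-dihedral) subgroups. Then G has a normal subgroup N of odd index which is an internal direct product F₁ × F₂ in which each factor is simple of order 7920 (the order of the smallest Mathieu group), or isomorphic to PSL(3, q) for some q ≡ 3 mod 4, or to PSU(3, q) for some q ≡ 1 mod 4. -/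
theorem result {G : Type*} [Group G] [Finite G]
    (h2 : ∀ H : Subgroup G, H.index ≠ 2) (hO : Cfsg.oddCore G = ⊥) (hZ : Subgroup.center G = ⊥)
    (S : Sylow 2 G) (S₁ S₂ : Subgroup G) (hS : Cfsg.IsInternalDirectProduct S₁ S₂ (S : Subgroup G))
    (h₁ : Cfsg.IsQuasiDihedral ↥S₁) (h₂ : Cfsg.IsQuasiDihedral ↥S₂) :
    ∃ N : Subgroup G, N.Normal ∧ Odd N.index ∧ ∃ F₁ F₂ : Subgroup G, Cfsg.IsInternalDirectProduct F₁ F₂ N ∧
      (Cfsg.IsM11 ↥F₁ ∨
        (∃ (F : Type) (_ : Field F) (_ : Fintype F), Fintype.card F % 4 = 3 ∧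
          Nonempty (↥F₁ ≃* Matrix.ProjectiveSpecialLinearGroup (Fin 3) F)) ∨
        (∃ (F : Type) (_ : Field F) (_ : Fintype F) (q : ℕ), Fintype.card F = q ^ 2 ∧ q % 4 = 1 ∧
          Nonempty (↥F₁ ≃* Cfsg.PSU 3 F q))) ∧
      (Cfsg.IsM11 ↥F₂ ∨
        (∃ (F : Type) (_ : Field F) (_ : Fintype F), Fintype.card F % 4 = 3 ∧
          Nonempty (↥F₂ ≃* Matrix.ProjectiveSpecialLinearGroup (Fin 3) F)) ∨
        (∃ (F : Type) (_ : Field F) (_ : Fintype F) (q : ℕ), Fintype.card F = q ^ 2 ∧ q % 4 = 1 ∧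
          Nonempty (↥F₂ ≃* Cfsg.PSU 3 F q))) := by
  obtain ⟨a, b, n, h, hb, hi⟩ := H87.sd_cases h₁
  obtain ⟨a₂, b₂, n₂, k, kb, ki⟩ := H87.sd_cases h₂
  have hG : ∀ K : Subgroup G, K.Normal → K.index ≠ 2 := fun K _ => h2 K
  obtain ⟨D, E, a', b', a₂', b₂', p, k1, k2, k3, k4, k5, k6, c1, c2, hc⟩ :=
    H87.prod_mc hS h hb k kb hG
  obtain ⟨d1, d2, d3, d4⟩ := H51.direct_of_sylow H51.a0 hO S p c1 c2
  have dp : H87.DP (S : Subgroup G) D E := ⟨p, c1, c2, d1, d2, d3, d4⟩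
  obtain ⟨s1, T1, t1⟩ := dp.simple hO (H87.mc_sd k1 k2 (mt k3.mp hi))
    (dp.no_index_of_cent hG fun g hg ho => H83.cent_anti p.1 (hc g hg ho))
  obtain ⟨s2, T2, t2⟩ := dp.symm.simple hO (H87.mc_sd k4 k5 (mt k6.mp ki))
    (dp.symm.no_index_of_cent hG fun g hg ho => H83.cent_anti p.2.1 (hc g hg ho))
  exact ⟨_, inferInstance, dp.odd, _, _, dp.idp, or_rotate.mp (or_rotate.mp (S0507.result T1 t1)),
    or_rotate.mp (or_rotate.mp (S0507.result T2 t2))⟩

end Cfsg.Agent.S3168
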