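import Cfsg.Statements.S4097
import Cfsg.Agent.H1.Nilp
import Cfsg.Agent.S0042
import Cfsg.Agent.S0035
import Cfsg.Agent.H8.SylowIn

set_option autoImplicit false
open Cfsg

namespace Cfsg.Agent.S4097

open scoped Pointwise IsMulCommutative

universe u

theorem solv_comap {G : Type*} [Group G] (Y : Subgroup G) [Y.Normal] [Group.IsSolvable Y]
    (S : Subgroup (G ⧸ Y)) [Group.IsSolvable S] :
    Group.IsSolvable (S.comap (QuotientGroup.mk' Y)) := by
  refine Group.isSolvable_of_ker_le_range
    (Subgroup.inclusion (H := Y) (fun y hy => ?_)) ((QuotientGroup.mk' Y).subgroupComap S) ?_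
  · rw [Subgroup.mem_comap, show QuotientGroup.mk' Y y = 1 from
      (QuotientGroup.eq_one_iff y).mpr hy]
    exact S.one_mem
  · intro x hx
    exact ⟨⟨x, (QuotientGroup.eq_one_iff _).mp (congrArg Subtype.val hx)⟩, rfl⟩

theorem solv_sup {G : Type*} [Group G] (B A : Subgroup G) [B.Normal] [Group.IsSolvable B]
    [Group.IsSolvable A] : Group.IsSolvable ↥(A ⊔ B) := by
  have := H1.isSolvable_map (QuotientGroup.mk' B) A
  have h := solv_comap B (A.map (QuotientGroup.mk' B))
  rwa [Subgroup.comap_map_eq, QuotientGroup.ker_mk'] at h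

theorem solv_of_comm {G : Type*} [Group G] (B : Subgroup G) (h : ∀ a ∈ B, ∀ b ∈ B, a * b = b * a) :
    Group.IsSolvable B :=
  Group.isSolvable_of_comm fun a b => Subtype.ext (h a a.2 b b.2)

theorem main (G : Type u) [Group G] [Finite G] : ∀ A : Subgroup G, Group.IsSolvable A →
    (∀ S : Subgroup G, A ≤ S → Group.IsSolvable S → ∀ a ∈ A, ∀ s ∈ S, a * s = s * a) →
      A ≤ Subgroup.center G := by
  refine H1.card_induction (P := fun G _ _ => ∀ A : Subgroup G, Group.IsSolvable A →
    (∀ S : Subgroup G, A ≤ S → Group.IsSolvable S → ∀ a ∈ A, ∀ s ∈ S, a * s = s * a) →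
      A ≤ Subgroup.center G) ?_ G
  intro G _ _ ih A hA hc
  by_contra hne
  set C := Subgroup.centralizer (A : Set G) with hC
  have hCt : C ≠ ⊤ := fun h => hne (Subgroup.centralizer_eq_top_iff_subset.mp h)
  have hAC : A ≤ C := fun s hs a ha => hc A le_rfl hA a ha s hs
  have hprop : ∀ H : Subgroup G, A ≤ H → H ≠ ⊤ → H ≤ C := by
    intro H hAH hH
    have h1 := ih H (H1.card_subgroup_lt hH) (A.subgroupOf H)
      (Group.isSolvable_of_isSolvable_injective
        (f := (Subgroup.subgroupOfEquivOfLe hAH).toMonoidHom)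
        (Subgroup.subgroupOfEquivOfLe hAH).injective) (by
      intro S hS hSs a ha s hs
      refine Subtype.ext (hc (S.map H.subtype) (fun x hx => ⟨⟨x, hAH hx⟩, hS hx, rfl⟩)
        (H1.isSolvable_map _ _) a ha s ⟨s, hs, rfl⟩))
    intro h hh a ha
    exact (congrArg Subtype.val (Subgroup.mem_center_iff.mp (h1 (show (⟨a, hAH ha⟩ : H) ∈ _ from ha))
      ⟨h, hh⟩)).symm
  have hK : ∀ B : Subgroup G, B.Normal → Group.IsSolvable B → ¬ A ≤ B := by
    intro B _ _ hAB
    refine hne fun a ha => Subgroup.mem_center_iff.mpr fun g => ?_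
    have := solv_of_comm (Subgroup.zpowers g) fun a ha b hb => setLike_mul_comm (s := Subgroup.zpowers g) ha hb
    exact (hc _ (hAB.trans le_sup_right) (solv_sup B (Subgroup.zpowers g)) a ha g
      (Subgroup.mem_sup_left (Subgroup.mem_zpowers g))).symm
  have hcore : ∀ Y : Subgroup G, Y.Normal → Y ≤ C → Y = ⊥ := by
    intro Y _ hYC
    by_contra hY0
    have hAD : A ≤ Subgroup.centralizer (Y : Set G) := fun a ha y hy => (hYC hy a ha).symm
    by_cases hD : Subgroup.centralizer (Y : Set G) = ⊤
    · have hYZ := Subgroup.centralizer_eq_top_iff_subset.mp hD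
      have := solv_of_comm Y fun a ha b _ => (Subgroup.mem_center_iff.mp (hYZ ha) b).symm
      have h1 := ih (G ⧸ Y) (H1.card_quotient_lt hY0) (A.map (QuotientGroup.mk' Y))
        (H1.isSolvable_map _ _) (by
        rintro S hS hSs _ ⟨a, ha, rfl⟩ s hs
        obtain ⟨s, rfl⟩ := QuotientGroup.mk'_surjective Y s
        rw [← map_mul, ← map_mul, hc _ (Subgroup.map_le_iff_le_comap.mp hS) (solv_comap Y S) a ha s hs])
      have := solv_of_comm (Subgroup.center (G ⧸ Y)) fun a ha b _ =>
        (Subgroup.mem_center_iff.mp ha b).symm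
      exact hK _ inferInstance (solv_comap Y (Subgroup.center (G ⧸ Y)))
        (Subgroup.map_le_iff_le_comap.mp h1)
    · have h1 := hprop _ hAD hD
      refine hK (Subgroup.centralizer (Y : Set G) ⊓
        Subgroup.centralizer (Subgroup.centralizer (Y : Set G) : Set G)) inferInstance
        (solv_of_comm _ fun a ha b hb => hb.2 a ha.1) (le_inf hAD fun a ha d hd => (h1 hd a ha).symm)
  have hA0 : C ≠ ⊥ := fun h => hne (hAC.trans (h ▸ bot_le))
  have hF : Cfsg.IsFrobeniusComplement C := by
    refine ⟨hA0, hCt, fun g hg => ?_⟩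
    by_contra hY0
    set Y := C ⊓ MulAut.conj g • C with hY
    have h1 : Subgroup.normalizer (Y : Set G) ≤ C := by
      refine hprop _ (fun a ha => Subgroup.centralizer_le_normalizer _ fun y hy =>
        (hy.1 a ha).symm) fun h => hY0 (hcore Y (Subgroup.normalizer_eq_top_iff.mp h) inf_le_left)
    have h2 : A ≤ MulAut.conj g • C := by
      intro a ha
      rw [H8.mem_conj_smul]
      intro b hb
      have h3 : g * b * g⁻¹ ∈ C := h1 (Subgroup.centralizer_le_normalizer _ fun y hy => by
        have h4 := H8.mem_conj_smul.mp hy.2 b hb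
        calc y * (g * b * g⁻¹) = g * (g⁻¹ * y * g * b) * g⁻¹ := by group
          _ = g * (b * (g⁻¹ * y * g)) * g⁻¹ := by rw [h4]
          _ = g * b * g⁻¹ * y := by group)
      have h4 := h3 a ha
      calc b * (g⁻¹ * a * g) = g⁻¹ * (g * b * g⁻¹ * a) * g := by group
        _ = g⁻¹ * (a * (g * b * g⁻¹)) * g := by rw [h4]
        _ = g⁻¹ * a * g * b := by group
    have h3 := hprop _ h2 fun h => hCt (by
      rw [← Subgroup.index_eq_one, ← H8.index_conj_smul C g, h, Subgroup.index_top])
    exact hg (hprop _ (hAC.trans Subgroup.le_normalizer) (fun h => hA0 (hcore C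
      (Subgroup.normalizer_eq_top_iff.mp h) le_rfl)) (H8.mem_normalizer_of_conj_smul_le h3))
  obtain ⟨K, hK1, hKn, hKnil⟩ := S0042.result C hF
  obtain ⟨K', hK2, -, hK3⟩ := S0035.result C hF
  have h1 : K' = K := SetLike.coe_injective (hK2.trans hK1.symm)
  have h2 : K = ⊥ := hcore K hKn fun k hk a ha =>
    hc _ le_sup_left (solv_sup K A) a ha k (Subgroup.mem_sup_right hk)
  rw [h1, h2] at hK3
  exact hCt (by simpa using hK3.sup_eq_top)

/-- Let A be a solvable subgroup of a finite group G such that A lies in the centre of every solvable subgroup of G containing A. Then A lies in the centre of G. -/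
theorem result {G : Type*} [Group G] [Finite G]
    (A : Subgroup G) (hA : Group.IsSolvable A)
    (hc : ∀ S : Subgroup G, A ≤ S → Group.IsSolvable S → ∀ a ∈ A, ∀ s ∈ S, a * s = s * a) : A ≤ Subgroup.center G := by
  exact main G A hA hc

end Cfsg.Agent.S4097
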