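import Cfsg.Statements.S2477
import Cfsg.Agent.H78.AltOrders

set_option autoImplicit false
open Cfsg

namespace Cfsg.Agent.S2477

/-- The triples (sum, parity of the number of parts, lcm) of the cycle types on ten points. -/
def tbl : List (ℕ × ℕ × ℕ) := [(0, 0, 1), (2, 1, 2), (3, 1, 3), (4, 0, 2), (4, 1, 4), (5, 0, 6), (5, 1, 5), (6, 0, 3), (6, 0, 4), (6, 1, 2), (6, 1, 6), (7, 0, 10), (7, 0, 12), (7, 1, 6), (7, 1, 7), (8, 0, 2), (8, 0, 4), (8, 0, 6), (8, 0, 15), (8, 1, 4), (8, 1, 6), (8, 1, 8), (9, 0, 6), (9, 0, 14), (9, 0, 20), (9, 1, 3), (9, 1, 9), (9, 1, 10), (9, 1, 12), (10, 0, 4), (10, 0, 5), (10, 0, 6), (10, 0, 8), (10, 0, 12), (10, 0, 21), (10, 1, 2), (10, 1, 4), (10, 1, 6), (10, 1, 10), (10, 1, 12), (10, 1, 30)]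

theorem tbl_step : ∀ x ∈ tbl, ∀ a ∈ List.range 11, 2 ≤ a → a + x.1 ≤ 10 →
    (a + x.1, (x.2.1 + 1) % 2, Nat.lcm a x.2.2) ∈ tbl := by decide +kernel

theorem tbl_even : ∀ x ∈ tbl, (x.1 + x.2.1) % 2 = 0 →
    x.2.2 ∈ [1, 2, 3, 4, 5, 6, 7, 8, 9, 10, 12, 15, 21] := by decide +kernel

theorem mem_tbl (s : Multiset ℕ) (h2 : ∀ a ∈ s, 2 ≤ a) (h1 : s.sum ≤ 10) :
    (s.sum, Multiset.card s % 2, s.lcm) ∈ tbl := by
  induction s using Multiset.induction_on with
  | empty => decide
  | cons a s ih =>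
    rw [Multiset.sum_cons] at h1
    have h := ih (fun b hb => h2 b (Multiset.mem_cons_of_mem hb)) (by omega)
    have h' := tbl_step _ h a (List.mem_range.2 (by omega)) (h2 a (Multiset.mem_cons_self _ _)) h1
    rw [Multiset.sum_cons, Multiset.card_cons, Multiset.lcm_cons, lcm_eq_nat_lcm]
    simpa only [Nat.mod_add_mod] using h'

/-- The set of element orders of the alternating group of degree 10 is {1, 2, 3, 4, 5, 6, 7, 8, 9, 10, 12, 15, 21}. -/
theorem result : Set.range (orderOf : alternatingGroup (Fin 10) → ℕ) = {1, 2, 3, 4, 5, 6, 7, 8, 9, 10, 12, 15, 21} := by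
  ext m
  rw [H78.mem_range_orderOf_alternating_iff, Fintype.card_fin]
  constructor
  · rintro ⟨t, h1, h2, h3, rfl⟩
    have h := tbl_even _ (mem_tbl t h2 h1) (by
      rw [Nat.even_iff] at h3
      simp only
      omega)
    simpa using h
  · intro h
    simp only [Set.mem_insert_iff, Set.mem_singleton_iff] at h
    rcases h with rfl | rfl | rfl | rfl | rfl | rfl | rfl | rfl | rfl | rfl | rfl | rfl | rfl
    · exact ⟨(([] : List ℕ) : Multiset ℕ), by decide, by decide, by decide, by decide⟩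
    · exact ⟨(([2, 2, 2, 2] : List ℕ) : Multiset ℕ), by decide, by decide, by decide, by decide⟩
    · exact ⟨(([3, 3, 3] : List ℕ) : Multiset ℕ), by decide, by decide, by decide, by decide⟩
    · exact ⟨(([2, 2, 2, 4] : List ℕ) : Multiset ℕ), by decide, by decide, by decide, by decide⟩
    · exact ⟨(([5, 5] : List ℕ) : Multiset ℕ), by decide, by decide, by decide, by decide⟩
    · exact ⟨(([2, 2, 3, 3] : List ℕ) : Multiset ℕ), by decide, by decide, by decide, by decide⟩
    · exact ⟨(([7] : List ℕ) : Multiset ℕ), by decide, by decide, by decide, by decide⟩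
    · exact ⟨(([2, 8] : List ℕ) : Multiset ℕ), by decide, by decide, by decide, by decide⟩
    · exact ⟨(([9] : List ℕ) : Multiset ℕ), by decide, by decide, by decide, by decide⟩
    · exact ⟨(([2, 2, 5] : List ℕ) : Multiset ℕ), by decide, by decide, by decide, by decide⟩
    · exact ⟨(([2, 3, 4] : List ℕ) : Multiset ℕ), by decide, by decide, by decide, by decide⟩
    · exact ⟨(([3, 5] : List ℕ) : Multiset ℕ), by decide, by decide, by decide, by decide⟩
    · exact ⟨(([3, 7] : List ℕ) : Multiset ℕ), by decide, by decide, by decide, by decide⟩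

end Cfsg.Agent.S2477
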