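import Cfsg.Statements.S4429
import Cfsg.Agent.H13.M11Char

set_option autoImplicit false
open Cfsg

namespace Cfsg.Agent.S4429

/-- Let G be a simple group of order 7920. Then G has exactly ten irreducible complex characters, and their degrees, listed with multiplicity, are 1, 10, 10, 10, 11, 16, 16, 44, 45, 55: for every natural number n, the number of irreducible characters of degree n is 1 if n ∈ {1, 11, 44, 45, 55}, 3 if n = 10, 2 if n = 16, and 0 otherwise. -/
theorem result {G : Type*} [Group G] [Finite G] [IsSimpleGroup G] (hG : Nat.card G = 7920) : Nat.card (Cfsg.IrrCharacter G) = 10 ∧ ∀ n : ℕ, Nat.card {χ : Cfsg.IrrCharacter G // Cfsg.charDegree (χ : G → ℂ) = n} = (if n = 1 ∨ n = 11 ∨ n = 44 ∨ n = 45 ∨ n = 55 then 1 else if n = 10 then 3 else if n = 16 then 2 else 0) := by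
  classical
  have := Fintype.ofFinite G
  have := Fintype.ofFinite (IrrCharacter G)
  obtain ⟨T⟩ := H13.M11.nonempty_tab hG
  constructor
  · have h := T.sum_eq fun _ => (1 : ℕ)
    simp only [Finset.sum_const, T.cardB, T.cardY, smul_eq_mul, Finset.card_univ] at h
    rw [Nat.card_eq_fintype_card]
    omega
  · intro n
    have h := T.sum_eq fun χ => if charDegree χ.1 = n then (1 : ℕ) else 0
    have e1 : ∑ χ ∈ T.B, (if charDegree χ.1 = n then (1 : ℕ) else 0) =
        ∑ χ ∈ T.B, (if 10 = n then (1 : ℕ) else 0) :=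
      Finset.sum_congr rfl fun χ hχ => by rw [T.degB χ hχ]
    have e2 : ∑ χ ∈ T.Y, (if charDegree χ.1 = n then (1 : ℕ) else 0) =
        ∑ χ ∈ T.Y, (if 16 = n then (1 : ℕ) else 0) :=
      Finset.sum_congr rfl fun χ hχ => by rw [T.degY χ hχ]
    rw [e1, e2, ← Finset.card_filter, T.deg45, T.deg11, T.deg44, T.deg55,
      show charDegree (H21.triv G).1 = 1 from H21.charDegree_one, Finset.sum_const,
      Finset.sum_const, T.cardB, T.cardY] at h
    rw [Nat.card_eq_fintype_card, Fintype.card_subtype, h]
    simp only [smul_eq_mul]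
    split_ifs <;> omega

end Cfsg.Agent.S4429
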