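import Cfsg.Statements.S4488
import Cfsg.Agent.H12.Schur
import Cfsg.Agent.H12.LinHall
import Cfsg.Agent.H24.Deg

set_option autoImplicit false
open Cfsg

namespace Cfsg.Agent.S4488

/-- Let the finite group G have a faithful p-rational character χ of degree n (all values of χ lie in the field generated over ℚ by a root of unity of order prime to p), and let p^a be the order of a Sylow p-subgroup of G. Then a ≤ Σ_{i ≥ 0} ⌊n / ((p − 1)·p^i)⌋ (a finite sum; the terms vanish once (p − 1)p^i > n). -/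
theorem result {G : Type*} [Group G] [Finite G] (p : ℕ) (hp : p.Prime) (χ : G → ℂ) (hχ : Cfsg.IsCharacter G χ) (hfaith : ∀ g : G, χ g = χ 1 → g = 1) (hrat : (∃ r : ℕ, 0 < r ∧ ¬ p ∣ r ∧ ∀ g : G, χ g ∈ IntermediateField.adjoin ℚ ({Complex.exp (2 * Real.pi * Complex.I / r)} : Set ℂ))) (n : ℕ) (hn : Cfsg.charDegree χ = n) : (Nat.card G).factorization p ≤ ∑ i ∈ Finset.range (n + 1), n / ((p - 1) * p ^ i) := by
  have := Fact.mk hp
  obtain ⟨P⟩ : Nonempty (Sylow p G) := inferInstance
  obtain ⟨r, hr, hpr, h⟩ := hrat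
  have h1 := H12.index_charKer_dvd_of_rat hp P.2 (H11.isCharacter_restrict hχ P) (fun x => by
    obtain ⟨j, hj⟩ := P.2 x
    exact H12.exists_rat_of_mem_adjoin hχ hp hr hpr (j := j) (congrArg Subtype.val hj) (h x))
    ((H24.deg_eq_iff hχ).1 hn)
  have h2 : H11.charKer (fun x : (P : Subgroup G) => χ x) = ⊥ :=
    H12.charKer_eq_bot_of_faithful fun g hg => Subtype.ext (hfaith g hg)
  rw [h2, Subgroup.index_bot, P.card_eq_multiplicity] at h1
  simpa [hp.factorization_pow] using H12.factorization_le_of_dvd_pow_mul_factorial hp h1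

end Cfsg.Agent.S4488
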