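import Cfsg.Statements.S4146
import Cfsg.Agent.S4321
import Cfsg.Agent.S4134
import Cfsg.Agent.S4127
import Cfsg.Agent.H88.QBaer
import Cfsg.Agent.H4.Schmidt

set_option autoImplicit false
open Cfsg

namespace Cfsg.Agent.S4146

open Subgroup H92 S4321

section
variable {G : Type*} [Group G] [Finite G]

theorem relIndex_eq {A K : Subgroup G} (h : A.index.Coprime K.index) : A.relIndex K = A.index := by
  have h1 := H1.index_inf_of_coprime h
  rw [← relIndex_mul_index inf_le_right, inf_relIndex_right] at h1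
  exact Nat.eq_of_mul_eq_mul_right (Nat.pos_of_ne_zero index_ne_zero_of_finite) h1

theorem relIndex_eq' {A K H : Subgroup G} (hK : K ≤ H) (h : (A.relIndex H).Coprime (K.relIndex H)) :
    A.relIndex K = A.relIndex H := by
  rw [← relIndex_subgroupOf hK]; exact relIndex_eq h

theorem card_dvd_of_index_dvd {A B : Subgroup G} (h : B.index ∣ A.index) : Nat.card A ∣ Nat.card B := by
  obtain ⟨k, hk⟩ := h
  have h1 := A.index_mul_card
  rw [hk, ← B.index_mul_card, mul_assoc] at h1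
  exact ⟨k, by rw [← Nat.eq_of_mul_eq_mul_left (Nat.pos_of_ne_zero index_ne_zero_of_finite) h1, mul_comm]⟩

theorem exists_syl {q : ℕ} [Fact q.Prime] {A B : Subgroup G} (h : ¬ q ∣ A.relIndex B) :
    ∃ S : Subgroup G, S ≤ A ∧ S ≤ B ∧ Nat.card S = q ^ (Nat.card B).factorization q := by
  obtain ⟨P, hP⟩ := exists_sylow_le_of_not_dvd_index (H := A.subgroupOf B) h
  refine ⟨(P : Subgroup B).map B.subtype, ?_, map_subtype_le _, by
    rw [card_subtype, P.card_eq_multiplicity]⟩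
  rintro _ ⟨x, hx, rfl⟩
  exact hP hx

theorem mem_max {q k : ℕ} [hq : Fact q.Prime] {S D : Subgroup G} {v : G} (hS : Nat.card S = q ^ k)
    (hD : (Nat.card D).factorization q ≤ k) (SD : S ≤ D) (vD : v ∈ D) (hv : ∃ j, orderOf v = q ^ j)
    (c : ∀ s ∈ S, Commute s v) : v ∈ S := by
  obtain ⟨j, hj⟩ := (IsPGroup.to_sup_of_normal_right' ((isPGroup_zpowers_iff v).2 hv) (IsPGroup.of_card hS)
    (zpowers_le.2 (centralizer_le_normalizer _ (mem_centralizer_iff.2 c)))).exists_card_eq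
  have h1 : q ^ j ∣ Nat.card D := hj ▸ card_dvd_of_le (sup_le (zpowers_le.2 vD) SD)
  rw [hq.out.pow_dvd_iff_le_factorization Nat.card_pos.ne'] at h1
  have := eq_of_le_of_card_ge (le_sup_right : S ≤ zpowers v ⊔ S)
    (by rw [hj, hS]; exact Nat.pow_le_pow_right hq.out.pos (h1.trans hD))
  exact this.ge (mem_sup_left (mem_zpowers v))

omit [Finite G] in
theorem C_mul_le {W N : Subgroup G} [hW : W.Normal] [hN : N.Normal] (d : Disjoint W N) {h v : G}
    (hh : h ∈ W) (hv : v ∈ N) : Ce[h * v] ≤ Ce[h] ⊓ Ce[v] := fun g hg => by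
  have e : h⁻¹ * (g * h * g⁻¹) = v * (g * v * g⁻¹)⁻¹ := by
    rw [inv_mul_eq_iff_eq_mul, ← mul_assoc h, eq_mul_inv_iff_mul_eq]
    calc _ = g * (h * v) * g⁻¹ := by group
      _ = _ := by rw [(mem_C.1 hg).eq]; group
  have h1 := disjoint_def.1 d (mul_mem (inv_mem hh) (hW.conj_mem _ hh g))
    (e ▸ mul_mem hv (inv_mem (hN.conj_mem _ hv g)))
  have h2 := e ▸ h1
  rw [inv_mul_eq_one, eq_mul_inv_iff_mul_eq] at h1
  rw [mul_inv_eq_one, eq_mul_inv_iff_mul_eq] at h2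
  exact ⟨mem_C'.2 h1, mem_C'.2 h2⟩

theorem exists_normal {x y : G} (hc : cs[y].Coprime cs[x]) (h : cs[y * x] ≤ cs[y]) :
    ∃ T : Subgroup G, T.Normal ∧ Nat.card T ∣ cs[y] ∧ (∀ g, g * x * g⁻¹ * x⁻¹ ∈ T) ∧
      ∀ t ∈ T, ∃ g, g * y * g⁻¹ = y * t := by
  let T : Subgroup G :=
    { carrier := {t | ∀ z ∈ conjSet ⊤ y, z * t ∈ conjSet ⊤ y}
      one_mem' := by simp
      mul_mem' := fun {a b} ha hb z hz => mul_assoc z a b ▸ hb _ (ha z hz)
      inv_mem' := fun {a} ha z hz => by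
        have h1 : ∀ n : ℕ, z * a ^ n ∈ conjSet ⊤ y := fun n => by
          induction n with
          | zero => simpa using hz
          | succ n ih => rw [pow_succ, ← mul_assoc]; exact ha _ ih
        obtain ⟨n, hn⟩ := mem_powers_iff_mem_zpowers.2 (inv_mem (mem_zpowers a))
        exact hn ▸ h1 n }
  have h1 : ∀ g k : G, k * y * k⁻¹ * (g * x * g⁻¹) ∈ conjSet ⊤ (y * x) := fun g k => by
    obtain ⟨c, hc, d, hd, e⟩ := H1.factorization_of_coprime_index hc (k⁻¹ * g)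
    refine ⟨k * c, mem_top _, ?_⟩
    rw [show g = k * (c * d) by rw [← e]; group]
    have h2 : c * y * c⁻¹ = y := by rw [(mem_C.1 hc).eq]; group
    have h3 : d * x * d⁻¹ = x := by rw [(mem_C.1 hd).eq]; group
    calc k * c * (y * x) * (k * c)⁻¹ = k * (c * y * c⁻¹) * k⁻¹ * (k * c * x * c⁻¹ * k⁻¹) := by group
      _ = k * y * k⁻¹ * (k * c * (d * x * d⁻¹) * c⁻¹ * k⁻¹) := by rw [h2, h3]
      _ = _ := by group
  have h2 : (· * x) '' conjSet ⊤ y = conjSet ⊤ (y * x) := by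
    refine Set.eq_of_subset_of_ncard_le ?_ ?_
    · rintro _ ⟨_, ⟨k, -, rfl⟩, rfl⟩
      simpa using h1 1 k
    · rw [Set.ncard_image_of_injective _ (mul_left_injective x), ← Nat.card_coe_set_eq,
        ← Nat.card_coe_set_eq, card_conjSet_top, card_conjSet_top]
      exact h
  refine ⟨T, ⟨fun t ht g z ⟨k, _, hk⟩ => ?_⟩, card_conjSet_top y ▸ H88.card_dvd_of_mul_mem T _
    fun z hz t ht => ht z hz, fun g z ⟨k, _, hk⟩ => ?_, fun t ht => ?_⟩
  · obtain ⟨l, -, hl⟩ := ht _ ⟨g⁻¹ * k, mem_top _, rfl⟩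
    exact ⟨g * l, mem_top _, by
      rw [← hk, show g * l * y * (g * l)⁻¹ = g * (l * y * l⁻¹) * g⁻¹ by group, hl]; group⟩
  · obtain ⟨w, hw, e⟩ := h2.ge (h1 g k)
    rwa [← hk, ← mul_assoc, ← e, mul_inv_cancel_right]
  · obtain ⟨g, -, hg⟩ := ht y (self_mem_conjSet _ _)
    exact ⟨g, hg⟩

/-- The class sizes are exactly `1, n, m, n m`. -/
structure Hyp (G : Type*) [Group G] (n m : ℕ) : Prop where
  hn : 1 < n
  hm : 1 < m
  cop : n.Coprime m
  all : ∀ x : G, cs[x] = 1 ∨ cs[x] = n ∨ cs[x] = m ∨ cs[x] = n * m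
  ex : ∃ x : G, cs[x] = n * m

variable {n m : ℕ} (H : Hyp G n m)
include H

omit [Finite G] in
theorem Hyp.symm : Hyp G m n :=
  ⟨H.hm, H.hn, H.cop.symm, fun x => by rw [mul_comm]; have := H.all x; tauto, mul_comm n m ▸ H.ex⟩

omit [Finite G] in
theorem Hyp.dvd (x : G) : cs[x] ∣ n * m := by
  rcases H.all x with h | h | h | h <;> simp [h]

omit [Finite G] in
theorem Hyp.of_dvd {x : G} (h : n ∣ cs[x]) : cs[x] = n ∨ cs[x] = n * m := by
  rcases H.all x with e | e | e | e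
  · exact absurd (Nat.dvd_one.1 (e ▸ h)) H.hn.ne'
  · exact Or.inl e
  · exact absurd (H.cop.eq_one_of_dvd (e ▸ h)) H.hn.ne'
  · exact Or.inr e

omit [Finite G] in
theorem Hyp.dvd_of {x : G} (h : cs[x] ∣ n) : cs[x] = 1 ∨ cs[x] = n := by
  rcases H.all x with e | e | e | e
  · exact Or.inl e
  · exact Or.inr e
  · exact absurd (H.cop.symm.eq_one_of_dvd (e ▸ h)) H.hm.ne'
  · exact absurd (H.cop.symm.eq_one_of_dvd ((dvd_mul_left m n).trans (e ▸ h))) H.hm.ne'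

omit [Finite G] in
theorem Hyp.not_dvd {p : ℕ} (hp : p.Prime) (h : p ∣ n) : ¬ p ∣ m := fun h' =>
  hp.not_dvd_one (H.cop ▸ Nat.dvd_gcd h h')

theorem Hyp.primary {x : G} (hx : cs[x] = n) :
    ∃ (y : G) (r : ℕ), r.Prime ∧ (∃ k, orderOf y = r ^ k) ∧ Ce[x] = Ce[y] ∧ (r ∣ n ∨ r ∣ m) := by
  obtain ⟨y, hy, r, hr, -, hyr, hyZ⟩ := exists_primePow_not_mem (one_lt_cs_iff.1 (hx ▸ H.hn))
  have := Fact.mk hr
  refine ⟨y, r, hr, hyr, eq_of_le_of_index_eq (C_le_C_of_mem_zpowers hy) (hx.trans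
    ((H.dvd_of (hx ▸ cs_dvd_of_mem_zpowers hy)).resolve_left fun e => hyZ (cs_eq_one_iff.1 e)).symm),
    hr.dvd_mul.1 ?_⟩
  by_contra hc
  exact hyZ (mem_center_iff.2 (central (fun g hg => hc (hg.trans (H.dvd g))) hyr))

theorem Hyp.rel {v g : G} (hv : cs[v] = n) (c : Commute v g) (hc : (orderOf v).Coprime (orderOf g)) :
    Ce[g].relIndex Ce[v] = 1 ∨ Ce[g].relIndex Ce[v] = m := by
  have h1 := cs_mul_eq c hc
  have := H.hn
  rcases H.of_dvd (hv ▸ cs_dvd_cs_mul c hc) with e | e <;> rw [e, hv] at h1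
  · exact Or.inl (Nat.eq_of_mul_eq_mul_right (by omega) (h1.symm.trans (one_mul n).symm))
  · exact Or.inr (Nat.eq_of_mul_eq_mul_right (by omega) (h1.symm.trans (mul_comm n m)))

theorem Hyp.rel' {v g : G} {p : ℕ} (hp : p.Prime) (hm : ¬ p ∣ m) (hv : cs[v] = n) (c : Commute v g)
    (hc : (orderOf v).Coprime (orderOf g)) : ¬ p ∣ Ce[g].relIndex Ce[v] := by
  rcases H.rel hv c hc with e | e <;> rw [e]
  exacts [hp.not_dvd_one, hm]

theorem Hyp.eq_of_max {v g : G} (hv : cs[v] = n * m) (h : Ce[g] ≤ Ce[v]) : Ce[g] = Ce[v] :=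
  eq_of_le_of_index_le h (hv ▸ Nat.le_of_dvd (hv ▸ cs_pos v) (H.dvd g))

theorem Hyp.le_of_max {v g : G} (hv : cs[v] = n * m) (c : Commute v g)
    (hc : (orderOf v).Coprime (orderOf g)) : Ce[v] ≤ Ce[g] := by
  have h1 := C_mul_of_coprime c hc
  rw [← H.eq_of_max hv (h1.le.trans inf_le_left), h1]
  exact inf_le_right

theorem Hyp.comm_aux (hab : n < m) {x y : G} (hx : cs[x] = n) (hy : cs[y] = m) : Commute x y := by
  obtain ⟨y, p, hp, hyp, e, -⟩ := H.symm.primary hy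
  rw [← mem_C, e, mem_C]
  rw [e] at hy
  have := Fact.mk hp
  have cop : cs[y].Coprime cs[x] := by rw [hx, hy]; exact H.cop.symm
  by_cases hpa : p ∣ n
  swap
  · exact (mem_C.1 (normalCore_le _ (core2 cop hyp (hx ▸ hpa)))).symm
  have hpb := H.not_dvd hp hpa
  by_contra hc
  obtain ⟨N, hN, hNb, hNx, hNy⟩ := exists_normal cop (by
    have := H.hm
    rcases H.all (y * x) with h | h | h | h
    iterate 3 omega
    have := eq_of_le_of_index_eq (inf_le_C_mul y x)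
      (by rw [H1.index_inf_of_coprime cop, h, hx, hy, mul_comm])
    exact absurd (by simpa using (Commute.refl y).inv_left.mul_left (mem_C.1 (this.ge (self_mem_C _)).1)) hc)
  have fpf : ∀ t ∈ N, Commute t y → t = 1 := fun t ht c => by
    obtain ⟨g, hg⟩ := hNy t ht
    exact H88.eq_one_of_commute_of_conj c (hg.trans c.eq.symm) (coprime_of_pow_of_not_dvd hp hyp
      fun h => hpb (h.trans ((N.orderOf_dvd_natCard ht).trans (hy ▸ hNb)))).symm
  obtain ⟨t, htN, ht⟩ : ∃ t ∈ N, t ∉ (⊥ : Subgroup G) := by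
    by_contra! h
    refine one_lt_cs_iff.1 (hx ▸ H.hn) (mem_center_iff.2 fun g => ?_)
    have := h _ (hNx g)
    rwa [mem_bot, mul_inv_eq_one, mul_inv_eq_iff_eq_mul] at this
  obtain ⟨v, hvt, q, hq, hqt, hvq, hv1⟩ := exists_primePow_not_mem ht
  have hvN : v ∈ N := zpowers_le.2 htN hvt
  have hqb : q ∣ m := hqt.trans ((N.orderOf_dvd_natCard htN).trans (hy ▸ hNb))
  have hqa := H.symm.not_dvd hq hqb
  have hpq : q ≠ p := fun h => hpb (h ▸ hqb)
  have := Fact.mk hq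
  have nc : ¬ Commute v y := fun c => hv1 (fpf v hvN c)
  have hv : cs[v] = n := by
    have h1 : cs[v] < m := by
      refine lt_of_lt_of_le ?_ (Nat.le_of_dvd (hy ▸ cs_pos y) (hy ▸ hNb))
      rw [← card_conjSet_top]
      refine Set.ncard_lt_ncard (t := (N : Set G)) ⟨?_, fun h => ?_⟩
      · rintro _ ⟨g, -, rfl⟩
        exact hN.conj_mem _ hvN g
      · obtain ⟨g, -, hg⟩ := h N.one_mem
        exact hv1 (by simpa using hg)
    rcases H.all v with h | h | h | h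
    · exact absurd (mem_center_iff.1 (cs_eq_one_iff.1 h) y).symm nc
    · exact h
    · omega
    · have := H.hn
      rw [h] at h1
      nlinarith
  have cop' : ∀ u : G, cs[u] = n → cs[u].Coprime cs[y] := fun u h => by rw [h, hy]; exact H.cop
  obtain ⟨Q, hQv, hQy, hQ⟩ := exists_syl (q := q) (A := Ce[v]) (B := Ce[y])
    (by rw [relIndex_eq (cop' v hv), hv]; exact hqa)
  have d : Disjoint Ce[y].normalCore N := disjoint_def.2 fun h1 h2 =>
    fpf _ h2 (mem_C.1 (normalCore_le _ h1))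
  have s1 : ∀ u ∈ Q, cs[u] = 1 ∨ cs[u] = n := fun u hu => by
    have huq := orderOf_eq_pow_of_mem (IsPGroup.of_card hQ) hu
    rcases H.all u with h | h | h | h
    · exact Or.inl h
    · exact Or.inr h
    · obtain ⟨K, -, -, -, hK1, hK2⟩ := exists_direct_of_not_dvd_relIndex (p := q) Ce[u]
        fun g hg hg' => H.symm.rel' hq hqa h (mem_C'.1 hg) (coprime_of_pow_of_not_dvd hq huq hg')
      exact absurd (mem_centralizer_iff.1 (hK2 v (mem_C_comm.1 (hQv hu)) hvq) y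
        (hK1 y (mem_C_comm.1 (hQy hu)) (not_dvd_of_eq_pow hq hp hpq hyp))).symm nc
    · exact absurd (mem_C.1 (H.le_of_max h (mem_C.1 (hQy hu)) (coprime_of_pow_of_pow hq hp hpq huq hyp)
        (mem_C_comm.1 (hQv hu)))) nc
  have fle : ∀ g : G, m ∣ cs[g] → (Nat.card Ce[g]).factorization q ≤ (Nat.card Ce[y]).factorization q :=
    fun g hg => (Nat.factorization_le_iff_dvd Nat.card_pos.ne' Nat.card_pos.ne').2
      (card_dvd_of_index_dvd (hy ▸ hg)) q
  have s2 : ∀ h ∈ Ce[y], cs[h] ≠ n := fun h hh e => by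
    have hW := core1 (cop' h e) (mem_C.1 hh)
    have h1 := C_mul_le d hW hvN
    have cm := commute_of_normal_of_disjoint _ _ inferInstance hN d
    rcases H.of_dvd (e ▸ cs_dvd_of_le (h1.trans inf_le_left)) with h2 | h2
    · have := eq_of_le_of_index_eq (h1.trans inf_le_left) (h2.trans e.symm)
      exact nc (mem_C'.1 (h1 (this.ge (mem_C_comm.1 hh))).2)
    obtain ⟨S, hS1, hS2, hS⟩ := exists_syl (q := q) (A := Ce[h]) (B := Ce[y].normalCore)
      fun h3 => hqa (e ▸ h3.trans (relIndex_normal_dvd_index _ _))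
    have h3 : Q ≤ Ce[y].normalCore := fun u hu => core1 (by
      rcases s1 u hu with h3 | h3
      exacts [h3 ▸ Nat.coprime_one_left _, cop' u h3]) (mem_C.1 (hQy hu))
    refine hv1 (disjoint_def.1 d (hS2 (mem_max hS (D := Ce[h * v]) ((fle _ (h2 ▸ dvd_mul_left m n)).trans
      ((hq.pow_dvd_iff_le_factorization Nat.card_pos.ne').1 (hQ ▸ card_dvd_of_le h3)))
      (fun s hs => inf_le_C_mul h v ⟨hS1 hs, mem_C.2 (cm s v (hS2 hs) hvN)⟩)
      (inf_le_C_mul h v ⟨mem_C'.2 (cm h v hW hvN), self_mem_C v⟩) hvq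
      fun s hs => cm s v (hS2 hs) hvN)) hvN)
  obtain ⟨h, hh, hZ⟩ : ∃ h ∈ Ce[v] ⊓ Ce[y], h ∉ center G := by
    by_contra! h
    obtain ⟨g, hg⟩ := H.ex
    have := eq_of_le_of_index_eq (le_trans h (center_le_C g))
      (by rw [H1.index_inf_of_coprime (cop' v hv), hv, hy, hg])
    have h1 := cs_eq_one_iff.2 (h g (this.ge (self_mem_C g)))
    rw [hg] at h1
    exact H.hn.ne' (Nat.eq_one_of_mul_eq_one_right h1)
  refine nc (mem_C.1 (hQy (mem_max hQ (D := Ce[h]) (fle h ?_) (fun u hu => center_le_C h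
    (cs_eq_one_iff.1 ((s1 u hu).resolve_right (s2 u (hQy hu))))) (mem_C_comm.1 hh.1) hvq
    fun s hs => mem_C.1 (hQv hs))))
  rcases H.all h with e | e | e | e
  · exact absurd (cs_eq_one_iff.1 e) hZ
  · exact absurd e (s2 h hh.2)
  · exact e ▸ dvd_rfl
  · exact e ▸ dvd_mul_left m n

theorem Hyp.comm {x y : G} (hx : cs[x] = n) (hy : cs[y] = m) : Commute x y := by
  rcases lt_trichotomy n m with h | h | h
  · exact H.comm_aux h hx hy
  · exact absurd (H.cop.eq_one_of_dvd (h ▸ dvd_rfl)) H.hn.ne'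
  · exact (H.symm.comm_aux h hy hx).symm

theorem Hyp.uncrossed {x y : G} {r q : ℕ} (hr : r.Prime) (hq : q.Prime) (hy : cs[y] = n)
    (hyr : ∃ k, orderOf y = r ^ k) (hrn : r ∣ n) (hx : cs[x] = m) (hxq : ∃ k, orderOf x = q ^ k) :
    ∃ a, m = q ^ a := by
  have := Fact.mk hr
  have := Fact.mk hq
  have hrm := H.not_dvd hr hrn
  obtain ⟨K, hK, hKr, hKi, hK1, hK2⟩ := exists_direct_of_not_dvd_relIndex (p := r) Ce[y]
    fun g hg hg' => H.rel' hr hrm hy (mem_C'.1 hg) (coprime_of_pow_of_not_dvd hr hyr hg')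
  have hxy := mem_C'.2 (H.comm hy hx)
  have e : Ce[x].relIndex Ce[y] = m := by rw [relIndex_eq (by rw [hx, hy]; exact H.cop.symm), hx]
  by_cases hqr : q = r
  · have h1 := relIndex_dvd_of_le_left Ce[y] (le_C_iff.2 (hK2 x hxy (hqr ▸ hxq)))
    exact absurd ((coprime_of_pow_of_not_dvd hr hKi hrm).symm.eq_one_of_dvd (e ▸ h1)) H.hm.ne'
  have h1 : ∀ g : K, cs[g] = Ce[(g : G)].relIndex Ce[y] ∧ (cs[g] = 1 ∨ cs[g] = m) := fun g => by
    have c := coprime_of_pow_of_not_dvd hr hyr fun h => hKr (h.trans (K.orderOf_dvd_natCard g.2))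
    rw [cs_subgroup, relIndex_eq' hK (coprime_of_pow_of_not_dvd hr hKi
      (H.rel' hr hrm hy (mem_C'.1 (hK g.2)) c)).symm]
    exact ⟨rfl, H.rel hy (mem_C'.1 (hK g.2)) c⟩
  have hxK := hK1 x hxy (not_dvd_of_eq_pow hr hq (Ne.symm hqr) hxq)
  have h2 := (h1 ⟨x, hxK⟩).1.trans e
  obtain ⟨s, hs, a, ha, -⟩ := S4134.result m H.hm (fun g => (h1 g).2) ⟨_, h2⟩
  by_cases hqm : q ∣ m
  · exact ⟨a, by rw [(Nat.prime_dvd_prime_iff_eq hq hs.out).1 (hq.dvd_of_dvd_pow (ha ▸ hqm)), ha]⟩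
  refine absurd (h2.symm.trans (cs_eq_one_iff.2 (mem_center_iff.2 (central (p := q) (fun g => ?_)
    (by rwa [← orderOf_coe]))))) H.hm.ne'
  rcases (h1 g).2 with h | h <;> rw [h]
  exacts [hq.not_dvd_one, hqm]

theorem Hyp.crossed {x y : G} {p q : ℕ} (hp : p.Prime) (hq : q.Prime) (hx : cs[x] = m)
    (hxq : ∃ k, orderOf x = q ^ k) (hqn : q ∣ n) (hy : cs[y] = n) (hyp : ∃ k, orderOf y = p ^ k)
    (hpm : p ∣ m) (no : ∀ g : G, (∃ k, orderOf g = p ^ k) → cs[g] ≠ m) : False := by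
  have := Fact.mk hp
  have := Fact.mk hq
  have hqm := H.not_dvd hq hqn
  have hpq : p ≠ q := fun h => hqm (h ▸ hpm)
  have cop : ∀ g : G, cs[g] = n → cs[g].Coprime cs[x] := fun g h => by rw [h, hx]; exact H.cop
  have k1 : ∀ g : G, (∃ k, orderOf g = p ^ k) → g ∉ Ce[x].normalCore → cs[g] = n * m := fun g hg hK => by
    rcases H.all g with h | h | h | h
    · exact absurd (core1 (h ▸ Nat.coprime_one_left _) (mem_center_iff.1 (cs_eq_one_iff.1 h) x).symm) hK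
    · exact absurd (core1 (cop g h) (H.comm h hx)) hK
    · exact absurd h (no g hg)
    · exact h
  have k2 : ∀ g ∈ Ce[y], (∃ k, orderOf g = p ^ k) → g ∉ Ce[x].normalCore →
      ¬ q ∣ Ce[g].relIndex Ce[y] := fun g hgy hg hK hd => by
    have h1 := relIndex_mul_index (inf_le_left : Ce[g] ⊓ Ce[y] ≤ _)
    rw [← relIndex_mul_index (inf_le_right : Ce[g] ⊓ Ce[y] ≤ _), inf_relIndex_left, inf_relIndex_right,
      k1 g hg hK, hy, mul_comm n, ← mul_assoc] at h1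
    rw [← Nat.eq_of_mul_eq_mul_right (hy ▸ cs_pos y) h1] at hd
    obtain ⟨u, hu, hu1, hu2⟩ := exists_not_mem_of_dvd_relIndex hq ((hq.dvd_mul.1 hd).resolve_right hqm)
    exact hu2 (mem_C_comm.1 (H.le_of_max (k1 g hg hK) (mem_C'.1 hu)
      (coprime_of_pow_of_pow hp hq hpq hg hu1) (mem_C_comm.1 hgy)))
  have k3 : ∀ h : Ce[y] ⧸ Ce[x].normalCore.subgroupOf Ce[y], ¬ q ∣ cs[h] := by
    intro h
    obtain ⟨h, rfl⟩ := QuotientGroup.mk_surjective h
    obtain ⟨a, b, ha, hb, e, ha', hb'⟩ := exists_p_parts hp h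
    rw [← orderOf_coe] at ha' hb'
    by_cases haK : (a : G) ∈ Ce[x].normalCore
    · have : (h : Ce[y] ⧸ Ce[x].normalCore.subgroupOf Ce[y]) = b := by
        rw [e, QuotientGroup.mk_mul, (QuotientGroup.eq_one_iff a).2 haK, one_mul]
      intro hd
      refine H.rel' hq hqm hy (mem_C'.1 b.2) (coprime_of_pow_of_not_dvd hp hyp hb') ?_
      rw [← cs_subgroup]
      exact (this ▸ hd :).trans (cs_mk_dvd _ b)
    · intro hd
      refine k2 a a.2 ha' haK ?_
      obtain ⟨i, hi⟩ := ha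
      rw [← H.eq_of_max (k1 a ha' haK) (C_le_C_of_mem_zpowers (x := (h : G)) ⟨i, by simp [← hi]⟩),
        ← cs_subgroup]
      exact hd.trans (cs_mk_dvd _ h)
  have hxy := mem_C'.2 (H.comm hy hx)
  have hxK : x ∈ Ce[x].normalCore := fun g => by
    obtain ⟨h, hh, c, hc, rfl⟩ := H1.factorization_of_coprime_index (cop y hy) g
    have h1 := central k3 (τ := ((⟨x, hxy⟩ : Ce[y]) : Ce[y] ⧸ Ce[x].normalCore.subgroupOf Ce[y]))
      (eq_pow_of_dvd hq (orderOf_map_dvd (QuotientGroup.mk' _) _) (by rwa [← orderOf_coe])) (⟨h, hh⟩ : Ce[y])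
    have h2 : h * x * h⁻¹ * x⁻¹ ∈ Ce[x] := normalCore_le _ ((QuotientGroup.eq_one_iff
      (N := Ce[x].normalCore.subgroupOf Ce[y]) (⟨h, hh⟩ * ⟨x, hxy⟩ * ⟨h, hh⟩⁻¹ * ⟨x, hxy⟩⁻¹)).1 (by
      simp only [QuotientGroup.mk_mul, QuotientGroup.mk_inv, h1.eq]; group))
    have h3 : h * c * x * (h * c)⁻¹ = h * x * h⁻¹ * x⁻¹ * x := by rw [mul_assoc h, (mem_C.1 hc).eq]; group
    exact h3 ▸ mul_mem h2 (self_mem_C x)
  obtain ⟨e, he⟩ := hxq
  let M : Subgroup G :=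
    { carrier := {t | t ∈ Ce[x].normalCore ∧ (∀ k ∈ Ce[x].normalCore, Commute k t) ∧ t ^ q ^ e = 1}
      one_mem' := by simp
      mul_mem' := fun {a b} ha hb => ⟨mul_mem ha.1 hb.1, fun k hk => (ha.2.1 k hk).mul_right (hb.2.1 k hk),
        by rw [(hb.2.1 a ha.1).mul_pow, ha.2.2, hb.2.2, one_mul]⟩
      inv_mem' := fun {a} ha => ⟨inv_mem ha.1, fun k hk => (ha.2.1 k hk).inv_right, by simp [ha.2.2]⟩ }
  have : M.Normal := ⟨fun t ht g => ⟨Ce[x].normalCore_normal.conj_mem _ ht.1 g, fun k hk => by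
    simpa [mul_assoc] using (ht.2.1 _ (Ce[x].normalCore_normal.conj_mem _ hk g⁻¹)).conj g,
    by rw [conj_pow, ht.2.2]; simp⟩⟩
  have hM : IsPGroup q (M.subgroupOf Ce[y]) := fun t => ⟨e, Subtype.ext (Subtype.ext t.2.2.2)⟩
  obtain ⟨g, hgy, hg, hgx⟩ := exists_not_mem_of_dvd_relIndex (K := Ce[x]) (H := Ce[y]) hp
    (by rwa [relIndex_eq (cop y hy).symm, hx])
  have := normal_le_C_of_coprime (M.subgroupOf Ce[y]) (x := ⟨g, hgy⟩) (coprime_of_pow_of_not_dvd hq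
    hM.exists_card_eq (by rw [cs_subgroup]; exact k2 g hgy hg fun h => hgx (normalCore_le _ h)))
  exact hgx (mem_C'.2 ((mem_C.1 (this (x := ⟨x, hxy⟩) ⟨hxK, fun k hk => mem_C.1 (normalCore_le _ hk),
    by rw [← he]; exact pow_orderOf_eq_one x⟩)).map Ce[y].subtype))

theorem Hyp.final {x y : G} {r q : ℕ} (hr : r.Prime) (hq : q.Prime) (hy : cs[y] = n)
    (hyr : ∃ k, orderOf y = r ^ k) (hrn : r ∣ n) (hx : cs[x] = m) (hxq : ∃ k, orderOf x = q ^ k) :
    Group.IsNilpotent G ∧ IsPrimePow n ∧ IsPrimePow m := by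
  have pos : ∀ {s a k : ℕ}, 1 < k → k = s ^ a → 0 < a := fun h e => Nat.pos_of_ne_zero fun h0 => by
    simp [h0] at e; omega
  obtain ⟨a, ha⟩ := H.uncrossed hr hq hy hyr hrn hx hxq
  have hqm : q ∣ m := ha ▸ dvd_pow_self q (pos H.hm ha).ne'
  obtain ⟨b, hb⟩ := H.symm.uncrossed hq hr hx hxq hqm hy hyr
  refine ⟨H4.isNilpotent_of_forall_hasNormalPComplement fun s hs => ?_,
    ⟨r, b, hr.prime, pos H.hn hb, hb.symm⟩, ⟨q, a, hq.prime, pos H.hm ha, ha.symm⟩⟩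
  have := Fact.mk hs
  by_cases h1 : s = r
  · subst h1
    refine S4127.result s b (fun g hg => H.not_dvd hs hrn ?_) ⟨y, hyr, hy.trans hb⟩
    have := hg.trans (H.dvd g)
    rwa [hb, pow_succ, Nat.mul_dvd_mul_iff_left (pow_pos hs.pos b)] at this
  by_cases h2 : s = q
  · subst h2
    refine S4127.result s a (fun g hg => H.symm.not_dvd hs hqm ?_) ⟨x, hxq, hx.trans ha⟩
    have := hg.trans (H.symm.dvd g)
    rwa [ha, pow_succ, Nat.mul_dvd_mul_iff_left (pow_pos hs.pos a)] at this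
  refine S4127.result s 0 (fun g hg => ?_) ⟨1, ⟨0, by simp⟩, cs_one⟩
  rcases hs.dvd_mul.1 ((by simpa using hg : s ∣ cs[g]).trans (H.dvd g)) with h | h
  exacts [not_dvd_of_eq_pow hs hr h1 ⟨b, hb⟩ h, not_dvd_of_eq_pow hs hq h2 ⟨a, ha⟩ h]

end

/-- Let G be a finite group whose conjugacy class sizes are exactly 1, n, m and nm for coprime integers n, m > 1. Then G is nilpotent and n and m are prime powers. -/
theorem result {G : Type*} [Group G] [Finite G] (n m : ℕ) (hn : 1 < n) (hm : 1 < m) (hcop : n.Coprime m)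
    (h : Set.range (fun x : G => (Subgroup.centralizer ({x} : Set G)).index) = ({1, n, m, n * m} : Set ℕ)) :
    Group.IsNilpotent G ∧ IsPrimePow n ∧ IsPrimePow m := by
  have H : Hyp G n m := ⟨hn, hm, hcop, fun x => by simpa using h.le ⟨x, rfl⟩, h.ge (by simp)⟩
  obtain ⟨y0, hy0⟩ := h.ge (show n ∈ _ by simp)
  obtain ⟨x0, hx0⟩ := h.ge (show m ∈ _ by simp)
  obtain ⟨y, p, hp, hyp, e, hp'⟩ := H.primary hy0
  obtain ⟨x, q, hq, hxq, e', hq'⟩ := H.symm.primary hx0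
  have hy : cs[y] = n := e ▸ hy0
  have hx : cs[x] = m := e' ▸ hx0
  rcases hp' with h1 | h1
  · exact H.final hp hq hy hyp h1 hx hxq
  have k : ∀ (g : G) (s : ℕ), s.Prime → (∃ k, orderOf g = s ^ k) → s ∣ m → cs[g] = m →
      Group.IsNilpotent G ∧ IsPrimePow n ∧ IsPrimePow m := fun g s hs hg h2 h3 =>
    (H.symm.final hs hp h3 hg h2 hy hyp).imp_right And.symm
  rcases hq' with h2 | h2
  · exact k x q hq hxq h2 hx
  by_contra hc
  exact H.crossed hp hq hx hxq h2 hy hyp h1 fun g hg h3 => hc (k g p hp hg h1 h3)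

end Cfsg.Agent.S4146
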