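import Cfsg.Statements.S0690
import Cfsg.Agent.H91.Zassenhaus

set_option autoImplicit false
open Cfsg

namespace Cfsg.Agent.S0690

/-- Zassenhaus: a perfect non-trivial group of fixed-point-free automorphisms of a finite group is isomorphic to `SL(2,5)`. -/
theorem result {K : Type*} [Group K] [Finite K] (G : Subgroup (MulAut K)) (hfpf : ∀ φ ∈ G, φ ≠ 1 → ∀ k : K, φ k = k → k = 1) (hperf : commutator G = ⊤) (hne : G ≠ ⊥) : Nonempty (G ≃* Matrix.SpecialLinearGroup (Fin 2) (ZMod 5)) := by
  have : Nontrivial K := by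
    by_contra h
    rw [not_nontrivial_iff_subsingleton] at h
    exact hne (eq_bot_iff.mpr fun φ _ => MulEquiv.ext fun k => Subsingleton.elim _ _)
  have hG : H91.HasIntFPF G := H91.hasIntFPF_of_fpf G.subtype fun a ha v hv =>
    hfpf a a.2 (fun e => ha (Subtype.ext e)) v hv
  have : Group.IsPerfect G := ⟨hperf⟩
  have : Nontrivial G := (Subgroup.nontrivial_iff_ne_bot G).mpr hne
  obtain ⟨f, hf, _, hs⟩ := hG.isSolvable_or_sl25.resolve_left (Group.IsPerfect.not_isSolvable G)
  have h1 : Subsingleton (G ⧸ f.range) := by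
    by_contra h
    rw [not_subsingleton_iff_nontrivial] at h
    exact Group.IsPerfect.not_isSolvable _ hs
  have h2 : f.range = ⊤ := QuotientGroup.subgroup_eq_top_of_subsingleton _ h1
  exact ⟨(MulEquiv.ofBijective f ⟨hf, MonoidHom.range_eq_top.mp h2⟩).symm⟩

end Cfsg.Agent.S0690
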