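import Cfsg.Statements.S3344
import Cfsg.Agent.H89.StepA

set_option autoImplicit false
open Cfsg

namespace Cfsg.Agent.S3344

/-- Let G be a finite group with an involution s, L = C_G(s) and Q = O₂(L). Suppose Q is extraspecial of order 32, L/Q is isomorphic to Sym(3), C_Q(X) = ⟨s⟩ for a Sylow 3-subgroup X of L, and s is not weakly closed in Q with respect to G (some conjugate of s other than s lies in Q). Then either G has an elementary abelian normal subgroup of order 8 with quotient isomorphic to PSL(3,2), or G is isomorphic to the alternating group of degree 8 or 9, or to the Mathieu group M₁₂. -/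
theorem result {G : Type*} [Group G] [Finite G]
    (s : G) (hs : orderOf s = 2) (L : Subgroup G) (hL : L = Subgroup.centralizer ({s} : Set G))
    (Q : Subgroup G) (hQ : Q = (Cfsg.pCore 2 L).map L.subtype)
    (hQex : Cfsg.IsExtraspecial 2 Q) (hQcard : Nat.card Q = 32)
    (e : L ⧸ Cfsg.pCore 2 L ≃* Equiv.Perm (Fin 3))
    (X : Sylow 3 L) (hCQX : Q ⊓ Subgroup.centralizer (((X : Subgroup L).map L.subtype : Subgroup G) : Set G) = Subgroup.zpowers s)
    (hnwc : ∃ g : G, g * s * g⁻¹ ∈ Q ∧ g * s * g⁻¹ ≠ s) :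
    (∃ (N : Subgroup G) (hN : N.Normal), IsMulCommutative N ∧ (∀ n ∈ N, n ^ 2 = 1) ∧ Nat.card N = 8 ∧
        Nonempty (G ⧸ N ≃* Matrix.ProjectiveSpecialLinearGroup (Fin 3) (ZMod 2))) ∨
    Nonempty (G ≃* alternatingGroup (Fin 8)) ∨ Nonempty (G ≃* alternatingGroup (Fin 9)) ∨ Cfsg.Spor.IsoM12 G := by
  obtain ⟨g, hg, hne⟩ := hnwc
  have : Fact (Nat.Prime 3) := ⟨by norm_num⟩
  have hsQ : s ∈ Q := (hCQX.ge (Subgroup.mem_zpowers s)).1
  have hLs : ∀ y, y ∈ L ↔ Commute y s := fun y => hL ▸ Subgroup.mem_centralizer_singleton_iff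
  have hQm : ∀ y : L, (y : G) ∈ Q ↔ y ∈ Cfsg.pCore 2 L := fun y =>
    hQ ▸ Subgroup.mem_map_iff_mem L.subtype_injective
  have hQL : Q ≤ L := hQ ▸ Subgroup.map_subtype_le _
  have hn : ∀ y ∈ L, ∀ q ∈ Q, y * q * y⁻¹ ∈ Q := fun y hy q hq =>
    (hQm (⟨y, hy⟩ * ⟨q, hQL hq⟩ * ⟨y, hy⟩⁻¹)).2
      (Subgroup.Normal.conj_mem inferInstance _ ((hQm ⟨q, hQL hq⟩).1 hq) _)
  have hss := H10.mul_self_of_orderOf_two hs
  have hxs : ∃ hz : s ∈ Q, H89.XS 2 (⟨s, hz⟩ : Q) := ⟨hsQ, H89.XS.of_isExtraspecial' hQex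
    (Subgroup.mem_center_iff.2 fun q => Subtype.ext ((hLs q).1 (hQL q.2))) fun e => by
      rw [show s = 1 from congrArg Subtype.val e] at hs; simp at hs⟩
  have hc : Nat.card L = 192 := by
    rw [(Cfsg.pCore 2 L).card_eq_card_quotient_mul_card_subgroup, Nat.card_congr e.toEquiv,
      ← Subgroup.card_map_of_injective L.subtype_injective, ← hQ, hQcard, Nat.card_perm]
    simp [Nat.factorial]
  have hX : Nat.card X ≤ 3 := by
    obtain ⟨n, h1⟩ := IsPGroup.iff_card.1 X.2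
    have h2 := (X : Subgroup L).card_subgroup_dvd_card
    rw [h1, hc] at h2
    rcases n with _ | _ | n
    · exact h1.trans_le (by norm_num)
    · exact h1.trans_le (by norm_num)
    · exact absurd ((pow_dvd_pow 3 (show 2 ≤ n + 1 + 1 by omega)).trans h2) (by norm_num)
  have hxq : ∀ x ∈ L, x ^ 3 = 1 → x ≠ 1 → H89.XQ Q s x := fun x hx h3 h1 => by
    refine ⟨hxs, hQcard, hn x hx, h3, (hLs x).1 hx, fun q hq hc => ?_⟩
    have ho : orderOf (⟨x, hx⟩ : L) = 3 :=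
      orderOf_eq_prime (Subtype.ext h3) fun e => h1 (congrArg Subtype.val e)
    obtain ⟨Y, hY⟩ := (IsPGroup.of_card (p := 3) (n := 1) (G := Subgroup.zpowers (⟨x, hx⟩ : L))
      (by rw [Nat.card_zpowers, ho, pow_one])).exists_le_sylow
    obtain ⟨c, hc'⟩ := MulAction.exists_smul_eq L Y X
    have hm : c * ⟨x, hx⟩ * c⁻¹ ∈ (X : Subgroup L) := by
      rw [← hc']
      exact Subgroup.smul_mem_pointwise_smul _ (MulAut.conj c) _ (hY (Subgroup.mem_zpowers _))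
    have hz := Subgroup.eq_of_le_of_card_ge (Subgroup.zpowers_le.2 hm)
      (by rwa [Nat.card_zpowers, H10.orderOf_conj, ho])
    have h5 : (c : G) * q * (c : G)⁻¹ ∈ Subgroup.zpowers s := hCQX.le ⟨hn c c.2 q hq, by
      rintro _ ⟨y, hy, rfl⟩
      rw [← hz] at hy
      obtain ⟨n, rfl⟩ := hy
      simpa using ((hc.map (MulAut.conj (c : G)).toMonoidHom).zpow_right n).symm.eq⟩
    refine (H89.eq_of_mem_zpowers_two hss h5).imp conj_eq_one_iff.1 fun e => ?_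
    rw [mul_inv_eq_iff_eq_mul, ← ((hLs c).1 c.2).eq] at e
    exact mul_left_cancel e
  obtain ⟨x0, hx0⟩ := exists_prime_orderOf_dvd_card' (G := L) 3 (by rw [hc]; norm_num)
  obtain ⟨t, t1, t2, t3⟩ := (hxq x0 x0.2 (congrArg Subtype.val (hx0 ▸ pow_orderOf_eq_one x0 :
    x0 ^ 3 = 1)) fun e => by rw [show x0 = 1 from Subtype.ext e] at hx0; simp at hx0).exists_outer
    hg hne
  let π : L →* Equiv.Perm (Fin 3) := e.toMonoidHom.comp (QuotientGroup.mk' _)
  have hπ : ∀ y : L, π y = 1 ↔ (y : G) ∈ Q := fun y => by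
    rw [hQm, ← QuotientGroup.eq_one_iff, ← e.map_eq_one_iff]; rfl
  have key : ∀ τ : Equiv.Perm (Fin 3), τ * τ = 1 → τ ≠ 1 →
      ∃ σ, (σ * τ * σ⁻¹ * τ) ^ 3 = 1 ∧ (σ * τ * σ⁻¹ * τ) ^ 4 ≠ 1 := by decide +kernel
  obtain ⟨t, ht, rfl⟩ : ∃ t' : L, t' * t' = 1 ∧ (t' : G) = t := ⟨⟨t, (hLs t).2 t1⟩, Subtype.ext t2, rfl⟩
  obtain ⟨σ, h1, h2⟩ := key (π t) (by rw [← map_mul, ht, map_one]) fun e => t3 ((hπ t).1 e)
  obtain ⟨c, rfl⟩ : ∃ c, π c = σ := (e.surjective.comp (QuotientGroup.mk'_surjective _)) σ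
  rw [← map_inv, ← map_mul, ← map_mul, ← map_mul, ← map_pow] at h1 h2
  refine (hxq _ ((c * t * c⁻¹ * t) ^ 4).2 ?_ fun e => h2 ?_).main t2 ?_ t1 (hn t t.2)
    (hL ▸ hc.le) hg hne
  · have := H89.xs_four hxs ((hπ _).1 h1)
    rwa [Subgroup.coe_pow, ← pow_mul, mul_comm, pow_mul, ← Subgroup.coe_pow] at this
  · rw [show (c * t * c⁻¹ * t) ^ 4 = 1 from Subtype.ext e, map_one]
  · have : t * (c * t * c⁻¹ * t) * t⁻¹ = (c * t * c⁻¹ * t)⁻¹ := by
      simp only [mul_inv_rev, inv_inv, inv_eq_of_mul_eq_one_right ht, mul_assoc, ht, mul_one]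
    rw [← Subgroup.coe_inv, ← Subgroup.coe_mul, ← Subgroup.coe_mul, ← conj_pow, this, inv_pow,
      Subgroup.coe_inv]

end Cfsg.Agent.S3344
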