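import Cfsg.Statements.S3376
import Cfsg.Agent.H50.CTrans

set_option autoImplicit false
open Cfsg

namespace Cfsg.Agent.S3376

open Subgroup

structure W {X : Type*} [Group X] (a b c s t : X) : Prop where
  a3 : a ^ 3 = 1
  ab : Commute a b
  sa : s * a * s⁻¹ = b
  sb : s * b * s⁻¹ = c
  s3 : s ^ 3 = 1
  t2 : t * t = 1
  ta : t * a * t⁻¹ = a
  ts : t * s * t⁻¹ = s⁻¹

namespace W

variable {X : Type*} [Group X] {a b c s t : X} (h : W a b c s t)
include h

theorem sc : s * c * s⁻¹ = a := by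
  rw [← h.sb, ← h.sa]
  calc s * (s * (s * a * s⁻¹) * s⁻¹) * s⁻¹ = s ^ 3 * a * (s ^ 3)⁻¹ := by rw [pow_three]; group
    _ = a := by rw [h.s3]; simp

theorem b3 : b ^ 3 = 1 := by rw [← h.sa, conj_pow, h.a3]; simp
theorem c3 : c ^ 3 = 1 := by rw [← h.sb, conj_pow, h.b3]; simp
theorem bc : Commute b c := by
  have := (H50.commute_conj_iff s).2 h.ab
  rwa [h.sa, h.sb] at this
theorem ca : Commute c a := by
  have := (H50.commute_conj_iff s).2 h.bc
  rwa [h.sb, h.sc] at this
theorem tb : t * b * t⁻¹ = c := by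
  calc t * b * t⁻¹ = (t * s * t⁻¹) * (t * a * t⁻¹) * (t * s * t⁻¹)⁻¹ := by rw [← h.sa]; group
    _ = c := by rw [h.ts, h.ta, ← h.sc]; group
theorem tc : t * c * t⁻¹ = b := by
  rw [← h.tb, H50.inv_eq_of_mul_self h.t2, H50.iconj_iconj h.t2]

theorem comm : ∀ x ∈ closure {a, b, c}, ∀ y ∈ closure ({a, b, c} : Set X), Commute x y := by
  have k : ∀ x ∈ ({a, b, c} : Set X), ∀ y ∈ ({a, b, c} : Set X), Commute x y := by
    rintro x (rfl | rfl | rfl) y (rfl | rfl | rfl)
    exacts [.refl _, h.ab, h.ca.symm, h.ab.symm, .refl _, h.bc, h.ca, h.bc.symm, .refl _]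
  exact fun x hx y hy => H50.commute_closure (fun d hd => (H50.commute_closure (k d hd) hx).symm) hy

omit h in
theorem conj_mem {g : X} {T : Set X} (hT : ∀ x ∈ T, g * x * g⁻¹ ∈ closure T) :
    ∀ x ∈ closure T, g * x * g⁻¹ ∈ closure T := fun _ hx =>
  (closure_le (K := (closure T).comap (MulAut.conj g).toMonoidHom)).2 (fun y hy => hT y hy) hx

theorem cardA [Finite X] : Nat.card (closure ({a, b, c} : Set X)) ≤ 27 := by
  have e : closure ({a, b, c} : Set X) = zpowers a ⊔ (zpowers b ⊔ zpowers c) := by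
    simp only [zpowers_eq_closure, ← Subgroup.closure_union]; rfl
  have h1 : Nat.card (zpowers b ⊔ zpowers c : Subgroup X) ≤ 3 * 3 :=
    (H50.card_sup_le (H50.zpowers_le_normalizer fun n hn => by
      obtain ⟨k, rfl⟩ := mem_zpowers_iff.1 hn
      rw [H50.conj_eq_iff_commute.2 (h.bc.zpow_right k)]; exact hn)).trans
      (Nat.mul_le_mul (H50.card_zpowers_le (by norm_num) h.b3) (H50.card_zpowers_le (by norm_num) h.c3))
  rw [e]
  refine (H50.card_sup_le (H50.zpowers_le_normalizer fun n hn => ?_)).trans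
    (Nat.mul_le_mul (H50.card_zpowers_le (by norm_num) h.a3) h1)
  rw [H50.conj_eq_iff_commute.2 (h.comm a (subset_closure (by simp)) n (e ▸ mem_sup_right hn))]; exact hn

theorem sA : ∀ x ∈ closure ({a, b, c} : Set X), s * x * s⁻¹ ∈ closure ({a, b, c} : Set X) :=
  conj_mem (by
    rintro x (rfl | rfl | rfl)
    · rw [h.sa]; exact subset_closure (by simp)
    · rw [h.sb]; exact subset_closure (by simp)
    · rw [h.sc]; exact subset_closure (by simp))

theorem cardP [Finite X] : Nat.card (zpowers s ⊔ closure ({a, b, c} : Set X) : Subgroup X) ≤ 81 :=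
  (H50.card_sup_le (H50.zpowers_le_normalizer h.sA)).trans
    (Nat.mul_le_mul (H50.card_zpowers_le (by norm_num) h.s3) h.cardA)

theorem card_le [Finite X] : Nat.card (closure ({a, s, t} : Set X)) ≤ 162 := by
  have e : zpowers s ⊔ closure ({a, b, c} : Set X) = closure {s, a, b, c} := by
    simp only [zpowers_eq_closure, ← Subgroup.closure_union]; rfl
  have h1 : closure ({a, s, t} : Set X) ≤ zpowers t ⊔ closure {s, a, b, c} := by
    rw [closure_le]
    rintro x (rfl | rfl | rfl)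
    · exact mem_sup_right (subset_closure (by simp))
    · exact mem_sup_right (subset_closure (by simp))
    · exact mem_sup_left (mem_zpowers _)
  refine (card_le_of_le h1).trans ((H50.card_sup_le (H50.zpowers_le_normalizer (conj_mem ?_))).trans
    (Nat.mul_le_mul (H50.card_zpowers_le (n := 2) (by norm_num) (by rw [sq, h.t2])) (e ▸ h.cardP)))
  rintro x (rfl | rfl | rfl | rfl)
  · rw [h.ts]; exact inv_mem (subset_closure (by simp))
  · rw [h.ta]; exact subset_closure (by simp)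
  · rw [h.tb]; exact subset_closure (by simp)
  · rw [h.tc]; exact subset_closure (by simp)

theorem le_cardA [Finite X] (hn : a * b * c ≠ 1) : 27 ≤ Nat.card (closure ({a, b, c} : Set X)) := by
  let : CommGroup (closure ({a, b, c} : Set X)) :=
    { (inferInstance : Group _) with mul_comm := fun x y => Subtype.ext (h.comm _ x.2 _ y.2).eq }
  let σ : closure ({a, b, c} : Set X) →* closure ({a, b, c} : Set X) :=
    ((MulAut.conj s).toMonoidHom.comp (Subgroup.subtype _)).codRestrict _ fun x => h.sA _ x.2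
  let A : closure ({a, b, c} : Set X) := ⟨a, subset_closure (by simp)⟩
  let B : closure ({a, b, c} : Set X) := ⟨b, subset_closure (by simp)⟩
  let C : closure ({a, b, c} : Set X) := ⟨c, subset_closure (by simp)⟩
  have hA : σ A = B := Subtype.ext h.sa
  have hB : σ B = C := Subtype.ext h.sb
  have hC : σ C = A := Subtype.ext h.sc
  have A3 : A ^ 3 = 1 := Subtype.ext h.a3
  have B3 : B ^ 3 = 1 := Subtype.ext h.b3
  have C3 : C ^ 3 = 1 := Subtype.ext h.c3
  have red : ∀ (x : closure ({a, b, c} : Set X)) (n : ℕ), x ^ 3 = 1 → x ^ n = x ^ (n % 3) :=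
    fun x n hx => pow_eq_pow_mod n hx
  have key : ∀ i j k : ℕ, A ^ i * B ^ j * C ^ k = 1 → i % 3 = 0 ∧ j % 3 = 0 ∧ k % 3 = 0 := by
    intro i j k r0
    have r1 := congrArg σ r0
    simp only [map_mul, map_pow, hA, hB, hC, map_one] at r1
    have r2 := congrArg σ r1
    simp only [map_mul, map_pow, hA, hB, hC, map_one] at r2
    by_contra hc
    have ex : ∀ i j k : Fin 3, ¬ (i.val = 0 ∧ j.val = 0 ∧ k.val = 0) → ∃ x y z : Fin 3,
        (i * x + (k * y + j * z) : ℕ) % 3 = 1 ∧ (j * x + (i * y + k * z) : ℕ) % 3 = 1 ∧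
        (k * x + (j * y + i * z) : ℕ) % 3 = 1 := by decide
    obtain ⟨x, y, z, e1, e2, e3⟩ := ex ⟨i % 3, Nat.mod_lt _ (by norm_num)⟩ ⟨j % 3, Nat.mod_lt _ (by norm_num)⟩
      ⟨k % 3, Nat.mod_lt _ (by norm_num)⟩ hc
    rw [red A i A3, red B j B3, red C k C3] at r0
    rw [red B i B3, red C j C3, red A k A3] at r1
    rw [red C i C3, red A j A3, red B k B3] at r2
    dsimp only at e1 e2 e3
    generalize i % 3 = i at *
    generalize j % 3 = j at *
    generalize k % 3 = k at *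
    have : A ^ (i * x + (k * y + j * z)) * B ^ (j * x + (i * y + k * z)) * C ^ (k * x + (j * y + i * z)) =
        (A ^ i * B ^ j * C ^ k) ^ x.val * (B ^ i * C ^ j * A ^ k) ^ y.val * (C ^ i * A ^ j * B ^ k) ^ z.val := by
      simp only [pow_add, mul_pow, pow_mul]; ac_rfl
    rw [r0, r1, r2, red A _ A3, red B _ B3, red C _ C3, e1, e2, e3] at this
    exact hn (by simpa using congrArg Subtype.val this)
  have inj : Function.Injective fun v : Fin 3 × Fin 3 × Fin 3 => A ^ v.1.val * B ^ v.2.1.val * C ^ v.2.2.val := by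
    rintro ⟨i, j, k⟩ ⟨i', j', k'⟩ e
    dsimp only at e
    have := key (i + 2 * i') (j + 2 * j') (k + 2 * k') (by
      calc A ^ (i + 2 * i' : ℕ) * B ^ (j + 2 * j' : ℕ) * C ^ (k + 2 * k' : ℕ)
          = (A ^ i.val * B ^ j.val * C ^ k.val) * (A ^ (2 * i' : ℕ) * B ^ (2 * j' : ℕ) * C ^ (2 * k' : ℕ)) := by
            simp only [pow_add]; ac_rfl
        _ = (A ^ 3) ^ i'.val * (B ^ 3) ^ j'.val * (C ^ 3) ^ k'.val := by
            rw [e]; simp only [← pow_mul, show ∀ n, 3 * n = n + 2 * n from fun n => by ring, pow_add]; ac_rfl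
        _ = 1 := by simp [A3, B3, C3])
    ext <;> dsimp only <;> omega
  simpa using Nat.card_le_card_of_injective _ inj

theorem eq_top [Finite X] (hn : a * b * c ≠ 1) (hX : Nat.card X = 162) : closure ({a, s, t} : Set X) = ⊤ := by
  have h1 := le_antisymm h.cardA (h.le_cardA hn)
  have h2 := h.cardP
  have hs : s ∉ closure ({a, b, c} : Set X) := fun k => by
    have e := H50.conj_eq_iff_commute.2 (h.comm s k a (subset_closure (by simp)))
    have e' := H50.conj_eq_iff_commute.2 (h.comm s k b (subset_closure (by simp)))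
    rw [h.sa] at e
    rw [h.sb] at e'
    exact hn (by rw [e', e, ← h.a3, pow_three, mul_assoc])
  set P := zpowers s ⊔ closure ({a, b, c} : Set X) with hP
  have h3 := (closure ({a, b, c} : Set X)).subgroupOf P |>.index_mul_card
  rw [Nat.card_congr (subgroupOfEquivOfLe (le_sup_right : _ ≤ P)).toEquiv, h1] at h3
  have hsP : s ∈ P := mem_sup_left (mem_zpowers s)
  have h4 : Nat.card P = 81 := by
    have := Nat.card_pos (α := P)
    have i1 : ((closure ({a, b, c} : Set X)).subgroupOf P).index ≠ 1 := fun k => hs (by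
      have : (⟨s, hsP⟩ : P) ∈ (closure ({a, b, c} : Set X)).subgroupOf P := by
        rw [index_eq_one.1 k]; trivial
      exact this)
    have i2 : ((closure ({a, b, c} : Set X)).subgroupOf P).index ≠ 2 := fun k => hs (by
      have : s ^ 2 ∈ closure ({a, b, c} : Set X) := sq_mem_of_index_two k ⟨s, hsP⟩
      have := mul_mem this this
      rwa [← pow_add, show 2 + 2 = 3 + 1 from rfl, pow_succ, h.s3, one_mul] at this)
    omega
  have ha : a ∈ closure ({a, s, t} : Set X) := subset_closure (by simp)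
  have hs' : s ∈ closure ({a, s, t} : Set X) := subset_closure (by simp)
  have ht : t ∈ closure ({a, s, t} : Set X) := subset_closure (by simp)
  have hb : b ∈ closure ({a, s, t} : Set X) := h.sa ▸ mul_mem (mul_mem hs' ha) (inv_mem hs')
  have h5 : P ≤ closure ({a, s, t} : Set X) := sup_le (zpowers_le.2 hs') ((closure_le _).2 (by
    rintro x (rfl | rfl | rfl)
    exacts [ha, hb, h.sb ▸ mul_mem (mul_mem hs' hb) (inv_mem hs')]))
  have h6 := card_dvd_of_le h5
  have h7 : 2 ∣ Nat.card (closure ({a, s, t} : Set X)) := by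
    have : orderOf t = 2 := H50.orderOf_two_of h.t2 fun k => hs (by
      have := h.ts
      rw [k, one_mul, inv_one, mul_one] at this
      have e : s = 1 := by rw [← h.s3, pow_three]; nth_rewrite 3 [this]; simp
      rw [e]; exact one_mem _)
    rw [← this]; exact orderOf_dvd_natCard _ ht
  rw [h4] at h6
  refine eq_top_of_le_card _ (hX ▸ Nat.le_of_dvd Nat.card_pos ?_)
  exact Nat.Coprime.mul_dvd_of_dvd_of_dvd (by norm_num : Nat.Coprime 2 81) h7 h6

end W

theorem equiv_of_W {X Y : Type*} [Group X] [Group Y] [Finite X] [Finite Y] {a b c s t : X}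
    {a' b' c' s' t' : Y} (h : W a b c s t) (h' : W a' b' c' s' t') (hn : a * b * c ≠ 1)
    (hn' : a' * b' * c' ≠ 1) (hX : Nat.card X = 162) (hY : Nat.card Y = 162) : Nonempty (X ≃* Y) := by
  have k : W (a, a') (b, b') (c, c') (s, s') (t, t') :=
    ⟨Prod.ext h.a3 h'.a3, Prod.ext h.ab h'.ab, Prod.ext h.sa h'.sa, Prod.ext h.sb h'.sb,
      Prod.ext h.s3 h'.s3, Prod.ext h.t2 h'.t2, Prod.ext h.ta h'.ta, Prod.ext h.ts h'.ts⟩
  refine H50.nonempty_equiv_of_graph (closure {(a, a'), (s, s'), (t, t')}) ?_ ?_ (hX ▸ k.card_le)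
    (hY ▸ k.card_le)
  · rw [MonoidHom.map_closure]; simpa [Set.image_insert_eq] using h.eq_top hn hX
  · rw [MonoidHom.map_closure]; simpa [Set.image_insert_eq] using h'.eq_top hn' hY

/-- Let G be a group of order 162 = 3⁴·2 with Sylow 3-subgroup S and Sylow 2-subgroup T, having an elementary abelian normal subgroup J of order 27, such that Z = Z(S) has order 3, Z centralizes T, and C_S(T) ≠ S. Then G is isomorphic to the centralizer in Sym(9) of a product of three disjoint 3-cycles. -/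
theorem result {G : Type*} [Group G] [Finite G] (hG : Nat.card G = 162)
    (S : Sylow 3 G) (T : Sylow 2 G) (J : Subgroup G) [hJn : J.Normal] (hJcomm : IsMulCommutative J)
    (hJexp : ∀ a ∈ J, a ^ 3 = 1) (hJcard : Nat.card J = 27)
    (Z : Subgroup G) (hZ : Z = (S : Subgroup G) ⊓ Subgroup.centralizer ((S : Subgroup G) : Set G)) (hZcard : Nat.card Z = 3)
    (hZT : Z ≤ Subgroup.centralizer ((T : Subgroup G) : Set G))
    (hST : (S : Subgroup G) ⊓ Subgroup.centralizer ((T : Subgroup G) : Set G) ≠ S) :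
    Nonempty (G ≃* Subgroup.centralizer ({Equiv.swap (0 : Fin 9) 1 * Equiv.swap 1 2 * Equiv.swap 3 4 * Equiv.swap 4 5 * Equiv.swap 6 7 * Equiv.swap 7 8} : Set (Equiv.Perm (Fin 9)))) := by
  have : Fact (Nat.Prime 3) := ⟨by norm_num⟩
  have cS : Nat.card S = 81 := by
    rw [S.card_eq_multiplicity, hG, Nat.factorization_def _ (by norm_num),
      show padicValNat 3 162 = 4 by decide +kernel]; norm_num
  have cT : Nat.card T = 2 := by
    rw [T.card_eq_multiplicity, hG, Nat.factorization_def _ (by norm_num),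
      show padicValNat 2 162 = 1 by decide +kernel]; norm_num
  have iS : (S : Subgroup G).index = 2 := by
    have := (S : Subgroup G).index_mul_card; rw [cS, hG] at this; omega
  have nS := normal_of_index_eq_two iS
  have JS : J ≤ S := (IsPGroup.of_card (n := 3) hJcard).le_sylow_of_normal S
  have Jc : ∀ x ∈ J, ∀ y ∈ J, Commute x y := fun x hx y hy => setLike_mul_comm hx hy
  obtain ⟨t, htT, ht1, hT⟩ : ∃ t ∈ (T : Subgroup G), t ≠ 1 ∧ ∀ x ∈ (T : Subgroup G), x = 1 ∨ x = t := by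
    obtain ⟨t, ht, hu⟩ := (Nat.card_eq_two_iff' (1 : T)).1 cT
    exact ⟨t, t.2, fun e => ht (Subtype.ext e), fun x hx => or_iff_not_imp_left.2 fun e =>
      congrArg Subtype.val (hu ⟨x, hx⟩ fun k => e (congrArg Subtype.val k))⟩
  have t2 : t * t = 1 := (hT _ (mul_mem htT htT)).resolve_right (by simpa using ht1)
  have ti := H50.inv_eq_of_mul_self t2
  -- `S = J ⟨s⟩`
  have iJ : (J.subgroupOf S).index = 3 := by
    have := (J.subgroupOf S).index_mul_card
    rw [Nat.card_congr (subgroupOfEquivOfLe JS).toEquiv, hJcard, cS] at this; omega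
  have dec : ∀ s ∈ (S : Subgroup G), s ∉ J → ∀ x ∈ (S : Subgroup G), x ∈ J ∨ x * s⁻¹ ∈ J ∨ x * s ∈ J := by
    intro s hs hs' x hx
    have q : ∀ {Q : Type _} [Group Q], Nat.card Q = 3 → ∀ u v : Q, u ≠ 1 → v = 1 ∨ v * u⁻¹ = 1 ∨ v * u = 1 := by
      intro Q _ hQ u v hu
      classical
      have : Finite Q := Nat.finite_of_card_ne_zero (by omega)
      have ho : orderOf u = 3 := orderOf_eq_prime (by rw [← hQ]; exact pow_card_eq_one') hu
      have : v ∈ zpowers u := by
        rw [eq_top_of_card_eq (zpowers u) (by rw [Nat.card_zpowers, ho, hQ])]; trivial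
      obtain ⟨k, hk, rfl⟩ : ∃ k < 3, u ^ k = v := by
        simpa [ho] using (mem_zpowers_iff_mem_range_orderOf.1 this)
      interval_cases k
      · simp
      · simp
      · exact Or.inr (Or.inr (by rw [← pow_succ]; simpa [ho] using pow_orderOf_eq_one u))
    have : (J.subgroupOf S).Normal := hJn.subgroupOf _
    have := q (Q := S ⧸ J.subgroupOf S) iJ ((⟨s, hs⟩ : S) : _) ((⟨x, hx⟩ : S) : _)
      (by rwa [Ne, QuotientGroup.eq_one_iff])
    simp only [← QuotientGroup.mk_inv, ← QuotientGroup.mk_mul, QuotientGroup.eq_one_iff] at this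
    exact this
  have cen : ∀ s ∈ (S : Subgroup G), s ∉ J → ∀ x ∈ J, Commute s x → x ∈ Z := by
    intro s hs hs' x hx c
    rw [hZ]
    refine ⟨JS hx, fun y hy => ?_⟩
    rcases dec s hs hs' y hy with k | k | k
    · exact Jc _ k _ hx
    · simpa using ((Jc _ k _ hx).mul_left c).eq
    · simpa using ((Jc _ k _ hx).mul_left c.inv_left).eq
  have Zt : ∀ z ∈ Z, t * z * t⁻¹ = z := fun z hz => H50.conj_eq_iff_commute.2 (hZT hz t htT)
  obtain ⟨s₀, hs₀, hs₀'⟩ : ∃ s ∈ (S : Subgroup G), s ∉ J := by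
    by_contra hc; push Not at hc
    have := card_le_of_le (show (S : Subgroup G) ≤ J from hc)
    omega
  let : CommGroup J := { (inferInstance : Group J) with mul_comm := fun x y => Subtype.ext (Jc _ x.2 _ y.2).eq }
  -- the norm map is not trivial
  have norm : ∀ s ∈ (S : Subgroup G), s ∉ J → ∃ a ∈ J, a * (s * a * s⁻¹) * (s * (s * a * s⁻¹) * s⁻¹) ≠ 1 := by
    intro s hs hs'
    let δ : J →* J := (MulAut.conjNormal s : MulAut J).toMonoidHom / MonoidHom.id J
    have hδ : ∀ x : J, (δ x : G) = s * x * s⁻¹ * (x : G)⁻¹ := fun x => by simp [δ, div_eq_mul_inv]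
    have k1 : Nat.card δ.ker ≤ 3 := by
      rw [← hZcard]
      exact Nat.card_le_card_of_injective (fun x => ⟨x.1.1, cen s hs hs' _ x.1.2
        (H50.conj_eq_iff_commute.1 (mul_inv_eq_one.1 ((hδ _).symm.trans (congrArg Subtype.val x.2))))⟩)
        fun x y e => Subtype.ext (Subtype.ext (Subtype.mk.inj e))
    by_contra hc; push Not at hc
    have k2 : δ.range ≤ δ.ker := by
      rintro _ ⟨x, rfl⟩
      refine Subtype.ext ?_
      have e := hc x x.2
      have m1 := hJn.conj_mem _ x.2 s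
      have e3 := hJexp _ m1
      rw [hδ, hδ]
      change _ = 1
      calc s * (s * x * s⁻¹ * (x : G)⁻¹) * s⁻¹ * (s * x * s⁻¹ * (x : G)⁻¹)⁻¹
          = s * (s * x * s⁻¹) * s⁻¹ * ((s * x * s⁻¹)⁻¹ * x) * (s * x * s⁻¹)⁻¹ := by group
        _ = s * (s * x * s⁻¹) * s⁻¹ * (x * (s * x * s⁻¹)) * ((s * x * s⁻¹) ^ 3)⁻¹ := by
            rw [(Jc _ (inv_mem m1) _ x.2).eq, pow_three]; group
        _ = 1 := by
            rw [e3, inv_one, mul_one, (Jc _ (hJn.conj_mem _ m1 s) _ (mul_mem x.2 m1)).eq, e]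
    have k3 := card_le_of_le k2
    have k4 := δ.ker.index_mul_card
    rw [index_ker, hJcard] at k4
    nlinarith
  obtain ⟨s, hs, hs', ts⟩ : ∃ s ∈ (S : Subgroup G), s ∉ J ∧ t * s * t⁻¹ = s⁻¹ := by
    have m := nS.conj_mem _ hs₀ t
    rcases dec s₀ hs₀ hs₀' _ m with k | k | k
    · exact absurd (by simpa [ti, mul_assoc, H50.mul_mul_cancel_of_mul_self t2, t2] using hJn.conj_mem _ k t) hs₀'
    · exfalso
      -- `t` centralises `J`
      have s3 : s₀ ^ 3 ∈ J := by
        have : (J.subgroupOf S).Normal := hJn.subgroupOf _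
        have := (J.subgroupOf S).pow_index_mem ⟨s₀, hs₀⟩
        rwa [iJ] at this
      have z1 : ∀ y ∈ J, t * y * t⁻¹ = y⁻¹ → s₀ * y * s₀⁻¹ * y⁻¹ = 1 → y = 1 := fun y hy e c => by
        rw [Zt y (cen s₀ hs₀ hs₀' y hy (H50.conj_eq_iff_commute.1 (mul_inv_eq_one.1 c)))] at e
        rw [← hJexp y hy, pow_three]; nth_rewrite 3 [e]; simp
      have z2 : ∀ y ∈ J, t * y * t⁻¹ = y⁻¹ →
          t * (s₀ * y * s₀⁻¹ * y⁻¹) * t⁻¹ = (s₀ * y * s₀⁻¹ * y⁻¹)⁻¹ := fun y hy e => by
        have m1 := hJn.conj_mem _ (inv_mem hy) s₀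
        calc t * (s₀ * y * s₀⁻¹ * y⁻¹) * t⁻¹ = (t * s₀ * t⁻¹ * s₀⁻¹) * (s₀ * (t * y * t⁻¹) * s₀⁻¹) *
              (t * s₀ * t⁻¹ * s₀⁻¹)⁻¹ * (t * y * t⁻¹)⁻¹ := by group
          _ = s₀ * y⁻¹ * s₀⁻¹ * y := by rw [e, H50.conj_eq_iff_commute.2 (Jc _ k _ m1), inv_inv]
          _ = _ := by rw [(Jc _ m1 _ hy).eq]; group
      have z3 : ∀ y ∈ J, t * y * t⁻¹ = y⁻¹ → y = 1 := fun y hy e => by
        have d : ∀ y ∈ J, s₀ * y * s₀⁻¹ * y⁻¹ ∈ J := fun y hy => mul_mem (hJn.conj_mem _ hy _) (inv_mem hy)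
        refine z1 y hy e (z1 _ (d y hy) (z2 y hy e) (z1 _ (d _ (d y hy)) (z2 _ (d y hy) (z2 y hy e)) ?_))
        let σ : J →* J := (MulAut.conjNormal s₀ : MulAut J).toMonoidHom
        have e3 : σ (σ (σ ⟨y, hy⟩)) = ⟨y, hy⟩ := Subtype.ext (by
          change s₀ * (s₀ * (s₀ * y * s₀⁻¹) * s₀⁻¹) * s₀⁻¹ = y
          conv_rhs => rw [← H50.conj_eq_iff_commute.2 (Jc _ s3 _ hy), pow_three]
          group)
        have c3 : ∀ x : J, x * x * x = 1 := fun x => Subtype.ext (by
          have := hJexp _ x.2; rwa [pow_three'] at this)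
        have : ∀ Y : J, σ (σ (σ Y)) = Y → σ (σ (σ Y * Y⁻¹) * (σ Y * Y⁻¹)⁻¹) *
            (σ (σ Y * Y⁻¹) * (σ Y * Y⁻¹)⁻¹)⁻¹ = 1 := fun Y hY => by
          simp only [map_mul, map_inv, mul_inv, inv_inv, hY]
          calc _ = (Y * Y⁻¹) * (σ Y * σ Y * σ Y) * ((σ (σ Y))⁻¹ * (σ (σ Y))⁻¹ * (σ (σ Y))⁻¹) := by
                simp only [mul_comm, mul_left_comm, mul_assoc]
            _ = 1 := by rw [c3, c3]; simp
        exact congrArg Subtype.val (this _ e3)
      have inv : ∀ x : G, t * (t * x * t⁻¹ * x⁻¹) * t⁻¹ = (t * x * t⁻¹ * x⁻¹)⁻¹ := fun x => by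
        simp [ti, mul_assoc, H50.mul_mul_cancel_of_mul_self t2]
      have tJ : ∀ x ∈ J, Commute t x := fun x hx => H50.conj_eq_iff_commute.1 (mul_inv_eq_one.1
        (z3 _ (mul_mem (hJn.conj_mem _ hx _) (inv_mem hx)) (inv x)))
      have ts : Commute t s₀ := H50.conj_eq_iff_commute.1 (mul_inv_eq_one.1 (z3 _ k (inv s₀)))
      refine hST (inf_eq_left.2 fun x hx y hy => ?_)
      rcases hT y hy with rfl | rfl
      · simp
      rcases dec s₀ hs₀ hs₀' x hx with c | c | c
      · exact tJ _ c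
      · simpa using ((tJ _ c).mul_right ts).eq
      · simpa using ((tJ _ c).mul_right ts.inv_right).eq
    · refine ⟨s₀ * (t * s₀⁻¹ * t⁻¹), mul_mem hs₀ (nS.conj_mem _ (inv_mem hs₀) _), fun c => ?_, ?_⟩
      · have c2 : s₀ * s₀ ∈ J := by
          have := mul_mem c k
          rwa [show s₀ * (t * s₀⁻¹ * t⁻¹) * (t * s₀ * t⁻¹ * s₀) = s₀ * s₀ by group] at this
        have : (J.subgroupOf S).Normal := hJn.subgroupOf _
        have c3 := (J.subgroupOf S).pow_index_mem ⟨s₀, hs₀⟩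
        rw [iJ] at c3
        replace c3 : s₀ ^ 3 ∈ J := c3
        exact hs₀' (by simpa [pow_three, mul_assoc] using mul_mem c3 (inv_mem c2))
      · simp [ti, mul_assoc, t2, ← mul_assoc t t]
  have s3 : s ^ 3 = 1 := by
    have : (J.subgroupOf S).Normal := hJn.subgroupOf _
    have c3 := (J.subgroupOf S).pow_index_mem ⟨s, hs⟩
    rw [iJ] at c3
    replace c3 : s ^ 3 ∈ J := c3
    have e := Zt _ (cen s hs hs' _ c3 (Commute.self_pow s 3))
    rw [← conj_pow, ts, inv_pow] at e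
    rw [← hJexp _ c3, pow_three (s ^ 3)]; nth_rewrite 3 [← e]; simp
  obtain ⟨a, ha, hn⟩ := norm s hs hs'
  have w : ∀ a ∈ J, t * a * t⁻¹ = a → W a (s * a * s⁻¹) (s * (s * a * s⁻¹) * s⁻¹) s t := fun a ha e =>
    ⟨hJexp a ha, Jc _ ha _ (hJn.conj_mem _ ha _), rfl, rfl, s3, t2, e, ts⟩
  let N : J →* J := MonoidHom.id J * (MulAut.conjNormal s : MulAut J).toMonoidHom *
    ((MulAut.conjNormal s : MulAut J).toMonoidHom.comp (MulAut.conjNormal s : MulAut J).toMonoidHom)
  have hN : ∀ x : J, (N x : G) = x * (s * x * s⁻¹) * (s * (s * x * s⁻¹) * s⁻¹) := fun x => rfl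
  have ss : ∀ x : G, s * (s * x * s⁻¹) * s⁻¹ = s⁻¹ * x * s := fun x => by
    have : s * s = s⁻¹ := by rw [eq_inv_iff_mul_eq_one, ← pow_three', s3]
    calc _ = (s * s) * x * (s * s)⁻¹ := by group
      _ = _ := by rw [this, inv_inv]
  have m1 := hJn.conj_mem _ ha s
  have m2 := hJn.conj_mem _ m1 s
  have m3 := hJn.conj_mem _ ha t
  have NZ : a * (s * a * s⁻¹) * (s * (s * a * s⁻¹) * s⁻¹) ∈ Z := by
    refine cen s hs hs' _ (mul_mem (mul_mem ha m1) m2) (H50.conj_eq_iff_commute.1 ?_)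
    calc _ = (s * a * s⁻¹) * (s * (s * a * s⁻¹) * s⁻¹) * (s * (s * (s * a * s⁻¹) * s⁻¹) * s⁻¹) := by group
      _ = _ := by
        rw [ss (s * a * s⁻¹), show s⁻¹ * (s * a * s⁻¹) * s = a by group, ← (Jc _ ha _ (mul_mem m1 m2)).eq,
          mul_assoc a]
  have Nt : N ⟨t * a * t⁻¹, m3⟩ = N ⟨a, ha⟩ := Subtype.ext (by
    rw [hN, hN, ← Zt _ NZ]
    dsimp only
    rw [ss, ss, mul_assoc (t * a * t⁻¹), (Jc _ (hJn.conj_mem _ m3 s) _ (by
      simpa using hJn.conj_mem _ m3 s⁻¹)).eq]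
    calc _ = t * a * t⁻¹ * ((t * s * t⁻¹) * (t * a * t⁻¹) * (t * s * t⁻¹)⁻¹ *
          ((t * s * t⁻¹)⁻¹ * (t * a * t⁻¹) * (t * s * t⁻¹))) := by rw [ts, inv_inv]
      _ = _ := by group)
  have m4 := mul_mem ha m3
  have hw := w _ m4 (by
    rw [(Jc _ ha _ m3).eq]
    nth_rewrite 1 [← (Jc _ ha _ m3).eq]
    simp [ti, mul_assoc, H50.mul_mul_cancel_of_mul_self t2, t2])
  have hn' : a * (t * a * t⁻¹) * (s * (a * (t * a * t⁻¹)) * s⁻¹) *
      (s * (s * (a * (t * a * t⁻¹)) * s⁻¹) * s⁻¹) ≠ 1 := fun e => hn (by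
    have e1 : N (⟨a, ha⟩ * ⟨t * a * t⁻¹, m3⟩) = 1 := Subtype.ext e
    rw [map_mul, Nt] at e1
    have e2 : (N ⟨a, ha⟩) ^ 3 = 1 := Subtype.ext (hJexp _ (N _).2)
    rw [pow_three, e1, mul_one] at e2
    exact congrArg Subtype.val e2)
  refine equiv_of_W (Y := Subgroup.centralizer _) hw
    (a' := ⟨Equiv.swap 0 1 * Equiv.swap 1 2, mem_centralizer_singleton_iff.2 (by decide)⟩)
    (b' := ⟨Equiv.swap 3 4 * Equiv.swap 4 5, mem_centralizer_singleton_iff.2 (by decide)⟩)
    (c' := ⟨Equiv.swap 6 7 * Equiv.swap 7 8, mem_centralizer_singleton_iff.2 (by decide)⟩)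
    (s' := ⟨Equiv.swap 0 3 * Equiv.swap 3 6 * Equiv.swap 1 4 * Equiv.swap 4 7 * Equiv.swap 2 5 *
      Equiv.swap 5 8, mem_centralizer_singleton_iff.2 (by decide)⟩)
    (t' := ⟨Equiv.swap 3 6 * Equiv.swap 4 7 * Equiv.swap 5 8, mem_centralizer_singleton_iff.2 (by decide)⟩)
    ⟨Subtype.ext (by decide), Subtype.ext (by decide), Subtype.ext (by decide), Subtype.ext (by decide),
      Subtype.ext (by decide), Subtype.ext (by decide), Subtype.ext (by decide), Subtype.ext (by decide)⟩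
    hn' (fun e => absurd (congrArg Subtype.val e) (by decide)) hG ?_
  have ct : (Equiv.swap (0 : Fin 9) 1 * Equiv.swap 1 2 * Equiv.swap 3 4 *
    Equiv.swap 4 5 * Equiv.swap 6 7 * Equiv.swap 7 8).cycleType = {3, 3, 3} := by decide +kernel
  rw [Equiv.Perm.nat_card_centralizer, ct]
  decide

end Cfsg.Agent.S3376
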