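import Cfsg.Statements.S2807
import Cfsg.Agent.H90.Wielandt
import Cfsg.Agent.S0063

set_option autoImplicit false
open Cfsg

namespace Cfsg.Agent.S2807

/-- Let S be a Sylow p-subgroup of the finite group G. If S ∩ G' ≠ S ∩ (N_G(S))' (derived subgroups), then the wreath product Z_p ≀ Z_p — realised as a Sylow p-subgroup of the symmetric group of degree p² — is a homomorphic image of S. -/
theorem result {G : Type*} [Group G] [Finite G] {p : ℕ} [Fact p.Prime] (S : Sylow p G) (h : (S : Subgroup G) ⊓ commutator G ≠ (S : Subgroup G) ⊓ ⁅Subgroup.normalizer ((S : Subgroup G) : Set G), Subgroup.normalizer ((S : Subgroup G) : Set G)⁆) : ∃ (P : Sylow p (Equiv.Perm (Fin (p ^ 2)))) (f : ↥(S : Subgroup G) →* ↥(P : Subgroup (Equiv.Perm (Fin (p ^ 2))))), Function.Surjective f := by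
  have hp : p.Prime := Fact.out
  obtain ⟨x, hx, z, hz, W₀, hW₀, ψ, y, hy, hψ⟩ := H90.wielandt_yoshida S (H8.sylow_isWeaklyClosed S)
    (fun h' => h (le_antisymm (le_inf inf_le_left (by rwa [inf_comm]))
      (inf_le_inf_left _ (Subgroup.commutator_mono le_top le_top))))
  let R : Subgroup S := ψ.ker.map W₀.subtype
  have hR : R.index = p ^ 2 := by
    have h1 : ψ.ker.index ∣ p := by
      rw [Subgroup.index_ker]
      simpa using ψ.range.card_subgroup_dvd_card
    have h2 : ψ.ker.index = p := ((Nat.dvd_prime hp).1 h1).resolve_left fun h3 =>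
      hψ (Subgroup.index_eq_one.1 h3 ▸ Subgroup.mem_top y : y ∈ ψ.ker)
    rw [Subgroup.index_map_subtype, h2, hW₀, sq]
  let e : (S ⧸ R) ≃ Fin (p ^ 2) := Finite.equivFinOfCardEq hR
  let f₀ : S →* Equiv.Perm (Fin (p ^ 2)) :=
    e.permCongrHom.toMonoidHom.comp (MulAction.toPermHom S (S ⧸ R))
  have hf : IsPGroup p f₀.range := S.isPGroup'.of_surjective _ f₀.rangeRestrict_surjective
  obtain ⟨P, hP⟩ := hf.exists_le_sylow
  have hcP : Nat.card P = p ^ (p + 1) := by
    rw [P.card_eq_multiplicity, Nat.card_perm, Nat.card_eq_fintype_card, Fintype.card_fin, sq]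
    have h1 := Nat.factorization_factorial_mul (n := 1) hp
    rw [mul_one] at h1
    rw [Nat.factorization_factorial_mul hp, h1]
    simp [add_comm]
  have hy1 : f₀ y ≠ 1 := by
    intro h1
    have h2 : MulAction.toPermHom S (S ⧸ R) y = 1 := e.permCongrHom.injective (h1.trans (map_one _).symm)
    have h3 : (y : S) • ((1 : S) : S ⧸ R) = ((1 : S) : S ⧸ R) := congrArg (· ((1 : S) : S ⧸ R)) h2
    rw [MulAction.Quotient.smul_mk, QuotientGroup.eq] at h3
    obtain ⟨w, hw, h4⟩ : (y : S) ∈ R := by simpa using h3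
    exact hψ (Subtype.ext h4 ▸ hw)
  have hy2 : (y : S) ∈ (⊤ : Subgroup S).lowerCentralSeries (p - 1) := by
    have h1 : ((y : S) : G) ∈ (S : Subgroup G).lowerCentralSeries (p - 1) := by
      rw [hy]
      generalize p - 1 = k
      induction k with
      | zero => exact hx
      | succ k ih =>
        rw [Function.iterate_succ_apply']
        simpa [commutatorElement_def] using Subgroup.commutator_mem_commutator
          (Subgroup.inv_mem _ ih) (Subgroup.inv_mem _ hz)
    rw [← Subgroup.top_subtype_lowerCentralSeries] at h1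
    obtain ⟨w, hw, h2⟩ := h1
    exact Subtype.ext h2 ▸ hw
  have hne : (⊤ : Subgroup f₀.range).lowerCentralSeries (p - 1) ≠ ⊥ := by
    intro h1
    have h2 := Subgroup.lowerCentralSeries.map f₀.rangeRestrict (p - 1) ⟨_, hy2, rfl⟩
    rw [h1] at h2
    exact hy1 (congrArg Subtype.val h2)
  obtain ⟨m, hm⟩ := IsPGroup.iff_card.1 hf
  have := hf.isNilpotent
  have hm1 : p + 1 ≤ m := by
    by_contra hlt
    apply hne
    rw [Subgroup.lowerCentralSeries_eq_bot_iff_nilpotencyClass_le]
    have h2 := hp.two_le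
    by_cases hm2 : 1 < m
    · have := S0063.result p m hm hm2
      omega
    · have : IsCyclic f₀.range := isCyclic_of_card_dvd_prime (p := p)
        (hm ▸ (pow_dvd_pow p (by omega : m ≤ 1)).trans (pow_one p).dvd)
      have h3 := Subgroup.lowerCentralSeries_eq_bot_iff_nilpotencyClass_le.1
        (Subgroup.lowerCentralSeries_one_eq_bot_iff.2 (inferInstance : IsMulCommutative f₀.range))
      omega
  have hrange : f₀.range = P := Subgroup.eq_of_le_of_card_ge hP
    (by rw [hcP, hm]; exact Nat.pow_le_pow_right hp.pos hm1)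
  refine ⟨P, f₀.codRestrict _ fun s => hP ⟨s, rfl⟩, fun b => ?_⟩
  obtain ⟨s, hs⟩ : (b : Equiv.Perm (Fin (p ^ 2))) ∈ f₀.range := hrange.ge b.2
  exact ⟨s, Subtype.ext hs⟩

end Cfsg.Agent.S2807
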