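import Cfsg.Statements.S1773
import Cfsg.Agent.H93.L2Row
import Cfsg.Agent.H93.LQMain
import Cfsg.Agent.H82.LqBr
import Cfsg.Agent.H9.GHMain
import Cfsg.Agent.H48.S5Kit
import Cfsg.Agent.H48.S5SpB
import Cfsg.Agent.H59.S5J3
import Cfsg.Agent.H62.S5Gd
import Cfsg.Agent.H53.S5Sl2
import Cfsg.Agent.H51.S5Fw
import Cfsg.Agent.H22.S5Lin
import Cfsg.Agent.H39.S5Uni
import Cfsg.Agent.H12.S5SpA
import Cfsg.Agent.H21.S5Lin
import Cfsg.Agent.H8.S5Uni
import Cfsg.Agent.H62.S5SpOut
import Cfsg.Agent.H7.S5Nc1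
import Cfsg.Agent.H32.S5Nc2
import Cfsg.Agent.H72.S5Tw
import Cfsg.Agent.H42.S5Alt
import Cfsg.Agent.H9.S5Small
import Cfsg.Agent.H61.S5Mat
import Cfsg.Agent.H52.S5Mcl
-- import your own Cfsg.Agent.* helpers here

set_option autoImplicit false
open Cfsg

namespace Cfsg.Agent.S1773

/-- Let G be a finite group with no nontrivial normal subgroup of odd order in which every section has the B-property; let A be a standard subgroup of G which is not normal in G, whose centralizer has cyclic Sylow 2-subgroups, and let t be an involution centralizing A. Suppose A modulo its centre is isomorphic to the projective special linear group of dimension 2 over the field F with 2^a elements (a ≥ 2). Then either the layer E(G) is isomorphic to A × A, or E(G) is a group of Lie type in characteristic 2 (here including the Tits group) on which t induces an outer automorphism (no element of E(G) induces the same conjugation action on E(G) as t); or a = 2 and E(G) is isomorphic to the Mathieu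 group of degree 12, the alternating group of degree 9 or 7, the first or second Janko group, the projective special linear group of dimension 2 over the field with 25 elements, the projective special linear group of dimension 3 over the field with 5 elements, the projective special unitary group of dimension 3 over the field with 25 elements, or the Chevalley group of type G₂ or the triality-twisted group of type D₄ with parameter 5; or A is isomorphic to the projective special linear group of dimension 2 over the field with 8 elements and E(G) to the Chevalley group of type G₂ over the field with 3 elements. -/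
theorem result {G : Type*} [Group G] [Finite G] (hO : Cfsg.oddCore G = ⊥) (hB : Cfsg.HasStrongBProperty G)
    (A : Subgroup G) (hA : Cfsg.IsStandardSubgroup A) (hnA : ¬ A.Normal)
    (hR : ∀ R : Sylow 2 ↥(Subgroup.centralizer (A : Set G)), IsCyclic ↥(R : Subgroup ↥(Subgroup.centralizer (A : Set G))))
    (t : G) (ht : orderOf t = 2) (htA : t ∈ Subgroup.centralizer (A : Set G))
    {F : Type*} [Field F] [Fintype F] (a : ℕ) (ha : 2 ≤ a) (hF : Fintype.card F = 2 ^ a)
    (hAX : Nonempty (↥A ⧸ Subgroup.center ↥A ≃* Matrix.ProjectiveSpecialLinearGroup (Fin 2) F)) :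
    Nonempty (↥(Cfsg.layer G) ≃* ↥A × ↥A) ∨ ((Cfsg.IsLieTypeChar 2 ↥(Cfsg.layer G) ∨ Cfsg.Lie.IsoTits ↥(Cfsg.layer G)) ∧ ¬ (∃ e : G, e ∈ Cfsg.layer G ∧ ∀ x ∈ Cfsg.layer G, t * x * t⁻¹ = e * x * e⁻¹)) ∨
      (a = 2 ∧ (Cfsg.Spor.IsoM12 ↥(Cfsg.layer G) ∨ Nonempty (↥(Cfsg.layer G) ≃* ↥(alternatingGroup (Fin 9))) ∨ Cfsg.Spor.IsoJ1 ↥(Cfsg.layer G) ∨
        Cfsg.Spor.IsoJ2 ↥(Cfsg.layer G) ∨ Nonempty (↥(Cfsg.layer G) ≃* ↥(alternatingGroup (Fin 7))) ∨
        (∃ (E : Type) (_ : Field E) (_ : Fintype E), Fintype.card E = 25 ∧ (Nonempty (↥(Cfsg.layer G) ≃* Matrix.ProjectiveSpecialLinearGroup (Fin 2) E) ∨ Nonempty (↥(Cfsg.layer G) ≃* Cfsg.PSU 3 E 5))) ∨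
        (∃ (E : Type) (_ : Field E) (_ : Fintype E), Fintype.card E = 5 ∧ (Nonempty (↥(Cfsg.layer G) ≃* Matrix.ProjectiveSpecialLinearGroup (Fin 3) E) ∨ Nonempty (↥(Cfsg.layer G) ≃* ↥(Cfsg.Lie.chevG2.group E)))) ∨
        (∃ (K : Type) (_ : Field K) (_ : Fintype K), Fintype.card K = 125 ∧ Nonempty (↥(Cfsg.layer G) ≃* ↥(Cfsg.Lie.twistedD4 K 5))))) ∨
      (Nonempty (↥A ≃* Matrix.ProjectiveSpecialLinearGroup (Fin 2) F) ∧ Fintype.card F = 8 ∧
        ∃ (E : Type) (_ : Field E) (_ : Fintype E), Fintype.card E = 3 ∧ Nonempty (↥(Cfsg.layer G) ≃* ↥(Cfsg.Lie.chevG2.group E))) := by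
  have k := H48.S5Kit.kit.{0}
  have c := H72.S5Tw.cmp k
  have n1 := H7.S5.nc1
  have n2 := H32.S5Nc2.nc2
  exact H93.L2R.s1773_of H93.LQ.main H82.LqBr.bridge
    (H93.S5.scan_of H9.GH.ghMain H48.S5Kit.kit (H22.S5Lin.linInn k) (H21.S5Lin.linOut c n1 n2)
      (H39.S5U.uniInn k) (H8.S5Uni.uniOut c n1 n2) (H62.S5SpOut.spOut c n1) (H12.S5SpA.spA k)
      (H48.S5SpB.spb k) H51.S5Fw.fw (H62.S5Gd.gd k (H72.S5Tw.tw k) H53.S5S.sl2) (H42.S5A.alt k)
      H9.S5Sm.small (H61.S5Mat.mat k) (H52.S5Mcl.mcLStmt k) (H59.S5J3.j3 k))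
    hO hB A hA hnA hR t ht htA a ha hF hAX

end Cfsg.Agent.S1773
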