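import Cfsg.Statements.S2099
import Cfsg.Agent.H80.OrthMult
import Cfsg.Agent.H28.Klein4

set_option autoImplicit false
open Cfsg

namespace Cfsg.Agent.S2099

/-- Schur multipliers of the even-dimensional orthogonal groups of minus type: for l ≥ 4 and a field F with q elements, the Schur multiplier of PΩ⁻_2l(F) (for the form Σ_{i<l−1} xᵢyᵢ + z₁² + a z₁z₂ + b z₂² with the binary part anisotropic) is cyclic of order gcd(4, q^l + 1); here the Schur multiplier is described through stem extensions, as in the definitions. -/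
theorem result {F : Type*} [Field F] [Fintype F] {q : ℕ} (hF : Fintype.card F = q) (l : ℕ) (hl : 4 ≤ l) (a b : F) (hab : ∀ z₁ z₂ : F, z₁ ^ 2 + a * z₁ * z₂ + b * z₂ ^ 2 = 0 → z₁ = 0 ∧ z₂ = 0) : Cfsg.HasCyclicSchurMultiplier (Cfsg.POmega F (Cfsg.quadFormMinus (l - 1) F a b)) (Nat.gcd 4 (q ^ l + 1)) := by
  obtain ⟨m, rfl⟩ : ∃ k, l = k + 2 := ⟨l - 2, by omega⟩
  subst hF
  have : Fact (∀ r : F, r ^ 2 ≠ -b + a * r) :=
    ⟨fun r h => neg_ne_zero.2 one_ne_zero (hab r (-1) (by linear_combination h)).2⟩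
  obtain ⟨A, _, φ, h2, h3, h4⟩ := H80.exists_multiplier_minus (m := m) (by omega) hab
  have : Finite (QuadraticAlgebra F (-b) a) :=
    Finite.of_equiv _ (QuadraticAlgebra.equivProd (-b) a).symm
  have hK : Nat.card (QuadraticAlgebra F (-b) a) = Fintype.card F * Fintype.card F := by
    rw [Nat.card_congr (QuadraticAlgebra.equivProd (-b) a), Nat.card_prod, Nat.card_eq_fintype_card]
  have hd := H30.disc_ne_zero_of_anisotropic hab
  have h5 : ∀ t ∈ φ.range, ∃ l : QuadraticAlgebra F (-b) a, (l = 1 ∨ l = -1) ∧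
      t.1 = l * star t.1 ∧ t.1 ^ 2 = l ^ (m + 2) := fun t ht => by
    obtain ⟨l, l1, l2, l3⟩ := (h3 t).1 ht
    refine ⟨_, sq_eq_one_iff.1 (by rw [← map_pow, ← Units.val_pow_eq_pow_val, l1]; simp), l2, ?_⟩
    rw [pow_succ _ (m + 1), ← l3]
    linear_combination t.1 * l2
  have h6 : ∀ t : (QuadraticAlgebra F (-b) a)ˣ, t.1 ^ 2 = 1 → t ∈ φ.range := fun t h =>
    (h3 t).2 ⟨1, by simp, by rcases sq_eq_one_iff.1 h with e | e <;> simp [e]⟩
  have key : ∀ g, Nat.gcd 4 (Fintype.card F ^ (m + 2) + 1) = g →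
      g ∣ Fintype.card F * Fintype.card F - 1 → (∀ t, t ∈ φ.range ↔ t ^ g = 1) →
      HasCyclicSchurMultiplier (POmega F (quadFormMinus (m + 2 - 1) F a b))
        (Nat.gcd 4 (Fintype.card F ^ (m + 2) + 1)) := fun g e1 e2 e3 => by
    obtain ⟨e⟩ := H80.nonempty_equiv_zmod φ h2 e3
    rw [hK, Nat.gcd_eq_left e2, ← e1] at e
    exact H80.hasSchurMultiplier_congr_right h4 e
  by_cases h7 : (2 : F) = 0
  · have h8 : Fintype.card F % 2 = 0 := by
      rwa [← not_ne_iff, H30.two_ne_zero_iff_odd_card, Nat.odd_iff, Nat.mod_two_not_eq_one] at h7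
    have h9 : (-1 : QuadraticAlgebra F (-b) a) = 1 := by
      rw [neg_eq_iff_add_eq_zero, one_add_one_eq_two, ← map_ofNat (algebraMap F _), h7, map_zero]
    refine key 1 ?_ (one_dvd _) fun t => ⟨fun ht => ?_, fun h => by rw [pow_one] at h; simp [h]⟩
    · refine Nat.Coprime.pow_left 2 (Nat.coprime_two_left.2 (Nat.odd_iff.2 ?_))
      simp [Nat.add_mod, Nat.pow_mod, h8]
    · obtain ⟨l, l1, -, l3⟩ := h5 t ht
      rw [h9, or_self] at l1
      rw [l1, one_pow, sq_eq_one_iff, h9, or_self] at l3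
      exact (pow_one t).trans (Units.ext l3)
  have h8 := Nat.odd_iff.1 (H30.two_ne_zero_iff_odd_card.1 h7)
  have h9 : 4 ∣ Fintype.card F * Fintype.card F - 1 := by
    have := Nat.mul_mod (Fintype.card F) (Fintype.card F) 4
    rcases (by omega : Fintype.card F % 4 = 1 ∨ Fintype.card F % 4 = 3) with e | e <;>
      rw [e] at this <;> omega
  have h10 : (2 : QuadraticAlgebra F (-b) a) ≠ 0 := by
    rw [← map_ofNat (algebraMap F _)]
    exact (map_ne_zero _).2 h7
  by_cases h11 : Odd m ∧ Fintype.card F % 4 = 3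
  · obtain ⟨⟨j, rfl⟩, h11⟩ := h11
    refine key 4 (Nat.gcd_eq_left (Nat.dvd_of_mod_eq_zero ?_)) h9 fun t => ⟨fun ht => ?_, fun h => ?_⟩
    · simp [pow_succ, pow_mul, Nat.add_mod, Nat.mul_mod, Nat.pow_mod, h11]
    · obtain ⟨l, l1, -, l3⟩ := h5 t ht
      refine Units.ext ?_
      rw [Units.val_pow_eq_pow_val, show 4 = 2 * 2 from rfl, pow_mul, l3, ← pow_mul, mul_comm, pow_mul]
      rcases l1 with rfl | rfl <;> simp
    · have h12 : (t.1 ^ 2) ^ 2 = 1 := by
        rw [← pow_mul, ← Units.val_pow_eq_pow_val, h, Units.val_one]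
      rcases sq_eq_one_iff.1 h12 with e | e
      · exact h6 t e
      have h13 : star t.1 ^ 2 = t.1 ^ 2 := by rw [← star_pow, e]; simp
      rcases sq_eq_sq_iff_eq_or_eq_neg.1 h13 with e' | e'
      · have h14 := H28.im_eq_zero_of_star_eq hd e'
        refine absurd h11 (FiniteField.isSquare_neg_one_iff.1 ⟨t.1.re, ?_⟩)
        simpa [sq, h14, QuadraticAlgebra.re_one] using (congrArg QuadraticAlgebra.re e).symm
      · refine (h3 t).2 ⟨-1, by simp, by simp [e'], ?_⟩
        rw [e', mul_neg, ← sq, e]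
        simp [pow_succ, pow_mul]
  · refine key 2 ?_ ((show 2 ∣ 4 by decide).trans h9) fun t => ⟨fun ht => ?_, fun h => h6 t ?_⟩
    · have : Fintype.card F ^ (m + 2) % 4 = 1 := by
        rcases (by omega : Fintype.card F % 4 = 1 ∨ Fintype.card F % 4 = 3) with e | e
        · simp [Nat.pow_mod, e]
        · obtain ⟨j, rfl⟩ := Nat.not_odd_iff_even.1 fun h => h11 ⟨h, e⟩
          simp [← two_mul, pow_succ, pow_mul, Nat.mul_mod, Nat.pow_mod, e]
      rw [Nat.gcd_rec, Nat.add_mod, this]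
      rfl
    · obtain ⟨l, l1, l2, l3⟩ := h5 t ht
      refine Units.ext ?_
      rw [Units.val_pow_eq_pow_val, l3]
      rcases l1 with rfl | rfl
      · simp
      rcases Nat.even_or_odd m with e | e
      · exact (e.add even_two).neg_one_pow
      obtain ⟨i, hi⟩ := FiniteField.isSquare_neg_one_iff.2 fun h => h11 ⟨e, h⟩
      have h12 : t.1 ^ 2 = algebraMap F _ i ^ 2 := by
        rw [l3, (e.add_even even_two).neg_one_pow, ← map_pow, sq, ← hi]; simp
      have h13 : star t.1 = t.1 := by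
        rcases sq_eq_sq_iff_eq_or_eq_neg.1 h12 with e' | e' <;> rw [e'] <;> ext <;> simp
      exact absurd (by linear_combination l2 - h13) (mul_ne_zero h10 t.ne_zero)
    · rw [← Units.val_pow_eq_pow_val, h, Units.val_one]

end Cfsg.Agent.S2099
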