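import Cfsg.Statements.S1614
import Cfsg.Agent.H50.Main
import Cfsg.Agent.S0247

set_option autoImplicit false
open Cfsg

namespace Cfsg.Agent.S1614

open H50 in
def Str {G : Type*} [Group G] (S : Set G) : Prop := ∃ a ∈ S, ∃ b ∈ S, ∃ c ∈ S, ∃ d ∈ S, ¬ Commute a b ∧
  ¬ Commute b c ∧ ¬ Commute c d ∧ Commute a c ∧ Commute a d ∧ Commute b d

open H50 in
theorem Str.map {G H : Type*} [Group G] [Group H] {S : Set G} (h : Str S) (f : G →* H)
    (hf : Function.Injective f) : Str (f '' S) := by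
  obtain ⟨a, ha, b, hb, c, hc, d, hd, h⟩ := h
  exact ⟨_, ⟨a, ha, rfl⟩, _, ⟨b, hb, rfl⟩, _, ⟨c, hc, rfl⟩, _, ⟨d, hd, rfl⟩,
    by simpa only [H50.commute_map_iff hf] using h⟩

open H50 in
theorem Str.not_solvable {G : Type*} [Group G] {S : Set G} (h : Str S) (hS : FS S) :
    ¬ Group.IsSolvable (Subgroup.closure S) := by
  obtain ⟨a, ha, b, hb, c, hc, d, hd, h1, h2, h3, h4, h5, h6⟩ := h
  obtain ⟨T, hT, p, hp, -⟩ := exists_s5 hS ha hb hc hd h1 h2 h3 h4 (fun e => h3 (e ▸ h5)) h5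
    (fun e => h1 (e ▸ h6.symm)) h6 (fun e => h1 (e ▸ h5))
  obtain ⟨e⟩ := IsSym.closure_equiv ⟨p, hp⟩ (fun x hx => hS.sq x (hT hx)) (by norm_num)
  intro hs
  have := Group.isSolvable_of_isSolvable_injective
    (f := (Subgroup.inclusion (Subgroup.closure_mono hT)).comp e.symm.toMonoidHom)
    ((Subgroup.inclusion_injective (Subgroup.closure_mono hT)).comp e.symm.injective)
  exact Equiv.Perm.not_isSolvable_fin_5 this

open H50 H28 in
theorem str_u {G : Type*} [Group G] {E : Set G} {n : ℕ} (h : IsU E n) (hE : FS E) (hn : 6 ≤ n) :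
    ∃ d ∈ E, Str (Dx E d) := by
  obtain ⟨p, h1, h2⟩ := h.model hE hn
  refine ⟨p ![1, 1, 0, 0, 0, 0], h1 _ (by decide +kernel),
    p ![0, 0, 1, 1, 0, 0], ⟨h1 _ (by decide +kernel), ?_, ?_⟩,
    p ![0, 0, 0, 1, 1, 0], ⟨h1 _ (by decide +kernel), ?_, ?_⟩,
    p ![0, 0, 0, 0, 1, 1], ⟨h1 _ (by decide +kernel), ?_, ?_⟩,
    p ![0, 0, 1, 1, 1, dec4 2], ⟨h1 _ (by decide +kernel), ?_, ?_⟩, ?_, ?_, ?_, ?_, ?_, ?_⟩ <;>
  first
  | exact (h2 _ _ (by decide +kernel) (by decide +kernel)).2.2.not.2 (by decide +kernel)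
  | (rw [(h2 _ _ (by decide +kernel) (by decide +kernel)).1]; decide +kernel)

open H50 H84 in
theorem str_sp (k : ℕ) : ∃ d ∈ {g : Matrix.symplecticGroup (Fin (k + 3)) (ZMod 2) |
      ((g : Matrix (Fin (k + 3) ⊕ Fin (k + 3)) (Fin (k + 3) ⊕ Fin (k + 3)) (ZMod 2)) - 1).rank = 1},
    Str (Dx {g : Matrix.symplecticGroup (Fin (k + 3)) (ZMod 2) |
      ((g : Matrix (Fin (k + 3) ⊕ Fin (k + 3)) (Fin (k + 3) ⊕ Fin (k + 3)) (ZMod 2)) - 1).rank = 1} d) := by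
  have hp := param_sp (k + 3)
  generalize {g : Matrix.symplecticGroup (Fin (k + 3)) (ZMod 2) |
      ((g : Matrix (Fin (k + 3) ⊕ Fin (k + 3)) (Fin (k + 3) ⊕ Fin (k + 3)) (ZMod 2)) - 1).rank = 1} = E at *
  have cm : ∀ v w : Fin (k + 3) ⊕ Fin (k + 3) → ZMod 2, v ≠ 0 → w ≠ 0 →
      (Commute (spTv v) (spTv w) ↔ sympForm (k + 3) (ZMod 2) v w = 0) := fun v w hv hw => by
    rw [commute_iff_conj_eq (spTv_mul_self v), hp.conj v hv w hw, hp.eq_iff _ (hp.op_mem v hv w hw) _ hw]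
    simp [hv]
  have t2 : 2 % (k + 3) = 2 := Nat.mod_eq_of_lt (by omega)
  have n1 : ∀ i, (Pi.single i 1 : Fin (k + 3) ⊕ Fin (k + 3) → ZMod 2) ≠ 0 := fun i => by simp
  have n2 : (Pi.single (.inl 1) 1 + Pi.single (.inl 2) 1 : Fin (k + 3) ⊕ Fin (k + 3) → ZMod 2) ≠ 0 := fun e => by
    simpa [Pi.single_apply, Fin.ext_iff, t2] using congrFun e (.inl 1)
  refine ⟨spTv (Pi.single (.inl 0) 1), hp.mem _ (n1 _),
    spTv (Pi.single (.inl 1) 1), ⟨hp.mem _ (n1 _), ?_, ?_⟩, spTv (Pi.single (.inr 1) 1), ⟨hp.mem _ (n1 _), ?_, ?_⟩,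
    spTv (Pi.single (.inl 1) 1 + Pi.single (.inl 2) 1), ⟨hp.mem _ n2, ?_, ?_⟩,
    spTv (Pi.single (.inr 2) 1), ⟨hp.mem _ (n1 _), ?_, ?_⟩, ?_, ?_, ?_, ?_, ?_, ?_⟩ <;>
  first
  | (rw [cm _ _ (by first | exact n1 _ | exact n2) (by first | exact n1 _ | exact n2)]
     simp [sympForm, Matrix.J, Matrix.mulVec_single_one, Matrix.mulVec_add, Matrix.one_apply, Fin.ext_iff, t2])
  | (rw [Ne, hp.eq_iff _ (by first | exact n1 _ | exact n2) _ (n1 _)]
     intro e; simpa [Pi.single_apply, Fin.ext_iff, t2] using congrFun e (.inl 0))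


/-- If the commuting transpositions of one transposition generate a solvable group, a Fischer 3-transposition group is S5, S6, PSU(4, 2) or PSU(5, 2). -/
theorem result {G : Type*} [Group G] [Finite G] (hsol : ∀ N : Subgroup G, N.Normal → Group.IsSolvable ↥N → N = ⊥) (hperf : ⁅commutator G, commutator G⁆ = commutator G) {D : Set G} (hD : Cfsg.IsThreeTranspositionClass D) (x : G) (hx : x ∈ D) (hs : Group.IsSolvable ↥(Subgroup.closure {y : G | y ∈ D ∧ y ≠ x ∧ Commute x y})) : Nonempty (G ≃* Equiv.Perm (Fin 5)) ∨ Nonempty (G ≃* Equiv.Perm (Fin 6)) ∨ ∃ (F : Type) (_ : Field F) (_ : Fintype F), Fintype.card F = 4 ∧ (Nonempty (G ≃* Cfsg.PSU 4 F 2) ∨ Nonempty (G ≃* Cfsg.PSU 5 F 2)) := by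
  have hp := H50.Prim.of_fischer hsol hperf hD
  have h1 := hp.rp
  have hZ := H50.center_eq_bot_of_hsol hsol
  have ht : Subgroup.closure D = ⊤ := hD.2.2
  have k : ¬ ∃ d ∈ D, Str (H50.Dx D d) := fun ⟨d, hd, h⟩ =>
    (h1.all_Dx (fun _ f hf a => a.map f hf) hd h x hx).not_solvable (h1.fs.Dx x) hs
  rcases h1.cases with h2 | h2 | ⟨-, n, hn, h2⟩ | ⟨n, hn, h2⟩
  · obtain ⟨L, hL, -⟩ := (h1.rp_Dx h2 hx).prim.exists_component
    haveI : Group.IsSolvable (Subgroup.closure (H50.Dx D x)) := hs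
    exact absurd le_top (H52.IsComponent.not_le_of_isSolvable hL (H := ⊤) inferInstance)
  · obtain ⟨e, -⟩ := h2.equiv h1.fs ht hZ (by norm_num)
    exact Or.inl ⟨e⟩
  · obtain ⟨m, rfl, e, he⟩ := H84.isSp_equiv h2 h1.fs ht hZ (by omega)
    by_cases h3 : 3 ≤ m
    · obtain ⟨j, rfl⟩ := Nat.exists_eq_add_of_le' h3
      obtain ⟨d, hd, h⟩ := str_sp j
      have e1 : D = e.symm.toMonoidHom '' (e '' D) := by simp [Set.image_image]
      refine absurd ⟨e.symm d, ?_, ?_⟩ k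
      · rw [e1, he]; exact ⟨d, hd, rfl⟩
      · rw [e1, he]
        exact H50.Dx_map (f := e.symm.toMonoidHom) e.symm.injective d ▸ h.map _ e.symm.injective
    · obtain rfl : m = 2 := by omega
      obtain ⟨f⟩ := S0247.result (F := ZMod 2) (by simp)
      exact Or.inr (Or.inl ⟨e.trans f⟩)
  · obtain ⟨e, -⟩ := H84.isU_equiv h2 h1.fs ht hZ hn
    by_cases h6 : 6 ≤ n
    · exact absurd (str_u h2 h1.fs h6) k
    refine Or.inr (Or.inr ⟨_, H28.instFieldK4, _, H28.card_K4, ?_⟩)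
    obtain rfl | rfl : n = 4 ∨ n = 5 := by omega
    exacts [Or.inl ⟨e⟩, Or.inr ⟨e⟩]

end Cfsg.Agent.S1614
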