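import Cfsg.Statements.S2337
import Cfsg.Agent.H39.SzRep

set_option autoImplicit false
open Cfsg

namespace Cfsg.Agent.S2337

/-- For the Suzuki group Sz(q), q = 2^(2m+1) with m ≥ 1 (realised inside Sp₄ over the field with q elements), every irreducible complex representation of degree at least 2 has degree at least 2^m·(q − 1). -/
theorem result {F : Type*} [Field F] [Fintype F] (m : ℕ) (hm : 1 ≤ m) (hF : Fintype.card F = 2 ^ (2 * m + 1)) :
    (∀ (k : ℕ) (ρ : Representation ℂ (Cfsg.Lie.Sz F (2 ^ (m + 1))) (Fin k → ℂ)), ρ.IsIrreducible → 2 ≤ k → 2 ^ m * (2 ^ (2 * m + 1) - 1) ≤ k) := by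
  have := H39.szField_of_card hm hF
  set S := H39.lieModel hF
  intro k ρ hρ hk
  have h := S.le_finrank ρ (m := m) (by rw [Nat.card_eq_fintype_card, hF]) fun e => by
    have h1 : ρ.ker = ⊤ := S.eq_top_of_normal e
    have h2 : ∀ g, ρ g = 1 := fun g => (h1 ▸ Subgroup.mem_top g : g ∈ ρ.ker)
    let W : Subrepresentation ρ := ⟨Submodule.span ℂ {Pi.single ⟨0, by omega⟩ 1}, fun g v hv => by
      rw [h2]
      exact hv⟩
    have h3 : Module.finrank ℂ W.toSubmodule = 1 := finrank_span_singleton (by simp)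
    rcases hρ.eq_bot_or_eq_top W with e | e
    · rw [e] at h3
      change Module.finrank ℂ (⊥ : Submodule ℂ (Fin k → ℂ)) = 1 at h3
      simp at h3
    · rw [e] at h3
      change Module.finrank ℂ (⊤ : Submodule ℂ (Fin k → ℂ)) = 1 at h3
      simp at h3
      omega
  simpa using h

end Cfsg.Agent.S2337
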