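import Cfsg.Statements.S0864
import Cfsg.Agent.H72.DetExt

set_option autoImplicit false
open Cfsg

namespace Cfsg.Agent.S0864

/-- The transfer of a linear character of a subgroup. -/
theorem exists_transfer {G : Type*} [Group G] [Finite G] (N : Subgroup G) [hN : N.Normal]
    (H : Subgroup G) (hNH : N ≤ H) (ν : H →* ℂˣ) (l : N →* ℂˣ)
    (hinv : ∀ (g : G) (n : N), l ⟨g * n * g⁻¹, hN.conj_mem (n : G) n.2 g⟩ = l n)
    (h : ∀ n : N, ν ⟨(n : G), hNH n.2⟩ = l n) :
    ∃ μ : G →* ℂˣ, ∀ n : N, μ n = l n ^ H.index := by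
  classical
  let _ : Fintype (G ⧸ H) := Fintype.ofFinite _
  have hmem : ∀ (g : G) (q : G ⧸ H), (g • q).out⁻¹ * g * q.out ∈ H := fun g q => by
    rw [mul_assoc, ← QuotientGroup.eq, QuotientGroup.out_eq']
    conv_lhs => rw [← q.out_eq']
    rfl
  refine ⟨MonoidHom.mk' (fun g => ∏ q : G ⧸ H, ν ⟨_, hmem g q⟩) fun a b => ?_, fun n => ?_⟩
  · rw [← Equiv.prod_comp (MulAction.toPerm b) (fun q => ν ⟨_, hmem a q⟩),
      ← Finset.prod_mul_distrib]
    refine Finset.prod_congr rfl fun q _ => ?_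
    rw [← map_mul]
    congr 1
    apply Subtype.ext
    simp only [Subgroup.coe_mul, MulAction.toPerm_apply, mul_smul]
    group
  · rw [MonoidHom.mk'_apply, Subgroup.index_eq_card, Nat.card_eq_fintype_card, ← Finset.card_univ,
      ← Finset.prod_const]
    refine Finset.prod_congr rfl fun q _ => ?_
    have hq : (n : G) • q = q := by
      conv_lhs => rw [← q.out_eq']
      conv_rhs => rw [← q.out_eq']
      change (((n : G) * q.out : G) : G ⧸ H) = _
      rw [QuotientGroup.eq]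
      apply hNH
      simpa [mul_assoc] using hN.conj_mem _ (N.inv_mem n.2) q.out⁻¹
    rw [← hinv q.out⁻¹ n, ← h]
    congr 1
    apply Subtype.ext
    simp only [hq, inv_inv]


/-- Let N be a normal subgroup of the finite group G and λ a character of N of degree 1 invariant under conjugation by G. Suppose that for every prime p dividing the order of λ (in the group of functions under pointwise multiplication) there is a subgroup H containing N, of index prime to p and with the index of N in H a power of p, together with a character of H of degree 1 restricting to λ. Then λ is the restriction of a character of G of degree 1. -/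
theorem result {G : Type*} [Group G] [Finite G] (N : Subgroup G) [hN : N.Normal] (lam : N → ℂ) (hlam : Cfsg.IsCharacter N lam ∧ lam 1 = 1) (hinv : ∀ (g : G) (n : N), lam ⟨g * n * g⁻¹, hN.conj_mem (n : G) n.2 g⟩ = lam n) (hsyl : ∀ p : ℕ, p.Prime → p ∣ orderOf lam → ∃ (H : Subgroup G) (hNH : N ≤ H) (ν : H → ℂ), Nat.Coprime H.index p ∧ (∃ k : ℕ, N.relIndex H = p ^ k) ∧ Cfsg.IsCharacter H ν ∧ ν 1 = 1 ∧ ∀ n : N, ν ⟨(n : G), hNH n.2⟩ = lam n) : ∃ μ : G → ℂ, Cfsg.IsCharacter G μ ∧ μ 1 = 1 ∧ ∀ n : N, μ n = lam n := by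
  obtain ⟨l, rfl⟩ := H11.exists_monoidHom_of_apply_one_eq_one hlam.1 hlam.2
  let I : AddSubgroup ℤ :=
    { carrier := {k | ∃ μ : G →* ℂˣ, ∀ n : N, μ n = l n ^ k}
      zero_mem' := ⟨1, fun n => by simp⟩
      add_mem' := fun ⟨μ, h⟩ ⟨μ', h'⟩ => ⟨μ * μ', fun n => by simp [h, h', zpow_add]⟩
      neg_mem' := fun ⟨μ, h⟩ => ⟨μ⁻¹, fun n => by simp [h]⟩ }
  obtain ⟨k, hk⟩ := Int.subgroup_cyclic I
  have hdvd : ∀ m ∈ I, k ∣ m := fun m hm => by
    rw [hk, AddSubgroup.mem_closure_singleton] at hm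
    obtain ⟨c, rfl⟩ := hm
    exact Dvd.intro_left c rfl
  have hkI : k ∈ I := by rw [hk]; exact AddSubgroup.mem_closure_singleton_self k
  have h1 : ((orderOf fun g => (l g : ℂ) : ℕ) : ℤ) ∈ I := ⟨1, fun n => Units.ext (by
    rw [zpow_natCast, Units.val_pow_eq_pow_val]
    exact (congrFun (pow_orderOf_eq_one fun g => (l g : ℂ)) n).symm)⟩
  have h2 : k.natAbs = 1 := by
    by_contra hne
    obtain ⟨p, hp, hpk⟩ := Nat.exists_prime_and_dvd hne
    have hpk' : (p : ℤ) ∣ k := Int.natCast_dvd.mpr hpk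
    obtain ⟨H, hNH, ν, hcop, -, hν, hν1, hνl⟩ := hsyl p hp
      (Int.natCast_dvd_natCast.mp (hpk'.trans (hdvd _ h1)))
    obtain ⟨ν', rfl⟩ := H11.exists_monoidHom_of_apply_one_eq_one hν hν1
    obtain ⟨μ, hμ⟩ := exists_transfer N H hNH ν' l (fun g n => Units.ext (hinv g n))
      (fun n => Units.ext (hνl n))
    have h3 : (H.index : ℤ) ∈ I := ⟨μ, fun n => by rw [hμ, zpow_natCast]⟩
    have h4 : p ∣ H.index := Int.natCast_dvd_natCast.mp (hpk'.trans (hdvd _ h3))
    exact (Nat.Prime.coprime_iff_not_dvd hp).mp hcop.symm h4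
  have h3 : (1 : ℤ) ∈ I := by
    rcases Int.natAbs_eq_iff.mp h2 with h | h
    · rw [h] at hkI; exact hkI
    · rw [h] at hkI; simpa using I.neg_mem hkI
  obtain ⟨μ, hμ⟩ := h3
  exact ⟨fun g => (μ g : ℂ), H11.isCharacter_monoidHom μ, by simp, fun n => by simp [hμ]⟩

end Cfsg.Agent.S0864
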