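import Cfsg.Statements.S0888
import Cfsg.Agent.H12.Triple
import Cfsg.Agent.S0864

set_option autoImplicit false
open Cfsg

namespace Cfsg.Agent.S0888

/-- Let N be a normal subgroup of the finite group G and ϑ an irreducible character of N invariant under conjugation by G. Suppose that for every prime p there are a subgroup P containing N, of index prime to p and with the index of N in P a power of p, and an irreducible character of P restricting to ϑ. Then ϑ is the restriction of an irreducible character of G. -/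
theorem result {G : Type*} [Group G] [Finite G] (N : Subgroup G) [hN : N.Normal] (ϑ : N → ℂ) (hϑ : Cfsg.IsIrrCharacter N ϑ) (hinv : ∀ (g : G) (n : N), ϑ ⟨g * n * g⁻¹, hN.conj_mem (n : G) n.2 g⟩ = ϑ n) (hsyl : ∀ p : ℕ, p.Prime → ∃ (P : Subgroup G) (hNP : N ≤ P) (η : P → ℂ), Nat.Coprime P.index p ∧ (∃ k : ℕ, N.relIndex P = p ^ k) ∧ Cfsg.IsIrrCharacter P η ∧ ∀ n : N, η ⟨(n : G), hNP n.2⟩ = ϑ n) : ∃ χ : G → ℂ, Cfsg.IsIrrCharacter G χ ∧ ∀ n : N, χ n = ϑ n := by
  classical
  obtain ⟨Γ, _, _, π, s, θ', hπ, hZ, hs, hconj, hθ', hext, -⟩ :=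
    H12.exists_central_extension N hϑ hinv
  obtain ⟨lam, hlam, hlam1⟩ := H11.exists_monoidHom_of_le_center hθ' π.ker hZ
  have hcen : ∀ (z : π.ker) (x : Γ), x * z = z * x := fun z x =>
    Subgroup.mem_center_iff.mp (hZ z.2) x
  let r : N.comap π →* π.ker := MonoidHom.mk'
    (fun x => ⟨(s ⟨π x, x.2⟩)⁻¹ * x, by simp [MonoidHom.mem_ker, hs]⟩) (fun x y => by
      apply Subtype.ext
      have h1 : s ⟨π (x * y : N.comap π), (x * y).2⟩ = s ⟨π x, x.2⟩ * s ⟨π y, y.2⟩ := by
        rw [← map_mul]; congr 1; apply Subtype.ext; simp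
      have h2 := hcen ⟨(s ⟨π x, x.2⟩)⁻¹ * x, by simp [MonoidHom.mem_ker, hs]⟩ (s ⟨π y, y.2⟩)⁻¹
      simp only [Subgroup.coe_mul] at h1 h2 ⊢
      rw [h1]
      generalize s ⟨π x, x.2⟩ = a at h2 ⊢
      generalize s ⟨π y, y.2⟩ = b at h2 ⊢
      calc (a * b)⁻¹ * (x * y) = b⁻¹ * (a⁻¹ * x) * y := by group
        _ = _ := by rw [h2]; group)
  have hr : ∀ x : N.comap π, (x : Γ) = s ⟨π x, x.2⟩ * r x := fun x => by simp [r]
  have hrz : ∀ (z : π.ker) (h : (z : Γ) ∈ N.comap π), r ⟨z, h⟩ = z := fun z h => by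
    apply Subtype.ext
    have : (⟨π z, h⟩ : N) = 1 := Subtype.ext z.2
    simp [r, this]
  have hrs : ∀ (n : N) (h : s n ∈ N.comap π), r ⟨s n, h⟩ = 1 := fun n h => by
    apply Subtype.ext
    have : (⟨π (s n), h⟩ : N) = n := Subtype.ext (hs n)
    simp [r, this]
  have hθ1 : θ' 1 ≠ 0 := H11.irr_apply_one_ne_zero hθ'
  obtain ⟨μ, hμ, hμ1, hμν⟩ := S0864.result (N.comap π) (fun x => (((lam.comp r)⁻¹ x : ℂˣ) : ℂ))
    ⟨H11.isCharacter_monoidHom _, by simp⟩
    (fun g x => by
      have : r ⟨g * x * g⁻¹, (inferInstance : (N.comap π).Normal).conj_mem _ x.2 g⟩ = r x := by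
        apply Subtype.ext
        have h1 : s ⟨π (g * x * g⁻¹), (inferInstance : (N.comap π).Normal).conj_mem _ x.2 g⟩ =
            g * s ⟨π x, x.2⟩ * g⁻¹ := by
          rw [hconj]; congr 1; apply Subtype.ext; simp
        have h2 := hcen (r x) g
        change (s ⟨π (g * x * g⁻¹), _⟩)⁻¹ * (g * x * g⁻¹) = _
        rw [h1, show (r x : Γ) = g * r x * g⁻¹ by rw [h2]; group]
        change _ = g * ((s ⟨π x, x.2⟩)⁻¹ * x) * g⁻¹
        group
      simp only [MonoidHom.inv_apply, MonoidHom.comp_apply, this])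
    (fun p hp _ => by
      obtain ⟨P, hNP, η, hcop, ⟨k, hk⟩, hη, hηϑ⟩ := hsyl p hp
      let π' : P.comap π →* P := (π.comp (P.comap π).subtype).codRestrict P fun x => x.2
      have hπ' : Function.Surjective π' := fun y => by
        obtain ⟨x, hx⟩ := hπ y
        exact ⟨⟨x, by simp [hx]⟩, Subtype.ext hx⟩
      let s' : N →* P.comap π := s.codRestrict _ fun n => by simp [hs, hNP n.2]
      have hs' : Function.Injective s' := fun a b h =>
        H12.section_injective hs (congrArg Subtype.val h)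
      have : s'.range.Normal := ⟨by
        rintro _ ⟨n, rfl⟩ x
        exact ⟨_, Subtype.ext (hconj x n).symm⟩⟩
      have hirr : IsIrrCharacter N (fun n => θ' (s' n)) := by
        have : (fun n => θ' (s' n)) = ϑ := funext hext
        rwa [this]
      obtain ⟨μ, hμk, hμ⟩ := H14.exists_linear_of_ext_of_ext s'.range
        (χ := fun x : P.comap π => θ' x) (ψ := fun x => η (π' x))
        (H11.isIrrCharacter_of_comp
          (H11.isCharacter_restrict (H11.isCharacter_of_irr hθ') _) s' hirr)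
        (H12.isIrr_res_range_of_comp hs' (χ := fun x : P.comap π => θ' x) hirr)
        (H11.isIrrCharacter_comp_of_surjective hη π' hπ')
        (by
          rintro ⟨_, n, rfl⟩
          change η (π' (s' n)) = θ' (s n)
          rw [hext, ← hηϑ]
          congr 1
          exact Subtype.ext (hs n))
      refine ⟨P.comap π, Subgroup.comap_mono hNP, fun x => (μ x : ℂ), ?_, ⟨k, ?_⟩,
        H11.isCharacter_monoidHom μ, by simp, fun x => ?_⟩
      · rwa [Subgroup.index_comap_of_surjective _ hπ]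
      · rw [Subgroup.relIndex_comap, Subgroup.map_comap_eq_self_of_surjective hπ, hk]
      · have hz : (r x : Γ) ∈ P.comap π := by
          rw [Subgroup.mem_comap, (r x).2]; exact P.one_mem
        have h1 : (⟨x, Subgroup.comap_mono hNP x.2⟩ : P.comap π) =
            s' ⟨π x, x.2⟩ * ⟨r x, hz⟩ := Subtype.ext (hr x)
        have h2 := congrFun hμ ⟨r x, hz⟩
        have h3 : π' ⟨r x, hz⟩ = ⟨(1 : N), hNP (1 : N).2⟩ := Subtype.ext (r x).2
        simp only [Pi.mul_apply] at h2
        rw [h3, hηϑ, ← hext, map_one, hlam1, ← mul_assoc] at h2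
        have h4 : (μ ⟨r x, hz⟩ : ℂ) * lam (r x) = 1 := by
          apply mul_right_cancel₀ hθ1
          rw [← h2, one_mul]
        rw [h1]
        beta_reduce
        rw [map_mul, MonoidHom.mem_ker.mp (hμk ⟨_, rfl⟩), one_mul]
        simp only [MonoidHom.inv_apply, MonoidHom.comp_apply, Units.val_inv_eq_inv_val]
        exact eq_inv_of_mul_eq_one_left h4)
  have hirr := H11.isIrrCharacter_mul_linear hθ' hμ hμ1
  obtain ⟨χ, hχ, hχπ⟩ := H11.exists_irr_lift_of_surjective hirr π hπ (fun z hz => by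
    rw [H11.mem_charKer_irr_iff hirr]
    have hzN : z ∈ N.comap π := by
      rw [Subgroup.mem_comap, MonoidHom.mem_ker.mp hz]; exact N.one_mem
    have h1 := hμν ⟨z, hzN⟩
    simp only [MonoidHom.inv_apply, MonoidHom.comp_apply, hrz ⟨z, hz⟩ hzN,
      Units.val_inv_eq_inv_val] at h1
    simp only [Pi.mul_apply, h1, hμ1, hlam1 ⟨z, hz⟩]
    field_simp)
  refine ⟨χ, hχ, fun n => ?_⟩
  have hn : s n ∈ N.comap π := by simp [hs]
  have h1 := hμν ⟨s n, hn⟩
  simp only [MonoidHom.inv_apply, MonoidHom.comp_apply, hrs n hn, map_one, inv_one,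
    Units.val_one] at h1
  rw [← hs n, hχπ, Pi.mul_apply, h1, hext, mul_one]

end Cfsg.Agent.S0888
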