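import Cfsg.Statements.S3304
import Cfsg.Agent.H87.GL23
import Cfsg.Agent.H87.SylowLift
import Cfsg.Agent.S3742
import Cfsg.Agent.H81.Four
import Cfsg.Agent.H3.Fitting

set_option autoImplicit false
open Cfsg

namespace Cfsg.Agent.S3304

open Subgroup

theorem q8_a : ∀ q : QuaternionGroup 2, (∀ r, r * q = q * r) ↔ (q = 1 ∨ q = QuaternionGroup.a 2) := by
  decide

theorem q8_b : ∀ q : QuaternionGroup 2, (q = 1 ∨ q = QuaternionGroup.a 2) ∨
    q * q = QuaternionGroup.a 2 := by decide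

theorem q8_c : (QuaternionGroup.a 2 : QuaternionGroup 2) ≠ 1 ∧
    (QuaternionGroup.a 2 : QuaternionGroup 2) * QuaternionGroup.a 2 = 1 := by decide

theorem q8_d : ¬ ((QuaternionGroup.a 1 : QuaternionGroup 2) = 1 ∨
    (QuaternionGroup.a 1 : QuaternionGroup 2) = QuaternionGroup.a 2) := by decide

/-- membership in the Klein four-group -/
def V (σ : Equiv.Perm (Fin 4)) : Prop := σ * σ = 1 ∧ Equiv.Perm.sign σ = 1

instance instDecV : DecidablePred V := fun σ => inferInstanceAs (Decidable (_ ∧ _))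

theorem s4_a : ∀ σ : Equiv.Perm (Fin 4), V σ ∨ ∃ τ, (σ * (τ * σ * τ⁻¹)) ^ 3 = 1 ∧
    σ * (τ * σ * τ⁻¹) ≠ 1 := by decide +kernel

theorem s4_b : ∀ σ τ : Equiv.Perm (Fin 4), V σ → σ ≠ 1 → V τ → τ = 1 ∨ ∃ ρ, τ = ρ * σ * ρ⁻¹ := by
  decide +kernel

theorem s4_c : ∀ σ : Equiv.Perm (Fin 4), σ * σ = 1 → ¬ V σ →
    (∃ ρ, Equiv.swap 0 1 = ρ * σ * ρ⁻¹) ∧ (∃ ρ, Equiv.swap 1 2 = ρ * σ * ρ⁻¹) ∧
    (∃ ρ, Equiv.swap 2 3 = ρ * σ * ρ⁻¹) := by decide +kernel

theorem s4_d : V (Equiv.swap 0 1 * Equiv.swap 2 3) ∧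
    (Equiv.swap 0 1 * Equiv.swap 2 3 : Equiv.Perm (Fin 4)) ≠ 1 ∧
    (Equiv.swap 0 1 * Equiv.swap 1 2 : Equiv.Perm (Fin 4)) ^ 3 = 1 ∧
    (Equiv.swap 1 2 * Equiv.swap 2 3 : Equiv.Perm (Fin 4)) ^ 3 = 1 := by decide

theorem s4_gen : closure ({Equiv.swap 0 1, Equiv.swap 1 2, Equiv.swap 2 3} :
    Set (Equiv.Perm (Fin 4))) = ⊤ := by
  rw [eq_top_iff, ← Equiv.Perm.closure_isSwap, closure_le]
  set K := closure ({Equiv.swap 0 1, Equiv.swap 1 2, Equiv.swap 2 3} : Set (Equiv.Perm (Fin 4)))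
  have h0 : Equiv.swap 0 1 ∈ K := subset_closure (by simp)
  have h1 : Equiv.swap 1 2 ∈ K := subset_closure (by simp)
  have h2 : Equiv.swap 2 3 ∈ K := subset_closure (by simp)
  have h02 : Equiv.swap 0 2 ∈ K := by
    convert K.mul_mem (K.mul_mem h0 h1) h0 using 1; decide
  have h13 : Equiv.swap 1 3 ∈ K := by
    convert K.mul_mem (K.mul_mem h1 h2) h1 using 1; decide
  have h03 : Equiv.swap 0 3 ∈ K := by
    convert K.mul_mem (K.mul_mem h0 h13) h0 using 1; decide
  rintro _ ⟨i, j, hij, rfl⟩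
  fin_cases i <;> fin_cases j <;>
    first | exact absurd rfl hij | assumption | (rw [Equiv.swap_comm]; assumption)

theorem fac24 : (Nat.factorization 24) 2 = 3 := by
  rw [Nat.factorization_def _ Nat.prime_two]; decide +kernel

theorem fac48 : (Nat.factorization 48) 2 = 4 := by
  rw [Nat.factorization_def _ Nat.prime_two]; decide +kernel

theorem braid {X : Type*} [Group X] {a b : X} (ha : a * a = 1) (hb : b * b = 1)
    (h : (a * b) ^ 3 = 1) : a * b * a = b * a * b := by
  have h1 : (a * b * a) * (b * a * b) = 1 := by rw [← h]; simp [pow_succ, mul_assoc]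
  have h2 : (b * a * b) * (b * a * b) = 1 := by
    calc _ = b * (a * (b * b) * a) * b := by group
      _ = 1 := by rw [hb, mul_one, ha, mul_one, hb]
  exact mul_right_cancel (h1.trans h2.symm)

theorem q8_case {Q : Type*} [Group Q] [Finite Q] (E : Subgroup Q) [hE : E.Normal]
    (e : E ≃* QuaternionGroup 2) (hC : centralizer (E : Set Q) ≤ E) :
    (∃ P : Sylow 2 Q, (P : Subgroup Q).Normal) ∨ Nonempty (Q ≃* GL (Fin 2) (ZMod 3)) ∨
    (Nat.card Q = 48 ∧ Nat.card (center Q) = 2 ∧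
      Nonempty (Q ⧸ center Q ≃* Equiv.Perm (Fin 4)) ∧
      ∀ P : Sylow 2 Q, Nonempty (↥(P : Subgroup Q) ≃* QuaternionGroup 4)) := by
  have : Fact (Nat.Prime 2) := ⟨Nat.prime_two⟩
  obtain ⟨e4⟩ := S3742.result
  let π : Q →* Equiv.Perm (Fin 4) :=
    e4.toMonoidHom.comp ((MulAut.congr e).toMonoidHom.comp (MulAut.conjNormal (H := E)))
  have hker : ∀ g, π g = 1 ↔ g ∈ centralizer (E : Set Q) := by
    intro g
    have h1 : π g = 1 ↔ MulAut.conjNormal (H := E) g = 1 := by
      simp only [π, MonoidHom.comp_apply, MulEquiv.coe_toMonoidHom, map_eq_one_iff _ e4.injective,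
        map_eq_one_iff _ (MulAut.congr e).injective]
    rw [h1, mem_centralizer_iff]
    constructor
    · intro h x hx
      have h2 := congrArg (fun φ : MulAut E => ((φ ⟨x, hx⟩ : E) : Q)) h
      simp only [MulAut.conjNormal_apply, MulAut.one_apply] at h2
      exact (mul_inv_eq_iff_eq_mul.mp h2).symm
    · intro h
      ext x
      simp only [MulAut.conjNormal_apply, MulAut.one_apply]
      rw [← h x x.2]; group
  set z : Q := ((e.symm (QuaternionGroup.a 2) : E) : Q) with hz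
  have hzE : z ∈ E := (e.symm (QuaternionGroup.a 2)).2
  have hcase : ∀ x : E, (e x = 1 ∨ e x = QuaternionGroup.a 2) ↔ ((x : Q) = 1 ∨ (x : Q) = z) := by
    intro x
    rw [map_eq_one_iff _ e.injective, ← MulEquiv.eq_symm_apply, hz, Subtype.ext_iff,
      Subtype.ext_iff]
    rfl
  have hker' : ∀ g, π g = 1 ↔ (g = 1 ∨ g = z) := by
    intro g
    rw [hker]
    constructor
    · intro h
      rw [← hcase ⟨g, hC h⟩, ← q8_a]
      intro r
      obtain ⟨r, rfl⟩ := e.surjective r
      rw [← map_mul, ← map_mul]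
      congr 1
      exact Subtype.ext (h r r.2)
    · rintro (rfl | rfl)
      · exact Subgroup.one_mem _
      · intro x hx
        have := (q8_a (QuaternionGroup.a 2)).mpr (Or.inr rfl) (e ⟨x, hx⟩)
        have h2 := congrArg (fun q => ((e.symm q : E) : Q)) this
        simpa using h2
  have hz1 : z ≠ 1 := fun h => q8_c.1 (by
    rw [← e.apply_symm_apply (QuaternionGroup.a 2), show e.symm (QuaternionGroup.a 2) = 1 from
      Subtype.ext h, map_one])
  have hzz : z * z = 1 := by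
    have := congrArg (fun q => ((e.symm q : E) : Q)) q8_c.2
    simpa only [map_mul, map_one, coe_mul, coe_one] using this
  have hπz : π z = 1 := (hker' z).mpr (Or.inr rfl)
  have hzc : ∀ g, g * z = z * g := by
    intro g
    have h1 : π (g * z * g⁻¹) = 1 := by simp [hπz]
    rcases (hker' _).mp h1 with h | h
    · exact absurd (by simpa using h) hz1
    · exact mul_inv_eq_iff_eq_mul.mp h
  have hsq : ∀ x ∈ E, π x ≠ 1 → x * x = z := by
    intro x hx h
    rcases q8_b (e ⟨x, hx⟩) with h1 | h1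
    · exact absurd ((hker' x).mpr ((hcase ⟨x, hx⟩).mp h1)) h
    · have := congrArg (fun q => ((e.symm q : E) : Q)) h1
      simpa using this
  have hcE : Nat.card E = 8 := by rw [Nat.card_congr e.toEquiv, H9.nat_card_quaternion]
  have hEp : IsPGroup 2 E := IsPGroup.of_card (n := 3) hcE
  have hkz : π.ker = zpowers z := by
    apply le_antisymm
    · intro g hg
      rcases (hker' g).mp hg with rfl | rfl
      · exact Subgroup.one_mem _
      · exact mem_zpowers _
    · rw [zpowers_le]; exact hπz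
  have hoz : orderOf z = 2 := orderOf_eq_prime (by rw [pow_two, hzz]) hz1
  have hck : Nat.card π.ker = 2 := by rw [hkz, Nat.card_zpowers, hoz]
  have hcQ : Nat.card Q = 2 * Nat.card π.range := by
    rw [← π.ker.card_mul_index, hck, Subgroup.index_ker]
  have h24 : Nat.card (Equiv.Perm (Fin 4)) = 24 := by
    rw [Nat.card_perm, Nat.card_eq_fintype_card, Fintype.card_fin]; rfl
  have hd1 : Nat.card π.range ∣ 24 := h24 ▸ Subgroup.card_subgroup_dvd_card _
  have hd2 : 8 ∣ Nat.card Q := hcE ▸ Subgroup.card_subgroup_dvd_card _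
  obtain ⟨P₀⟩ : Nonempty (Sylow 2 Q) := inferInstance
  have hEP : ∀ P : Sylow 2 Q, E ≤ P := fun P => hEp.le_sylow_of_normal P
  by_cases hs : Nat.card π.range = 24
  swap
  · left
    refine ⟨P₀, ?_⟩
    have h1 := P₀.card_eq_multiplicity
    have h2 : Nat.card π.range = 4 ∨ Nat.card π.range = 8 ∨ Nat.card π.range = 12 := by
      have := Nat.le_of_dvd (by norm_num) hd1
      rw [hcQ] at hd2
      generalize Nat.card π.range = m at *
      interval_cases m <;> simp_all
    have hp2 : ∀ k, Nat.card Q = 2 ^ k → (P₀ : Subgroup Q).Normal := by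
      intro k hk
      have : (P₀ : Subgroup Q) = ⊤ :=
        (P₀.is_maximal' ((IsPGroup.of_card hk).to_subgroup ⊤) le_top).symm
      rw [this]; infer_instance
    rcases h2 with h2 | h2 | h2
    · exact hp2 3 (by rw [hcQ, h2]; rfl)
    · exact hp2 4 (by rw [hcQ, h2]; rfl)
    · have h3 : Nat.card Q = 24 := by rw [hcQ, h2]
      rw [h3] at h1
      have h4 : (Nat.factorization 24) 2 = 3 := fac24
      rw [h4] at h1
      rw [← eq_of_le_of_card_ge (hEP P₀) (by rw [h1, hcE]; rfl)]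
      exact hE
  right
  have hsurj : Function.Surjective π := by
    rw [← MonoidHom.range_eq_top]
    exact eq_top_of_card_eq _ (hs.trans h24.symm)
  have h48 : Nat.card Q = 48 := by rw [hcQ, hs]
  have hEV : ∀ x ∈ E, V (π x) := by
    intro x hx
    rcases s4_a (π x) with h | ⟨τ, h1, h2⟩
    · exact h
    · exfalso
      obtain ⟨g, rfl⟩ := hsurj τ
      have h3 : x * (g * x * g⁻¹) ∈ E := E.mul_mem hx (hE.conj_mem x hx g)
      obtain ⟨k, hk⟩ := hEp ⟨_, h3⟩
      have hk' : (x * (g * x * g⁻¹)) ^ 2 ^ k = 1 := congrArg Subtype.val hk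
      have h4 : (π x * (π g * π x * (π g)⁻¹)) ^ 2 ^ k = 1 := by
        simpa using congrArg π hk'
      apply h2
      have h5 := Nat.dvd_gcd (orderOf_dvd_of_pow_eq_one h4) (orderOf_dvd_of_pow_eq_one h1)
      rw [(Nat.Coprime.pow_left k (by norm_num : Nat.Coprime 2 3)), Nat.dvd_one] at h5
      exact orderOf_eq_one_iff.mp h5
  have hVE : ∀ g, V (π g) → g ∈ E := by
    intro g hg
    have hx1 : π (e.symm (QuaternionGroup.a 1) : E) ≠ 1 := by
      rw [Ne, hker', ← hcase, e.apply_symm_apply]; exact q8_d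
    have hk : ∀ g, π g = 1 → g ∈ E := fun g h => hC ((hker g).mp h)
    rcases s4_b _ _ (hEV _ (e.symm (QuaternionGroup.a 1)).2) hx1 hg with h | ⟨ρ, h⟩
    · exact hk g h
    · obtain ⟨r, rfl⟩ := hsurj ρ
      have h1 := hE.conj_mem _ (e.symm (QuaternionGroup.a 1)).2 r
      have h2 := hk (g * (r * (e.symm (QuaternionGroup.a 1) : E) * r⁻¹)⁻¹) (by
        rw [map_mul, map_inv, map_mul, map_mul, map_inv, ← h, mul_inv_cancel])
      exact (E.mul_mem_cancel_right (E.inv_mem h1)).mp h2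
  by_cases hinv : ∃ t, t ∉ E ∧ t * t = 1
  · left
    obtain ⟨t, htE, ht⟩ := hinv
    obtain ⟨⟨ρ0, h0⟩, ⟨ρ1, h1⟩, ⟨ρ2, h2⟩⟩ := s4_c (π t) (by rw [← map_mul, ht, map_one])
      (fun h => htE (hVE t h))
    have lift : ∀ σ ρ, σ = ρ * π t * ρ⁻¹ → ∃ s, π s = σ ∧ s * s = 1 := by
      intro σ ρ h
      obtain ⟨r, rfl⟩ := hsurj ρ
      refine ⟨r * t * r⁻¹, by simp [h], ?_⟩
      calc _ = r * (t * t) * r⁻¹ := by group
        _ = 1 := by rw [ht]; group
    have adj : ∀ a b : Q, b * b = 1 → (π a * π b) ^ 3 = 1 →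
        ∃ b', π b' = π b ∧ b' * b' = 1 ∧ (a * b') ^ 3 = 1 := by
      intro a b hb h
      rcases (hker' ((a * b) ^ 3)).mp (by simpa using h) with h1 | h1
      · exact ⟨b, rfl, hb, h1⟩
      · refine ⟨b * z, by simp [hπz], ?_, ?_⟩
        · rw [mul_assoc, ← mul_assoc z, ← hzc b, mul_assoc, hzz, mul_one, hb]
        · rw [← mul_assoc, Commute.mul_pow (hzc _), h1, pow_succ, pow_two, hzz, one_mul, hzz]
    obtain ⟨s0, hs0, hs0'⟩ := lift _ _ h0
    obtain ⟨s1, hs1, hs1'⟩ := lift _ _ h1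
    obtain ⟨s2, hs2, hs2'⟩ := lift _ _ h2
    obtain ⟨s1, hs1a, hs1', h01⟩ := adj s0 s1 hs1' (by rw [hs0, hs1]; exact s4_d.2.2.1)
    rw [hs1] at hs1a
    obtain ⟨s2, hs2a, hs2', h12⟩ := adj s1 s2 hs2' (by rw [hs1a, hs2]; exact s4_d.2.2.2)
    rw [hs2] at hs2a
    have h02 : (s0 * s2) * (s0 * s2) = z := hsq _ (hVE _ (by
      rw [map_mul, hs0, hs2a]; exact s4_d.1)) (by rw [map_mul, hs0, hs2a]; exact s4_d.2.1)
    refine H87.equiv_GL23 s0 s1 s2 z hzz hzc hs0' hs1' hs2' (braid hs0' hs1' h01)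
      (braid hs1' hs2' h12) ?_ ?_ h48
    · rw [← h02]
      calc s0 * s2 = (s2 * s2) * s0 * s2 := by rw [hs2', one_mul]
        _ = s2 * (s0 * s0) * s2 * s0 * s2 := by rw [hs0']; group
        _ = _ := by group
    · set K := closure ({s0, s1, s2} : Set Q)
      have k0 : s0 ∈ K := subset_closure (by simp)
      have k2 : s2 ∈ K := subset_closure (by simp)
      have hzK : z ∈ K := h02 ▸ K.mul_mem (K.mul_mem k0 k2) (K.mul_mem k0 k2)
      have hm : K.map π = ⊤ := by
        rw [MonoidHom.map_closure]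
        simpa [Set.image_insert_eq, hs0, hs1a, hs2a] using s4_gen
      have := comap_map_eq π K
      rw [hm, comap_top, hkz, sup_eq_left.mpr (zpowers_le.mpr hzK)] at this
      exact this.symm
  · right
    have hcen : center Q = π.ker := by
      apply le_antisymm
      · intro g hg
        rw [MonoidHom.mem_ker, hker]
        intro x _
        exact mem_center_iff.mp hg x
      · rw [hkz, zpowers_le, mem_center_iff]; exact hzc
    refine ⟨h48, by rw [hcen, hck], ⟨(QuotientGroup.quotientMulEquivOfEq hcen).trans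
      (QuotientGroup.quotientKerEquivOfSurjective π hsurj)⟩, fun P => ?_⟩
    have huniq : ∀ x : Q, orderOf x = 2 → x = z := by
      intro x hx
      have hxx := H9.mul_self_of_orderOf_two hx
      have hxE : x ∈ E := by
        by_contra h
        exact hinv ⟨x, h, hxx⟩
      by_cases h : π x = 1
      · exact ((hker' x).mp h).resolve_left (H9.ne_one_of_orderOf_two hx)
      · exact absurd ((hsq x hxE h).symm.trans hxx) hz1
    rcases H87.isCyclic_or_quaternion_of_inv_unique P.isPGroup'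
      (fun x _ y _ hx hy => (huniq x hx).trans (huniq y hy).symm) with h | ⟨n, -, ⟨f⟩⟩
    · exfalso
      have h1 : IsCyclic E := isCyclic_of_le (hEP P)
      have h2 : IsCyclic (QuaternionGroup 2) := isCyclic_of_surjective e e.surjective
      let _ := h2.commGroup
      exact q8_d ((q8_a _).mp fun r => mul_comm _ _)
    · have h1 := P.card_eq_multiplicity
      have h4 : (Nat.factorization 48) 2 = 4 := fac48
      rw [h48, h4, Nat.card_congr f.toEquiv, H9.nat_card_quaternion] at h1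
      have h5 : 2 ^ n = 4 := by omega
      rw [h5] at f
      exact ⟨f⟩

/-- Let G be a finite solvable group in which the intersection of any two distinct Sylow 2-subgroups has 2-rank at most 1 (contains no Klein four-group). Write Q = G/O(G), O(G) the largest normal subgroup of odd order. Then Q has a normal Sylow 2-subgroup; or Q is isomorphic to GL(2,3); or Q has order 48, centre of order 2 with central quotient isomorphic to the symmetric group of degree 4, and generalized quaternion Sylow 2-subgroups of order 16 (the binary octahedral group). The last two are the two representation groups of the symmetric group of degree 4. -/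
theorem result {G : Type*} [Group G] [Finite G] (hs : Group.IsSolvable G)
    (hI : ∀ S T : Sylow 2 G, S ≠ T → Cfsg.PRankLE 2 1 ↥((S : Subgroup G) ⊓ (T : Subgroup G))) :
    (∃ P : Sylow 2 (G ⧸ Cfsg.oddCore G), (P : Subgroup (G ⧸ Cfsg.oddCore G)).Normal) ∨
    Nonempty ((G ⧸ Cfsg.oddCore G) ≃* GL (Fin 2) (ZMod 3)) ∨
    (Nat.card (G ⧸ Cfsg.oddCore G) = 48 ∧ Nat.card ↥(Subgroup.center (G ⧸ Cfsg.oddCore G)) = 2 ∧
      Nonempty ((G ⧸ Cfsg.oddCore G) ⧸ Subgroup.center (G ⧸ Cfsg.oddCore G) ≃* Equiv.Perm (Fin 4)) ∧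
      ∀ P : Sylow 2 (G ⧸ Cfsg.oddCore G), Nonempty (↥(P : Subgroup (G ⧸ Cfsg.oddCore G)) ≃* QuaternionGroup 4)) := by
  have : Fact (Nat.Prime 2) := ⟨Nat.prime_two⟩
  set Q := G ⧸ Cfsg.oddCore G
  obtain ⟨P⟩ : Nonempty (Sylow 2 Q) := inferInstance
  by_cases hn : (P : Subgroup Q).Normal
  · exact Or.inl ⟨P, hn⟩
  obtain ⟨T, hT⟩ : ∃ T : Sylow 2 Q, P ≠ T := by
    by_contra h
    push Not at h
    have : Subsingleton (Sylow 2 Q) := ⟨fun a b => (h a).symm.trans (h b)⟩
    exact hn (Sylow.normal_of_subsingleton P)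
  set π : G →* Q := QuotientGroup.mk' (Cfsg.oddCore G) with hπ
  obtain ⟨S₁, T₁, hS, hT₁, hST⟩ :=
    H87.exists_sylow_pair_map (QuotientGroup.mk'_surjective (Cfsg.oddCore G)) P T
  have h1 : S₁ ≠ T₁ := by
    rintro rfl
    exact hT (Sylow.ext (hS.symm.trans hT₁))
  have hr := hI S₁ T₁ h1
  set E := Cfsg.pCore 2 Q
  have hEp : IsPGroup 2 E := H3.pCore_isPGroup 2 Q
  have hC : Subgroup.centralizer (E : Set Q) ≤ E :=
    H3.centralizer_pCore_le (H3.pPrimeCore_quotient_pPrimeCore 2 G)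
  have hD : IsPGroup 2 ↥((S₁ : Subgroup G) ⊓ T₁) := S₁.isPGroup'.to_inf_left
  have hinj : ∀ x ∈ (S₁ : Subgroup G) ⊓ T₁, π x = 1 → x = 1 := by
    intro x hx h
    have h2 : x ∈ Cfsg.oddCore G := (QuotientGroup.eq_one_iff x).mp h
    have := H3.inf_eq_bot_of_isPGroup_of_coprime hD (H3.pPrimeCore_coprime 2 G)
    exact (Subgroup.mem_bot).mp (this ▸ ⟨hx, h2⟩)
  have huD : ∀ x ∈ (S₁ : Subgroup G) ⊓ T₁, ∀ y ∈ (S₁ : Subgroup G) ⊓ T₁,
      orderOf x = 2 → orderOf y = 2 → x = y := by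
    intro x hx y hy hx2 hy2
    have hne : (S₁ : Subgroup G) ⊓ T₁ ≠ ⊥ := fun h =>
      H9.ne_one_of_orderOf_two hx2 ((Subgroup.mem_bot).mp (h ▸ hx))
    obtain ⟨z, hz, hzc, hz1, hz2⟩ := H81.exists_central_order_prime hD hne
    have key : ∀ x ∈ (S₁ : Subgroup G) ⊓ T₁, orderOf x = 2 → x = z := by
      intro x hx hx2
      by_contra hxz
      have hzo : orderOf z = 2 := orderOf_eq_prime hz2 hz1
      have hx2' : x ^ 2 = 1 := hx2 ▸ pow_orderOf_eq_one x
      have hxc : x ∈ Subgroup.centralizer (Subgroup.zpowers z : Set G) := by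
        rintro _ ⟨k, rfl⟩
        exact Commute.zpow_left (show Commute z x from (hzc x hx).symm) k
      refine H81.not_pRankLE_iff.mpr ⟨Subgroup.zpowers z ⊔ Subgroup.zpowers x, ?_, ?_, ?_⟩ hr
      · exact sup_le (Subgroup.zpowers_le.mpr hz) (Subgroup.zpowers_le.mpr hx)
      · refine H81.isEA_sup_zpowers ⟨inferInstance, ?_⟩ hx2' hxc
        rintro _ ⟨k, rfl⟩
        rw [← zpow_natCast, ← zpow_mul, mul_comm, zpow_mul, zpow_natCast, hz2, one_zpow]
      · rw [H81.card_sup_zpowers hx2' ?_ (Subgroup.centralizer_le_normalizer _ hxc),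
          Nat.card_zpowers, hzo]
        · rfl
        intro h
        exact hxz (H81.involution_unique_of_isCyclic (R := Subgroup.zpowers z) inferInstance h
          (Subgroup.mem_zpowers z) hx2 hzo)
    exact (key x hx hx2).trans (key y hy hy2).symm
  have hEle : E ≤ ((S₁ : Subgroup G) ⊓ T₁).map π := by
    rw [hπ, hST]; exact le_inf (H3.pCore_le_sylow P) (H3.pCore_le_sylow T)
  have huE : ∀ x ∈ E, ∀ y ∈ E, orderOf x = 2 → orderOf y = 2 → x = y := by
    have lift : ∀ x ∈ E, orderOf x = 2 → ∃ x' ∈ (S₁ : Subgroup G) ⊓ T₁, π x' = x ∧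
        orderOf x' = 2 := by
      intro x hx hx2
      obtain ⟨x', hx', rfl⟩ := hEle hx
      refine ⟨x', hx', rfl, orderOf_eq_prime (hinj _ (Subgroup.pow_mem _ hx' 2) ?_) ?_⟩
      · rw [map_pow, pow_two, H9.mul_self_of_orderOf_two hx2]
      · rintro rfl
        simp at hx2
    intro x hx y hy hx2 hy2
    obtain ⟨x', hx', rfl, hx2'⟩ := lift x hx hx2
    obtain ⟨y', hy', rfl, hy2'⟩ := lift y hy hy2
    rw [huD x' hx' y' hy' hx2' hy2']
  have hp : ¬ IsPGroup 2 (MulAut E) := by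
    intro h
    have h4 := H87.isPGroup_of_aut_pCore hC h
    apply hn
    have : (P : Subgroup Q) = ⊤ := (P.is_maximal' (h4.to_subgroup ⊤) le_top).symm
    rw [this]; infer_instance
  rcases H87.isCyclic_or_quaternion_of_inv_unique hEp huE with h | ⟨n, hn1, ⟨e⟩⟩
  · exact absurd (H87.isPGroup_mulAut_of_isCyclic hEp) hp
  · rcases hn1.eq_or_lt with rfl | hn2
    · exact q8_case E e hC
    · exact absurd (H87.isPGroup_mulAut_of_quaternion hn2 e) hp

end Cfsg.Agent.S3304
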