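import Cfsg.Statements.S2471
import Cfsg.Agent.H77.Mat2
import Cfsg.Agent.H57.Spec2

set_option autoImplicit false
open Cfsg

namespace Cfsg.Agent.S2471

open Cfsg.Agent.H77

/-- In PSL(2,q) with q odd, the characteristic p is isolated from 2 in the prime graph: for F a finite field of odd characteristic p with at least 5 elements, PSL(2,F) has no element of order 2p. -/
theorem result {F : Type*} [Field F] [Fintype F] (p : ℕ) [Fact p.Prime] [CharP F p] (hp : p ≠ 2) (h5 : 5 ≤ Fintype.card F) (g : Matrix.ProjectiveSpecialLinearGroup (Fin 2) F) :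
    orderOf g ≠ 2 * p := by
  intro hg
  have h := Cfsg.Agent.H57.spec_psl2 (F := F) p
  have hm : 2 * p ∈ Cfsg.Agent.H57.spec (Cfsg.Agent.H57.PSL2 F) := ⟨g, hg⟩
  rw [h] at hm
  have hpp : p.Prime := Fact.out
  obtain ⟨n, -, hn⟩ := FiniteField.card F p
  have hpq : p ∣ Fintype.card F := by rw [hn]; exact dvd_pow_self p n.ne_zero
  have h1 : ¬ p ∣ Fintype.card F - 1 := fun h => by
    have := (Nat.dvd_sub_iff_right (show 1 ≤ Fintype.card F by omega) hpq).mp h
    exact hpp.one_lt.ne' (Nat.dvd_one.mp this)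
  have h2 : ¬ p ∣ Fintype.card F + 1 := fun h => by
    have := (Nat.dvd_add_right hpq).mp h
    exact hpp.one_lt.ne' (Nat.dvd_one.mp this)
  rcases hm with hm | hm | hm
  · have := Nat.le_of_dvd hpp.pos hm
    have := hpp.pos
    omega
  · exact h1 (((Dvd.intro_left 2 rfl).trans hm).trans (Nat.div_dvd_of_dvd (Nat.gcd_dvd_right _ _)))
  · exact h2 (((Dvd.intro_left 2 rfl).trans hm).trans (Nat.div_dvd_of_dvd (Nat.gcd_dvd_right _ _)))

end Cfsg.Agent.S2471
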