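import Cfsg.Statements.S0060
import Cfsg.Agent.H1.Nilp

set_option autoImplicit false
open Pointwise
open Cfsg

namespace Cfsg.Agent.S0060

/-- Brodkey's Theorem: in a finite group with abelian Sylow p-subgroups and no nontrivial normal p-subgroup, some conjugate of a Sylow p-subgroup meets it trivially. -/
theorem result {G : Type*} [Group G] [Finite G] (p : ℕ) [Fact p.Prime]
    (S : Sylow p G) (hS : IsMulCommutative S) (hOp : Cfsg.pCore p G = ⊥) :
    ∃ g : G, (S : Subgroup G) ⊓ MulAut.conj g • (S : Subgroup G) = ⊥ := by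
  open Subgroup in
  obtain ⟨T, hT⟩ := exists_minimalFor_of_wellFoundedLT (fun _ : Sylow p G => True)
    (fun T => (S : Subgroup G) ⊓ (T : Subgroup G)) ⟨S, trivial⟩
  obtain ⟨g, rfl⟩ := MulAction.exists_smul_eq G S T
  refine ⟨g, ?_⟩
  rw [← Sylow.coe_subgroup_smul]
  set T := g • S with hTdef
  have hTc : IsMulCommutative (T : Subgroup G) := by
    rw [hTdef, Sylow.coe_subgroup_smul]
    exact map_isMulCommutative _ _
  have hSc : IsMulCommutative (S : Subgroup G) := hS
  set D := (S : Subgroup G) ⊓ (T : Subgroup G) with hD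
  have hSN : (S : Subgroup G) ≤ normalizer (D : Set G) :=
    ((S : Subgroup G).le_centralizer.trans (centralizer_le
      (SetLike.coe_subset_coe.2 inf_le_left))).trans (centralizer_le_normalizer _)
  have hTN : (T : Subgroup G) ≤ normalizer (D : Set G) :=
    ((T : Subgroup G).le_centralizer.trans (centralizer_le
      (SetLike.coe_subset_coe.2 inf_le_right))).trans (centralizer_le_normalizer _)
  have key : ∀ P : Sylow p G, D ≤ P := by
    intro P
    set N := normalizer (D : Set G)
    have h1 : IsPGroup p ((P : Subgroup G).subgroupOf N) := P.isPGroup'.comap_subtype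
    obtain ⟨n, hn⟩ := H1.exists_conj_le_of_not_dvd_index h1 (T.subtype hTN).not_dvd_index
    have h2 : (S : Subgroup G) ⊓ (((n : G) • P : Sylow p G) : Subgroup G) ≤ D := by
      rintro x ⟨hxS, hxP⟩
      refine ⟨hxS, ?_⟩
      have hx : (⟨x, hSN hxS⟩ : N) ∈ MulAut.conj n • (P : Subgroup G).subgroupOf N := by
        rw [H1.mem_conj_smul_iff, mem_subgroupOf]
        exact H1.mem_conj_smul_iff.1 hxP
      exact hn hx
    have h3 : D ≤ (((n : G) • P : Sylow p G) : Subgroup G) :=
      (hT.2 trivial h2).trans inf_le_right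
    rw [← H1.mem_normalizer_iff_conj_smul.1 n.2, Sylow.coe_subgroup_smul,
      pointwise_smul_le_pointwise_smul_iff] at h3
    exact h3
  have hnorm : (⨅ P : Sylow p G, (P : Subgroup G)).Normal := by
    refine H1.normal_of_conj_le fun x => le_iInf fun P => ?_
    rw [pointwise_smul_subset_iff, ← map_inv, ← Sylow.coe_subgroup_smul]
    exact iInf_le _ _
  rw [eq_bot_iff, ← hOp]
  exact (le_iInf key).trans (le_sSup ⟨hnorm, S.isPGroup'.to_le (iInf_le _ S)⟩)

end Cfsg.Agent.S0060
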