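import Cfsg.Statements.S0804
import Cfsg.Agent.H29.PSLFacts

set_option autoImplicit false
open Cfsg

namespace Cfsg.Agent.S0804

/-- PSL_2(q) has a subgroup isomorphic to A_5 iff 5 ∣ q(q² − 1). -/
theorem result {F : Type*} [Field F] [Fintype F] {q : ℕ} (hF : Fintype.card F = q) : (∃ H : Subgroup (Matrix.ProjectiveSpecialLinearGroup (Fin 2) F), Nonempty (H ≃* alternatingGroup (Fin 5))) ↔ 5 ∣ q * (q ^ 2 - 1) := by
  rw [← Nat.card_eq_fintype_card] at hF
  subst hF
  rw [H29.exists_psl_subgroup_iff]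
  refine ⟨?_, H29.exists_A5_le_L⟩
  rintro ⟨H, -, ⟨e⟩⟩
  have h1 := Subgroup.card_subgroup_dvd_card H
  rw [Nat.card_congr e.toEquiv, H29.card_A5, H29.card_PGL2, mul_left_comm, ← Nat.sq_sub_sq,
    one_pow] at h1
  exact (show 5 ∣ 60 by norm_num).trans h1

end Cfsg.Agent.S0804
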