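import Cfsg.Statements.S2372
import Cfsg.Agent.H34.Tori3

set_option autoImplicit false
open Cfsg

namespace Cfsg.Agent.S2372

open Cfsg.Agent.H34 Cfsg.Lie Cfsg.Agent.H40

/-- Data of the certificate. -/
def dCt : List (List ℤ) := [[2, -1, 0, 0], [-1, 2, -1, 0], [0, -2, 2, -1], [0, 0, -1, 2]]

/-- Data of the certificate. -/
def dA : List (List ℤ) := [[1, 2, 2, 0], [-1, -1, 0, 0], [1, 1, 1, 1], [-1, -1, -2, -1]]

/-- Data of the certificate. -/
def dL : List (List ℤ) := [[1, 0, 0, 0], [1, -1, 1, -1], [1, 0, 0, -1], [1, -1, 0, 0], [-1, 0, 0, 0]]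

/-- Data of the certificate. -/
def dp : List (List ℤ) := [[1, 0, 0, 0], [1, 0, 0, -1], [1, 1, -1, -1], [1, 0, -1, 0]]

/-- Data of the certificate. -/
def dchi : List ℤ := [1, 0, 0, 0, 1]

/-- Data of the certificate. -/
def dF0 : List (List ℤ) := [[-1, 0, 1, 0], [0, -1, 0, 1], [-1, 1, -1, 1], [-1, 0, 0, 0], [-1, -1, 1, -1], [-2, 1, 0, -1], [-1, 0, -1, 0], [0, 0, 0, 1], [0, -1, 1, 0], [-1, 1, 0, 0], [0, 0, -1, 1], [-1, 0, 1, -1], [0, -1, 0, 0], [-1, 1, -1, 0], [-1, 0, 0, -1], [1, -1, 1, 1], [0, 1, 0, 1], [1, 0, -1, 2], [0, 0, 1, 0], [1, -1, 0, 1], [0, 1, -1, 1], [0, -1, 2, -1], [1, -2, 1, 0], [-1, 1, 1, -1]]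

/-- Data of the certificate. -/
def dF1 : List (List ℤ) := [[1, -1, -1, 1], [-1, 2, -1, 0], [0, 1, -2, 1], [0, -1, 1, -1], [-1, 1, 0, -1], [0, 0, -1, 0], [-1, 0, 1, -2], [0, -1, 0, -1], [-1, 1, -1, -1], [1, 0, 0, 1], [1, -1, 1, 0], [0, 1, 0, 0], [1, 0, -1, 1], [0, 0, 1, -1], [1, -1, 0, 0], [0, 1, -1, 0], [0, 0, 0, -1], [1, 0, 1, 0], [2, -1, 0, 1], [1, 1, -1, 1], [1, 0, 0, 0], [1, -1, 1, -1], [0, 1, 0, -1], [1, 0, -1, 0]]

/-- Data of the certificate. -/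
def dF : List (List ℤ) := dF0 ++ dF1

/-- Data of the certificate. -/
def dpp : List (List ℤ) := [[0, -1, 0, 1], [0, 0, 0, -1], [0, 0, -1, 1], [-1, 1, 1, -1]]

/-- Data of the certificate. -/
def dbeta : List ℕ := [11, 13, 19, 20]

/-- Data of the certificate. -/
def dw : List ℕ := [1, 3, 2, 1, 2, 0]

/-- Data of the certificate. -/
def dlens : List ℤ := [4, 4, 4, 2, 4, 4, 4, 2, 2, 2, 2, 2, 2, 2, 2, 4, 4, 4, 2, 2, 2, 4, 4, 4, 4, 4, 4, 2, 2, 2, 4, 4, 4, 2, 2, 2, 2, 2, 2, 2, 2, 4, 4, 4, 2, 4, 4, 4]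

theorem wm : WordMat chevF4 dCt dw dA := by decide +kernel
theorem cyc : CycCert chevF4.rank dA dL dp dchi := by decide +kernel
theorem reg : RegCert chevF4 dp dF dbeta 1 dpp := by decide +kernel
theorem bnd : BndCond chevF4.rank chevF4.nroots dF dbeta 1 (4 : ℕ) := by decide +kernel
theorem num : ∀ q < 4, 2 ≤ q → NumCond chevF4.rank chevF4.nroots dF dbeta (dlens.getD · 0) (q : ℕ)
    (pv (q : ℕ) (chevF4.rank + 1) (dchi.getD · 0)) := by decide +kernel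
theorem comb0 : ∀ k < chevF4.rank, ∑ j ∈ Finset.range chevF4.rank,
    ([2, 3, 2, 1] : List ℤ).getD j 0 * gt dF (chevF4.simple j) k = ([1] : List ℤ).getD k 0 := by decide +kernel
theorem lenInv : ∀ i < chevF4.rank, ∀ r < chevF4.nroots,
    (dlens.getD · 0) (chevF4.reflectRoot i r) = (dlens.getD · 0) r := by decide +kernel
theorem pvchi (q : ℤ) : pv q (chevF4.rank + 1) (dchi.getD · 0) = (1) * q ^ 0 + (1) * q ^ 4 := by
  show pv q (4 + 1) _ = _
  simp [pv, Finset.sum_range_succ, dchi]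
  try ring
theorem pvh0 (q : ℤ) : pv q chevF4.rank (([1] : List ℤ).getD · 0) = (1) * q ^ 0 := by
  show pv q 4 _ = _
  simp [pv, Finset.sum_range_succ]


/-- The group F₄(q) contains a cyclic subgroup of order q⁴ + 1 which is its own centralizer. -/
theorem result {F : Type*} [Field F] [Fintype F] (q : ℕ) (hF : Fintype.card F = q) :
    ∃ H : Subgroup ↥(Cfsg.Lie.chevF4.group F), IsCyclic ↥H ∧ Nat.card ↥H = q ^ 4 + 1 ∧
      Subgroup.centralizer (H : Set ↥(Cfsg.Lie.chevF4.group F)) = H := by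
  let C : Cert chevF4 := cert (by simp)
  let k := AlgebraicClosure F
  have hq2 : 2 ≤ q := hF ▸ Fintype.one_lt_card
  obtain ⟨l, -, hA⟩ := C.rep_of_wordMat wm
  obtain ⟨j, hj, hS⟩ := C.exists_emb_of_inj (algebraMap F k) hF (C.S.word_mem_W l) hA
    (C.tg_injective_of kerF4)
  have h0 := (exists_frob_ext (algebraMap F k) (q := q) (m := 1)
    (hF ▸ FiniteField.isPrimePow_card F) (by rw [hF, pow_one])).1
  have hz : (2 : ℤ) ≤ q := by exact_mod_cast hq2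
  refine C.exists_selfcent_of_cert j hj hS cyc reg lenInv
    (numCond_of bnd one_pos num hq2 ?_) h0 (by decide +kernel) (g := 1) one_pos ?_
    (fun _ _ => by simp) fun a ha => ?_
  · rw [pvchi]
    show (q : ℤ) ^ 4 ≤ _
    nlinarith
  · rw [pvchi]
    push_cast; ring
  · have := dvd_mul_pv_of_comb (F := fun j => gt dF (chevF4.simple j)) comb0 ha
    rwa [pvh0] at this

end Cfsg.Agent.S2372
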