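import Cfsg.Statements.S2343
import Cfsg.Agent.H39.ReeInst
import Cfsg.Agent.H39.ReeRep

set_option autoImplicit false
open Cfsg

namespace Cfsg.Agent.S2343

/-- For the Ree group ²G₂(q), q = 3^(2m+1) with m ≥ 1 (realised over the field with q elements), every irreducible complex representation of degree at least 2 has degree at least q² − q + 1. -/
theorem result {K : Type*} [Field K] [Fintype K] (m : ℕ) (hm : 1 ≤ m) (hK : Fintype.card K = 3 ^ (2 * m + 1)) :
    (∀ (k : ℕ) (ρ : Representation ℂ (Cfsg.Lie.twistedG2 K (3 ^ m)) (Fin k → ℂ)), ρ.IsIrreducible → 2 ≤ k → (3 ^ (2 * m + 1)) ^ 2 - 3 ^ (2 * m + 1) + 1 ≤ k) := by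
  obtain ⟨S, -⟩ := H39.exists_ree hK
  have := H39.reeField_of_card hm hK
  intro k ρ hρ hk
  have h := S.le_finrank ρ fun e => by
    have := S.isSimpleGroup
    have h1 : ρ.ker = ⊤ := (ρ.normal_ker.eq_bot_or_eq_top).resolve_left fun h =>
      S.u001_ne_one ((Subgroup.eq_bot_iff_forall _).mp h _ e)
    have h2 : ∀ g, ρ g = 1 := fun g => (h1 ▸ Subgroup.mem_top g : g ∈ ρ.ker)
    let W : Subrepresentation ρ := ⟨Submodule.span ℂ {Pi.single ⟨0, by omega⟩ 1}, fun g v hv => by
      rw [h2]
      exact hv⟩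
    have h3 : Module.finrank ℂ W.toSubmodule = 1 := finrank_span_singleton (by simp)
    rcases hρ.eq_bot_or_eq_top W with e | e
    · rw [e] at h3
      change Module.finrank ℂ (⊥ : Submodule ℂ (Fin k → ℂ)) = 1 at h3
      simp at h3
    · rw [e] at h3
      change Module.finrank ℂ (⊤ : Submodule ℂ (Fin k → ℂ)) = 1 at h3
      simp at h3
      omega
  simpa [hK] using h

end Cfsg.Agent.S2343
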