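import Cfsg.Statements.S2358
import Cfsg.Agent.H39.ReeInst
import Cfsg.Agent.H39.ReeThm

set_option autoImplicit false
open Cfsg

namespace Cfsg.Agent.S2358

/-- Let R be the small Ree group over the field with q = 3^(2m+1) ≥ 27 elements. If d divides one of (q−1)/2, (q+1)/4, q − 3^(m+1) + 1 or q + 3^(m+1) + 1, then any two cyclic subgroups of R of order d are conjugate in R. -/
theorem result {K : Type*} [Field K] [Fintype K] {m : ℕ} (hm : 1 ≤ m)
    (hK : Fintype.card K = 3 ^ (2 * m + 1)) (d : ℕ)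
    (hd : d ∣ (3 ^ (2 * m + 1) - 1) / 2 ∨ d ∣ (3 ^ (2 * m + 1) + 1) / 4 ∨ d ∣ 3 ^ (2 * m + 1) - 3 ^ (m + 1) + 1 ∨ d ∣ 3 ^ (2 * m + 1) + 3 ^ (m + 1) + 1)
    (A B : Subgroup ↥(Cfsg.Lie.twistedG2 K (3 ^ m))) (hA : IsCyclic A) (hB : IsCyclic B)
    (hAd : Nat.card A = d) (hBd : Nat.card B = d) :
    ∃ g : ↥(Cfsg.Lie.twistedG2 K (3 ^ m)), B = A.map (MulAut.conj g).toMonoidHom := by
  obtain ⟨R, -⟩ := H39.exists_ree hK
  have := H39.reeField_of_card hm hK
  have := R.finite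
  have hF : Nat.card K = 3 ^ (2 * m + 1) := by rw [Nat.card_eq_fintype_card, hK]
  obtain ⟨x₁, x₂, h1, h2, c1, c2, -⟩ := R.exists_tori hF
  rcases hd with h | h | h | h
  · have := R.isCyclic_H
    rw [← hF] at h
    exact H39.exists_conj_of_isCyclic (fun x hx => R.exists_conj_mem_H
      (hx ▸ h.trans (H39.Ree.half_dvd K))) hA hB hAd hBd
  · have := R.isCyclic_M
    rw [← hF] at h
    exact H39.exists_conj_of_isCyclic (fun x hx => R.exists_conj_mem_M' (hx ▸ h)) hA hB hAd hBd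
  · have := h1.isCyclic_centralizer
    exact H39.exists_conj_of_isCyclic (fun x hx => h1.exists_conj_mem (by rwa [hx, c1]))
      hA hB hAd hBd
  · have := h2.isCyclic_centralizer
    exact H39.exists_conj_of_isCyclic (fun x hx => h2.exists_conj_mem (by rwa [hx, c2]))
      hA hB hAd hBd

end Cfsg.Agent.S2358
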