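import Cfsg.Statements.S2142
import Cfsg.Agent.H33.SpTwo
import Cfsg.Agent.H33.OrthDeg8

set_option autoImplicit false
open Cfsg

namespace Cfsg.Agent.S2142

/-- Minimal index of a proper subgroup of the symplectic groups over the field with 2 elements: for m ≥ 3, every proper subgroup of Sp_2m(2) has index at least 2^(m−1)(2^m − 1), and that index is attained. -/
theorem result {F : Type*} [Field F] [Fintype F] (hF : Fintype.card F = 2) (m : ℕ) (hm : 3 ≤ m) : (∀ H : Subgroup (Cfsg.PSp m F), H ≠ ⊤ → 2 ^ (m - 1) * (2 ^ m - 1) ≤ H.index) ∧ (∃ H : Subgroup (Cfsg.PSp m F), H.index = 2 ^ (m - 1) * (2 ^ m - 1)) := by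
  classical
  obtain ⟨k, rfl⟩ : ∃ k, m = k + 2 := ⟨m - 2, by omega⟩
  have h01 : ∀ c : F, c ≠ 0 → c = 1 := H30.isF2_iff_card.2 hF
  have h2 := H30.IsF2.two_eq_zero h01
  have hA := H27.jBilin_isAlt (l := Fin (k + 2)) (F := F)
  have hB := H27.jBilin_nondegenerate (l := Fin (k + 2)) (F := F)
  have nd := H30.qPlus_nondegenerate (F := F) (k + 2)
  have hV : Module.finrank F (Fin (k + 2) ⊕ Fin (k + 2) → F) = 2 * k + 4 := by
    simp; omega
  have hp : H79.IsPlus (F := F) (H30.qPlus F (k + 2)) := H79.isPlus_plus _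
  have hpol : ∀ u v, QuadraticMap.polar (H30.qPlus F (k + 2)) u v =
      H27.jBilin (Fin (k + 2)) F u v := fun u v => by
    rw [H30.polar_qPlus, H27.jBilin_apply_sum]
    exact Finset.sum_congr rfl fun i _ => by
      linear_combination (u (Sum.inl i) * v (Sum.inr i)) * h2
  have hQ : ∀ u v, H30.qPlus F (k + 2) (u + v) = H30.qPlus F (k + 2) u + H30.qPlus F (k + 2) v +
      H27.jBilin (Fin (k + 2)) F u v := fun u v => by rw [H30.Q_add, hpol]
  obtain ⟨x, x', h⟩ := H30.exists_isHyp_of_three_le nd (by omega)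
  have hd : Module.finrank F (H30.hperp (H30.qPlus F (k + 2)) x x') = 2 * k + 2 := by
    have := h.finrank_hperp
    omega
  have hk : 1 ≤ 2 ^ (k + 1) := Nat.one_le_two_pow
  refine H33.min_index_quotient _ (H28.centerQuotEquiv (H27.spEquiv (Fin (k + 2)) F))
    (fun H hH => le_trans ?_ (H33.SD.two_le_index h01 hQ hB hA ((hpol x x').symm.trans h.pol)
      (by omega) (n := 2 ^ k * (2 ^ (k + 1) - 1)) (fun c => ?_) H hH)) ?_
  · rw [hV, show 2 * k + 4 - 2 = 2 * k + 2 by omega, show k + 2 - 1 = k + 1 by omega]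
    zify [hk, Nat.one_le_two_pow]
    exact le_of_eq (by ring)
  · have h3 := H33.OD.card_nrm (Q := H30.qPlus F (k + 2)) (H30.hperp (H30.qPlus F (k + 2)) x x') c
    have h4 : 2 ^ k * (2 ^ (k + 1) - 1) ≤ H30.nc ((H30.qPlus F (k + 2)).restrict
        (H30.hperp (H30.qPlus F (k + 2)) x x')) c := by
      zify [hk]
      by_cases hc : c = 0
      · rw [hc, H30.nc_plus_zero_int (h.nondegOn_hperp nd).restrict hd ((h.isPlus_iff nd).1 hp),
          Nat.card_eq_fintype_card, hF, ← sub_nonneg]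
        push_cast
        ring_nf
        positivity
      · rw [H30.nc_plus_ne_zero_int (h.nondegOn_hperp nd).restrict hd ((h.isPlus_iff nd).1 hp) hc,
          Nat.card_eq_fintype_card, hF]
        push_cast
        exact le_of_eq (by ring)
    refine h4.trans (h3.symm.le.trans (Finset.card_le_card fun w hw => ?_))
    obtain ⟨h5, h6⟩ := (Finset.mem_filter.1 hw).2
    exact Finset.mem_filter.2 ⟨H33.SD.mem_hf.2 ⟨(H33.SD.mem_hp hA).2
      ⟨(hpol w x).symm.trans h5.1, (hpol w x').symm.trans h5.2⟩, trivial⟩, h6⟩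
  · obtain ⟨w, hw⟩ := H30.exists_Q_eq nd (by omega) 1
    obtain ⟨H, hH⟩ := H33.SD.two_exists_index h01 hQ hB hA w
    refine ⟨H, fun g hg => ?_, ?_⟩
    · obtain ⟨a, ha⟩ := (H27.mem_center_isomGroup_iff hB hA).1 hg
      have ha0 : a ≠ 0 := by
        rintro rfl
        exact H33.SD.gsmul_ne_zero g h.left_ne_zero ((ha x).trans (zero_smul _ _))
      rw [H33.SD.ext_smul (g := g) (g' := 1) fun v => by
        rw [one_smul, H27.isom_smul_def, ha, h01 a ha0, one_smul]]
      exact one_mem _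
    · have h3 := H30.nc_plus_ne_zero_int nd (m := k + 1) hV hp one_ne_zero
      rw [Nat.card_eq_fintype_card, hF] at h3
      rw [hH, hw, show k + 2 - 1 = k + 1 by omega]
      zify [Nat.one_le_two_pow]
      exact h3.trans (by push_cast; ring)

end Cfsg.Agent.S2142
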