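import Cfsg.Statements.S5417
import Cfsg.Agent.H11.HsFin
import Cfsg.Agent.H18.MonHe
import Cfsg.Agent.H52.FStar

set_option autoImplicit false
open Cfsg

namespace Cfsg.Agent.S5417

open Cfsg.Agent.H11

/-- Let G be a finite group of Monster type at the involution z with Q the extraspecial normal subgroup of order 2^25 of C = C_G(z) (so C/Q is identified with the first Conway group with Q modulo its centre the Leech lattice modulo 2, and z is not weakly closed in Q). Let s be a conjugate of z in Q other than z and let B be a Sylow 7-subgroup of the joint centralizer of z and s. Then the centralizer of B modulo B is isomorphic to the Held group (as presented on seven involutions). -/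
theorem result {G : Type*} [Group G] [Finite G] (z : G) (Q : Subgroup (Subgroup.centralizer ({z} : Set G))) [Q.Normal] (hM : Cfsg.IsOfMonsterType z Q) (s : G) (hsQ : ∃ hsc : s ∈ Subgroup.centralizer ({z} : Set G), (⟨s, hsc⟩ : Subgroup.centralizer ({z} : Set G)) ∈ Q) (hs : IsConj z s) (hs1 : s ≠ z) (B : Subgroup G) (hB : B ≤ Subgroup.centralizer ({z, s} : Set G)) (hBp : Nat.card B = 7 ^ (Nat.card ↥(Subgroup.centralizer ({z, s} : Set G))).factorization 7) [hn : (B.subgroupOf (Subgroup.centralizer (B : Set G))).Normal] : Cfsg.Spor.IsoHe (↥(Subgroup.centralizer (B : Set G)) ⧸ B.subgroupOf (Subgroup.centralizer (B : Set G))) := by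
  obtain ⟨Q', θ₀, R₀, h₀, r₀⟩ := H49.mon_start hM hsQ hs hs1
  refine H18.MH.seven (fun X _ _ t R _ h ⟨e⟩ hn => ?_) h₀ r₀ hB
    (h₀.card_sylow r₀ (Or.inr rfl) hBp)
  exact Hs.shape_of_ncard h.1 R h.2.2.1 h.2.2.2.1 (h.2.1 ▸ H52.centralizer_fstar_le) e
    (by rw [hn]; norm_num)

end Cfsg.Agent.S5417
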