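import Cfsg.Statements.S2251
import Cfsg.Agent.H39.SzClass

set_option autoImplicit false
open Cfsg

namespace Cfsg.Agent.S2251

/-- The subgroups of the Suzuki group: with q = 2^(2m+1), m ≥ 1, r = 2^m and the group realised as the stabiliser in SL₄ of the Suzuki–Tits ovoid, every proper subgroup is contained in the normalizer of a Sylow 2-subgroup, or in the normalizer of a cyclic subgroup of order q − 1, q + 2r + 1 or q − 2r + 1, or in a subgroup isomorphic to a smaller Suzuki group Sz(s) with s = 2^(2k+1) ≥ 8 and 2k+1 a proper divisor of 2m+1. -/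
theorem result {F : Type*} [Field F] [Fintype F] {m : ℕ} (hm : 1 ≤ m) (hF : Fintype.card F = 2 ^ (2 * m + 1)) (M : Subgroup ↥(Cfsg.Sz F m)) (hM : M ≠ ⊤) :
    (∃ P : Sylow 2 ↥(Cfsg.Sz F m), M ≤ Subgroup.normalizer ((P : Subgroup ↥(Cfsg.Sz F m)) : Set ↥(Cfsg.Sz F m))) ∨
    (∃ U : Subgroup ↥(Cfsg.Sz F m), IsCyclic ↥U ∧ Nat.card ↥U ∈ ({2 ^ (2 * m + 1) - 1, 2 ^ (2 * m + 1) + 2 ^ (m + 1) + 1, 2 ^ (2 * m + 1) - 2 ^ (m + 1) + 1} : Set ℕ) ∧
      M ≤ Subgroup.normalizer (U : Set ↥(Cfsg.Sz F m))) ∨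
    (∃ (K : Type) (_ : Field K) (_ : Fintype K) (k : ℕ), 1 ≤ k ∧ k < m ∧ Fintype.card K = 2 ^ (2 * k + 1) ∧ 2 * k + 1 ∣ 2 * m + 1 ∧
      ∃ S : Subgroup ↥(Cfsg.Sz F m), Nonempty (↥S ≃* ↥(Cfsg.Sz K k)) ∧ M ≤ S) := by
  have := H39.szField_of_card hm hF
  have hF' : Nat.card F = 2 ^ (2 * m + 1) := by rw [Nat.card_eq_fintype_card, hF]
  set S := H39.ovoidModel hm hF
  rcases S.classify M with ⟨A, hA, h⟩ | ⟨g, K, hK, rfl⟩
  · rcases (S.isPart_iff hF').mp hA with ⟨P, rfl⟩ | ⟨h1, h2⟩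
    · exact Or.inl ⟨P, h⟩
    · exact Or.inr (Or.inl ⟨A, h1, h2, h⟩)
  right; right
  obtain ⟨k, hk, e⟩ := (H39.szField_subfield K hK).exists_card
  obtain ⟨j, hj, e'⟩ := H39.exists_card_subfield hF' K
  obtain rfl : j = 2 * k + 1 := Nat.pow_right_injective le_rfl (e'.symm.trans e)
  have hkm : k < m := by
    have h1 := Nat.le_of_dvd (by omega) hj
    by_contra h2
    obtain rfl : k = m := by omega
    apply hM
    rw [H39.subfield_eq_of_card_eq (K := K) (K' := ⊤) (by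
      rw [e, Nat.card_congr Subfield.topEquiv.toEquiv, hF']), H39.Model.sub_top]
  let := Fintype.ofFinite (GaloisField 2 (2 * k + 1))
  have hG : Fintype.card (GaloisField 2 (2 * k + 1)) = 2 ^ (2 * k + 1) := by
    rw [← Nat.card_eq_fintype_card, GaloisField.card 2 _ (by omega)]
  refine ⟨GaloisField 2 (2 * k + 1), inferInstance, inferInstance, k, hk, hkm, hG, hj, _, ?_, le_rfl⟩
  exact (H39.ovoidModel hk hG).nonempty_equiv ((S.twist g).subModel K)
    (by rw [e, Nat.card_eq_fintype_card, hG])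

end Cfsg.Agent.S2251
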