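import Cfsg.Statements.S5619
import Cfsg.Agent.H42.More

set_option autoImplicit false
set_option maxRecDepth 1000000
open scoped Pointwise
open Cfsg

namespace Cfsg.Agent.S5619

open Cfsg.Agent.H42

theorem equiv_of_hom_iff {G Ω : Type*} [Group G] [Group Ω] {K P : Subgroup Ω} (hPK : P ≤ K)
    (f : G →* Ω) (hf : Function.Injective f) (h : ∀ k ∈ K, ∃ g, f g = k) (S : Subgroup G)
    (hS : ∀ g, g ∈ S ↔ f g ∈ P) : Nonempty (S ≃* P) :=
  ⟨MulEquiv.ofBijective ((f.comp S.subtype).codRestrict P fun x => (hS x).mp x.2)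
    ⟨fun x y e => Subtype.ext (hf (congrArg Subtype.val e)), fun y => by
      obtain ⟨g, hg⟩ := h y (hPK y.2)
      exact ⟨⟨g, (hS g).mpr (hg ▸ y.2)⟩, Subtype.ext hg⟩⟩⟩

/-- Generators. -/
def gensN : List ℕ := [984534996141977609297800625156032544, 928718206277989008510816407558424608]

/-- Generators. -/
def gensQ : List ℕ := [719923664328491199848526586197411872, 232652365823391711183829569059784736]

theorem inM_gensN : ∀ g ∈ gensN, inM g = true := inM_of_allL (by decide +kernel)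
theorem inM_gensQ : ∀ g ∈ gensQ, inM g = true := inM_of_allL (by decide +kernel)

/-- Eight points. -/
def cc : Fin 8 → ℕ := ![4, 6, 8, 9, 12, 13, 16, 18]

/-- Their labels. -/
def vv : Fin 8 → QuaternionGroup 2 := ![QuaternionGroup.a 0, QuaternionGroup.a 1, QuaternionGroup.xa 3, QuaternionGroup.a 3, QuaternionGroup.a 2, QuaternionGroup.xa 2, QuaternionGroup.xa 1, QuaternionGroup.xa 0]

theorem le_N : gen gensN ≤ GM9 := gen_le _ fun g hg => mem_of_inM9 g (inM_gensN g hg)
  (allL_iff.mp (show allL inM9 gensN = true by decide +kernel) g hg)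

theorem le_Q : gen gensQ ≤ GM9 := gen_le _ fun g hg => mem_of_inM9 g (inM_gensQ g hg)
  (allL_iff.mp (show allL inM9 gensQ = true by decide +kernel) g hg)

theorem card_Q : Nat.card (gen gensQ) = 8 :=
  card_gen_of_orbSize inM_gensQ (fuel := 10) (by norm_num) (by decide +kernel)

theorem iso : Nonempty (gen gensQ ≃* QuaternionGroup 2) := by
  have hc : ∀ i, cc i < 24 := by decide
  obtain ⟨f, -, hf⟩ := exists_hom_gen (Γ := QuaternionGroup 2) (a := fun i => pt (cc i))
    (b := vv) (encPt.dec_injective cc hc (by decide +kernel)) (by decide +kernel)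
    (fun γ h => mul_eq_right.mp (h 0)) rfl (fun g hg => by
    have hg' := inM_gensQ g hg
    simp only [gensQ, List.mem_cons, List.not_mem_nil, or_false] at hg
    rcases hg with rfl | rfl
    · exact ⟨QuaternionGroup.a 1,
        encPt.linked cc hc vv hg' _ ![1, 4, 5, 0, 3, 6, 7, 2] (by decide +kernel) (by decide +kernel)⟩
    · exact ⟨QuaternionGroup.xa 0,
        encPt.linked cc hc vv hg' _ ![7, 6, 1, 2, 5, 0, 3, 4] (by decide +kernel) (by decide +kernel)⟩)
  refine equiv_of_hom f (fun x hx => Subtype.ext ?_)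
    (by rw [card_Q, Nat.card_eq_fintype_card, QuaternionGroup.card])
  exact encPt.eq_one_of_fix (fun _ h => h) (fun _ => rfl) inM_gensQ (cs := [cc 0])
    (fun c hc' => by rw [List.mem_singleton.mp hc']; exact hc 0) (fuel := 10) (by decide +kernel) x.2
    (fun c hc' => by rw [List.mem_singleton.mp hc']; exact (hf x).mp hx 0)

/-- In the group of the length-24 code, the subgroup fixing a dodecad setwise and three of its points individually (a group of order 72) has a normal Sylow 3-subgroup that is elementary abelian of order 9, and its Sylow 2-subgroups are quaternion of order 8. -/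
theorem result (d : Finset Cfsg.GolayPt) (hd : d ∈ Cfsg.dodecads) (p q r : Cfsg.GolayPt) (hp : p ∈ d) (hq : q ∈ d) (hr : r ∈ d) (hpq : p ≠ q) (hpr : p ≠ r) (hqr : q ≠ r) : (∀ Q : Sylow 3 ↥(MulAction.stabilizer Cfsg.M24 d ⊓ MulAction.stabilizer Cfsg.M24 p ⊓ MulAction.stabilizer Cfsg.M24 q ⊓ MulAction.stabilizer Cfsg.M24 r), (Q : Subgroup ↥(MulAction.stabilizer Cfsg.M24 d ⊓ MulAction.stabilizer Cfsg.M24 p ⊓ MulAction.stabilizer Cfsg.M24 q ⊓ MulAction.stabilizer Cfsg.M24 r)).Normal ∧ Nat.card ↥Q = 9 ∧ ∀ x ∈ (Q : Subgroup ↥(MulAction.stabilizer Cfsg.M24 d ⊓ MulAction.stabilizer Cfsg.M24 p ⊓ MulAction.stabilizer Cfsg.M24 q ⊓ MulAction.stabilizer Cfsg.M24 r)), x ^ 3 = 1) ∧ ∀ P : Sylow 2 ↥(MulAction.stabilizer Cfsg.M24 d ⊓ MulAction.stabilizer Cfsg.M24 p ⊓ MulAction.stabilizer Cfsg.M24 q ⊓ MulAction.stabilizer Cfsg.M24 r), Nonempty (↥P ≃* QuaternionGroup 2) := by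
  obtain ⟨a, rfl, rfl, rfl, rfl⟩ := exists_smul_dod0_three hd hp hq hr hpq hpr hqr
  have e := (conjEquiv a GM9 _ (conj_mem_stab4 a _ _ _ _)).symm
  obtain ⟨h1, h2, h3⟩ := subChk_spec (gensL := gensM9) (fuel := 10) (n := 9)
    (p := fun y => Nat.beq (ppow y 3) pid) inM_gensN inM_gensM9 (by decide +kernel)
  rw [← GM9_eq] at h2
  constructor
  · intro Q
    obtain ⟨f, hf, h4, h5, h6⟩ := exists_hom_sylow (p := 3) (a := 2) GM9 _ le_N h1
      (by rw [card_GM9]; norm_num) e Q
    obtain ⟨e'⟩ := equiv_of_hom_iff le_N f hf h5 _ h6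
    refine ⟨⟨fun n hn g => ?_⟩, (Nat.card_congr e'.toEquiv).trans h1, fun x hx => hf ?_⟩
    · rw [h6] at hn ⊢
      rw [map_mul, map_mul, map_inv]
      exact (Subgroup.mem_normalizer_iff.mp (h2 (h4 g)) _).mp hn
    · obtain ⟨y, hy, e, h⟩ := h3 _ ((h6 x).mp hx)
      rw [map_pow, ← e, map_one, pow_toM_eq_one_iff hy, beq_iff.mp h]
  · intro P
    obtain ⟨f, hf, -, h5, h6⟩ := exists_hom_sylow (p := 2) (a := 3) GM9 _ le_Q card_Q
      (by rw [card_GM9]; norm_num) e P
    obtain ⟨e'⟩ := equiv_of_hom_iff le_Q f hf h5 _ h6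
    obtain ⟨e''⟩ := iso
    exact ⟨e'.trans e''⟩

end Cfsg.Agent.S5619
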