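import Cfsg.Statements.S2431
import Cfsg.Agent.H77.SylowSL2

set_option autoImplicit false
open Cfsg

namespace Cfsg.Agent.S2431

open Cfsg.Agent.H77

/-- Let F be a finite field with q elements, q odd, and S a Sylow 2-subgroup of SL₂ over F. The centraliser of S is the centre of SL₂ (of order 2); S is its own normaliser when q ≡ ±1 mod 8, and has index 3 in its normaliser when q ≡ ±3 mod 8. -/
theorem result {F : Type*} [Field F] [Fintype F] (hodd : Odd (Fintype.card F)) (S : Sylow 2 (Matrix.SpecialLinearGroup (Fin 2) F)) :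
    Subgroup.centralizer ((S : Subgroup (Matrix.SpecialLinearGroup (Fin 2) F)) : Set (Matrix.SpecialLinearGroup (Fin 2) F)) = Subgroup.center (Matrix.SpecialLinearGroup (Fin 2) F) ∧
    ((Fintype.card F % 8 = 1 ∨ Fintype.card F % 8 = 7) →
      Subgroup.normalizer ((S : Subgroup (Matrix.SpecialLinearGroup (Fin 2) F)) : Set (Matrix.SpecialLinearGroup (Fin 2) F)) = (S : Subgroup (Matrix.SpecialLinearGroup (Fin 2) F))) ∧
    ((Fintype.card F % 8 = 3 ∨ Fintype.card F % 8 = 5) →
      Nat.card (Subgroup.normalizer ((S : Subgroup (Matrix.SpecialLinearGroup (Fin 2) F)) : Set (Matrix.SpecialLinearGroup (Fin 2) F))) = 3 * Nat.card S) := by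
  have h2 : (2 : F) ≠ 0 := two_ne_zero_of_odd hodd
  obtain ⟨i, hi, hS⟩ := exists_sylow_two_le h2 S
  rw [← Nat.card_eq_fintype_card]
  refine ⟨sylow_two_centralizer h2 S hi hS, fun h => ?_, fun h => ?_⟩
  · apply sylow_two_normalizer_of_eight_dvd h2 S hi hS
    have h4 := four_dvd_card_cent h2 hi
    rcases (isReg_of_trace_eq_zero h2 hi).card_cent with e | e
    · rw [e] at h4 ⊢
      omega
    · rw [e] at h4 ⊢
      omega
  · have h8 := sylow_two_card_eq_eight S h
    rw [sylow_two_card_normalizer h2 S h8, h8]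

end Cfsg.Agent.S2431
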