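import Cfsg.Statements.S2833
import Cfsg.Agent.H85.Basic

set_option autoImplicit false
open Cfsg

namespace Cfsg.Agent.S2833

open Cfsg.Agent.H85 Subgroup
open scoped commutatorElement

/-- Let V be a subgroup of a finite group G normalized by the subgroup L, let X ≤ L and g ∈ L with [V, X, X] = 1 and L generated by X and gXg⁻¹. Put W = [V, L]. Then W = [V, X]·[V, gXg⁻¹], C_W(X) = [V, X], and C_W(L) = [V, X] ∩ [V, gXg⁻¹]. -/
theorem result {G : Type*} [Group G] [Finite G] (V L : Subgroup G) (hLV : L ≤ Subgroup.normalizer (V : Set G)) (X : Subgroup G) (hX : X ≤ L) (g : G) (hg : g ∈ L) (hq : ⁅⁅V, X⁆, X⁆ = ⊥) (hgen : X ⊔ X.map (MulAut.conj g).toMonoidHom = L) (W : Subgroup G) (hW : W = ⁅V, L⁆) : ⁅V, X⁆ ⊔ ⁅V, X.map (MulAut.conj g).toMonoidHom⁆ = W ∧ W ⊓ Subgroup.centralizer (X : Set G) = ⁅V, X⁆ ∧ W ⊓ Subgroup.centralizer (L : Set G) = ⁅V, X⁆ ⊓ ⁅V, X.map (MulAut.conj g).toMonoidHom⁆ := by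
  change ⁅V, X⁆ ⊔ ⁅V, cj g X⁆ = W ∧ _ ∧ _ = ⁅V, X⁆ ⊓ ⁅V, cj g X⁆
  change X ⊔ cj g X = L at hgen
  set A := ⁅V, X⁆ with hA
  set B := ⁅V, cj g X⁆ with hB
  have hX' : cj g X ≤ L := cj_le_of_mem hX hg
  have hAB : cj g A = B := by rw [hA, cj_commutator, cj_eq_of_mem_normalizer (hLV hg)]
  have hAc : A ≤ centralizer (X : Set G) := commutator_eq_bot_iff_le_centralizer.1 hq
  have hBc : B ≤ centralizer ((cj g X : Subgroup G) : Set G) := by
    rw [← hAB, ← cj_centralizer]; exact cj_mono g hAc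
  have hAV : A ≤ V := le_normalizer_iff_commutator_le_left.1 (hX.trans hLV)
  have hBV : B ≤ V := le_normalizer_iff_commutator_le_left.1 (hX'.trans hLV)
  have hVA : V ≤ normalizer (A : Set G) := normalizer_commutator_ge_left _ _
  have hVB : V ≤ normalizer (B : Set G) := normalizer_commutator_ge_left _ _
  have hcL : centralizer (L : Set G) = centralizer (X : Set G) ⊓
      centralizer ((cj g X : Subgroup G) : Set G) := by
    apply le_antisymm (le_inf (centralizer_le hX) (centralizer_le hX'))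
    rw [le_centralizer_iff, ← hgen]
    exact sup_le (le_centralizer_iff.1 inf_le_left) (le_centralizer_iff.1 inf_le_right)
  have hLn : L ≤ normalizer ((A ⊔ B : Subgroup G) : Set G) := by
    rw [← hgen]
    refine sup_le ?_ ?_ <;> rw [le_normalizer_iff_commutator_le_left]
    · exact (commutator_mono (sup_le hAV hBV) le_rfl).trans le_sup_left
    · exact (commutator_mono (sup_le hAV hBV) le_rfl).trans le_sup_right
  have h1 : A ⊔ B = W := by
    rw [hW]
    apply le_antisymm (sup_le (commutator_mono le_rfl hX) (commutator_mono le_rfl hX'))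
    let S : Subgroup G :=
      { carrier := {l | l ∈ L ∧ ∀ v ∈ V, ⁅v, l⁆ ∈ A ⊔ B}
        one_mem' := ⟨L.one_mem, fun v _ => by simp⟩
        mul_mem' := by
          rintro a b ⟨ha, ha'⟩ ⟨hb, hb'⟩
          refine ⟨L.mul_mem ha hb, fun v hv => ?_⟩
          have : ⁅v, a * b⁆ = ⁅v, a⁆ * (a * ⁅v, b⁆ * a⁻¹) := by
            simp only [commutatorElement_def]; group
          rw [this]
          exact mul_mem (ha' v hv) ((mem_normalizer_iff.1 (hLn ha) _).1 (hb' v hv))
        inv_mem' := by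
          rintro a ⟨ha, ha'⟩
          refine ⟨L.inv_mem ha, fun v hv => ?_⟩
          have : ⁅v, a⁻¹⁆ = a⁻¹ * ⁅v, a⁆⁻¹ * a⁻¹⁻¹ := by
            simp only [commutatorElement_def]; group
          rw [this]
          exact (mem_normalizer_iff.1 (hLn (L.inv_mem ha)) _).1 (inv_mem (ha' v hv)) }
    have hS : L ≤ S := by
      conv_lhs => rw [← hgen]
      exact sup_le (fun x hx => ⟨hX hx, fun v hv => mem_sup_left (commutator_mem_commutator hv hx)⟩)
        (fun x hx => ⟨hX' hx, fun v hv => mem_sup_right (commutator_mem_commutator hv hx)⟩)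
    rw [commutator_le]
    exact fun v hv l hl => (hS hl).2 v hv
  have h2 : B ⊓ centralizer (L : Set G) = A ⊓ centralizer (L : Set G) := by
    have : cj g (A ⊓ centralizer (L : Set G)) = A ⊓ centralizer (L : Set G) :=
      cj_eq_of_mem_normalizer (centralizer_le_normalizer _
        ((le_centralizer_iff.1 inf_le_right : L ≤ _) hg))
    rw [← this, cj_inf, hAB, cj_centralizer, cj_eq_of_mem hg]
  have h3 : W ⊓ centralizer (X : Set G) = A := by
    rw [← h1, sup_inf_of_le_normalizer (hBV.trans hVA) hAc, sup_eq_left]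
    have : B ⊓ centralizer (X : Set G) ≤ B ⊓ centralizer (L : Set G) := by
      rw [hcL]; exact le_inf inf_le_left (le_inf inf_le_right (inf_le_left.trans hBc))
    exact this.trans (h2.le.trans inf_le_left)
  refine ⟨h1, h3, le_antisymm ?_ ?_⟩
  · have h4 : W ⊓ centralizer (L : Set G) ≤ A ⊓ centralizer (L : Set G) :=
      le_inf (h3 ▸ inf_le_inf_left _ (centralizer_le hX)) inf_le_right
    exact le_inf (h4.trans inf_le_left) (h4.trans (h2.ge.trans inf_le_left))
  · rw [hcL, ← h1]
    exact le_inf (inf_le_left.trans le_sup_left) (inf_le_inf hAc hBc)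

end Cfsg.Agent.S2833
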