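import Cfsg.Statements.S2836
import Cfsg.Agent.H85.Comm
import Cfsg.Agent.H85.Minimal

set_option autoImplicit false
open Cfsg

namespace Cfsg.Agent.S2836

open Cfsg.Agent.H85 Subgroup

/-- Let L be a finite group, L₀ a maximal subgroup, T a Sylow p-subgroup of L₀, Y ≤ T, and suppose L is Y-minimal. Let D be the intersection of the conjugates of L₀ (the core of L₀). Then D contains O_p(L) and D/O_p(L) is the Frattini subgroup of L/O_p(L), so D is p-closed; and every normal subgroup N of L contained in L₀ is p-closed with N/O_p(N) a nilpotent group of order prime to p. -/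
theorem result {L : Type*} [Group L] [Finite L] {p : ℕ} [Fact p.Prime] (L₀ : Subgroup L) (hL₀ : IsCoatom L₀) (T : Sylow p ↥L₀) (Y : Subgroup L) (hYT : Y ≤ (T : Subgroup ↥L₀).map L₀.subtype) (hmin : Cfsg.IsMinimalOver Y) : (Cfsg.pCore p L ≤ L₀.normalCore ∧ (L₀.normalCore).map (QuotientGroup.mk' (Cfsg.pCore p L)) = frattini (L ⧸ Cfsg.pCore p L) ∧ Cfsg.IsPClosed p ↥(L₀.normalCore)) ∧ ∀ (N : Subgroup L) [N.Normal], N ≤ L₀ → Cfsg.IsPClosed p ↥N ∧ Group.IsNilpotent (↥N ⧸ Cfsg.pCore p ↥N) ∧ (Nat.card (↥N ⧸ Cfsg.pCore p ↥N)).Coprime p := by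
  set T' := (T : Subgroup L₀).map L₀.subtype with hT'
  have hS : IsSyl p T' L₀ := isSyl_map_subtype T
  have hYL : Y ≤ L₀ := hYT.trans hS.le
  have hU : UniqMax Y L₀ ⊤ := uniqMax_top_iff.2 ⟨⟨hL₀, hYL⟩, hmin.2⟩
  have hnT := not_normal_of_normalClosure_eq_top hmin.1 hYT
      (fun h' => hL₀.1 (top_le_iff.1 (h' ▸ hS.le)))
  have h1 : normalizer (T' : Set L) ≤ L₀ :=
    hU.le_of_ne (hYT.trans le_normalizer) le_top fun h => hnT h.ge
  have hP : PMin p T' L₀ ⊤ :=
    ⟨hS.of_normalizer_le le_top (inf_le_right.trans h1), hnT, hU.of_le hYT hS.le⟩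
  set O := pCore p L with hO
  set D := L₀.normalCore with hD
  have hOD : O ≤ D := normal_le_normalCore.2 ((pCoreOf_top p).ge.trans hP.pCoreOf_le)
  have hs := QuotientGroup.mk'_surjective O
  have hk := QuotientGroup.ker_mk' O
  have hDL : D ≤ L₀ := normalCore_le L₀
  have hF : D.map (QuotientGroup.mk' O) = frattini (L ⧸ O) := by
    apply le_antisymm
    · refine le_iInf₂ fun K hK => ?_
      have hK' : IsCoatom (K.comap (QuotientGroup.mk' O)) := isCoatom_comap_of_surjective hs hK
      rw [map_le_iff_le_comap]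
      set K' := K.comap (QuotientGroup.mk' O) with hK'def
      have hOK : O ≤ K' := hk.ge.trans (ker_le_comap _ _)
      by_contra hn
      have h2 : K' ⊔ D = ⊤ := hK'.2 _ (lt_of_le_of_ne le_sup_left fun h => hn (h ▸ le_sup_right))
      obtain ⟨S, hSK, hOS⟩ := exists_isSyl_ge (pCore_isPGroup p L) hOK
      have h3 := hSK.of_sup_normal (R := D)
        (hP.syl.inf_of_le_normalizer le_top le_normalizer_of_normal)
        ((hP.inf_le_pCoreOf hDL le_normalizer_of_normal).trans ((pCoreOf_top p).le.trans hOS))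
      rw [h2] at h3
      obtain ⟨g, -, hg⟩ := hP.syl.exists_cj_eq h3
      have h4 := hP.cj g
      rw [cj_top, hg] at h4
      have h5 : K' = cj g L₀ :=
        ((hK'.le_iff_eq h4.uniq.lt.ne).1 (h4.uniq.le_of_ne hSK.le le_top hK'.1)).symm
      exact hn (h5 ▸ (cj_normal g D).ge.trans (cj_mono g hDL))
    · rw [← map_comap_eq_self_of_surjective hs (frattini _)]
      refine map_mono (normal_le_normalCore.2 ?_)
      have : IsCoatom (L₀.map (QuotientGroup.mk' O)) := by
        have h2 : (L₀.map (QuotientGroup.mk' O)).comap (QuotientGroup.mk' O) = L₀ :=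
          comap_map_eq_self (hk.le.trans (hOD.trans hDL))
        refine ⟨fun h => hL₀.1 (by rw [← h2, h, comap_top]), fun K hK => ?_⟩
        rw [← map_comap_eq_self_of_surjective hs K, hL₀.2 (K.comap _)
          (by rw [← h2]; exact (comap_lt_comap_of_surjective hs).2 hK), map_top_of_surjective _ hs]
      refine (comap_mono (frattini_le_coatom this)).trans ?_
      exact (comap_map_eq_self (hk.le.trans (hOD.trans hDL))).le
  refine ⟨⟨hOD, hF, hP.isPClosed_of_le hDL le_normalizer_of_normal⟩, fun N _ hN => ?_⟩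
  have hc := hP.isPClosed_of_le hN le_normalizer_of_normal
  refine ⟨hc, ?_, ?_⟩
  · let f : N →* L ⧸ O := (QuotientGroup.mk' O).comp N.subtype
    have hker : f.ker = pCore p N := by
      rw [← pCoreOf_subgroupOf, pCoreOf_eq_inf le_top le_normalizer_of_normal, pCoreOf_top,
        inf_subgroupOf_left]
      ext x
      exact QuotientGroup.eq_one_iff (x : L)
    have hr : f.range ≤ frattini (L ⧸ O) := by
      rw [← hF, ← MonoidHom.map_range, range_subtype]
      exact map_mono (normal_le_normalCore.2 hN)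
    have := frattini_nilpotent (G := L ⧸ O)
    have h2 : Group.IsNilpotent f.range :=
      Group.nilpotent_of_mulEquiv (subgroupOfEquivOfLe hr)
    exact Group.nilpotent_of_mulEquiv
      ((QuotientGroup.quotientKerEquivRange f).symm.trans (QuotientGroup.quotientMulEquivOfEq hker))
  · obtain ⟨S, hS⟩ := exists_isSyl p N
    have := hS.not_dvd_relIndex
    rw [hS.eq_pCoreOf_of_isPClosed hc, relIndex, pCoreOf_subgroupOf] at this
    exact ((Nat.Prime.coprime_iff_not_dvd Fact.out).2 this).symm

end Cfsg.Agent.S2836
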