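import Cfsg.Statements.S2837
import Cfsg.Agent.H85.Comm
import Cfsg.Agent.H85.Minimal
import Cfsg.Agent.H7.PBasic

set_option autoImplicit false
open Cfsg

namespace Cfsg.Agent.S2837

open Cfsg.Agent.H85 Subgroup
open scoped commutatorElement

/-- Let L be a finite group of characteristic p, L₀ a maximal subgroup, Y an elementary abelian p-subgroup of L₀ with L Y-minimal and O_p(L) ≤ N_L(Y). Put A = the normal closure of O_p(L) ∩ Y in L. Then for every g ∈ L outside L₀: Φ(A) = A' = [A ∩ Y, A] = [A ∩ Y, A ∩ gYg⁻¹] ≤ C_Y(L), and Y ∩ gYg⁻¹ = (A ∩ Y) ∩ (A ∩ gYg⁻¹) = C_Y(L) = C_A(L). -/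
theorem result {L : Type*} [Group L] [Finite L] {p : ℕ} [Fact p.Prime] (hchar : Subgroup.centralizer (Cfsg.pCore p L : Set L) ≤ Cfsg.pCore p L) (L₀ : Subgroup L) (hL₀ : IsCoatom L₀) (Y : Subgroup L) (hYL₀ : Y ≤ L₀) (hYel : Cfsg.IsElementaryAbelian p Y) (hmin : Cfsg.IsMinimalOver Y) (hOY : Cfsg.pCore p L ≤ Subgroup.normalizer (Y : Set L)) (A : Subgroup L) (hA : A = Subgroup.normalClosure (((Cfsg.pCore p L ⊓ Y : Subgroup L)) : Set L)) (g : L) (hg : g ∉ L₀) : (frattini ↥A).map A.subtype = ⁅A, A⁆ ∧ ⁅A, A⁆ = ⁅A ⊓ Y, A⁆ ∧ ⁅A ⊓ Y, A⁆ = ⁅A ⊓ Y, A ⊓ Y.map (MulAut.conj g).toMonoidHom⁆ ∧ ⁅A ⊓ Y, A⁆ ≤ Y ⊓ Subgroup.center L ∧ Y ⊓ Y.map (MulAut.conj g).toMonoidHom = Y ⊓ Subgroup.center L ∧ (A ⊓ Y) ⊓ (A ⊓ Y.map (MulAut.conj g).toMonoidHom) = Y ⊓ Subgroup.center L ∧ A ⊓ Subgroup.center L = Y ⊓ Subgroup.center L := by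
  change _ ∧ _ ∧ _ = ⁅A ⊓ Y, A ⊓ cj g Y⁆ ∧ _ ∧ Y ⊓ cj g Y = _ ∧ (A ⊓ Y) ⊓ (A ⊓ cj g Y) = _ ∧ _
  set O := pCore p L with hO
  set B := O ⊓ Y with hB
  have hU : UniqMax Y L₀ ⊤ := uniqMax_top_iff.2 ⟨⟨hL₀, hYL₀⟩, hmin.2⟩
  have hgen : Y ⊔ cj g Y = ⊤ :=
    hU.sup_cj_eq (not_normal_of_normalClosure_eq_top hmin.1 hYL₀ hL₀.1) (mem_top g) hg
  have hYc : Y ≤ centralizer (Y : Set L) := le_centralizer_iff_isMulCommutative.2 hYel.1
  have hYc' : cj g Y ≤ centralizer ((cj g Y : Subgroup L) : Set L) := by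
    rw [← cj_centralizer]; exact cj_mono g hYc
  have hZ : centralizer (Y : Set L) ⊓ centralizer ((cj g Y : Subgroup L) : Set L) = center L := by
    rw [← centralizer_sup, hgen, coe_top, centralizer_univ]
  have hZg : cj g (Y ⊓ center L) = Y ⊓ center L :=
    cj_eq_of_mem_normalizer (centralizer_le_normalizer _ (by
      rw [mem_centralizer_iff]; exact fun y hy => (mem_center_iff.1 hy.2 g).symm))
  have hZg' : cj g Y ⊓ center L = Y ⊓ center L := by
    rw [← hZg, cj_inf, cj_normal g (center L)]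
  have h5 : Y ⊓ cj g Y = Y ⊓ center L :=
    le_antisymm (le_inf inf_le_left (hZ ▸ inf_le_inf hYc hYc'))
      (le_inf inf_le_left (hZg'.ge.trans inf_le_left))
  have hZO : center L ≤ O := (center_le_centralizer _).trans hchar
  have hAO : A ≤ O := hA ▸ normalClosure_le_normal (inf_le_left : B ≤ O)
  have hBA : B ≤ A := hA ▸ le_normalClosure
  have hAn : A.Normal := hA ▸ inferInstance
  have hB' : cj g B = O ⊓ cj g Y := by rw [hB, cj_inf, cj_normal]
  have hAY : A ⊓ Y = B := le_antisymm (inf_le_inf_right _ hAO) (le_inf hBA inf_le_right)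
  have hAY' : A ⊓ cj g Y = cj g B := by rw [← hAY, cj_inf, cj_normal g A]
  have hOY' : O ≤ normalizer ((cj g Y : Subgroup L) : Set L) := by
    rw [← cj_normalizer, ← cj_normal g O]; exact cj_mono g hOY
  have hOB : O ≤ normalizer (B : Set L) := le_normalizer_inf le_normalizer hOY
  have hOB' : O ≤ normalizer ((cj g B : Subgroup L) : Set L) :=
    hB' ▸ le_normalizer_inf le_normalizer hOY'
  have hBO : B ≤ O := inf_le_left
  have hBO' : cj g B ≤ O := hB' ▸ inf_le_left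
  have hABB : A = B ⊔ cj g B := by
    apply le_antisymm
    · have : (B ⊔ cj g B).Normal := by
        apply normal_of_top_le_normalizer
        rw [← hgen]
        refine sup_le ?_ ?_ <;> rw [le_normalizer_iff_commutator_le_left] <;>
          refine (commutator_mono (sup_le hBO hBO') le_rfl).trans ?_
        · exact (le_inf (commutator_le_left _ _) (commutator_le_right_of_le_normalizer hOY)).trans
            le_sup_left
        · exact (le_inf (commutator_le_left _ _) (commutator_le_right_of_le_normalizer hOY')).trans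
            (hB'.ge.trans le_sup_right)
      rw [hA]
      exact normalClosure_le_normal (le_sup_left : B ≤ _)
    · exact sup_le hBA (hAY' ▸ inf_le_left)
  have h6 : B ⊓ cj g B = Y ⊓ center L := by
    rw [hB', hB, ← inf_inf_distrib_left, h5, inf_eq_right]
    exact inf_le_right.trans hZO
  have h4 : ⁅B, cj g B⁆ ≤ Y ⊓ center L := h6 ▸
    le_inf (commutator_le_left_of_le_normalizer (hBO'.trans hOB))
      (commutator_le_right_of_le_normalizer (hBO.trans hOB'))
  have hn : ∀ X : Subgroup L, X ≤ normalizer ((⁅B, cj g B⁆ : Subgroup L) : Set L) := fun X =>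
    le_trans (le_centralizer_iff.1 ((h4.trans inf_le_right).trans (center_le_centralizer _)))
      (centralizer_le_normalizer _)
  have hBB : ⁅B, B⁆ = ⊥ := commutator_eq_bot_iff_le_centralizer.2
    ((inf_le_right.trans hYc).trans (centralizer_anti inf_le_right))
  have hBB' : ⁅cj g B, cj g B⁆ = ⊥ := by rw [← cj_commutator, hBB, cj_bot]
  have h3 : ⁅B, A⁆ = ⁅B, cj g B⁆ := by
    apply le_antisymm
    · rw [hABB]; exact commutator_sup_le (hn _) (hn _) (hBB ▸ bot_le) le_rfl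
    · exact commutator_mono le_rfl (hABB ▸ le_sup_right)
  have h2 : ⁅A, A⁆ = ⁅B, A⁆ := by
    refine le_antisymm ?_ (commutator_mono hBA le_rfl)
    rw [h3]
    conv_lhs => rw [hABB]
    refine sup_commutator_le (hn _) (hn _) (hABB ▸ h3.le) ?_
    exact commutator_sup_le (hn _) (hn _) (commutator_comm _ _).le (hBB' ▸ bot_le)
  have hAp : IsPGroup p A := (pCore_isPGroup p L).to_le hAO
  rw [hAY, hAY']
  refine ⟨le_antisymm (H7.map_frattini_le hAp le_rfl fun x hx => ?_)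
    (H7.commutator_le_map_frattini hAp), h2, h3, h3 ▸ h4, h5, h6, le_antisymm ?_ ?_⟩
  · rw [hABB] at hx
    obtain ⟨a, ha, b, hb, rfl⟩ := (mem_sup_of_le_normalizer (hBO'.trans hOB)).1 hx
    have hA' : (⁅A, A⁆).Normal := inferInstance
    rw [← QuotientGroup.eq_one_iff, QuotientGroup.mk_pow, QuotientGroup.mk_mul, Commute.mul_pow,
      ← QuotientGroup.mk_pow, ← QuotientGroup.mk_pow, hYel.2 a ha.2]
    · obtain ⟨b', hb', rfl⟩ := hb
      rw [← map_pow, hYel.2 b' hb'.2]; simp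
    · rw [← commutatorElement_eq_one_iff_commute]
      exact (QuotientGroup.eq_one_iff ⁅a, b⁆).2
        (commutator_mem_commutator (hBA ha) ((hAY'.ge.trans inf_le_left) hb))
  · refine le_inf ?_ inf_le_right
    rintro z ⟨hz, hz'⟩
    rw [hABB] at hz
    obtain ⟨a, ha, b, hb, rfl⟩ := (mem_sup_of_le_normalizer (hBO'.trans hOB)).1 hz
    have hb1 : b ∈ centralizer (Y : Set L) := by
      simpa using mul_mem (inv_mem (hYc ha.2)) (center_le_centralizer _ hz')
    have hb2 : b ∈ cj g Y := (hB'.le hb).2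
    have : b ∈ Y ⊓ center L := hZg' ▸ ⟨hb2, hZ ▸ ⟨hb1, hYc' hb2⟩⟩
    exact Y.mul_mem ha.2 this.1
  · exact le_inf (h6.ge.trans (inf_le_left.trans hBA)) inf_le_right

end Cfsg.Agent.S2837
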