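import Cfsg.Statements.S5911
import Cfsg.Agent.H33.SymIndex

set_option autoImplicit false
open Cfsg

namespace Cfsg.Agent.S5911

/-- Let Ω be a finite set whose size n is not 6. Then every subgroup of the symmetric group on Ω of index n is the stabilizer of a point. -/
theorem result {Ω : Type*} [Fintype Ω] [DecidableEq Ω] (h6 : Fintype.card Ω ≠ 6)
    (H : Subgroup (Equiv.Perm Ω)) (hH : H.index = Fintype.card Ω) :
    ∃ x : Ω, H = MulAction.stabilizer (Equiv.Perm Ω) x := by
  obtain ⟨φ, ω, rfl⟩ := H33.exists_mulEquiv_of_index_eq H hH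
  rcases subsingleton_or_nontrivial Ω with h | h
  · exact ⟨ω, Subsingleton.elim _ _⟩
  obtain ⟨a, b, hab⟩ := exists_pair_ne Ω
  have ht : (Equiv.swap a b).IsSwap := ⟨a, b, hab, rfl⟩
  rcases H33.isSwap_or_triple_mulEquiv φ ht with h1 | h1
  · exact H33.exists_comap_stabilizer_eq rfl φ ht h1 ω
  · exact absurd h1.1 h6

end Cfsg.Agent.S5911
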