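import Cfsg.Statements.S3020
import Cfsg.Agent.H8.SylowIn
import Cfsg.Agent.H52.Fitting
import Mathlib.GroupTheory.Transfer

set_option autoImplicit false
open Cfsg

namespace Cfsg.Agent.S3020

/-- Let G be a finite group, p a prime and H an abelian p-subgroup of G that is extremely closed (for every g, the subgroup generated by H and g H g⁻¹ meets N_G(H) exactly in H). Then for every g ∈ G, the subgroup T generated by H and g H g⁻¹ is the product of H with O_{p'}(T), and H meets O_{p'}(T) trivially; that is, O_{p'}(T) is a normal p-complement of H in T. -/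
theorem result {G : Type*} [Group G] [Finite G] {p : ℕ} [Fact p.Prime] (H : Subgroup G) (hHp : IsPGroup p H) (hHab : IsMulCommutative H) (hcl : Cfsg.IsExtremelyClosed H) (g : G) (T : Subgroup G) (hT : T = H ⊔ H.map (MulAut.conj g).toMonoidHom) : H ⊔ (Cfsg.pPrimeCore p ↥T).map T.subtype = T ∧ H ⊓ (Cfsg.pPrimeCore p ↥T).map T.subtype = ⊥ := by
  have hHT : H ≤ T := hT ▸ le_sup_left
  have hN : T ⊓ Subgroup.normalizer (H : Set G) = H := hT ▸ hcl g
  have hS : H8.IsSylowIn p H T := by
    refine H8.isSylowIn_of_maximal hHT hHp fun Q hQ hQT hHQ => ?_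
    by_contra hn
    have hlt : H < Q := lt_of_le_of_ne hHQ fun e => hn e.ge
    obtain ⟨x, hx, hx'⟩ := SetLike.exists_of_lt (H8.lt_inf_normalizer_of_lt hQ hlt)
    exact hx' (hN ▸ ⟨hQT hx.1, hx.2⟩)
  have hNC : Subgroup.normalizer ((hS.toSylow : Subgroup T) : Set T) ≤
      Subgroup.centralizer ((hS.toSylow : Subgroup T) : Set T) := by
    rw [hS.coe_toSylow, ← Subgroup.subgroupOf_normalizer_eq hHT]
    intro x hx y hy
    have hxH : (x : G) ∈ H := hN ▸ ⟨x.2, hx⟩
    have h1 : (y : G) * x = x * y :=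
      congrArg Subtype.val (hHab.is_comm.comm (⟨y, hy⟩ : H) ⟨x, hxH⟩)
    exact Subtype.ext h1
  have hc := MonoidHom.ker_transferSylow_isComplement' hS.toSylow hNC
  have hK : (MonoidHom.transferSylow hS.toSylow hNC).ker ≤ pPrimeCore p T := by
    apply H52.le_pPrimeCore
    rw [← hc.index_eq_card]
    exact ((Nat.Prime.coprime_iff_not_dvd Fact.out).mpr hS.toSylow.not_dvd_index).symm
  refine ⟨le_antisymm (sup_le hHT (Subgroup.map_subtype_le _)) fun x hx => ?_,
    H52.inf_eq_bot_of_isPGroup_of_coprime hHp (H52.coprime_card_map_pPrimeCore_subtype T)⟩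
  obtain ⟨⟨⟨a, ha⟩, ⟨b, hb⟩⟩, hab⟩ := hc.symm.existsUnique ⟨x, hx⟩ |>.exists
  have : x = (a : G) * b := (congrArg Subtype.val hab).symm
  rw [this]
  exact Subgroup.mul_mem_sup ha ⟨b, hK hb, rfl⟩

end Cfsg.Agent.S3020
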