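import Cfsg.Statements.S3937
import Cfsg.Agent.H1.Zipper
import Cfsg.Agent.H3.Fitting

set_option autoImplicit false
open Cfsg

namespace Cfsg.Agent.S3937

open scoped Pointwise commutatorElement

theorem foldl_succ {G : Type*} [Group G] (g x : G) (n : ℕ) :
    (List.replicate (n + 1) g).foldl (fun a b => a * b * a⁻¹ * b⁻¹) x =
      ⁅(List.replicate n g).foldl (fun a b => a * b * a⁻¹ * b⁻¹) x, g⁆ := by
  rw [List.replicate_succ', List.foldl_append]
  rfl

theorem snIn_of_engel {G : Type*} [Group G] [Finite G] (g : G)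
    (h : ∀ x : G, ∃ n : ℕ, (List.replicate n g).foldl (fun a b => a * b * a⁻¹ * b⁻¹) x = 1)
    (T : Subgroup G) : Subgroup.zpowers g ≤ T → H1.SnIn (Subgroup.zpowers g) T := by
  induction T using WellFoundedLT.induction with
  | ind T ih =>
  intro hT
  by_contra hn
  obtain ⟨M, hAM, hMT, hM⟩ := H1.zipper hT (fun H h1 h2 => ih H h2 h1) hn
  have hgM : g ∈ M := hAM (Subgroup.mem_zpowers g)
  have hgT : g ∈ T := hT (Subgroup.mem_zpowers g)
  by_cases hN : T ≤ Subgroup.normalizer (M : Set G)
  · exact hn ((ih M hMT hAM).trans (H1.SnIn.of_normal hMT.le hN))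
  have hN' : T ⊓ Subgroup.normalizer (M : Set G) ≤ M :=
    hM _ (le_inf hT (hAM.trans Subgroup.le_normalizer))
      (lt_of_le_of_ne inf_le_left fun h => hN (inf_eq_left.1 h))
  have key : ∀ y ∈ T, ⁅y, g⁆ ∈ M → y ∈ M := by
    intro y hy hyg
    have h1 : y * g * y⁻¹ ∈ M := by simpa [commutatorElement_def] using M.mul_mem hyg hgM
    have h2 : Subgroup.zpowers g ≤ MulAut.conj y⁻¹ • M := by
      rw [Subgroup.zpowers_le, H1.mem_conj_smul_iff]
      simpa using h1
    have h3 : MulAut.conj y⁻¹ • M < T := by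
      have := (H1.mem_normalizer_iff_conj_smul.1 (Subgroup.le_normalizer (T.inv_mem hy)))
      rw [← this]
      refine lt_of_le_of_ne (Subgroup.pointwise_smul_le_pointwise_smul_iff.2 hMT.le) fun h => ?_
      exact hMT.ne (smul_left_cancel _ h)
    have h4 := hM _ h2 h3
    have h5 : y⁻¹ ∈ Subgroup.normalizer (M : Set G) :=
      Subgroup.mem_normalizer_fintype fun m hm => h4 (H1.conj_mem_conj_smul _ hm)
    exact hN' ⟨hy, by simpa using Subgroup.inv_mem _ h5⟩
  apply hMT.not_ge
  intro x hx
  obtain ⟨n, hn⟩ := h x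
  have h1 : ∀ n : ℕ, (List.replicate n g).foldl (fun a b => a * b * a⁻¹ * b⁻¹) x ∈ T := by
    intro n
    induction n with
    | zero => exact hx
    | succ n ih =>
      rw [foldl_succ]
      exact T.mul_mem (T.mul_mem (T.mul_mem ih hgT) (T.inv_mem ih)) (T.inv_mem hgT)
  have h2 : ∀ n : ℕ, (List.replicate n g).foldl (fun a b => a * b * a⁻¹ * b⁻¹) x ∈ M → x ∈ M := by
    intro n
    induction n with
    | zero => exact id
    | succ n ih =>
      rw [foldl_succ]
      exact fun h => ih (key _ (h1 n) h)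
  exact h2 n (hn ▸ M.one_mem)

/-- Baer's characterization of the Fitting subgroup: in a finite group G, an element g lies in the Fitting subgroup if and only if g is a left Engel element, that is, for every x there is n with [x, g, g, …, g] = 1 (n entries g, [a, b] = aba⁻¹b⁻¹). -/
theorem result {G : Type*} [Group G] [Finite G] (g : G) :
    g ∈ Cfsg.fittingSubgroup G ↔ ∀ x : G, ∃ n : ℕ, (List.replicate n g).foldl (fun a b => a * b * a⁻¹ * b⁻¹) x = 1 := by
  constructor
  · intro hg x
    have hF := H3.fitting_normal G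
    have hnil := H3.fitting_isNilpotent G
    obtain ⟨c, hc⟩ := Subgroup.nilpotent_iff_lowerCentralSeries.1 hnil
    have key : ∀ n : ℕ, (List.replicate (n + 1) g).foldl (fun a b => a * b * a⁻¹ * b⁻¹) x ∈
        (Subgroup.lowerCentralSeries (⊤ : Subgroup (fittingSubgroup G)) n).map (fittingSubgroup G).subtype := by
      intro n
      induction n with
      | zero =>
        rw [foldl_succ]
        refine ⟨⟨_, ?_⟩, trivial, rfl⟩
        exact Subgroup.mul_mem _ (hF.conj_mem g hg x) (Subgroup.inv_mem _ hg)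
      | succ n ih =>
        rw [foldl_succ]
        obtain ⟨y, hy, hy'⟩ := ih
        rw [← hy']
        exact ⟨⁅y, ⟨g, hg⟩⁆, Subgroup.commutator_mem_commutator hy trivial, rfl⟩
    refine ⟨c + 1, ?_⟩
    have := key c
    rwa [hc, Subgroup.map_bot, Subgroup.mem_bot] at this
  · intro h
    have h1 := (snIn_of_engel g h ⊤ le_top).isSubnormal
    exact H1.le_fitting_of_isSubnormal h1 H3.isNilpotent_of_isMulCommutative (Subgroup.mem_zpowers g)

end Cfsg.Agent.S3937
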