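import Cfsg.Statements.S3633
import Cfsg.Agent.H57.GK

set_option autoImplicit false
open Cfsg

namespace Cfsg.Agent.S3633

/-- Let G be a finite group and ρ a set of at least three prime divisors of the order of G that are pairwise non-adjacent in the prime graph (no element of order rs for distinct r, s ∈ ρ). Then at most one prime of ρ divides the order of any given solvable normal subgroup of G; in particular G is not solvable. -/
theorem result {G : Type*} [Group G] [Finite G] (ρ : Finset ℕ) (hρ : 3 ≤ ρ.card) (hc : ((∀ r ∈ ρ, r.Prime ∧ r ∣ Nat.card G) ∧ (∀ r ∈ ρ, ∀ s ∈ ρ, r ≠ s → ¬ ∃ x : G, orderOf x = r * s)))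
    (K : Subgroup G) [K.Normal] (hK : Group.IsSolvable ↥K) :
    (∀ r ∈ ρ, ∀ s ∈ ρ, r ∣ Nat.card ↥K → s ∣ Nat.card ↥K → r = s) ∧ ¬ Group.IsSolvable G := by
  have key : ∀ (K : Subgroup G) [K.Normal], Group.IsSolvable K →
      ∀ r ∈ ρ, ∀ s ∈ ρ, r ∣ Nat.card K → s ∣ Nat.card K → r = s := by
    intro K _ hK r hr s hs hrK hsK
    by_contra hrs
    obtain ⟨t, ht, htrs⟩ : ∃ t ∈ ρ, t ∉ ({r, s} : Finset ℕ) := by
      by_contra h
      push Not at h
      have := Finset.card_le_card (show ρ ⊆ {r, s} from h)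
      have h2 := Finset.card_le_two (a := r) (b := s)
      omega
    simp only [Finset.mem_insert, Finset.mem_singleton, not_or] at htrs
    haveI := Fact.mk (hc.1 t ht).1
    obtain ⟨x, hx⟩ := exists_prime_orderOf_dvd_card' t (hc.1 t ht).2
    have hL : Group.IsSolvable ↥(K ⊔ Subgroup.zpowers x) := by
      rw [sup_comm]
      exact Cfsg.Agent.H67.isSolvable_sup
        (isSolvable_of_comm (Subgroup.zpowers_isMulCommutative x).is_comm.comm) hK
        Subgroup.le_normalizer_of_normal
    have hKL := Subgroup.card_dvd_of_le (le_sup_left : K ≤ K ⊔ Subgroup.zpowers x)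
    have hxL := Subgroup.card_dvd_of_le (le_sup_right : Subgroup.zpowers x ≤ K ⊔ Subgroup.zpowers x)
    rw [Nat.card_zpowers, hx] at hxL
    rcases Cfsg.Agent.H57.three_primes_of_solvable (hc.1 r hr).1 (hc.1 s hs).1 (hc.1 t ht).1 hrs
      (Ne.symm htrs.1) (Ne.symm htrs.2) hL (hrK.trans hKL) (hsK.trans hKL) hxL with h | h | h
    · exact hc.2 r hr s hs hrs h
    · exact hc.2 r hr t ht (Ne.symm htrs.1) h
    · exact hc.2 s hs t ht (Ne.symm htrs.2) h
  refine ⟨key K hK, fun hG => ?_⟩
  have h1 : 1 < ρ.card := by omega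
  obtain ⟨r, hr, s, hs, hrs⟩ := Finset.one_lt_card.1 h1
  refine hrs (key ⊤ inferInstance r hr s hs ?_ ?_)
  · rw [Subgroup.card_top]; exact (hc.1 r hr).2
  · rw [Subgroup.card_top]; exact (hc.1 s hs).2

end Cfsg.Agent.S3633
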