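import Cfsg.Statements.S4140
import Cfsg.Agent.H1.Camina
import Cfsg.Agent.H4.Schmidt
import Cfsg.Agent.H3.Fitting

set_option autoImplicit false
open Cfsg

namespace Cfsg.Agent.S4140

theorem exists_other {n p : ℕ} (hn : 0 < n) (hp : p.Prime) (h1 : p ∣ n) (h2 : ¬ IsPrimePow n) :
    ∃ q : ℕ, q.Prime ∧ q ∣ n ∧ q ≠ p := by
  by_contra hcon
  push Not at hcon
  have h3 := Nat.eq_prime_pow_of_unique_prime_dvd hn.ne' (fun {d} hd hdn => hcon d hd hdn)
  apply h2
  refine ⟨p, _, hp.prime, Nat.pos_of_ne_zero fun e => ?_, h3.symm⟩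
  rw [e, pow_zero] at h3
  rw [h3] at h1
  exact hp.one_lt.ne' (Nat.dvd_one.mp h1)

/-- Let G be a finite group and N a proper non-trivial normal subgroup such that for every g outside N the conjugacy class of g is a union of cosets of N (equivalently gn is conjugate to g for every n ∈ N). Then either every element of G outside N acts fixed-point-freely on N (C_G(x) ≤ N for all x ∈ N, x ≠ 1, so G is a Frobenius group with kernel N), or N has prime-power order, or G/N has prime-power order. -/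
theorem result {G : Type*} [Group G] [Finite G] (N : Subgroup G) [N.Normal] (hN1 : N ≠ ⊥) (hN2 : N ≠ ⊤)
    (hcam : ∀ g : G, g ∉ N → ∀ n ∈ N, ∃ x : G, x * g * x⁻¹ = g * n) :
    (∀ x ∈ N, x ≠ 1 → Subgroup.centralizer ({x} : Set G) ≤ N) ∨ IsPrimePow (Nat.card N) ∨ IsPrimePow N.index := by
  have h : H1.Cam N := hcam
  by_contra hcon
  rw [not_or, not_or] at hcon
  obtain ⟨h1, h2, h3⟩ := hcon
  push Not at h1
  obtain ⟨x, hx, hx1, h1⟩ := h1
  obtain ⟨g, hg, hgN⟩ := SetLike.not_le_iff_exists.mp h1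
  obtain ⟨p, hp, hpx⟩ := Nat.exists_prime_and_dvd (fun e => hx1 (orderOf_eq_one_iff.mp e))
  have := Fact.mk hp
  obtain ⟨k, hk⟩ := h.pow_eq_one hgN hx hp hpx (Subgroup.mem_centralizer_singleton_iff.mp hg)
  have hpi : p ∣ N.index := by
    by_contra e
    exact hgN (H8.mem_of_coprime_orderOf_index
      ((((Nat.Prime.coprime_iff_not_dvd hp).mpr e).pow_left k).coprime_dvd_left
        (orderOf_dvd_of_pow_eq_one hk)))
  have hpN : p ∣ Nat.card N := hpx.trans (Subgroup.orderOf_dvd_natCard N hx)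
  obtain ⟨r, hr, hrN, hrp⟩ := exists_other Nat.card_pos hp hpN h2
  obtain ⟨q, hq, hqi, hqp⟩ := exists_other (Nat.pos_of_ne_zero Subgroup.index_ne_zero_of_finite) hp hpi h3
  have := Fact.mk hq
  have hK : ∀ (s : ℕ) [Fact s.Prime], s ∣ N.index → ∃ K : Subgroup G, K.Normal ∧ K ≤ N ∧
      ¬ s ∣ Nat.card K ∧ ∀ y ∈ N, (orderOf y).Coprime s → y ∈ K := by
    intro s _ hs
    refine ⟨(Cfsg.pResidual s N).map N.subtype, H3.normal_map_subtype_of_characteristic N _,
      Subgroup.map_subtype_le _, ?_, fun y hy hc => H8.mem_map_subtype_pResidual hy hc⟩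
    rw [H3.card_map_subtype]
    exact H8.hasNormalPComplement_iff_not_dvd.mp (h.npc hs)
  obtain ⟨K, hKn, hKN, hK1, hK2⟩ := hK p hpi
  by_cases hqN : q ∣ Nat.card N
  · obtain ⟨M, hMn, hMN, hM1, hM2⟩ := hK q hqi
    set L := K ⊓ M with hL
    have hLN : L ≤ N := inf_le_left.trans hKN
    have hpL : ¬ p ∣ Nat.card L := fun e => hK1 (e.trans (Subgroup.card_dvd_of_le inf_le_left))
    have a1 : (N.map (QuotientGroup.mk' L)).Normal := Subgroup.Normal.map inferInstance _
      (QuotientGroup.mk'_surjective L)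
    have a2 : (K.map (QuotientGroup.mk' L)).Normal := Subgroup.Normal.map inferInstance _
      (QuotientGroup.mk'_surjective L)
    refine (h.quot L).false_of_centralizes (p := p) ?_ ?_ (K.map (QuotientGroup.mk' L))
      (Subgroup.map_mono hKN) ?_ ?_ ?_
    · rwa [Subgroup.index_map_eq _ (QuotientGroup.mk'_surjective L) (by rwa [QuotientGroup.ker_mk'])]
    · rw [H3.card_map_mk']
      rw [← H3.card_mul_relIndex hLN] at hpN
      exact ((Nat.Prime.dvd_mul hp).mp hpN).resolve_left hpL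
    · rw [Ne, Subgroup.map_eq_bot_iff, QuotientGroup.ker_mk']
      intro e
      obtain ⟨y, hy, hyq⟩ := H3.exists_mem_orderOf_eq_prime hq hqN
      apply hM1
      rw [← hyq]
      exact Subgroup.orderOf_dvd_natCard M (e (hK2 y hy (by
        rw [hyq]; exact (Nat.coprime_primes hq hp).mpr hqp))).2
    · exact fun e => hK1 (e.trans (Subgroup.card_map_dvd _ _))
    · rintro _ ⟨y, hy, rfl⟩ ⟨j, hj⟩
      obtain ⟨a, b, ha, hb, hab, ⟨i, hi⟩, hbc⟩ := H8.exists_pPart_mul_pPrimePart p y
      have b1 : QuotientGroup.mk' L b = 1 := by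
        rw [← orderOf_eq_one_iff]
        refine Nat.eq_one_of_dvd_coprimes (hbc.pow_right j) (orderOf_map_dvd _ b) ?_
        apply orderOf_dvd_of_pow_eq_one
        obtain ⟨m, rfl⟩ := hb
        rw [map_zpow, ← zpow_natCast, ← zpow_mul, mul_comm, zpow_mul, zpow_natCast, hj, one_zpow]
      have b2 : a ∈ M := hM2 a (Subgroup.zpowers_le.mpr hy ha)
        ((((Nat.coprime_primes hp hq).mpr hqp.symm).pow_left i).coprime_dvd_left
          (orderOf_dvd_of_pow_eq_one hi))
      rw [hab, map_mul, b1, mul_one, Subgroup.mem_centralizer_iff]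
      rintro _ ⟨c, hc, rfl⟩
      have b3 : c * a * c⁻¹ * a⁻¹ ∈ L := ⟨by
        have := K.mul_mem hc (hKn.conj_mem _ (K.inv_mem hc) a)
        simpa [mul_assoc] using this, M.mul_mem (hMn.conj_mem _ b2 c) (M.inv_mem b2)⟩
      have b4 : QuotientGroup.mk' L (c * a * c⁻¹ * a⁻¹) = 1 := (QuotientGroup.eq_one_iff _).mpr b3
      simp only [map_mul, map_inv] at b4
      rwa [mul_inv_eq_one, mul_inv_eq_iff_eq_mul] at b4
  · obtain ⟨t, ht⟩ := exists_prime_orderOf_dvd_card' (G := G) q (hqi.trans N.index_dvd_card)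
    have htN : t ∉ N := fun e => hqN (ht ▸ Subgroup.orderOf_dvd_natCard N e)
    have hfpf : ∀ n : N, MulAut.conjNormal t n = n → n = 1 := by
      intro n hn
      have h2 : t * n * t⁻¹ = n := congrArg Subtype.val hn
      rw [mul_inv_eq_iff_eq_mul] at h2
      by_contra hn1
      obtain ⟨s, hs, hsn⟩ := Nat.exists_prime_and_dvd (fun e => hn1 (orderOf_eq_one_iff.mp e))
      obtain ⟨j, hj⟩ := h.pow_eq_one htN n.2 hs (by rwa [Subgroup.orderOf_coe]) h2
      have := orderOf_dvd_of_pow_eq_one hj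
      rw [ht] at this
      rw [(Nat.prime_dvd_prime_iff_eq hq hs).mp (hq.dvd_of_dvd_pow this)] at hqN
      exact hqN (hsn.trans (orderOf_dvd_natCard n))
    have hpow : (MulAut.conjNormal t : MulAut N) ^ q = 1 := by
      rw [← map_pow, ← ht, pow_orderOf_eq_one, map_one]
    have hnil : Group.IsNilpotent N := by
      by_cases h3 : (MulAut.conjNormal t : MulAut N) = 1
      · have : Subsingleton N := ⟨fun a b => by
          rw [hfpf a (by rw [h3]; rfl), hfpf b (by rw [h3]; rfl)]⟩
        infer_instance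
      · exact S0033.result (MulAut.conjNormal t : MulAut N) hfpf q hq (orderOf_eq_prime hpow h3)
    refine h.false_of_centralizes hpi hpN K hKN ?_ hK1 ?_
    · intro e
      obtain ⟨y, hy, hyr⟩ := H3.exists_mem_orderOf_eq_prime hr hrN
      have := hK2 y hy (by rw [hyr]; exact (Nat.coprime_primes hr hp).mpr hrp)
      rw [e, Subgroup.mem_bot] at this
      rw [this, orderOf_one] at hyr
      exact hr.one_lt.ne hyr
    · rintro y hy ⟨j, hj⟩
      rw [Subgroup.mem_centralizer_iff]
      intro c hc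
      refine (H4.commute_of_isNilpotent_of_coprime hnil (hKN hc) hy ?_).eq
      exact ((((Nat.Prime.coprime_iff_not_dvd hp).mpr hK1).pow_left j).symm.coprime_dvd_left
        (Subgroup.orderOf_dvd_natCard K hc)).coprime_dvd_right (orderOf_dvd_of_pow_eq_one hj)

end Cfsg.Agent.S4140
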