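import Cfsg.Statements.S0556
import Cfsg.Agent.H4.Schmidt
import Cfsg.Agent.H1.Nilp

set_option autoImplicit false
open Cfsg

namespace Cfsg.Agent.S0556

/-- If a finite group has a maximal subgroup that is abelian, then the third term of its derived series is trivial (so the group is solvable of derived length at most three). -/
theorem result {G : Type*} [Group G] [Finite G] (A : Subgroup G) (hA : IsCoatom A) [IsMulCommutative A] : derivedSeries G 3 = ⊥ := by
  have hd : derivedSeries G 3 =
      ⁅⁅commutator G, commutator G⁆, ⁅commutator G, commutator G⁆⁆ := rfl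
  have hZ : ⁅commutator G, commutator G⁆ ≤ Subgroup.center G → derivedSeries G 3 = ⊥ := by
    intro h
    rw [hd, eq_bot_iff]
    exact (Subgroup.commutator_mono h h).trans (Subgroup.commutator_center_left _).le
  have hAA : ⁅A, A⁆ = ⊥ := Subgroup.commutator_self_eq_bot_iff.mpr inferInstance
  have hmax : ∀ B : Subgroup G, A ≤ B → B = A ∨ B = ⊤ := fun B hB =>
    hB.eq_or_lt.imp Eq.symm (hA.2 B)
  by_cases hGA : commutator G ≤ A
  · exact hZ ((Subgroup.commutator_mono hGA hGA).trans (hAA.le.trans bot_le))
  have hAn : ¬ A.Normal := by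
    intro hn
    obtain ⟨g, -, hg⟩ := SetLike.exists_of_lt hA.1.lt_top
    rcases hmax (A ⊔ Subgroup.zpowers g) le_sup_left with h | h
    · exact hg (h ▸ Subgroup.mem_sup_right (Subgroup.mem_zpowers g))
    · exact hGA (H4.commutator_le_of_sup_eq_top h)
  -- a Sylow subgroup of `A` is central, or its prime does not divide `|G'|`
  have key : ∀ (p : ℕ) [Fact p.Prime] (S : Subgroup G), H8.IsSylowIn p S A →
      S ≤ Subgroup.center G ∨ ¬ p ∣ Nat.card (commutator G) := by
    intro p _ S hS
    have hAC : A ≤ Subgroup.centralizer (S : Set G) :=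
      H4.le_normalizer_of_le_of_isMulCommutative hS.le
    rcases hmax _ (hAC.trans (Subgroup.centralizer_le_normalizer _)) with h | h
    · right
      obtain ⟨P, rfl⟩ : ∃ P : Sylow p G, (P : Subgroup G) = S := by
        rw [← H8.isSylowIn_top_iff, H8.isSylowIn_iff_exists_sylow]
        exact H4.exists_sylow_map_eq_of_maximal_in_normalizer le_top hS.isPGroup
          fun V hV hSV _ hVN => (hS.eq_of_le hV (hVN.trans h.le) hSV).le
      have hP := H8.hasNormalPComplement_of_normalizer_le_centralizer P (h.le.trans hAC)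
      have := H8.pResidual_normal (G := G) p
      have : IsMulCommutative (P : Subgroup G) := H1.isMulCommutative_of_le hS.le
      have h1 : commutator G ≤ pResidual p G :=
        H4.commutator_le_of_sup_eq_top (H8.HasNormalPComplement.isComplement' hP P).sup_eq_top
      exact fun hd => H8.hasNormalPComplement_iff_not_dvd.mp hP
        (hd.trans (Subgroup.card_dvd_of_le h1))
    · left
      have : S.Normal := Subgroup.normalizer_eq_top_iff.mp h
      rcases hmax _ hAC with h1 | h1
      · exact absurd (h1 ▸ inferInstance) hAn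
      · exact Subgroup.centralizer_eq_top_iff_subset.mp h1
  have hinf : commutator G ⊓ A ≤ Subgroup.center G := by
    apply H4.le_of_forall_sylow_le
    intro p _
    obtain ⟨P⟩ : Nonempty (Sylow p (commutator G ⊓ A : Subgroup G)) := inferInstance
    refine ⟨P, ?_⟩
    obtain ⟨S, hS, hPS⟩ := H8.exists_isSylowIn_ge (P.2.map (commutator G ⊓ A).subtype)
      ((Subgroup.map_subtype_le _).trans inf_le_right)
    rcases key p S hS with h | h
    · exact hPS.trans h
    · rcases P.2.card_eq_or_dvd with h1 | h1
      · rw [Subgroup.card_eq_one.mp h1, Subgroup.map_bot]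
        exact bot_le
      · exact absurd (h1.trans ((Subgroup.card_subgroup_dvd_card _).trans
          (Subgroup.card_dvd_of_le inf_le_left))) h
  let B : Subgroup G :=
    { carrier := {a | a ∈ A ∧ (orderOf a).Coprime (Nat.card (commutator G))}
      one_mem' := ⟨A.one_mem, by simp⟩
      mul_mem' := fun {a b} ha hb => ⟨A.mul_mem ha.1 hb.1,
        (Nat.Coprime.mul_left ha.2 hb.2).coprime_dvd_left
          (Commute.orderOf_mul_dvd_mul_orderOf (setLike_mul_comm ha.1 hb.1))⟩
      inv_mem' := fun {a} ha => ⟨A.inv_mem ha.1, by rw [orderOf_inv]; exact ha.2⟩ }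
  have hBA : B ≤ A := fun a ha => ha.1
  have hBcop : (Nat.card B).Coprime (Nat.card (commutator G)) := by
    apply Nat.coprime_of_dvd
    intro r hr h1 h2
    obtain ⟨x, hx, hxr⟩ := H3.exists_mem_orderOf_eq_prime hr h1
    exact hr.not_dvd_one (hx.2 ▸ Nat.dvd_gcd (hxr ▸ dvd_rfl) h2)
  obtain ⟨q, hq, Q, hQq, hQG, hQB, hQA⟩ : ∃ q : ℕ, q.Prime ∧ ∃ Q : Subgroup G, IsPGroup q Q ∧
      Q ≤ commutator G ∧ B ≤ Subgroup.normalizer (Q : Set G) ∧ ¬ Q ≤ A := by
    by_contra hne
    push Not at hne
    apply hGA
    apply H4.le_of_forall_sylow_le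
    intro q hq
    obtain ⟨Q, hQ⟩ := H4.exists_invariant_sylow (A := B) (K := commutator G)
      Subgroup.le_normalizer_of_normal hBcop
      (Or.inl (H4.isSolvable_of_le hBA (H4.isSolvable_of_isMulCommutative A))) q
    exact ⟨Q, hne q hq.out _ (Q.2.map _) (Subgroup.map_subtype_le _) hQ⟩
  have := Fact.mk hq
  have hAQ : A ≤ Subgroup.normalizer (Q : Set G) := by
    apply H4.le_of_forall_sylow_le
    intro p hp
    obtain ⟨P⟩ : Nonempty (Sylow p A) := inferInstance
    refine ⟨P, ?_⟩
    rcases key p _ (H8.isSylowIn_map_subtype P) with h | h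
    · exact h.trans (Subgroup.center_le_normalizer _)
    · refine le_trans (fun x hx => ?_) hQB
      refine ⟨Subgroup.map_subtype_le _ hx, ?_⟩
      obtain ⟨k, hk⟩ := IsPGroup.iff_orderOf.mp (P.2.map A.subtype) ⟨x, hx⟩
      rw [Subgroup.orderOf_mk] at hk
      rw [hk]
      exact (hp.out.coprime_iff_not_dvd.mpr h).pow_left k
  have htop : Q ⊔ A = ⊤ :=
    (hmax _ le_sup_right).resolve_left fun h => hQA (le_sup_left.trans h.le)
  have hQn : Q.Normal := by
    rw [← Subgroup.normalizer_eq_top_iff, eq_top_iff, ← htop]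
    exact sup_le Subgroup.le_normalizer hAQ
  have hGQ : commutator G = Q := le_antisymm (H4.commutator_le_of_sup_eq_top htop) hQG
  apply hZ
  refine le_trans (le_inf (Subgroup.commutator_le_left _ _) ?_) hinf
  rw [hGQ]
  rcases hmax (⁅Q, Q⁆ ⊔ A) le_sup_right with h | h
  · exact le_sup_left.trans h.le
  · exfalso
    have h1 := H4.commutator_le_of_sup_eq_top h
    rw [hGQ] at h1
    exact (H3.commutator_lt_of_isSolvable (H4.isSolvable_of_isPGroup hQq)
      (fun h => hQA (h ▸ bot_le))).not_ge h1

end Cfsg.Agent.S0556
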