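import Cfsg.Statements.S2476
import Cfsg.Agent.H76.SpecLin3

set_option autoImplicit false
open Cfsg

namespace Cfsg.Agent.S2476

/-- The set of element orders of PSL(3,q): let F be a finite field of characteristic p with q elements and d = gcd(3, q − 1). The orders of elements of PSL(3,F) are exactly the divisors of (q² + q + 1)/d, of (q² − 1)/d, of q − 1, of p(q − 1)/d, and, when p = 2, of 4. -/
theorem result {F : Type*} [Field F] [Fintype F] (p : ℕ) [Fact p.Prime] [CharP F p] :
    Set.range (orderOf : Matrix.ProjectiveSpecialLinearGroup (Fin 3) F → ℕ) =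
      {m : ℕ | m ∣ (Fintype.card F ^ 2 + Fintype.card F + 1) / Nat.gcd 3 (Fintype.card F - 1) ∨
        m ∣ (Fintype.card F ^ 2 - 1) / Nat.gcd 3 (Fintype.card F - 1) ∨ m ∣ Fintype.card F - 1 ∨
        m ∣ p * (Fintype.card F - 1) / Nat.gcd 3 (Fintype.card F - 1) ∨ (p = 2 ∧ m ∣ 4)} := by
  have : CharP (AlgebraicClosure F) p := charP_of_injective_algebraMap (algebraMap F _).injective p
  have hG := H76.models_psl (F := F) (AlgebraicClosure F) (n := Fin 3) p
  rw [Fintype.card_fin] at hG
  have hq : 1 ≤ Fintype.card F := Fintype.card_pos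
  have hp2 := (Fact.out : p.Prime).two_le
  have h1 : (((Fintype.card F : ℕ) : ℤ) ^ 2 + (Fintype.card F : ℕ) + 1).natAbs
      = Fintype.card F ^ 2 + Fintype.card F + 1 := by
    rw [← Nat.cast_pow]
    omega
  ext m
  rw [hG.range_three (H76.char_dvd_card F p), H76.natAbs_sub_one hq,
    H76.natAbs_pow_sub_one hq, h1]
  simp only [Set.mem_setOf_eq]
  have : m ∣ p → m ∣ p * (Fintype.card F - 1) / Nat.gcd 3 (Fintype.card F - 1) := fun h => by
    rw [Nat.mul_div_assoc p (Nat.gcd_dvd_right _ _)]
    exact h.mul_right _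
  by_cases h2 : p = 2
  · subst h2
    rw [show 2 ^ Nat.clog 2 3 = 4 by decide]
    tauto
  · rw [Nat.clog_eq_one (by norm_num) (by omega), pow_one]
    tauto

end Cfsg.Agent.S2476
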