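import Cfsg.Statements.S2508
import Cfsg.Agent.H77.PSL2

set_option autoImplicit false
open Cfsg

namespace Cfsg.Agent.S2508

open Cfsg.Agent.H77

/-- Let F be a finite field with q elements, q odd and q ≥ 7. If q ≡ 1 (mod 4) the conjugacy class sizes of PSL(2,F) are exactly 1, (q² − 1)/2, q(q + 1)/2, q(q − 1) and q(q + 1); if q ≡ 3 (mod 4) they are exactly 1, (q² − 1)/2, q(q − 1)/2, q(q + 1) and q(q − 1). -/
theorem result {F : Type*} [Field F] [Fintype F]
    (hodd : ¬ 2 ∣ Fintype.card F) (h7 : 7 ≤ Fintype.card F) :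
    (Fintype.card F % 4 = 1 →
      Set.range (fun g : (Matrix.ProjectiveSpecialLinearGroup (Fin 2) F) => (Subgroup.centralizer ({g} : Set (Matrix.ProjectiveSpecialLinearGroup (Fin 2) F))).index) =
        {1, (Fintype.card F ^ 2 - 1) / 2, Fintype.card F * (Fintype.card F + 1) / 2,
          Fintype.card F * (Fintype.card F - 1), Fintype.card F * (Fintype.card F + 1)}) ∧
    (Fintype.card F % 4 = 3 →
      Set.range (fun g : (Matrix.ProjectiveSpecialLinearGroup (Fin 2) F) => (Subgroup.centralizer ({g} : Set (Matrix.ProjectiveSpecialLinearGroup (Fin 2) F))).index) =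
        {1, (Fintype.card F ^ 2 - 1) / 2, Fintype.card F * (Fintype.card F - 1) / 2,
          Fintype.card F * (Fintype.card F + 1), Fintype.card F * (Fintype.card F - 1)}) := by
  have h0 : (2 : F) ≠ 0 := two_ne_zero_of_odd (Nat.odd_iff.mpr (by omega))
  have hs : ∃ g : SL2 F, IsSplit (g : M2 F) ∧ (g : M2 F).trace ≠ 0 :=
    exists_isSplit_trace_ne fun h => by have := Nat.le_of_dvd four_pos h; omega
  have hn : ∃ g : SL2 F, NoEig (g : M2 F) ∧ (g : M2 F).trace ≠ 0 :=
    exists_noEig_trace_ne fun h => by have := Nat.le_of_dvd four_pos h; omega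
  obtain ⟨gs, hs, hs'⟩ := hs
  obtain ⟨gn, hn, hn'⟩ := hn
  obtain ⟨gp, hp⟩ := exists_isPar (F := F)
  obtain ⟨i, -, hi⟩ := exists_trace_eq (0 : F)
  have h1 : IsScal ((1 : SL2 F) : M2 F) := sl_isScal_iff.mpr (Or.inl rfl)
  have e1 := (psl_index_cent (Or.inr (trace_ne_zero_of_isScal h0 h1))).trans
    (sl_index_cent_isScal h1)
  have ep := (psl_index_cent (Or.inr (trace_ne_zero_of_isPar h0 hp))).trans
    (sl_index_cent_isPar_odd h0 hp)
  have es := (psl_index_cent (Or.inr hs')).trans (sl_index_cent_isSplit hs)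
  have en := (psl_index_cent (Or.inr hn')).trans (sl_index_cent_noEig hn)
  have hne : ∀ g : SL2 F, (g : M2 F).trace ≠ 0 →
      (Subgroup.centralizer ({pm F g} : Set (PSL2 F))).index = 1 ∨
      (Subgroup.centralizer ({pm F g} : Set (PSL2 F))).index = (Fintype.card F ^ 2 - 1) / 2 ∨
      (Subgroup.centralizer ({pm F g} : Set (PSL2 F))).index =
        Fintype.card F * (Fintype.card F - 1) ∨
      (Subgroup.centralizer ({pm F g} : Set (PSL2 F))).index =
        Fintype.card F * (Fintype.card F + 1) := by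
    intro g hg
    rw [psl_index_cent (Or.inr hg)]
    rcases type_cases (g : M2 F) with h | h | h | h
    · exact Or.inl (sl_index_cent_isScal h)
    · exact Or.inr (Or.inl (sl_index_cent_isPar_odd h0 h))
    · exact Or.inr (Or.inr (Or.inr (sl_index_cent_isSplit h)))
    · exact Or.inr (Or.inr (Or.inl (sl_index_cent_noEig h)))
  constructor
  · intro hq
    have hz : ∀ g : SL2 F, (g : M2 F).trace = 0 →
        (Subgroup.centralizer ({pm F g} : Set (PSL2 F))).index =
          Fintype.card F * (Fintype.card F + 1) / 2 := by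
      intro g hg
      have h1 := psl_index_cent_of_trace_eq_zero h0 hg
      rcases (isReg_of_trace_eq_zero h0 hg).split_or_noEig with h | h
      · rw [sl_index_cent_isSplit h] at h1
        omega
      · exact absurd (FiniteField.isSquare_neg_one_iff.mpr (by omega))
          (not_isSquare_neg_one_of_noEig hg h)
    ext n
    simp only [Set.mem_range, Set.mem_insert_iff, Set.mem_singleton_iff]
    constructor
    · rintro ⟨g, rfl⟩
      obtain ⟨g, rfl⟩ := pm_surj g
      by_cases hg : (g : M2 F).trace = 0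
      · exact Or.inr (Or.inr (Or.inl (hz g hg)))
      · have := hne g hg
        tauto
    · rintro (rfl | rfl | rfl | rfl | rfl)
      exacts [⟨_, e1⟩, ⟨_, ep⟩, ⟨_, hz i hi⟩, ⟨_, en⟩, ⟨_, es⟩]
  · intro hq
    have hz : ∀ g : SL2 F, (g : M2 F).trace = 0 →
        (Subgroup.centralizer ({pm F g} : Set (PSL2 F))).index =
          Fintype.card F * (Fintype.card F - 1) / 2 := by
      intro g hg
      have h1 := psl_index_cent_of_trace_eq_zero h0 hg
      rcases (isReg_of_trace_eq_zero h0 hg).split_or_noEig with h | h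
      · exact absurd hq (FiniteField.isSquare_neg_one_iff.mp (isSquare_neg_one_of_isSplit hg h))
      · rw [sl_index_cent_noEig h] at h1
        omega
    ext n
    simp only [Set.mem_range, Set.mem_insert_iff, Set.mem_singleton_iff]
    constructor
    · rintro ⟨g, rfl⟩
      obtain ⟨g, rfl⟩ := pm_surj g
      by_cases hg : (g : M2 F).trace = 0
      · exact Or.inr (Or.inr (Or.inl (hz g hg)))
      · have := hne g hg
        tauto
    · rintro (rfl | rfl | rfl | rfl | rfl)
      exacts [⟨_, e1⟩, ⟨_, ep⟩, ⟨_, hz i hi⟩, ⟨_, es⟩, ⟨_, en⟩]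

end Cfsg.Agent.S2508
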