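import Cfsg.Statements.S3192
import Cfsg.Agent.H15.CS5
import Cfsg.Agent.H87.GoldFacts

set_option autoImplicit false
open Cfsg

namespace Cfsg.Agent.S3192

open Cfsg.Agent.H92 in
theorem cs_equiv {G G' : Type*} [Group G] [Group G'] (e : G ≃* G') (x : G) : cs[e x] = cs[x] :=
  Nat.dvd_antisymm (cs_map_dvd (f := e.toMonoidHom) e.surjective x)
    (by simpa using cs_map_dvd (f := e.symm.toMonoidHom) e.symm.surjective (e x))


/-- Simple groups of conjugate type rank three. For a finite group G consider the set of indices of the centralizers of the non-central elements of G. Then G is a non-abelian simple group for which this set has exactly three members if and only if G is isomorphic to PSL(2, 2^m) for some m ≥ 2. -/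
theorem result (G : Type*) [Group G] [Finite G] :
    (IsSimpleGroup G ∧ ¬ IsMulCommutative G ∧
        Set.ncard {m : ℕ | ∃ x : G, x ∉ Subgroup.center G ∧ m = (Subgroup.centralizer ({x} : Set G)).index} = 3) ↔
      ∃ (m : ℕ) (F : Type) (_ : Field F) (_ : Fintype F), 2 ≤ m ∧ Fintype.card F = 2 ^ m ∧
        Nonempty (G ≃* Matrix.ProjectiveSpecialLinearGroup (Fin 2) F) := by
  constructor
  · rintro ⟨hs, hc, h⟩
    have hns := H15.not_isSolvable_of_simple hc
    have hZ := H15.center_eq_bot_of_simple hc
    have h' : {n : ℕ | ∃ x : G, x ≠ 1 ∧ (Subgroup.centralizer ({x} : Set G)).index = n}.ncard ≤ 3 := by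
      refine le_trans (le_of_eq (congrArg Set.ncard ?_)) h.le
      ext n
      simp [hZ, eq_comm]
    obtain ⟨F, _, _, n, hn, hF, -, he, -⟩ := H15.exists_pgl_of_abelian_centralizers hns hZ
      fun t ht => H15.comm_of_three_sizes hns hZ h' ht
    exact ⟨n, F, inferInstance, inferInstance, hn, by rw [← Nat.card_eq_fintype_card, hF], he⟩
  · rintro ⟨m, F, _, _, hm, hF, ⟨e⟩⟩
    have h4 : 4 ≤ Fintype.card F := by
      rw [hF]; exact Nat.pow_le_pow_right (n := 2) (by norm_num) hm
    have hs := H87.psl2_simple (F := F) h4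
    have hsG : IsSimpleGroup G := e.isSimpleGroup
    have hc : ¬ IsMulCommutative G := fun hc => H87.psl2_not_comm (F := F) h4
      ⟨⟨fun a b => by
        simpa using congrArg e (hc.is_comm.comm (e.symm a) (e.symm b))⟩⟩
    refine ⟨hsG, hc, ?_⟩
    have hZ := H15.center_eq_bot_of_simple hc
    rw [← Nat.card_eq_fintype_card] at h4 hF
    have he : Even (Nat.card F) := by
      rw [hF]; exact (Nat.even_pow' (by omega)).mpr even_two
    let f := e.trans (H15.pslEquivPGL he)
    have : Finite (Matrix.ProjGenLinGroup (Fin 2) F) := Finite.of_equiv _ f.toEquiv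
    obtain ⟨v, hv⟩ := H15.exists_orderOf_sub_one (F := F)
    obtain ⟨w, hw⟩ := H15.exists_orderOf_add_one (F := F)
    obtain ⟨u, hu⟩ : ∃ u : Matrix.ProjGenLinGroup (Fin 2) F, orderOf u = 2 := by
      refine exists_prime_orderOf_dvd_card' 2 ?_
      rw [H29.card_PGL2]
      exact (he.two_dvd.mul_right _).mul_left _
    have hu1 : u ≠ 1 := by rintro rfl; simp at hu
    have hv1 : v ≠ 1 := by rintro rfl; rw [orderOf_one] at hv; omega
    have hw1 : w ≠ 1 := by rintro rfl; rw [orderOf_one] at hw; omega
    have du := hu ▸ Subgroup.orderOf_dvd_natCard _ (H92.self_mem_C u)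
    have dv := hv ▸ Subgroup.orderOf_dvd_natCard _ (H92.self_mem_C v)
    have dw := hw ▸ Subgroup.orderOf_dvd_natCard _ (H92.self_mem_C w)
    obtain ⟨k, hk⟩ := he
    have cu : Nat.card (Subgroup.centralizer {u}) = Nat.card F := by
      rcases H15.card_centralizer_even ⟨k, hk⟩ hu1 with h | h | h <;> omega
    have cv : Nat.card (Subgroup.centralizer {v}) = Nat.card F - 1 := by
      rcases H15.card_centralizer_even ⟨k, hk⟩ hv1 with h | h | h
      · rw [h] at dv
        have := Nat.le_of_dvd (by omega) (Nat.dvd_sub dv dvd_rfl)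
        omega
      · exact h
      · rw [h] at dv
        have := Nat.le_of_dvd (by omega) (Nat.dvd_sub dv dvd_rfl)
        omega
    have cw : Nat.card (Subgroup.centralizer {w}) = Nat.card F + 1 := by
      have := Nat.le_of_dvd Nat.card_pos dw
      rcases H15.card_centralizer_even ⟨k, hk⟩ hw1 with h | h | h <;> omega
    have same : ∀ x y : Matrix.ProjGenLinGroup (Fin 2) F,
        Nat.card (Subgroup.centralizer {x}) = Nat.card (Subgroup.centralizer {y}) →
        (Subgroup.centralizer {x}).index = (Subgroup.centralizer {y}).index := by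
      intro x y h
      have e1 := (H92.cs_mul_card x).trans (H92.cs_mul_card y).symm
      rw [h] at e1
      exact Nat.eq_of_mul_eq_mul_right Nat.card_pos e1
    refine Set.ncard_eq_three.mpr ⟨(Subgroup.centralizer {u}).index,
      (Subgroup.centralizer {v}).index, (Subgroup.centralizer {w}).index, fun h => ?_, fun h => ?_,
      fun h => ?_, ?_⟩
    · have := H92.card_C_eq_of_cs_eq h; omega
    · have := H92.card_C_eq_of_cs_eq h; omega
    · have := H92.card_C_eq_of_cs_eq h; omega
    ext n
    simp only [hZ, Subgroup.mem_bot, Set.mem_setOf_eq, Set.mem_insert_iff, Set.mem_singleton_iff]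
    constructor
    · rintro ⟨x, hx, rfl⟩
      rw [← cs_equiv f x]
      rcases H15.card_centralizer_even ⟨k, hk⟩ (g := f x) (by simpa using hx) with h | h | h
      · exact Or.inl (same _ _ (h.trans cu.symm))
      · exact Or.inr (Or.inl (same _ _ (h.trans cv.symm)))
      · exact Or.inr (Or.inr (same _ _ (h.trans cw.symm)))
    · rintro (rfl | rfl | rfl)
      · exact ⟨f.symm u, by simpa using hu1, (cs_equiv f.symm u).symm⟩
      · exact ⟨f.symm v, by simpa using hv1, (cs_equiv f.symm v).symm⟩
      · exact ⟨f.symm w, by simpa using hw1, (cs_equiv f.symm w).symm⟩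

end Cfsg.Agent.S3192
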