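import Cfsg.Statements.S4195

set_option autoImplicit false
open Cfsg

namespace Cfsg.Agent.S4195

/-- Let x be a non-identity element of a finite group G whose centralizer contains a Sylow 2-subgroup of G. If x is conjugate to its inverse, then x has order 2. -/
theorem result {G : Type*} [Group G] [Finite G] (x : G) (hx : x ≠ 1) (P : Sylow 2 G) (hP : (P : Subgroup G) ≤ Subgroup.centralizer ({x} : Set G)) (hreal : IsConj x x⁻¹) : orderOf x = 2 := by
  haveI : Fact (Nat.Prime 2) := ⟨Nat.prime_two⟩
  by_contra hne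
  have hxx : x ≠ x⁻¹ := by
    intro h
    apply hne
    apply orderOf_eq_prime _ hx
    rw [pow_two]; nth_rewrite 2 [h]; simp
  obtain ⟨g, hg⟩ := isConj_iff.mp hreal
  let E : Subgroup G :=
    { carrier := {h | h * x * h⁻¹ = x ∨ h * x * h⁻¹ = x⁻¹}
      one_mem' := by left; simp
      mul_mem' := by
        intro a b ha hb
        have e : a * b * x * (a * b)⁻¹ = a * (b * x * b⁻¹) * a⁻¹ := by group
        have e2 : a * x⁻¹ * a⁻¹ = (a * x * a⁻¹)⁻¹ := by group
        simp only [Set.mem_setOf_eq] at ha hb ⊢
        rw [e]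
        rcases hb with hb | hb <;> rw [hb]
        · exact ha
        · rw [e2]
          rcases ha with ha | ha <;> rw [ha]
          · right; rfl
          · left; simp
      inv_mem' := by
        intro a ha
        simp only [Set.mem_setOf_eq] at ha ⊢
        rcases ha with ha | ha
        · left
          calc a⁻¹ * x * a⁻¹⁻¹ = a⁻¹ * (a * x * a⁻¹) * a⁻¹⁻¹ := by rw [ha]
            _ = x := by group
        · right
          have : x = (a * x * a⁻¹)⁻¹ := by rw [ha]; simp
          calc a⁻¹ * x * a⁻¹⁻¹ = a⁻¹ * (a * x * a⁻¹)⁻¹ * a⁻¹⁻¹ := by rw [← this]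
            _ = x⁻¹ := by group }
  have hC : ∀ h : G, h ∈ Subgroup.centralizer ({x} : Set G) ↔ h * x * h⁻¹ = x := by
    intro h
    rw [Subgroup.mem_centralizer_singleton_iff, mul_inv_eq_iff_eq_mul]
  have hle : Subgroup.centralizer ({x} : Set G) ≤ E := fun h hh => Or.inl ((hC h).mp hh)
  have h2 : (Subgroup.centralizer ({x} : Set G)).relIndex E = 2 := by
    rw [Subgroup.relIndex_eq_two_iff_exists_notMem_and]
    refine ⟨g, Or.inr hg, ?_, ?_⟩
    · rw [hC, hg]; exact fun h => hxx h.symm
    · intro b hb
      rcases hb with hb | hb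
      · right; exact (hC b).mpr hb
      · left
        rw [hC]
        calc b * g * x * (b * g)⁻¹ = b * (g * x * g⁻¹) * b⁻¹ := by group
          _ = (b * x * b⁻¹)⁻¹ := by rw [hg]; group
          _ = x := by rw [hb]; simp
  apply P.not_dvd_index
  exact (h2 ▸ Subgroup.relIndex_dvd_index_of_le hle).trans (Subgroup.index_dvd_of_le hP)

end Cfsg.Agent.S4195
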