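import Cfsg.Statements.S0877
import Cfsg.Agent.H13.PiLift

set_option autoImplicit false
open Cfsg

namespace Cfsg.Agent.S0877

open Cfsg.Agent.H11 Cfsg.Agent.H13

/-- Let H be a subgroup of the finite group G whose order is coprime to its index. Suppose that elements of H conjugate in G are conjugate in H, and that every subgroup E of G that is elementary for some prime (in the sense used for Brauer's characterisation of characters) and whose order divides the order of H is conjugate to a subgroup of H. Then there is a normal subgroup K with K ⊔ H = ⊤ and K ⊓ H trivial. -/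
theorem result {G : Type*} [Group G] [Finite G] (H : Subgroup G) (hHall : Nat.Coprime (Nat.card H) H.index) (hfus : ∀ x ∈ H, ∀ y ∈ H, IsConj x y → ∃ h ∈ H, h * x * h⁻¹ = y) (helem : ∀ (E : Subgroup G) (p : ℕ), p.Prime → Cfsg.IsElementary p E → Nat.card E ∣ Nat.card H → ∃ g : G, E.map (MulAut.conj g).toMonoidHom ≤ H) : ∃ K : Subgroup G, K.Normal ∧ K ⊔ H = ⊤ ∧ K ⊓ H = ⊥ := by
  classical
  have := Fintype.ofFinite G
  have := Fintype.ofFinite H
  obtain ⟨a, ha, ha'⟩ := exists_piExponent hHall
  have hexp : ∀ g : G, g ^ (Nat.card H * H.index) = 1 := fun g => by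
    rw [H.card_mul_index, pow_card_eq_one']
  have hH : ∀ h : H, (h : G) ^ a = h := fun h =>
    pow_eq_self_of_modEq ha (congrArg Subtype.val (pow_card_eq_one' (x := h)))
  have hex : ∀ g : G, ∃ h : H, IsConj (g ^ a) h := by
    intro g
    obtain ⟨y, hy⟩ := helem (Subgroup.zpowers (g ^ a)) 2 Nat.prime_two
      (isElementary_of_isCyclic Nat.prime_two)
      (by rw [Nat.card_zpowers]
          exact orderOf_dvd_of_pow_eq_one (pow_pow_eq_one_of_dvd ha' (hexp g)))
    exact ⟨⟨y * g ^ a * y⁻¹, hy ⟨g ^ a, Subgroup.mem_zpowers _, rfl⟩⟩, isConj_iff.2 ⟨y, rfl⟩⟩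
  choose c hc using hex
  have hconj : ∀ (g : G) (h : H), IsConj (g ^ a) h → IsConj (c g) h := by
    intro g h hgh
    obtain ⟨y, hy, hyy⟩ := hfus _ (c g).2 _ h.2 ((hc g).symm.trans hgh)
    exact isConj_iff.2 ⟨⟨y, hy⟩, Subtype.ext hyy⟩
  have hsurj : ∀ x : H, ∃ g, IsConj (c g) x := fun x =>
    ⟨x, hconj x x (by rw [hH x])⟩
  have hc1 : ∀ g, c g = 1 ↔ g ^ a = 1 := by
    intro g
    constructor
    · intro h
      have := hc g
      rw [h] at this
      exact isConj_one_left.1 this
    · intro h
      exact isConj_one_left.1 (hconj g 1 (by rw [h]; exact IsConj.refl _))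
  have hgen : ∀ φ, IsIrrCharacter H φ → IsGeneralizedCharacter G (fun g => φ (c g)) := by
    intro φ hφ
    have hφc := H11.isClassFunction_of_irr hφ
    refine isGen_of_restrict_elementary (fun g y => classFun_of_isConj hφc (hconj _ _ ?_)) ?_
    · refine IsConj.trans ?_ (hc g)
      rw [conj_pow]
      exact (isConj_iff.2 ⟨y, rfl⟩).symm
    · intro E p hp hE
      let π : E →* G := MonoidHom.mk' (fun e => (e : G) ^ a) fun e e' =>
        congrArg Subtype.val (mul_pow_of_isElementary hp hE hHall
          (fun e => Subtype.ext (hexp e)) ha ha' e e')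
      have hU : IsElementary p π.range :=
        isElementary_of_surjective hp hE π.rangeRestrict π.rangeRestrict_surjective
      have hUcard : Nat.card π.range ∣ Nat.card H := by
        have h1 : (Nat.card π.range).Coprime H.index :=
          coprime_card_of_forall_pow_eq_one hHall (by
            rintro ⟨_, e, rfl⟩
            exact Subtype.ext (pow_pow_eq_one_of_dvd ha' (hexp e)))
        refine h1.dvd_of_dvd_mul_right ?_
        rw [H.card_mul_index]
        exact Subgroup.card_subgroup_dvd_card _
      obtain ⟨y, hy⟩ := helem _ p hp hU hUcard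
      let f : E →* H := ((MulAut.conj y).toMonoidHom.comp π).codRestrict H
        fun e => hy ⟨π e, ⟨e, rfl⟩, rfl⟩
      have : (fun e : E => φ (c e)) = fun e => φ (f e) := by
        funext e
        exact classFun_of_isConj hφc (hconj _ _ (isConj_iff.2 ⟨y, rfl⟩))
      rw [this]
      exact isGen_of_isCharacter (H11.isCharacter_comp (H11.isCharacter_of_irr hφ) f)
  have h1 : c 1 = 1 := (hc1 1).2 (one_pow a)
  have hreg := isCharacter_lift c hsurj h1 hgen (isCharacter_regChar (G := H))
  have hK : ∀ g, g ∈ charKer (fun g => regChar H (c g)) ↔ g ^ a = 1 := by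
    intro g
    rw [mem_charKer_iff hreg, h1, regChar_one, ← hc1]
    constructor
    · intro h
      by_contra hne
      rw [regChar_of_ne_one hne] at h
      exact H11.card_ne_zero H h.symm
    · intro h
      rw [h, regChar_one]
  have hKn := charKer_normal (H11.isClassFunction_of_isCharacter hreg)
  refine ⟨_, hKn, ?_, ?_⟩
  · rw [← Subgroup.index_eq_one]
    have h2 : (charKer (fun g => regChar H (c g))).index.Coprime H.index := by
      refine coprime_card_of_forall_pow_eq_one hHall fun y => ?_
      obtain ⟨g, rfl⟩ := QuotientGroup.mk_surjective y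
      rw [← QuotientGroup.mk_pow, QuotientGroup.eq_one_iff, hK, ← pow_mul, mul_comm, pow_mul]
      exact pow_pow_eq_one_of_dvd ha' (hexp g)
    exact Nat.eq_one_of_dvd_coprimes h2 (Subgroup.index_dvd_of_le le_sup_left)
      (Subgroup.index_dvd_of_le le_sup_right)
  · rw [eq_bot_iff]
    intro g hg
    have h3 := (hK g).1 hg.1
    rw [hH ⟨g, hg.2⟩] at h3
    exact h3

end Cfsg.Agent.S0877
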