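import Cfsg.Statements.S3382

set_option autoImplicit false
open Cfsg

namespace Cfsg.Agent.S3382

section
variable {T : Type*} [Group T] [Finite T]

/-- an automorphism of odd prime order fixes a point of an invariant coset in a `2`-group -/
theorem exists_fix (hT : IsPGroup 2 T) {φ : MulAut T} {r : ℕ} (hr : r.Prime) (hr2 : r ≠ 2)
    (hφ : orderOf φ = r) (H : Subgroup T) (x : T) (h : ∀ y, x⁻¹ * y ∈ H → x⁻¹ * φ y ∈ H) :
    ∃ y, x⁻¹ * y ∈ H ∧ φ y = y := by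
  have := Fact.mk hr
  let S : SubMulAction (Subgroup.zpowers φ) T :=
    { carrier := {y | x⁻¹ * y ∈ H}
      smul_mem' := by
        rintro ⟨g, hg⟩ y hy
        obtain ⟨n, rfl⟩ := (mem_powers_iff_mem_zpowers.2 hg)
        change x⁻¹ * (φ ^ n) y ∈ H
        induction n with
        | zero => exact hy
        | succ n ih => rw [pow_succ']; exact h _ (ih (Subgroup.npow_mem_zpowers _ _)) }
  have hp : IsPGroup r (Subgroup.zpowers φ) :=
    IsPGroup.of_card (n := 1) (by rw [Nat.card_zpowers, hφ, pow_one])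
  have hc : Nat.card S = Nat.card H := Nat.card_congr
    ⟨fun y => ⟨_, y.2⟩, fun y => ⟨x * y, by change x⁻¹ * (x * y) ∈ H; simp⟩,
      fun y => by simp, fun y => by simp⟩
  obtain ⟨n, hn⟩ := IsPGroup.iff_card.1 (hT.to_subgroup H)
  obtain ⟨y, hy⟩ := hp.nonempty_fixed_point_of_prime_not_dvd_card S (by
    rw [hc, hn]
    exact fun hd => hr2 ((Nat.prime_dvd_prime_iff_eq hr Nat.prime_two).1 (hr.dvd_of_dvd_pow hd)))
  exact ⟨y, y.2, congrArg Subtype.val (hy ⟨φ, Subgroup.mem_zpowers φ⟩)⟩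

/-- fixed points go up along a subgroup of index at most two -/
theorem fix_up (hT : IsPGroup 2 T) {φ : MulAut T} {r : ℕ} (hr : r.Prime) (hr2 : r ≠ 2)
    (hφ : orderOf φ = r) {H : Subgroup T} {K : Set T} (hH : ∀ y ∈ H, φ y = y)
    (hK : ∀ y ∈ K, φ y ∈ K) (hm : ∀ x ∈ K, ∀ y ∈ H, x * y ∈ K)
    (h2 : ∀ x ∈ K, ∀ y ∈ K, x ∉ H → y ∉ H → x⁻¹ * y ∈ H) : ∀ y ∈ K, φ y = y := by
  intro x hx
  by_cases h1 : x ∈ H
  · exact hH x h1
  obtain ⟨y, hy, h3⟩ := exists_fix hT hr hr2 hφ H x fun y hy =>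
    h2 x hx _ (hK y (by simpa using hm x hx _ hy)) h1 fun h3 => h1 (by
      have h4 : φ y = y := φ.injective (hH _ h3)
      simpa using mul_mem (h4 ▸ h3 : y ∈ H) (inv_mem hy))
  have h4 := hH _ hy
  rwa [map_mul, h3, mul_left_inj, map_inv, inv_inj] at h4

theorem isPGroup_of (h : ∀ φ : MulAut T, ∀ r : ℕ, r.Prime → r ≠ 2 → orderOf φ = r → ∀ y, φ y = y) :
    IsPGroup 2 (MulAut T) := by
  intro φ
  obtain ⟨a, m, hm, h1⟩ := Nat.exists_eq_two_pow_mul_odd (orderOf_pos φ).ne'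
  refine ⟨a, orderOf_dvd_iff_pow_eq_one.1 ?_⟩
  by_cases h2 : m = 1
  · rw [h1, h2, mul_one]
  obtain ⟨r, hr, hrm⟩ := Nat.exists_prime_and_dvd h2
  have h3 : orderOf (φ ^ (orderOf φ / r)) = r :=
    orderOf_pow_orderOf_div (orderOf_pos φ).ne' (h1 ▸ hrm.mul_left _)
  have h4 : φ ^ (orderOf φ / r) = 1 := MulEquiv.ext (h _ r hr (by
    rintro rfl
    exact Nat.not_even_iff_odd.2 hm (even_iff_two_dvd.2 hrm)) h3)
  rw [h4, orderOf_one] at h3
  exact absurd h3.symm hr.ne_one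

end

section
variable {F : Type*} [Field F]

/-- diagonal -/
def Dg (f : (Fin 2 → F) ≃ₗ[F] (Fin 2 → F)) (a b : F) : Prop := ∀ v, f v = ![a * v 0, b * v 1]

/-- antidiagonal -/
def Ad (f : (Fin 2 → F) ≃ₗ[F] (Fin 2 → F)) (a b : F) : Prop := ∀ v, f v = ![b * v 1, a * v 0]

variable {f g : (Fin 2 → F) ≃ₗ[F] (Fin 2 → F)} {a b c d : F}

theorem Dg.mul (h : Dg f a b) (h' : Dg g c d) : Dg (f * g) (a * c) (b * d) := fun v => by
  rw [LinearEquiv.mul_apply, h', h]; simp [mul_assoc]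

theorem Ad.mul (h : Ad f a b) (h' : Ad g c d) : Dg (f * g) (b * c) (a * d) := fun v => by
  rw [LinearEquiv.mul_apply, h', h]; simp [mul_assoc]

theorem Dg.pow (h : Dg f a b) (n : ℕ) : Dg (f ^ n) (a ^ n) (b ^ n) := by
  induction n with
  | zero => intro v; ext i; fin_cases i <;> simp
  | succ n ih => simpa [pow_succ] using ih.mul h

theorem Dg.ext (h : Dg f a b) (h' : Dg g a b) : f = g := LinearEquiv.ext fun v => (h v).trans (h' v).symm

theorem dg_one : Dg (1 : (Fin 2 → F) ≃ₗ[F] (Fin 2 → F)) 1 1 := by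
  simpa using Dg.pow (f := 1) (a := 1) (b := 1) (fun v => by ext i; fin_cases i <;> simp) 0

theorem Dg.inj (h : Dg f a b) (h' : Dg f c d) : a = c ∧ b = d := by
  simpa using (h 1).symm.trans (h' 1)

theorem Dg.comm (h : Dg f a b) (h' : Dg g c d) : f * g = g * f :=
  (h.mul h').ext (by simpa [mul_comm] using h'.mul h)

theorem Ad.ext (h : Ad f a b) (h' : Ad g a b) : f = g := LinearEquiv.ext fun v => (h v).trans (h' v).symm

theorem Dg.mul' (h : Dg f a b) (h' : Ad g c d) : Ad (f * g) (b * c) (a * d) := fun v => by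
  rw [LinearEquiv.mul_apply, h', h]; simp [mul_assoc]

theorem Ad.mul' (h : Ad f a b) (h' : Dg g c d) : Ad (f * g) (a * c) (b * d) := fun v => by
  rw [LinearEquiv.mul_apply, h', h]; simp [mul_assoc]

theorem Dg.inv (h : Dg f a b) (ha : a ≠ 0) (hb : b ≠ 0) : Dg f⁻¹ a⁻¹ b⁻¹ := fun v =>
  (LinearEquiv.symm_apply_eq _).2 (by rw [h]; ext i; fin_cases i <;> simp [ha, hb])

theorem exists_dg (ha : a ≠ 0) (hb : b ≠ 0) : ∃ f, Dg f a b :=
  ⟨{ toFun := fun v => ![a * v 0, b * v 1]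
     invFun := fun v => ![a⁻¹ * v 0, b⁻¹ * v 1]
     map_add' := fun v w => by ext i; fin_cases i <;> simp [mul_add]
     map_smul' := fun c v => by ext i; fin_cases i <;> simp [mul_left_comm]
     left_inv := fun v => by ext i; fin_cases i <;> simp [ha, hb]
     right_inv := fun v => by ext i; fin_cases i <;> simp [ha, hb] }, fun _ => rfl⟩

theorem exists_ad (ha : a ≠ 0) (hb : b ≠ 0) : ∃ f, Ad f a b := by
  obtain ⟨f, hf⟩ := exists_dg hb ha
  exact ⟨f * LinearEquiv.funCongrLeft F F (Equiv.swap 0 1), fun v => by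
    rw [LinearEquiv.mul_apply, hf]; simp⟩

theorem sq_eq_one_iff_of_ne_zero' : a ^ 2 = 1 ↔ a = 1 ∨ a = -1 := sq_eq_one_iff

theorem Dg.eq_of_comm (h : Dg f a b) (h' : Ad g c d) (hc : c ≠ 0) (h1 : f * g = g * f) : a = b := by
  have h2 := congrArg (fun k : (Fin 2 → F) ≃ₗ[F] (Fin 2 → F) => k ![1, 0] 1) h1
  simp only [LinearEquiv.mul_apply, h _, h' _] at h2
  simpa [mul_comm, hc, eq_comm] using h2

end

/-- Let q = 2^m + 1 be a prime other than 5. Then the automorphism group of the group of linear maps of F_q² of the forms (x, y) ↦ (a x, ± a⁻¹ y) and (x, y) ↦ (± a⁻¹ y, a x) with a ≠ 0 is itself a 2-group. -/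
theorem result (q m : ℕ) [Fact q.Prime] (hq : q = 2 ^ m + 1) (hq5 : q ≠ 5)
    (T : Subgroup ((Fin 2 → ZMod q) ≃ₗ[ZMod q] (Fin 2 → ZMod q)))
    (hT : ∀ f, f ∈ T ↔ ∃ a s : ZMod q, a ≠ 0 ∧ (s = 1 ∨ s = -1) ∧
      ((∀ v, f v = ![a * v 0, s * a⁻¹ * v 1]) ∨ (∀ v, f v = ![s * a⁻¹ * v 1, a * v 0]))) :
    IsPGroup 2 (MulAut T) := by
  have : Finite ((Fin 2 → ZMod q) ≃ₗ[ZMod q] (Fin 2 → ZMod q)) :=
    Finite.of_injective _ DFunLike.coe_injective
  have hT' : ∀ f : T, ∃ a s : ZMod q, a ≠ 0 ∧ (s = 1 ∨ s = -1) ∧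
      (Dg f.1 a (s * a⁻¹) ∨ Ad f.1 a (s * a⁻¹)) := fun f => (hT f).1 f.2
  have hpw : ∀ a : ZMod q, a ≠ 0 → a ^ 2 ^ m = 1 := fun a ha => by
    simpa [hq] using ZMod.pow_card_sub_one_eq_one ha
  have hs2 : ∀ s : ZMod q, s = 1 ∨ s = -1 → s ^ 2 = 1 := by rintro s (rfl | rfl) <;> simp
  have hs0 : ∀ s : ZMod q, s = 1 ∨ s = -1 → s ≠ 0 := by rintro s (rfl | rfl) <;> simp
  have hA : ∀ (f : T) (a s : ZMod q), a ≠ 0 → (s = 1 ∨ s = -1) → Ad f.1 a (s * a⁻¹) →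
      f ^ 4 = 1 := fun f a s ha hs h => Subtype.ext (by
    have h1 := (h.mul h).pow 2
    rw [inv_mul_cancel_right₀ ha, mul_left_comm, mul_inv_cancel₀ ha, mul_one, hs2 s hs, ← sq,
      ← pow_mul] at h1
    exact h1.ext dg_one)
  have h2 : IsPGroup 2 T := fun f => ⟨m + 2, by
    obtain ⟨a, s, ha, hs, h | h⟩ := hT' f
    · have h1 := h.pow (2 ^ m)
      rw [hpw a ha, hpw _ (mul_ne_zero (hs0 s hs) (inv_ne_zero ha))] at h1
      have h2 : f ^ 2 ^ m = 1 := Subtype.ext (h1.ext dg_one)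
      rw [pow_add, pow_mul, h2, one_pow]
    · rw [pow_add, pow_mul', show 2 ^ 2 = 4 from rfl, hA f a s ha hs h, one_pow]⟩
  refine isPGroup_of fun φ r hr hr2 hφ => ?_
  obtain ⟨g, hg⟩ := IsCyclic.exists_monoid_generator (α := (ZMod q)ˣ)
  have hgo : orderOf g = 2 ^ m := by
    rw [orderOf_eq_card_of_forall_mem_powers hg, Nat.card_units, Nat.card_zmod]
    exact (Nat.sub_eq_iff_eq_add (Fact.out : q.Prime).pos).2 hq
  have top : ∀ H : Subgroup T, (∀ y ∈ H, φ y = y) → (∀ x y, x ∉ H → y ∉ H → x⁻¹ * y ∈ H) →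
      ∀ y, φ y = y := fun H h3 h4 y =>
    fix_up h2 hr hr2 hφ (K := Set.univ) h3 (fun _ _ => trivial) (fun _ _ _ _ => trivial)
      (fun x _ y _ => h4 x y) y trivial
  have hφp : ∀ (y : T) (n : ℕ), y ^ n ≠ 1 → φ y ^ n ≠ 1 := fun y n h3 h4 =>
    h3 (φ.injective (by rw [map_pow, h4, map_one]))
  have hz : ∀ d : T, φ d = d → ∀ y ∈ Subgroup.zpowers d, φ y = y := by
    rintro d hd _ ⟨i, rfl⟩
    rw [map_zpow, hd]
  obtain rfl | rfl | rfl | ⟨k, rfl⟩ : m = 0 ∨ m = 1 ∨ m = 2 ∨ ∃ k, m = k + 3 := by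
    rcases m with _ | _ | _ | k <;> simp
  · have h3 : ∀ f : T, f ∉ (⊥ : Subgroup T) → Ad f.1 1 1 := fun f hf => by
      obtain ⟨a, s, ha, hs, h⟩ := hT' f
      have h3 := hpw a ha
      have h4 := hpw s (hs0 s hs)
      simp only [pow_zero, pow_one] at h3 h4
      simp only [h3, h4, inv_one, mul_one] at h
      exact h.resolve_left fun h5 => hf (Subtype.ext (h5.ext dg_one))
    exact top ⊥ (by simp) fun x y hx hy => by
      rw [Subtype.ext ((h3 x hx).ext (h3 y hy)), inv_mul_cancel]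
      exact one_mem _
  · have h3 : ∀ f : T, ∃ a b : ZMod q, (a = 1 ∨ a = -1) ∧ (b = 1 ∨ b = -1) ∧
        (Dg f.1 a b ∨ Ad f.1 a b) := fun f => by
      obtain ⟨a, s, ha, hs, h⟩ := hT' f
      exact ⟨a, _, sq_eq_one_iff_of_ne_zero'.1 (hpw a ha),
        sq_eq_one_iff_of_ne_zero'.1 (hpw _ (mul_ne_zero (hs0 s hs) (inv_ne_zero ha))), h⟩
    have h4 : ∀ f : T, f ^ 2 ≠ 1 → Ad f.1 1 (-1) ∨ Ad f.1 (-1) 1 := fun f hf => by
      obtain ⟨a, b, ha, hb, h | h⟩ := h3 f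
      · have h4 := h.pow 2
        rw [hs2 a ha, hs2 b hb] at h4
        exact absurd (Subtype.ext (h4.ext dg_one)) hf
      have h4 : a ≠ b := by
        rintro rfl
        have h4 := h.mul h
        rw [← sq, ← sq, hs2 a ha] at h4
        exact hf (Subtype.ext (h4.ext dg_one))
      rcases ha with rfl | rfl <;> rcases hb with rfl | rfl
      · exact absurd rfl h4
      · exact Or.inl h
      · exact Or.inr h
      · exact absurd rfl h4
    obtain ⟨w, hw⟩ := exists_ad (F := ZMod q) (a := 1) (b := -1) one_ne_zero (by simp)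
    obtain ⟨w, hw⟩ : ∃ w : T, Ad w.1 1 (-1) :=
      ⟨⟨w, (hT w).2 ⟨1, -1, one_ne_zero, Or.inr rfl, Or.inr (by simpa [Ad] using hw)⟩⟩, hw⟩
    have h5 : Dg (w ^ 2 : T).1 (-1) (-1) := by simpa [sq] using hw.mul hw
    have h6 : Ad (w ^ 3 : T).1 (-1) 1 := by simpa [pow_succ] using (hw.mul hw).mul' hw
    have h7 : w ^ 4 = 1 := hA w 1 (-1) one_ne_zero (Or.inr rfl) (by simpa using hw)
    have h8 : φ w = w := by
      by_cases h8 : w ^ 2 = 1
      · have h9 := (h5.inj (by rw [h8]; exact dg_one)).1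
        have h10 : (2 : ZMod q) = 0 := by linear_combination -h9
        have h11 := (ZMod.natCast_eq_zero_iff 2 q).1 h10
        rw [hq] at h11
        omega
      rcases h4 _ (hφp w 2 h8) with h9 | h9
      · exact Subtype.ext (h9.ext hw)
      have h10 : φ w = w ^ 3 := Subtype.ext (h9.ext h6)
      have h11 : (φ ^ 2) w = w := by
        rw [sq, MulAut.mul_apply, h10, map_pow, h10, ← pow_mul, show 3 * 3 = 4 * 2 + 1 from rfl,
          pow_succ, pow_mul, h7, one_pow, one_mul]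
      have h12 : ∀ n : ℕ, ((φ ^ 2) ^ n) w = w := fun n => by
        induction n with
        | zero => rfl
        | succ n ih => rw [pow_succ, MulAut.mul_apply, h11, ih]
      obtain ⟨n, hn⟩ := exists_pow_eq_self_of_coprime (x := φ) (n := 2) (by
        rw [hφ]; exact (Nat.coprime_primes Nat.prime_two hr).2 hr2.symm)
      rw [← hn, h12]
    have h9 : ∀ (f : T) (a b : ZMod q), (a = 1 ∨ a = -1) → Dg f.1 a a ∨ Ad f.1 a (-a) →
        f ∈ Subgroup.zpowers w := by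
      rintro f a b (rfl | rfl) (h | h)
      · rw [show f = 1 from Subtype.ext (h.ext dg_one)]; exact one_mem _
      · exact Subtype.ext (h.ext hw) ▸ Subgroup.mem_zpowers _
      · exact Subtype.ext (h.ext h5) ▸ Subgroup.npow_mem_zpowers _ _
      · rw [neg_neg] at h
        exact Subtype.ext (h.ext h6) ▸ Subgroup.npow_mem_zpowers w 3
    have h10 : ∀ f : T, f ∉ Subgroup.zpowers w → ∃ a : ZMod q, (a = 1 ∨ a = -1) ∧
        (Dg f.1 a (-a) ∨ Ad f.1 a a) := fun f hf => by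
      obtain ⟨a, b, ha, hb, h⟩ := h3 f
      have h10 : b = a ∨ b = -a := by
        rcases ha with rfl | rfl <;> rcases hb with rfl | rfl <;> simp
      refine ⟨a, ha, ?_⟩
      rcases h10 with rfl | rfl <;> rcases h with h | h
      · exact absurd (h9 f _ 0 ha (Or.inl h)) hf
      · exact Or.inr h
      · exact Or.inl h
      · exact absurd (h9 f _ 0 ha (Or.inr h)) hf
    refine top _ (hz w h8) fun x y hx hy => ?_
    obtain ⟨a, ha, h11⟩ := h10 x⁻¹ (fun h => hx (inv_mem_iff.1 h))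
    obtain ⟨b, hb, h12⟩ := h10 y hy
    have h13 : a * b = 1 ∨ a * b = -1 := by
      rcases ha with rfl | rfl <;> rcases hb with rfl | rfl <;> simp
    rcases h11 with h11 | h11 <;> rcases h12 with h12 | h12
    · exact h9 _ _ 0 h13 (Or.inl (by simpa using h11.mul h12))
    · exact h9 _ (-(a * b)) 0 (by rcases h13 with h | h <;> simp [h])
        (Or.inr (by simpa using h11.mul' h12))
    · exact h9 _ _ 0 h13 (Or.inr (by simpa using h11.mul' h12))
    · exact h9 _ _ 0 h13 (Or.inl (by simpa using h11.mul h12))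
  · exact absurd hq hq5
  have hN : ∀ a : ZMod q, a ≠ 0 → a ^ 2 ^ (k + 2) ≠ 1 → a ^ 2 ^ (k + 2) = -1 := fun a ha h =>
    (sq_eq_one_iff_of_ne_zero'.1 (by rw [← pow_mul, ← pow_succ]; exact hpw a ha)).resolve_left h
  have hX : ∀ f : T, f ^ 2 ^ (k + 2) ≠ 1 → ∃ a s : ZMod q, a ≠ 0 ∧ (s = 1 ∨ s = -1) ∧
      Dg f.1 a (s * a⁻¹) ∧ a ^ 2 ^ (k + 2) ≠ 1 := fun f hf => by
    obtain ⟨a, s, ha, hs, h | h⟩ := hT' f
    · refine ⟨a, s, ha, hs, h, fun h3 => hf (Subtype.ext ((h.pow _).ext ?_))⟩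
      rw [mul_pow, inv_pow, h3, pow_succ', pow_mul, hs2 s hs, one_pow, inv_one, mul_one]
      exact dg_one
    · exact absurd (by rw [pow_add, pow_mul', show 2 ^ 2 = 4 from rfl, hA f a s ha hs h, one_pow]) hf
  let H₀ : Subgroup T :=
    { carrier := {f | ∃ a b, a ≠ 0 ∧ b ≠ 0 ∧ Dg f.1 a b ∧ a ^ 2 ^ (k + 2) = 1}
      mul_mem' := by
        rintro f f' ⟨a, b, ha, hb, h, h3⟩ ⟨a', b', ha', hb', h', h4⟩
        exact ⟨_, _, mul_ne_zero ha ha', mul_ne_zero hb hb', h.mul h', by rw [mul_pow, h3, h4, one_mul]⟩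
      one_mem' := ⟨1, 1, one_ne_zero, one_ne_zero, dg_one, one_pow _⟩
      inv_mem' := by
        rintro f ⟨a, b, ha, hb, h, h3⟩
        exact ⟨_, _, inv_ne_zero ha, inv_ne_zero hb, h.inv ha hb, by rw [inv_pow, h3, inv_one]⟩ }
  obtain ⟨x, hx⟩ := exists_dg g.ne_zero (inv_ne_zero g.ne_zero)
  obtain ⟨x, hx⟩ : ∃ x : T, Dg x.1 g (g : ZMod q)⁻¹ :=
    ⟨⟨x, (hT x).2 ⟨g, 1, g.ne_zero, Or.inl rfl, Or.inl (by rw [one_mul]; exact hx)⟩⟩, hx⟩
  have hgN : (g : ZMod q) ^ 2 ^ (k + 2) ≠ 1 := fun h => by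
    have h3 := orderOf_dvd_of_pow_eq_one (Units.ext (by simpa using h) : g ^ 2 ^ (k + 2) = 1)
    rw [hgo, Nat.pow_dvd_pow_iff_le_right one_lt_two] at h3
    omega
  have hiff : ∀ y, x⁻¹ * y ∈ H₀ ↔ y ^ 2 ^ (k + 2) ≠ 1 := fun y => by
    constructor
    · rintro ⟨a, b, -, -, h, h3⟩ h4
      have h5 := (hx.mul h).pow (2 ^ (k + 2))
      rw [← Subgroup.coe_mul, mul_inv_cancel_left, ← Subgroup.coe_pow, h4, mul_pow, h3, mul_one] at h5
      exact hgN (h5.inj dg_one).1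
    · intro h
      obtain ⟨a, s, ha, hs, h3, h4⟩ := hX y h
      refine ⟨_, _, ?_, ?_, (hx.inv g.ne_zero (inv_ne_zero g.ne_zero)).mul h3, ?_⟩
      · exact mul_ne_zero (inv_ne_zero g.ne_zero) ha
      · exact mul_ne_zero (inv_ne_zero (inv_ne_zero g.ne_zero))
          (mul_ne_zero (hs0 s hs) (inv_ne_zero ha))
      · rw [mul_pow, inv_pow, hN a ha h4, hN g g.ne_zero hgN]; simp
  obtain ⟨d, hd, hφd⟩ := exists_fix h2 hr hr2 hφ H₀ x fun y hy => (hiff _).2 (hφp y _ ((hiff _).1 hy))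
  obtain ⟨a₀, s₀, ha₀, hs₀, hd, ha₀N⟩ := hX d ((hiff d).1 hd)
  have hgen : ∀ a : ZMod q, a ≠ 0 → ∃ i : ℕ, a₀ ^ i = a := fun a ha => by
    have h3 : orderOf (Units.mk0 a₀ ha₀) = 2 ^ (k + 3) := orderOf_eq_prime_pow
      (fun h => ha₀N (by simpa using congrArg Units.val h)) (Units.ext (by simpa using hpw a₀ ha₀))
    have h4 : Subgroup.zpowers (Units.mk0 a₀ ha₀) = ⊤ := Subgroup.eq_top_of_card_eq _ (by
      rw [Nat.card_zpowers, h3, ← hgo, orderOf_eq_card_of_forall_mem_powers hg])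
    obtain ⟨i, hi⟩ := mem_powers_iff_mem_zpowers.2 (h4 ▸ Subgroup.mem_top (Units.mk0 a ha))
    exact ⟨i, by simpa using congrArg Units.val hi⟩
  have hD : ∀ f : T, f ∈ Subgroup.centralizer {d} ↔ ∃ a s : ZMod q, a ≠ 0 ∧ (s = 1 ∨ s = -1) ∧
      Dg f.1 a (s * a⁻¹) := fun f => by
    rw [Subgroup.mem_centralizer_singleton_iff]
    refine ⟨fun h => ?_, fun ⟨a, s, _, _, h⟩ => Subtype.ext (h.comm hd)⟩
    obtain ⟨a, s, ha, hs, h3 | h3⟩ := hT' f
    · exact ⟨a, s, ha, hs, h3⟩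
    have h4 := hd.eq_of_comm h3 ha (congrArg Subtype.val h.symm)
    have h5 : a₀ ^ 2 = s₀ := by rw [sq]; exact (eq_mul_inv_iff_mul_eq₀ ha₀).1 h4
    exact absurd (by rw [pow_add, pow_mul', show 2 ^ 2 = 2 * 2 from rfl, pow_mul, h5, hs2 _ hs₀,
      one_pow]) ha₀N
  have hnot : ∀ f ∈ Subgroup.centralizer {d}, f ∉ Subgroup.zpowers d →
      ∃ i : ℕ, Dg f.1 (a₀ ^ i) (-(s₀ * a₀⁻¹) ^ i) := fun f hf h => by
    obtain ⟨a, s, ha, hs, h3⟩ := (hD f).1 hf
    obtain ⟨i, rfl⟩ := hgen a ha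
    have h4 : s = s₀ ^ i ∨ s = -s₀ ^ i := by
      rcases hs₀ with rfl | rfl <;> rcases hs with rfl | rfl <;> rcases neg_one_pow_eq_or (ZMod q) i
        with h | h <;> simp [h]
    rcases h4 with rfl | rfl
    · have h5 : f = d ^ i := Subtype.ext (h3.ext (by simpa [mul_pow] using hd.pow i))
      exact absurd (h5 ▸ Subgroup.npow_mem_zpowers d i) h
    · exact ⟨i, by simpa [mul_pow] using h3⟩
  refine top (Subgroup.centralizer {d}) (fix_up h2 hr hr2 hφ (hz d hφd) (fun y hy => ?_)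
    (fun y hy y' hy' => mul_mem hy (Subgroup.zpowers_le.2
      (Subgroup.mem_centralizer_singleton_iff.2 rfl) hy')) fun y hy y' hy' h3 h4 => ?_)
    fun y y' hy hy' => ?_
  · rw [SetLike.mem_coe, Subgroup.mem_centralizer_singleton_iff] at hy ⊢
    rw [← hφd, ← map_mul, ← map_mul, hy]
  · obtain ⟨i, hi⟩ := hnot y hy h3
    obtain ⟨j, hj⟩ := hnot y' hy' h4
    have h5 : y * d ^ j = y' * d ^ i := Subtype.ext ((hi.mul (hd.pow j)).ext (by
      simpa [mul_comm] using hj.mul (hd.pow i)))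
    have h6 : y⁻¹ * y' = d ^ j * (d ^ i)⁻¹ := by
      rw [eq_mul_inv_iff_mul_eq, mul_assoc, ← h5, inv_mul_cancel_left]
    exact h6 ▸ mul_mem (Subgroup.npow_mem_zpowers d j) (inv_mem (Subgroup.npow_mem_zpowers d i))
  · obtain ⟨a, s, ha, hs, h3 | h3⟩ := hT' y⁻¹
    · exact absurd (inv_mem_iff.1 ((hD _).2 ⟨a, s, ha, hs, h3⟩)) hy
    obtain ⟨a', s', ha', hs', h4 | h4⟩ := hT' y'
    · exact absurd ((hD _).2 ⟨a', s', ha', hs', h4⟩) hy'
    exact Subgroup.mem_centralizer_singleton_iff.2 (Subtype.ext ((h3.mul h4).comm hd))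

end Cfsg.Agent.S3382
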