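import Cfsg.Statements.S2799
import Cfsg.Agent.H54.Glaub

set_option autoImplicit false
open Cfsg

namespace Cfsg.Agent.S2799

/-- Let S be a Sylow p-subgroup of the finite group G, J(S) the subgroup generated by the abelian subgroups of S of largest order, and x an element of S lying in the centre of N_G(J(S)). Assume that p is odd, or that x is a p-th power of an element of Z(S), or that the symmetric group of degree 4 is not involved in G. Then x is weakly closed in S with respect to G: every G-conjugate of x that lies in S equals x. -/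
theorem result {G : Type*} [Group G] [Finite G] {p : ℕ} [Fact p.Prime] (S : Sylow p G) (x : G) (hxS : x ∈ (S : Subgroup G)) (hxZ : x ∈ (Subgroup.center ↥(Subgroup.normalizer ((Cfsg.thompsonSubgroupAOf (S : Subgroup G)) : Set G))).map (Subgroup.normalizer ((Cfsg.thompsonSubgroupAOf (S : Subgroup G)) : Set G)).subtype) (h : p ≠ 2 ∨ (∃ z ∈ (S : Subgroup G) ⊓ Subgroup.centralizer ((S : Subgroup G) : Set G), z ^ p = x) ∨ ¬ Cfsg.Involves (Equiv.Perm (Fin 4)) G) : ∀ g : G, g * x * g⁻¹ ∈ (S : Subgroup G) → g * x * g⁻¹ = x := by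
  intro g hg
  have hN : Subgroup.normalizer ((thompsonSubgroupOf 0 (S : Subgroup G) : Subgroup G) : Set G) ≤
      Subgroup.centralizer ((Subgroup.zpowers x : Subgroup G) : Set G) := by
    rw [← H51.thompsonSubgroupAOf_eq, Subgroup.le_centralizer_iff, Subgroup.zpowers_le]
    rw [H6.map_center_eq_inf] at hxZ
    exact hxZ.2
  have hxc : x ∈ (S : Subgroup G) ⊓ Subgroup.centralizer ((S : Subgroup G) : Set G) :=
    ⟨hxS, Subgroup.zpowers_le.1 (Subgroup.le_centralizer_iff.1 ((Subgroup.le_normalizer.trans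
      (H51.normalizer_le_normalizer_thompsonSubgroupOf 0 _)).trans hN))⟩
  have hS4 : ¬ Cfsg.Involves (Equiv.Perm (Fin 4)) G →
      ¬ Cfsg.Involves (Equiv.Perm (Fin 4)) (⊤ : Subgroup G) :=
    fun h h' => h (H82.involves_of_involves_subgroup h')
  have key : ∀ z, x ∈ Subgroup.zpowers z →
      z ∈ (S : Subgroup G) ⊓ Subgroup.centralizer ((S : Subgroup G) : Set G) →
      (p ≠ 2 ∨ z ^ p = x ∨ ¬ Cfsg.Involves (Equiv.Perm (Fin 4)) (⊤ : Subgroup G)) →
      g * x * g⁻¹ = x := fun z h1 h2 h3 => by
    have := H54.weaklyClosed_main h1 ⊤ S (H85.isSyl_top S) h2 h3 (inf_le_right.trans hN) g trivial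
      (by rw [H85.cj_zpowers]; exact Subgroup.zpowers_le.mpr hg)
    rw [← this x (Subgroup.mem_zpowers x), mul_inv_cancel_right]
  rcases h with h | ⟨z, hz, h⟩ | h
  · exact key x (Subgroup.mem_zpowers x) hxc (Or.inl h)
  · exact key z (h ▸ Subgroup.pow_mem _ (Subgroup.mem_zpowers z) p) hz (Or.inr (Or.inl h))
  · exact key x (Subgroup.mem_zpowers x) hxc (Or.inr (Or.inr (hS4 h)))

end Cfsg.Agent.S2799
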