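import Cfsg.Statements.S5193
import Cfsg.Agent.H99.Agemo
import Cfsg.Agent.S2799

set_option autoImplicit false
open Cfsg

namespace Cfsg.Agent.S5193

/-- Glauberman's Theorem for fusion systems. Let F be a saturated fusion system over a finite p-group S, let J(S) be the subgroup generated by the abelian subgroups of S of largest order, and let N be the normalizer fusion system of J(S) in F (a fusion system over N_S(J(S)) = S). Then every p-th power of an element of Z(S) that lies in the centre of N lies in the centre of F; and if p is odd, or if the symmetric group of degree 4 is not involved in any model of the normalizer system of a fully normalized F-centric subgroup (F is S₄-free), then the centre of N equals the centre of F. -/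
theorem result {Ω : Type*} [Group Ω] {S : Subgroup Ω} [Finite S] (p : ℕ) [Fact p.Prime] (hS : IsPGroup p S) (F : Cfsg.FusionSystem S) (hF : F.IsSaturated p) (N : Cfsg.FusionSystem (Cfsg.FusionSystem.normalizerIn S (Cfsg.thompsonSubgroupAOf S))) (hN : F.IsNormalizerSystem (Cfsg.thompsonSubgroupAOf S) N) : Subgroup.closure ((fun z : Ω => z ^ p) '' ((S ⊓ Subgroup.centralizer (S : Set Ω) : Subgroup Ω) : Set Ω)) ⊓ N.center ≤ F.center ∧ (p ≠ 2 ∨ F.IsSectionFree p (Equiv.Perm (Fin 4)) → N.center = F.center) := by
  have hW1 := H99.thompsonA_ne_bot p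
  have hW2 := H99.map_thompsonA p
  have hn := H99.le_normalizer_wf hW2 hS
  refine ⟨?_, fun hp => ?_⟩
  · rw [H99.closure_pow_eq_agZ]
    exact H99.inf_center_le_of_gen hS hF H99.agZ_le_center hn
      (fun E => H99.sub_of_cLe_of_nLe hW1 hW2
        (H99.exists_centralizing_of_quadratic hW2 H99.thompsonA_quadratic) F hS hF S E) hN
  refine le_antisymm ?_ (H99.center_le_nsys_center hS hF hN (H99.wf_le _ S) hn)
  have hZ : N.center ≤ S := (H99.center_le_S N).trans H97.normalizerIn_le
  refine H99.FixAll.le_center hS hF (H99.fixAll_of_fixN hW1 hW2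
    (fun _ _ _ F => p ≠ 2 ∨ F.IsSectionFree p (Equiv.Perm (Fin 4))) ?_ ?_ ?_ F hS hF hp _ hZ
    (H99.fixN_center hN hn)) hZ
  · intro Ω _ S _ F hS hF hK T hT N hN
    exact hK.imp id fun h => H99.sectionFree_nsys hS hF h hT hN
  · intro Ω _ S _ F hS hF hK Q hQ Ω' _ S' θ E hE
    exact hK.imp id fun h => H99.sectionFree_factor hS hF hQ h hE
  intro Ω _ S _ F hS hF hK hc Z hZ hfix
  obtain ⟨G, _, ι, hG⟩ := H99.exists_model_of_centralizerIn_le hS hF hc
  have := hG.1
  obtain ⟨T, hT⟩ := hG.2.2.1
  have hw := H99.img_wf_range hW2 hS hG.2.1.1 hT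
  have hQ := H99.IsModel.pCore_eq_img_core hS hG
  have hQn := H97.isNormal_core F
  refine H99.fixAll_of_realized hG.2.1 fun z hz g hg => ?_
  have hzS : z ∈ S := hQn.1 (hZ hz)
  have h1 : H97.fn ι z ∈ pCore p G := hQ ▸ H97.mem_img_of_mem _ (hZ hz)
  refine S2799.result T _ (hT.ge (H99.fn_mem_range ι z))
    ⟨⟨H97.fn ι z, ?_⟩, Subgroup.mem_center_iff.2 fun n => Subtype.ext ?_, rfl⟩
    (hK.imp id fun h => Or.inr (H99.sectionFree_not_involves hS hF h
      (H97.isSubsystemOf_iff.2 fun _ _ h => h) hQn (H99.isCentric_of_isNormal hQn hc) hG))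
    g (hT.ge hg)
  · have := H99.fn_mem_normalizer_img ι (H99.wf_le _ S) hzS (H99.le_normalizer_wf hW2 hS hzS)
    rw [hw] at this
    exact this
  · have h3 : (n : G) ∈ Subgroup.normalizer
        ((H97.img (H99.wf (@thompsonSubgroupA) S) (H97.fn ι) : Subgroup G) : Set G) := by
      rw [hw]; exact n.2
    have := hfix.conj_eq hG.2.1 (H99.wf_le _ S) h3 hz hzS
      (H99.IsModel.pCore_le_range hG ((inferInstance : (pCore p G).Normal).conj_mem _ h1 n))
    rw [mul_inv_eq_iff_eq_mul] at this
    exact this

end Cfsg.Agent.S5193
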