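import Cfsg.Statements.S1949
import Cfsg.Agent.H7.Small
import Cfsg.Agent.H83.Base
import Cfsg.Agent.H8.Residual

set_option autoImplicit false
open Cfsg

namespace Cfsg.Agent.S1949

/-- Let P be a finite p-group and G a group of automorphisms of P containing the inner automorphisms. Then there is a G-invariant subgroup D of P, contained in the subgroup generated by the elements x⁻¹α(x) with x in P and α in O^p(G), of exponent dividing p when p is odd and dividing 4 when p = 2, with [D, P] ≤ Z(D), such that every automorphism in G of order prime to p that fixes D elementwise is the identity; moreover every maximal abelian subgroup A of D is normal in P and every automorphism in G fixing A elementwise has p-power order. -/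
theorem result {P : Type*} [Group P] [Finite P] {p : ℕ} [Fact p.Prime] (hP : IsPGroup p P)
    (G : Subgroup (MulAut P)) (hG : Cfsg.Inn P ≤ G) :
    ∃ D : Subgroup P,
      (∀ α ∈ G, D.map α.toMonoidHom = D) ∧
      D ≤ Subgroup.closure {y : P | ∃ α ∈ Cfsg.pResidual p ↥G, ∃ x : P, y = x⁻¹ * (α : MulAut P) x} ∧
      (∀ d ∈ D, d ^ p = 1 ∨ (p = 2 ∧ d ^ 4 = 1)) ∧
      ⁅D, (⊤ : Subgroup P)⁆ ≤ D ⊓ Subgroup.centralizer (D : Set P) ∧
      (∀ α ∈ G, (orderOf α).Coprime p → (∀ d ∈ D, α d = d) → α = 1) ∧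
      ∀ A : Subgroup P, A ≤ D → IsMulCommutative ↥A →
        (∀ B : Subgroup P, A ≤ B → B ≤ D → IsMulCommutative ↥B → B = A) →
        A.Normal ∧ ∀ α ∈ G, (∀ a ∈ A, α a = a) → ∃ k : ℕ, orderOf α = p ^ k := by
  set R := Subgroup.closure {y : P | ∃ α ∈ Cfsg.pResidual p ↥G, ∃ x : P,
    y = x⁻¹ * (α : MulAut P) x} with hR
  have hRi : ∀ a ∈ G, ∀ x ∈ R, a x ∈ R := by
    intro a ha
    have : R ≤ R.comap a.toMonoidHom := by
      rw [hR, Subgroup.closure_le]
      rintro _ ⟨α, hα, x, rfl⟩
      refine Subgroup.subset_closure ⟨⟨a, ha⟩ * α * ⟨a, ha⟩⁻¹,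
        (H8.pResidual_normal p).conj_mem _ hα _, a x, ?_⟩
      simp
    exact fun x hx => this hx
  obtain ⟨D, hDR, hDi, hs, hc, hD⟩ := H7.exists_small_invariant hP G hG R hRi
  have hfix : ∀ α ∈ G, (orderOf α).Coprime p → (∀ d ∈ D, α d = d) → α = 1 := by
    intro α hα hco h
    refine H7.aut_eq_one_of_fixes_of_mod hP α hco (hD α hα hco h) fun g => ?_
    exact Subgroup.subset_closure ⟨⟨α, hα⟩, H8.mem_pResidual_of_coprime
      (by rwa [← Subgroup.orderOf_coe]), g, rfl⟩
  refine ⟨D, fun α hα => ?_, hDR, hs, hc, hfix, fun A hAD hA hmax => ?_⟩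
  · apply le_antisymm
    · rintro _ ⟨x, hx, rfl⟩
      exact hDi α hα x hx
    · intro x hx
      exact ⟨α⁻¹ x, hDi _ (inv_mem hα) x hx, by simp⟩
  have hC : D ⊓ Subgroup.centralizer (A : Set P) ≤ A := by
    rintro x ⟨hxD, hxA⟩
    have h1 : A ⊔ Subgroup.zpowers x = A := by
      refine hmax _ le_sup_left (sup_le hAD (Subgroup.zpowers_le.mpr hxD)) ?_
      rw [← Subgroup.le_centralizer_iff_isMulCommutative, H83.centralizer_sup]
      refine le_inf (sup_le (Subgroup.le_centralizer A) (Subgroup.zpowers_le.mpr hxA))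
        (sup_le (Subgroup.le_centralizer_iff.mp (Subgroup.zpowers_le.mpr hxA))
          (Subgroup.le_centralizer _))
    exact h1.le (Subgroup.mem_sup_right (Subgroup.mem_zpowers x))
  have hAn : A.Normal := by
    refine ⟨fun a ha g => ?_⟩
    have h1 := hc (Subgroup.commutator_mem_commutator (hAD (inv_mem ha)) (Subgroup.mem_top g))
    have h2 := mul_mem ha (hC ⟨h1.1, Subgroup.centralizer_le hAD h1.2⟩)
    simpa [commutatorElement_def, mul_assoc] using h2
  refine ⟨hAn, fun α hα h => ?_⟩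
  obtain ⟨k, hk⟩ := H83.coprime_orderOf_pow_ppow (p := p) α
  have hfixA : ∀ n : ℕ, ∀ a ∈ A, (α ^ n) a = a := by
    intro n a ha
    induction n with
    | zero => rfl
    | succ n ih => rw [pow_succ, MulAut.mul_apply, h a ha, ih]
  have h1 := hfix _ (pow_mem hα _) hk (H7.aut_fixes_of_self_centralizing (hP.to_subgroup D)
    Subgroup.le_normalizer_of_normal hC _ hk (hDi _ (pow_mem hα _)) (hfixA _))
  obtain ⟨j, -, hj⟩ := (Nat.dvd_prime_pow Fact.out).mp (orderOf_dvd_of_pow_eq_one h1)
  exact ⟨j, hj⟩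

end Cfsg.Agent.S1949
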