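import Cfsg.Statements.S1950
import Cfsg.Agent.H16.PairCyc
import Cfsg.Agent.H99.ResSeries
import Cfsg.Agent.S4145

set_option autoImplicit false
open Cfsg

namespace Cfsg.Agent.S1950

universe u

theorem lift {G : Type*} [Group G] [Finite G] {p : ℕ} [Fact p.Prime] (N : Subgroup G) [N.Normal]
    (hN : ¬ p ∣ Nat.card N) {x : G ⧸ N} (hx : orderOf x = p) :
    ∃ z : G, orderOf z = p ∧ QuotientGroup.mk' N z = x := by
  have hp : p.Prime := Fact.out
  obtain ⟨y, rfl⟩ := QuotientGroup.mk'_surjective N x
  obtain ⟨k, -, hk⟩ := Nat.exists_mul_mod_eq_one_of_coprime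
    (hp.coprime_iff_not_dvd.2 hN).symm hp.one_lt
  have h1 : QuotientGroup.mk' N (y ^ (Nat.card N * k)) = QuotientGroup.mk' N y := by
    rw [map_pow, ← pow_mod_orderOf, hx, hk, pow_one]
  have h2 : y ^ p ∈ N := (QuotientGroup.eq_one_iff _).1
    ((map_pow (QuotientGroup.mk' N) y p).trans (orderOf_dvd_iff_pow_eq_one.1 hx.dvd))
  refine ⟨_, orderOf_eq_prime ?_ fun h => hp.one_lt.ne' ?_, h1⟩
  · rw [← pow_mul, mul_comm, pow_mul, pow_mul, orderOf_dvd_iff_pow_eq_one.1
      (N.orderOf_dvd_natCard h2), one_pow]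
  · rw [← hx, ← h1, h, map_one, orderOf_one]

theorem aux {p : ℕ} [Fact p.Prime] (n : ℕ) : ∀ (G : Type u) [Group G] [Finite G],
    Nat.card G = n → (∀ P : Sylow p G, IsCyclic P) → (∀ x y : G, orderOf x = p → orderOf y = p →
      IsPSolvable p (Subgroup.closure ({x, y} : Set G))) → IsPSolvable p G := by
  have hp : p.Prime := Fact.out
  induction n using Nat.strong_induction_on with
  | _ n ih =>
  intro G _ _ hn hP hc
  obtain ⟨P⟩ : Nonempty (Sylow p G) := inferInstance
  by_cases h0 : p ∣ Nat.card G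
  swap
  · exact H99.isPSolvable_of_coprime (hp.coprime_iff_not_dvd.2 h0).symm
  have : Nontrivial G := Finite.one_lt_card_iff_nontrivial.1
    (hp.one_lt.trans_le (Nat.le_of_dvd Nat.card_pos h0))
  by_cases hs : ∀ N : Subgroup G, N.Normal → N = ⊥ ∨ N = ⊤
  · have : IsSimpleGroup G := ⟨hs⟩
    by_cases hG : IsMulCommutative G
    · exact H24.isPSolvable_of_isSolvable hp G (Group.isSolvable_of_comm hG.is_comm.comm)
    · exact (H16.not_pair_of_simple hG P (hP P) (P.ne_bot_of_dvd_card h0) hc).elim
  push Not at hs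
  obtain ⟨N, hN, h1, h2⟩ := hs
  by_cases h3 : p ∣ Nat.card N
  · by_cases h4 : p ∣ N.index
    · exact (S4145.result p P (hP P) N h3 h4).2
    refine H99.isPSolvable_of_normal G N (ih _ ?_ N rfl (fun Q => ?_) fun x y hx hy => ?_)
      (H99.isPSolvable_of_coprime (hp.coprime_iff_not_dvd.2 h4).symm)
    · rw [← hn, ← N.card_mul_index]
      exact lt_mul_of_one_lt_right Nat.card_pos (N.one_lt_index_of_ne_top h2)
    · obtain ⟨R, hR⟩ := (Q.isPGroup'.map N.subtype).exists_le_sylow
      have := hP R
      have := Subgroup.isCyclic_of_le hR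
      exact (Subgroup.equivMapOfInjective _ _ N.subtype_injective).isCyclic.2 this
    · have := hc x y ((Subgroup.orderOf_coe x).trans hx) ((Subgroup.orderOf_coe y).trans hy)
      rw [← show N.subtype '' {x, y} = {(x : G), (y : G)} from Set.image_pair _ _ _,
        ← MonoidHom.map_closure] at this
      exact H53.isPSolvable_comap (Subgroup.equivMapOfInjective _ _ N.subtype_injective).toMonoidHom
        (MulEquiv.injective _) this
  · refine H24.isPSolvable_of_normal_of_quotient N (Or.inr (hp.coprime_iff_not_dvd.2 h3).symm)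
      (ih _ ?_ _ rfl (fun Q => ?_) fun x y hx hy => ?_)
    · rw [← hn, ← N.card_mul_index]
      exact lt_mul_of_one_lt_left Nat.card_pos (N.one_lt_card_iff_ne_bot.2 h1)
    · obtain ⟨R, rfl⟩ := Sylow.mapSurjective_surjective (QuotientGroup.mk'_surjective N) p Q
      have := hP R
      exact isCyclic_of_surjective _ ((QuotientGroup.mk' N).subgroupMap_surjective R)
    · obtain ⟨a, ha, rfl⟩ := lift N h3 hx
      obtain ⟨b, hb, rfl⟩ := lift N h3 hy
      rw [← Set.image_pair, ← MonoidHom.map_closure]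
      exact H53.isPSolvable_map _ (hc a b ha hb)

/-- Let G be a finite group whose Sylow p-subgroups are cyclic. Then G is p-solvable if and only if every two elements of order p of G generate a p-solvable subgroup. -/
theorem result {G : Type*} [Group G] [Finite G] {p : ℕ} [Fact p.Prime] (P : Sylow p G) (hP : IsCyclic ↥(P : Subgroup G)) :
    Cfsg.IsPSolvable p G ↔ ∀ x y : G, orderOf x = p → orderOf y = p → Cfsg.IsPSolvable p ↥(Subgroup.closure ({x, y} : Set G)) := by
  exact ⟨fun h _ _ _ _ => H53.isPSolvable_subgroup h _, aux _ G rfl fun Q =>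
    isCyclic_of_surjective _ (P.equiv Q).surjective⟩

end Cfsg.Agent.S1950
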