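import Cfsg.Statements.S3878
import Cfsg.Agent.H94.Ferguson
import Cfsg.Agent.H62.PrimSolv
import Cfsg.Agent.S0144

set_option autoImplicit false
open Cfsg

namespace Cfsg.Agent.S3878

open Subgroup
open scoped Pointwise
open Cfsg.Agent.H2 (IsPiNum)

theorem solvable_of_two_primes {H : Type*} [Group H] [Finite H] {p q : ℕ} (hp : p.Prime)
    (hq : q.Prime) (hpq : p ≠ q) (h : ∀ s : ℕ, s.Prime → s ∣ Nat.card H → s = p ∨ s = q) :
    Group.IsSolvable H := by
  have hN0 : Nat.card H ≠ 0 := Nat.card_pos.ne'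
  refine S0144.result p q ((Nat.card H).factorization p) ((Nat.card H).factorization q) hp hq ?_
  refine Nat.eq_of_factorization_eq hN0
    (mul_ne_zero (pow_ne_zero _ hp.ne_zero) (pow_ne_zero _ hq.ne_zero)) fun s => ?_
  rw [Nat.factorization_mul (pow_ne_zero _ hp.ne_zero) (pow_ne_zero _ hq.ne_zero),
    hp.factorization_pow, hq.factorization_pow, Finsupp.add_apply, Finsupp.single_apply,
    Finsupp.single_apply]
  by_cases h2 : p = s
  · subst h2; simp [hpq.symm]
  by_cases h3 : q = s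
  · subst h3; simp [hpq]
  rw [if_neg h2, if_neg h3]
  by_contra h0
  have h' : s ∈ (Nat.card H).factorization.support := Finsupp.mem_support_iff.2 h0
  rcases h s (Nat.prime_of_mem_primeFactors h') (Nat.dvd_of_mem_primeFactors h') with h4 | h4
  · exact h2 h4.symm
  · exact h3 h4.symm

theorem caseA {π : Set ℕ} {p q : ℕ} (hp : p.Prime) (hq : q.Prime) (hpq : p < q) (hpπ : p ∈ π)
    (hqπ : q ∈ π) (h : ∀ s : ℕ, s.Prime → s ∈ π → s ≤ q → s = p ∨ s = q)
    (hE : IsEPiGroup π (Equiv.Perm (Fin q))) : p = 2 ∧ q = 3 := by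
  obtain ⟨H, hH1, hH2⟩ := hE
  have : Fact q.Prime := ⟨hq⟩
  have hcard : Nat.card (Equiv.Perm (Fin q)) = q.factorial := by
    rw [Nat.card_perm, Nat.card_eq_fintype_card, Fintype.card_fin]
  have hHd : Nat.card H ∣ q.factorial := hcard ▸ card_subgroup_dvd_card H
  have hsol : Group.IsSolvable H := solvable_of_two_primes hp hq hpq.ne fun s hs hd =>
    h s hs (hH1 s hs hd) ((hs.dvd_factorial).1 (hd.trans hHd))
  have hqH : q ∣ Nat.card H := by
    have : q ∣ H.index * Nat.card H := by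
      rw [H.index_mul_card, hcard]; exact Nat.dvd_factorial hq.pos le_rfl
    exact ((hq.dvd_mul).1 this).resolve_left (hH2 q hq hqπ)
  obtain ⟨t, ht⟩ := exists_prime_orderOf_dvd_card' q hqH
  have hcyc : (t : Equiv.Perm (Fin q)).IsCycle :=
    Equiv.Perm.isCycle_of_prime_order'' (by rwa [Fintype.card_fin])
      (by rw [Subgroup.orderOf_coe, ht, Fintype.card_fin])
  have hsupp : (t : Equiv.Perm (Fin q)).support = Finset.univ := by
    rw [← Finset.card_eq_iff_eq_univ, ← hcyc.orderOf, Subgroup.orderOf_coe, ht, Fintype.card_fin]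
  have htr : MulAction.IsPretransitive H (Fin q) := ⟨fun x y => by
    obtain ⟨i, hi⟩ := hcyc.exists_pow_eq (x := x) (y := y)
      (Equiv.Perm.mem_support.1 (hsupp ▸ Finset.mem_univ x))
      (Equiv.Perm.mem_support.1 (hsupp ▸ Finset.mem_univ y))
    exact ⟨t ^ i, hi⟩⟩
  have hprim : MulAction.IsPreprimitive H (Fin q) :=
    MulAction.IsPreprimitive.of_prime_card (by rwa [Nat.card_eq_fintype_card, Fintype.card_fin])
  have hnt : Nontrivial H := by
    rw [← Finite.one_lt_card_iff_nontrivial]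
    exact lt_of_lt_of_le hq.one_lt (Nat.le_of_dvd Nat.card_pos hqH)
  obtain ⟨M, hM, hM0, hMc, s, hs, hMs⟩ := H2.exists_abelian_pgroup_normal (G := H)
  have : Fact s.Prime := ⟨hs⟩
  obtain ⟨-, -, hC, hMt⟩ := H62.elemAb_of_nilpotent_normal_primitive (Ω := Fin q) M hM0
    hMs.isNilpotent
  have hqM : q ∣ Nat.card M := by
    have h1 := MulAction.index_stabilizer_of_transitive M (⟨0, hq.pos⟩ : Fin q)
    have h2 := index_dvd_card (MulAction.stabilizer M (⟨0, hq.pos⟩ : Fin q))
    rwa [h1, Nat.card_eq_fintype_card, Fintype.card_fin] at h2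
  obtain ⟨k, hk⟩ := hMs.exists_card_eq
  have hsq : q = s := (Nat.prime_dvd_prime_iff_eq hq hs).1 (hq.dvd_of_dvd_pow (hk ▸ hqM))
  subst hsq
  obtain ⟨m, rfl⟩ : ∃ m, q = m + 2 := ⟨q - 2, by have := hq.two_le; omega⟩
  have hfac : (m + 2).factorial = (m + 2) * ((m + 1) * m.factorial) := by
    rw [Nat.factorial_succ, Nat.factorial_succ]
  have hMq : Nat.card M = m + 2 := by
    have h1 : (m + 2) ^ k ∣ (m + 2).factorial := hk ▸ (card_subgroup_dvd_card M).trans hHd
    rcases k with _ | _ | k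
    · rw [hk, pow_zero, Nat.dvd_one] at hqM; omega
    · rw [hk, zero_add, pow_one]
    · exfalso
      have h2 : (m + 2) * (m + 2) ∣ (m + 2) * (m + 1).factorial := by
        rw [← Nat.factorial_succ]
        exact (Dvd.intro ((m + 2) ^ k) (by ring)).trans h1
      have := (hq.dvd_factorial).1 (Nat.dvd_of_mul_dvd_mul_left hq.pos h2)
      omega
  have hcyM : IsCyclic M := isCyclic_of_prime_card hMq
  have hidx : M.index ∣ m + 1 := by
    have h1 : (MulAut.conjNormal : H →* MulAut M).ker = M := by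
      refine Eq.trans ?_ hC
      ext x
      rw [MonoidHom.mem_ker, mem_centralizer_iff]
      constructor
      · intro hx a ha
        have := congrArg (fun f : MulAut M => (f ⟨a, ha⟩ : H)) hx
        simp only [MulAut.conjNormal_apply, MulAut.one_apply] at this
        calc a * x = x * a * x⁻¹ * x := by rw [this]
          _ = x * a := by group
      · intro hx
        refine MulEquiv.ext fun a => Subtype.ext ?_
        simp only [MulAut.conjNormal_apply, MulAut.one_apply]
        rw [← hx a a.2, mul_inv_cancel_right]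
    have h2 := card_subgroup_dvd_card (MulAut.conjNormal : H →* MulAut M).range
    rw [← index_ker, h1, hcyM.card_mulAut, hMq, Nat.totient_prime hq] at h2
    exact h2
  obtain ⟨c, hc⟩ := hidx
  have h3 : H.index * (M.index * (m + 2)) = (m + 2) * ((M.index * c) * m.factorial) := by
    rw [← hc, ← hfac, ← hcard, ← H.index_mul_card, ← M.index_mul_card, hMq]
  have h4 : H.index = c * m.factorial := by
    have hpos : 0 < M.index * (m + 2) := Nat.mul_pos (Nat.pos_of_ne_zero M.index_ne_zero_of_finite)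
      (by omega)
    refine Nat.eq_of_mul_eq_mul_right hpos ?_
    rw [h3]; ring
  have h5 : ¬ p ≤ m := fun hle =>
    hH2 p hp hpπ (h4 ▸ Dvd.dvd.mul_left ((hp.dvd_factorial).2 hle) c)
  have h6 : p = m + 1 := by omega
  subst h6
  rcases hp.eq_two_or_odd with h7 | h7
  · omega
  · rcases hq.eq_two_or_odd with h8 | h8 <;> have := hp.two_le <;> omega

theorem caseB {π : Set ℕ} {r : ℕ} (hr : r.Prime) (hr5 : 5 ≤ r) (hrπ : r ∉ π)
    (h : ∀ s : ℕ, s.Prime → s < r → s ∈ π) : ¬ IsEPiGroup π (Equiv.Perm (Fin (r + 1))) := by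
  rintro ⟨H, hH1, hH2⟩
  have hcard : Nat.card (Equiv.Perm (Fin (r + 1))) = (r + 1).factorial := by
    rw [Nat.card_perm, Nat.card_eq_fintype_card, Fintype.card_fin]
  have hid : H.index ∣ (r + 1).factorial := hcard ▸ H.index_dvd_card
  have hr1 : ¬ (r + 1).Prime := fun h1 => by
    rcases hr.eq_two_or_odd with h7 | h7
    · omega
    · rcases h1.eq_two_or_odd with h8 | h8 <;> omega
  obtain ⟨k, hk⟩ : ∃ k, H.index = r ^ k :=
    (H92.eq_pow_iff_forall hr H.index_ne_zero_of_finite).2 fun s hs hd => by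
      have h1 := (hs.dvd_factorial).1 (hd.trans hid)
      have h2 : ¬ s < r := fun hlt => hH2 s hs (h s hs hlt) hd
      have h3 : s ≠ r + 1 := fun he => hr1 (he ▸ hs)
      omega
  obtain ⟨m, rfl⟩ : ∃ m, r = m + 1 := ⟨r - 1, by omega⟩
  have hidx : H.index = m + 1 := by
    rcases k with _ | _ | k
    · exfalso
      rw [pow_zero, index_eq_one] at hk
      refine hrπ (hH1 _ hr ?_)
      rw [hk, card_top, hcard]
      exact Nat.dvd_factorial hr.pos (by omega)
    · rw [hk, zero_add, pow_one]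
    · exfalso
      have h2 : (m + 1) * (m + 1) ∣ (m + 1) * ((m + 2) * m.factorial) := by
        have : (m + 1 + 1).factorial = (m + 1) * ((m + 2) * m.factorial) := by
          rw [Nat.factorial_succ, Nat.factorial_succ]; ring
        rw [← this]
        exact (Dvd.intro ((m + 1) ^ k) (by rw [hk]; ring)).trans hid
      rcases (hr.dvd_mul).1 (Nat.dvd_of_mul_dvd_mul_left hr.pos h2) with h3 | h3
      · have := (Nat.dvd_add_right (c := 1) (dvd_refl (m + 1))).1 h3
        rw [Nat.dvd_one] at this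
        omega
      · have := (hr.dvd_factorial).1 h3
        omega
  have hcore : H.normalCore ≠ ⊥ := by
    intro h0
    have h1 : H.normalCore.index ∣ H.index.factorial := by
      rw [normalCore_eq_ker, index_ker, index_eq_card, ← Nat.card_perm]
      exact card_subgroup_dvd_card _
    rw [h0, index_bot, hcard, hidx] at h1
    have := Nat.le_of_dvd (Nat.factorial_pos _) h1
    have h2 := Nat.factorial_lt_of_lt (n := m + 1) (m := m + 1 + 1) (by omega) (by omega)
    omega
  have hnt : Nontrivial H.normalCore := (nontrivial_iff_ne_bot _).2 hcore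
  have hA := Equiv.Perm.alternatingGroup_le_of_normal (α := Fin (m + 1 + 1))
    (by rw [Nat.card_eq_fintype_card, Fintype.card_fin]; omega) hnt
  have h3 := index_dvd_of_le (hA.trans H.normalCore_le)
  have : Nontrivial (Fin (m + 1 + 1)) := inferInstance
  rw [alternatingGroup.index_eq_two, hidx] at h3
  have := Nat.le_of_dvd two_pos h3
  omega

theorem of_forall_E (π : Set ℕ) (hE : ∀ (G : Type) [Group G] [Finite G], IsEPiGroup π G) :
    (∀ p q : ℕ, p.Prime → q.Prime → p ∈ π → q ∈ π → p = q) ∨ ∀ p : ℕ, p.Prime → p ∈ π := by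
  classical
  by_contra hc
  push Not at hc
  obtain ⟨⟨a, b, ha, hb, haπ, hbπ, hab⟩, hr⟩ := hc
  have e1 : ∃ p, p.Prime ∧ p ∈ π := ⟨a, ha, haπ⟩
  obtain ⟨hp, hpπ⟩ := Nat.find_spec e1
  have hpmin := fun s (hs : s.Prime ∧ s ∈ π) => Nat.find_min' e1 hs
  set p := Nat.find e1
  have e2 : ∃ q, q.Prime ∧ q ∈ π ∧ q ≠ p := by
    by_cases h : a = p
    · exact ⟨b, hb, hbπ, fun h' => hab (h.trans h'.symm)⟩
    · exact ⟨a, ha, haπ, h⟩
  obtain ⟨hq, hqπ, hqp⟩ := Nat.find_spec e2
  have hqmin := fun s (hs : s.Prime ∧ s ∈ π ∧ s ≠ p) => Nat.find_min' e2 hs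
  set q := Nat.find e2
  have hlt : p < q := lt_of_le_of_ne (hpmin q ⟨hq, hqπ⟩) hqp.symm
  obtain ⟨h2, h3⟩ := caseA hp hq hlt hpπ hqπ (fun s hs hsπ hle => or_iff_not_imp_left.2
    fun h => le_antisymm hle (hqmin s ⟨hs, hsπ, h⟩)) (hE _)
  obtain ⟨hr', hrπ⟩ := Nat.find_spec hr
  have hrmin := fun s (hs : s < Nat.find hr) => Nat.find_min hr hs
  set r := Nat.find hr
  refine caseB hr' ?_ hrπ (fun s hs hlt => ?_) (hE _)
  · have h4 : r ≠ 2 := fun h => hrπ (h ▸ h2 ▸ hpπ)
    have h5 : r ≠ 3 := fun h => hrπ (h ▸ h3 ▸ hqπ)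
    have h6 : r ≠ 4 := fun h => by rw [h] at hr'; exact absurd hr' (by decide)
    have := hr'.two_le
    omega
  · by_contra h
    exact hrmin s hlt ⟨hs, h⟩

theorem E_of_D {π : Set ℕ} {G : Type*} [Group G] [Finite G] (h : IsDPiGroup π G) :
    IsEPiGroup π G := by
  obtain ⟨H, hH⟩ := H94.exists_dPi_of_isDPiGroup h
  exact ⟨H, H2.isPiHall_iff.2 ⟨hH.1, hH.index⟩⟩

theorem D_of (π : Set ℕ)
    (h : (∀ p q : ℕ, p.Prime → q.Prime → p ∈ π → q ∈ π → p = q) ∨ ∀ p : ℕ, p.Prime → p ∈ π)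
    (G : Type*) [Group G] [Finite G] : IsDPiGroup π G := by
  obtain ⟨H, hH⟩ : ∃ H : Subgroup G, H94.DPi π H := by
    rcases h with h | h
    · by_cases h0 : ∃ p, p.Prime ∧ p ∈ π
      · obtain ⟨p, hp, hpπ⟩ := h0
        have : Fact p.Prime := ⟨hp⟩
        obtain ⟨P⟩ : Nonempty (Sylow p G) := inferInstance
        refine ⟨P, H2.isPiNum_card_of_isPGroup hp hpπ P.isPGroup', fun K hK => ?_⟩
        obtain ⟨k, hk⟩ := (H92.eq_pow_iff_forall hp Nat.card_pos.ne').2
          fun s hs hd => h s p hs hp (hK s hs hd) hpπ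
        obtain ⟨g, hg⟩ := H1.exists_conj_le_of_not_dvd_index (IsPGroup.of_card hk)
          P.not_dvd_index
        refine ⟨g⁻¹, ?_⟩
        rw [← H8.conj_inv_smul_conj_smul K g]
        exact pointwise_smul_le_pointwise_smul_iff.2 hg
      · refine ⟨⊥, by rw [card_bot]; exact H2.isPiNum_one π, fun K hK => ⟨1, ?_⟩⟩
        have : Nat.card K = 1 := hK.eq_one fun s hs _ hsπ => h0 ⟨s, hs, hsπ⟩
        rw [card_eq_one.1 this]
        exact bot_le
    · exact ⟨⊤, fun s hs _ => h s hs, fun K _ => ⟨1, by simp⟩⟩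
  have hmax : ∀ M : Subgroup G, Maximal (IsPiSubgroup π) M →
      ∃ g : G, M = MulAut.conj g • H := by
    intro M hM
    obtain ⟨g, hg⟩ := hH.2 M hM.prop
    refine ⟨g, hM.eq_of_le ?_ hg⟩
    have := hH.1
    rwa [← H8.card_conj_smul H g] at this
  intro M₁ M₂ h₁ h₂
  obtain ⟨g₁, rfl⟩ := hmax M₁ h₁
  obtain ⟨g₂, rfl⟩ := hmax M₂ h₂
  exact ⟨g₂ * g₁⁻¹, by rw [H8.map_conj_eq_smul, H8.conj_smul_conj_smul, inv_mul_cancel_right]⟩

/-- For a set of primes π the following are equivalent: every finite group has a Hall π-subgroup; in every finite group the maximal π-subgroups are pairwise conjugate; π contains at most one prime or contains every prime. -/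
theorem result (π : Set ℕ) :
    ((∀ (G : Type) [Group G] [Finite G], Cfsg.IsEPiGroup π G) ↔
      ((∀ p q : ℕ, p.Prime → q.Prime → p ∈ π → q ∈ π → p = q) ∨ ∀ p : ℕ, p.Prime → p ∈ π)) ∧
    ((∀ (G : Type) [Group G] [Finite G], Cfsg.IsDPiGroup π G) ↔
      ((∀ p q : ℕ, p.Prime → q.Prime → p ∈ π → q ∈ π → p = q) ∨ ∀ p : ℕ, p.Prime → p ∈ π)) := by
  exact ⟨⟨of_forall_E π, fun h G _ _ => E_of_D (D_of π h G)⟩,
    ⟨fun h => of_forall_E π fun G _ _ => E_of_D (h G), fun h G _ _ => D_of π h G⟩⟩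

end Cfsg.Agent.S3878
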