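import Cfsg.Statements.S0821
import Cfsg.Agent.H27.TwoRank
import Cfsg.Agent.H27.SympSimple
import Cfsg.Agent.H30.OrthBridge
import Cfsg.Agent.H79.QuadDisc

set_option autoImplicit false
open Cfsg

namespace Cfsg.Agent.S0821

open Module QuadraticMap Cfsg.Agent.H27

theorem exists_orth_basis {F V ι : Type*} [Field F] [Finite F] [AddCommGroup V] [Module F V]
    [Fintype ι] [DecidableEq ι] (h2 : (2 : F) ≠ 0) (Q : QuadraticForm F V)
    (hQ : (polarBilin Q).Nondegenerate) (b : Basis ι F V) (hodd : Odd (Fintype.card ι)) :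
    ∃ (e : Basis ι F V) (c : F), c ≠ 0 ∧ (∀ i, Q (e i) = c) ∧
      ∀ i j, i ≠ j → polar Q (e i) (e j) = 0 := by
  have hQ' := (H79.nd_iff Q).1 hQ
  have hD := (H79.nd_iff_det_gram Q b).1 hQ'
  set D := (H79.gram Q b).det with hDdef
  let Q' : QuadraticForm F (ι → F) := QuadraticMap.weightedSumSquares F (fun _ : ι => 2 * D)
  have hQ'a : ∀ v, Q' v = ∑ i, 2 * D * (v i * v i) := fun v => by
    simp [Q', QuadraticMap.weightedSumSquares_apply]
  have hpol : ∀ v w, polar Q' v w = ∑ i, 4 * D * (v i * w i) := fun v w => by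
    simp only [polar, hQ'a, ← Finset.sum_sub_distrib, Pi.add_apply]
    exact Finset.sum_congr rfl fun i _ => by ring
  have hgram : H79.gram Q' (Pi.basisFun F ι) = (4 * D) • (1 : Matrix ι ι F) := by
    ext i j
    rw [H79.gram_apply, hpol]
    simp [Pi.single_apply, Matrix.one_apply, eq_comm]
  have h4 : (4 : F) ≠ 0 := by
    rw [show (4 : F) = 2 * 2 by norm_num]; exact mul_ne_zero h2 h2
  have hdet : (H79.gram Q' (Pi.basisFun F ι)).det = (4 * D) ^ Fintype.card ι := by
    rw [hgram, Matrix.det_smul, Matrix.det_one, mul_one]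
  obtain ⟨k, hk⟩ := hodd
  obtain ⟨g, hg⟩ := H79.iso_of_isSquare_det h2 Q' ((H79.nd_iff_det_gram Q' (Pi.basisFun F ι)).2
    (by rw [hdet]; exact pow_ne_zero _ (mul_ne_zero h4 hD))) Q hQ' (Pi.basisFun F ι) b rfl
    ⟨(4 * D) ^ k * (2 * D), by rw [hdet, hk]; ring⟩
  refine ⟨(Pi.basisFun F ι).map g, 2 * D, mul_ne_zero h2 hD, fun i => ?_, fun i j hij => ?_⟩
  · rw [Basis.map_apply, hg, hQ'a]
    simp [Pi.single_apply]
  · rw [Basis.map_apply, Basis.map_apply, polar, ← map_add, hg, hg, hg]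
    change polar Q' _ _ = 0
    rw [hpol]
    simp [Pi.single_apply, hij.symm]

/-- The sign `(-1)^r`. -/
def sgn (F : Type*) [Field F] (r : ZMod 2) : Fˣ := if r = 0 then 1 else -1

theorem sgn_add {F : Type*} [Field F] (r t : ZMod 2) : sgn F (r + t) = sgn F r * sgn F t := by
  rcases zmod_two_cases r with rfl | rfl <;> rcases zmod_two_cases t with rfl | rfl <;>
    simp [sgn, show (1 : ZMod 2) + 1 = 0 from rfl]

theorem sgn_mul_self {F : Type*} [Field F] (r : ZMod 2) : (sgn F r : F) * sgn F r = 1 := by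
  rcases zmod_two_cases r with rfl | rfl <;> simp [sgn]

theorem exists_hom {F V κ : Type*} [Field F] [Finite F] [AddCommGroup V] [Module F V]
    [Fintype κ] [DecidableEq κ] (h2 : (2 : F) ≠ 0) (Q : QuadraticForm F V)
    (hQ : (polarBilin Q).Nondegenerate) (b : Basis (Unit ⊕ κ) F V) (heven : Even (Fintype.card κ)) :
    ∃ φ : Multiplicative (κ → ZMod 2) →* commutator (H30.O Q),
      ∀ a, ((φ a : H30.O Q) = 1 ∨ (φ a : H30.O Q) = H30.negOne Q) → a = 1 := by
  obtain ⟨e, c, hc, hQe, horth⟩ := exists_orth_basis h2 Q hQ b (by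
    simpa [Fintype.card_sum, add_comm] using heven.add_one)
  let D₀ : ((Unit ⊕ κ) → ZMod 2) → V ≃ₗ[F] V := fun σ =>
    e.equiv (e.unitsSMul fun i => sgn F (σ i)) (Equiv.refl _)
  have hD₀ : ∀ σ i, D₀ σ (e i) = (sgn F (σ i) : F) • e i := fun σ i => by
    simp [D₀, Basis.unitsSMul_apply, Units.smul_def]
  have hmem : ∀ σ, D₀ σ ∈ H30.O Q := fun σ v => by
    conv_lhs => rw [← e.sum_repr v, map_sum]
    conv_rhs => rw [← e.sum_repr v]
    simp only [map_smul]
    refine H30.Q_sum_congr _ _ (fun i => ?_) (fun i j hij => ?_) _ _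
    · rw [hD₀, H30.Q_smul, sgn_mul_self, one_mul]
    · rw [hD₀, hD₀, H30.polar_smul_left', H30.polar_smul_right', horth i j hij, mul_zero, mul_zero]
  have hext : ∀ g h : H30.O Q, (∀ i, g.1 (e i) = h.1 (e i)) → g = h := fun g h hgh =>
    Subtype.ext (LinearEquiv.toLinearMap_injective (e.ext hgh))
  let D : Multiplicative ((Unit ⊕ κ) → ZMod 2) →* H30.O Q :=
    { toFun := fun σ => ⟨D₀ σ.toAdd, hmem _⟩
      map_one' := hext _ _ fun i => by
        change D₀ _ _ = e i
        rw [hD₀]; simp [sgn]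
      map_mul' := fun σ τ => hext _ _ fun i => by
        change D₀ _ _ = D₀ _ (D₀ _ _)
        rw [hD₀, hD₀, map_smul, hD₀, toAdd_mul, Pi.add_apply, sgn_add, smul_smul, Units.val_mul,
          mul_comm] }
  have hD : ∀ σ i, (D σ).1 (e i) = (sgn F (σ.toAdd i) : F) • e i := fun σ i => hD₀ _ _
  have hrefl : ∀ i, D (Multiplicative.ofAdd (Pi.single i 1)) = H30.refl Q (e i) := fun i =>
    hext _ _ fun j => by
      rw [hD, toAdd_ofAdd]
      by_cases hij : j = i
      · subst hij
        rw [H30.refl_apply_self (by rw [hQe]; exact hc)]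
        simp [sgn]
      · rw [H30.refl_apply_of_orth (horth j i hij)]
        simp [sgn, hij]
  have hcomm : ∀ i j, D (Multiplicative.ofAdd (Pi.single i 1 + Pi.single j 1)) ∈
      commutator (H30.O Q) := fun i j => by
    have : FiniteDimensional F V := Module.Finite.of_basis e
    obtain ⟨g, hg⟩ := H30.witt_one hQ (e.ne_zero j) (e.ne_zero i) (by rw [hQe, hQe])
    rw [ofAdd_add, map_mul, hrefl, hrefl, ← hg, ← H30.refl_conj]
    conv => enter [2, 2]; rw [← H30.refl_inv]
    exact Subgroup.commutator_mem_commutator (Subgroup.mem_top _) (Subgroup.mem_top _)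
  let θ : (κ → ZMod 2) →+ ((Unit ⊕ κ) → ZMod 2) :=
    { toFun := fun a => Sum.elim (fun _ => ∑ k, a k) a
      map_zero' := by funext i; rcases i with i | i <;> simp
      map_add' := fun a a' => by funext i; rcases i with i | i <;> simp [Finset.sum_add_distrib] }
  have hθ : ∀ a, θ a = ∑ k, a k • (Pi.single (Sum.inl ()) 1 + Pi.single (Sum.inr k) 1) := by
    intro a
    funext i
    rcases i with i | i <;> simp [θ, Finset.sum_apply, Pi.single_apply]
  have hθmem : ∀ a, D (Multiplicative.ofAdd (θ a)) ∈ commutator (H30.O Q) := by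
    intro a
    rw [hθ]
    refine Finset.sum_induction _ (fun σ => D (Multiplicative.ofAdd σ) ∈ commutator (H30.O Q))
      (fun σ τ hσ hτ => by rw [ofAdd_add, map_mul]; exact mul_mem hσ hτ) (by simp) fun k _ => ?_
    rcases zmod_two_cases (a k) with h | h <;> rw [h]
    · simp
    · rw [one_smul]; exact hcomm _ _
  refine ⟨(D.comp (AddMonoidHom.toMultiplicative θ)).codRestrict _ fun a => hθmem a.toAdd, ?_⟩
  have h1 : (1 : F) ≠ -1 := fun h' => h2 (by linear_combination h')
  have hs1 : ∀ (r : ZMod 2) i, (sgn F r : F) • e i = e i → r = 0 := fun r i hr => by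
    rcases zmod_two_cases r with rfl | rfl
    · rfl
    · exfalso
      apply h1
      have : (1 : F) • e i = (-1 : F) • e i := by simpa [sgn] using hr.symm
      exact smul_left_injective F (e.ne_zero i) this
  have hs2 : ∀ (r : ZMod 2) i, (sgn F r : F) • e i = - e i → r = 1 := fun r i hr => by
    rcases zmod_two_cases r with rfl | rfl
    · exfalso
      apply h1
      have : (1 : F) • e i = (-1 : F) • e i := by simpa [sgn] using hr
      exact smul_left_injective F (e.ne_zero i) this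
    · rfl
  rintro a (ha | ha)
  · have : a.toAdd = 0 := funext fun k =>
      hs1 _ (Sum.inr k) ((hD (Multiplicative.ofAdd (θ a.toAdd)) (Sum.inr k)).symm.trans
        (congrArg (fun g : H30.O Q => g.1 (e (Sum.inr k))) ha))
    exact this
  · exfalso
    have h3 : ∀ i, θ a.toAdd i = 1 := fun i =>
      hs2 _ i ((hD (Multiplicative.ofAdd (θ a.toAdd)) i).symm.trans
        (congrArg (fun g : H30.O Q => g.1 (e i)) ha))
    have h4 : ∑ k, a.toAdd k = 1 := h3 (Sum.inl ())
    have h5 : ∀ k, a.toAdd k = 1 := fun k => h3 (Sum.inr k)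
    simp only [h5, Finset.sum_const, Finset.card_univ, nsmul_eq_mul, mul_one] at h4
    rw [(ZMod.natCast_eq_zero_iff_even).2 heven] at h4
    exact zero_ne_one h4

/-- PSp_2m(q) ≇ PΩ_(2m+1)(q) for q odd and m ≥ 3 (they have the same order). -/
theorem result {F : Type*} [Field F] [Fintype F] (hodd : Odd (Fintype.card F)) (m : ℕ) (hm : 3 ≤ m) : IsEmpty (Cfsg.PSp m F ≃* Cfsg.POmega F (Cfsg.quadFormOdd m F)) := by
  refine ⟨fun ψ => ?_⟩
  have h2 := H79.two_ne_zero_of_odd_card hodd
  have hQ := H30.qOdd_nondegenerate h2 m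
  obtain ⟨φ, hφ⟩ := exists_hom h2 (H30.qOdd F m) hQ (Pi.basisFun F _) (by simp)
  have h3 : 3 ≤ finrank F (Unit ⊕ (Fin m ⊕ Fin m) → F) := by simp; omega
  obtain ⟨e, f, hef⟩ := H30.exists_isHyp_of_three_le hQ h3
  have hce := H30.commutator_eq_eichGroup hQ (H30.not_isExc_of_two h2) h3
  let χ := (H28.centerQuotEquiv (spEquiv (Fin m) F)).toMonoidHom.comp
    (ψ.symm.toMonoidHom.comp ((H28.centerQuotEquiv (H30.omegaEquivO (H30.qOdd F m))).symm.toMonoidHom.comp
      ((QuotientGroup.mk' _).comp φ)))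
  refine not_injective_to_psp h2 jBilin_nondegenerate jBilin_isAlt (by simp; omega)
    (E := Fin m ⊕ Fin m → ZMod 2) (by simp) χ ?_
  refine (H28.centerQuotEquiv (spEquiv (Fin m) F)).injective.comp (ψ.symm.injective.comp
    ((H28.centerQuotEquiv (H30.omegaEquivO (H30.qOdd F m))).symm.injective.comp ?_))
  refine (injective_iff_map_eq_one ((QuotientGroup.mk' _).comp φ)).2 fun a ha => hφ a ?_
  have h1 : φ a ∈ Subgroup.center _ := (QuotientGroup.eq_one_iff _).1 ha
  exact (H30.mem_center_eichGroup_iff hQ hef h3 (MulEquiv.subgroupCongr hce (φ a))).1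
    ((H28.mem_center_equiv _ _).2 h1)

end Cfsg.Agent.S0821
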