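import Cfsg.Statements.S0224
import Cfsg.Agent.H10.StronglyEmbedded

set_option autoImplicit false
open Cfsg

namespace Cfsg.Agent.S0224

/-- Let H be a proper subgroup of even order of the finite group G. Then H is strongly embedded if and only if each involution of H fixes exactly one point (namely the coset H) in the action of G on the cosets of H. -/
theorem result {G : Type*} [Group G] [Finite G] (H : Subgroup G) (hH : H ≠ ⊤) (heven : Even (Nat.card H)) : Cfsg.IsStronglyEmbedded H ↔ ∀ t ∈ H, orderOf t = 2 → Nat.card {c : G ⧸ H // t • c = c} = 1 := by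
  have key : ∀ t g : G, t • (g : G ⧸ H) = g ↔ g⁻¹ * t * g⁻¹⁻¹ ∈ H := by
    intro t g
    rw [MulAction.Quotient.smul_mk, smul_eq_mul, eq_comm, QuotientGroup.eq, inv_inv, mul_assoc]
  have key1 : ∀ t ∈ H, t • ((1 : G) : G ⧸ H) = (1 : G) := by
    intro t ht
    rw [key]; simpa using ht
  constructor
  · intro hSE t ht h2
    rw [Nat.card_eq_one_iff_unique]
    refine ⟨⟨?_⟩, ⟨⟨_, key1 t ht⟩⟩⟩
    have : ∀ c : G ⧸ H, t • c = c → c = (1 : G) := by
      intro c hc
      obtain ⟨g, rfl⟩ := QuotientGroup.mk_surjective c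
      have := H10.SE.mem_of_conj_mem hSE ht h2 ((key t g).mp hc)
      rw [QuotientGroup.eq]; simpa using this
    rintro ⟨a, ha⟩ ⟨b, hb⟩
    exact Subtype.ext ((this a ha).trans (this b hb).symm)
  · intro h
    refine H10.SE.iff.mpr ⟨hH, H10.even_card_iff.mp heven, fun t ht ht2 g hg => ?_⟩
    have h1 := (Nat.card_eq_one_iff_unique.mp (h t ht ht2)).1
    have h2 : t • ((g⁻¹ : G) : G ⧸ H) = (g⁻¹ : G) := by
      rw [key]; simpa using hg
    have h3 := congrArg Subtype.val (h1.elim ⟨_, h2⟩ ⟨_, key1 t ht⟩)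
    simpa [QuotientGroup.eq] using h3

end Cfsg.Agent.S0224
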