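import Cfsg.Statements.S0349
import Cfsg.Agent.H38.SuzSimple
import Cfsg.Agent.H3.Fitting
import Cfsg.Agent.S0322
import Cfsg.Agent.S1911
import Cfsg.Agent.S0222

set_option autoImplicit false
open Cfsg

namespace Cfsg.Agent.S0349

/-- Let a finite simple group have a (B,N)-pair of rank one which is strongly split (`B = U (B ⊓ N)` with `U` nilpotent,
normal in `B` and meeting `N` trivially), with `[G : B]` and `|B ⊓ N|` odd. Then the group is isomorphic to `PSL₂(F)` with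
`|F|` a power of `2`, or is simple of Suzuki order, or is isomorphic to `PSU₃` realised over a field with `q²` elements,
`q = 2^n`, `n ≥ 2`. -/
theorem result {G : Type*} [Group G] [Finite G] [IsSimpleGroup G]
    (P : Cfsg.BNPair G) (hrank : P.rank = 1) (U : Subgroup G) (hUB : U ≤ P.B)
    (hUn : (U.subgroupOf P.B).Normal) (hUnil : Group.IsNilpotent U) (hsplit : U ⊔ (P.B ⊓ P.N) = P.B)
    (hdisj : U ⊓ P.N = ⊥) (hind : Odd P.B.index) (hH : Odd (Nat.card ↥(P.B ⊓ P.N))) :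
    (∃ (F : Type) (_ : Field F) (_ : Fintype F), (∃ n : ℕ, Fintype.card F = 2 ^ n) ∧ Nonempty (G ≃* Matrix.ProjectiveSpecialLinearGroup (Fin 2) F)) ∨
      Cfsg.IsSuzuki G ∨
      (∃ (F : Type) (_ : Field F) (_ : Fintype F) (n : ℕ), 2 ≤ n ∧ Fintype.card F = (2 ^ n) ^ 2 ∧
        Nonempty (G ≃* Cfsg.PSU 3 F (2 ^ n))) := by
  have : Fact (Nat.Prime 2) := ⟨Nat.prime_two⟩
  obtain ⟨⟨w, hw⟩, -⟩ := Nat.card_eq_one_iff_exists.1 (show Nat.card P.S = 1 from hrank)
  have hwB : w ∉ P.B := fun h => P.conj_ne w hw (by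
    ext b
    exact ⟨by rintro ⟨b, hb, rfl⟩; exact P.B.mul_mem (P.B.mul_mem h hb) h, fun hb =>
      ⟨w⁻¹ * b * w⁻¹, P.B.mul_mem (P.B.mul_mem (P.B.inv_mem h) hb) (P.B.inv_mem h), by group⟩⟩)
  set a : G ⧸ P.B := ((1 : G) : G ⧸ P.B) with ha
  have hfix : ∀ g : G, g • a = a ↔ g ∈ P.B := fun g => by
    rw [← MulAction.mem_stabilizer_iff, MulAction.stabilizer_quotient]
  have hwa : w • a ≠ a := fun e => hwB ((hfix w).1 e)
  have := H38.faithful_of_simple (G := G) hwa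
  have hconj : ∀ b ∈ P.B, ∀ u ∈ U, b * u * b⁻¹ ∈ U := fun b hb u hu =>
    hUn.conj_mem ⟨u, hUB hu⟩ hu ⟨b, hb⟩
  have htr : ∀ p, p ≠ a → ∃ u ∈ U, u • w • a = p := by
    intro p hp
    obtain ⟨g, hg1, hg2⟩ := MulAction.is_two_pretransitive_iff.1 (S0322.result P hrank) hwa.symm
      hp.symm
    rw [hfix, ← hsplit, Subgroup.sup_eq_closure] at hg1
    subst hg2
    clear hp
    have := Subgroup.closure_induction_left (p := fun g _ => ∃ u ∈ U, u • w • a = g • w • a)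
      ⟨1, U.one_mem, rfl⟩ ?_ ?_ hg1
    · exact this
    all_goals
      have key : ∀ τ ∈ P.B ⊓ P.N, ∀ y : G, (∃ u ∈ U, u • w • a = y • w • a) →
          ∃ u ∈ U, u • w • a = (τ * y) • w • a := by
        rintro τ hτ y ⟨u, hu, e⟩
        have := (hfix _).2 (P.conj_mem w⁻¹ (P.N.inv_mem (P.subset hw)) τ⁻¹ (inv_mem hτ))
        rw [inv_inv, mul_smul, mul_smul, inv_smul_eq_iff] at this
        exact ⟨τ * u * τ⁻¹, hconj τ hτ.1 u hu, by rw [mul_smul, this, mul_smul, e, mul_smul]⟩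
    · rintro x (hx | hx) y - ⟨u, hu, e⟩
      · exact ⟨x * u, U.mul_mem hx hu, by rw [mul_smul, e, mul_smul]⟩
      · exact key x hx y ⟨u, hu, e⟩
    · rintro x (hx | hx) y - ⟨u, hu, e⟩
      · exact ⟨x⁻¹ * u, U.mul_mem (U.inv_mem hx) hu, by rw [mul_smul, e, mul_smul]⟩
      · exact key x⁻¹ (inv_mem hx) y ⟨u, hu, e⟩
  have hsemi : ∀ z ∈ U, (∀ u ∈ U, u * z = z * u) → ∀ p, p ≠ a → z • p = p → z = 1 := by
    intro z hz hc p hp e
    refine eq_of_smul_eq_smul (α := G ⧸ P.B) fun p' => ?_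
    rw [one_smul]
    by_cases hp' : p' = a
    · rw [hp', hfix]; exact hUB hz
    obtain ⟨u, hu, rfl⟩ := htr p hp
    obtain ⟨u', hu', rfl⟩ := htr p' hp'
    rw [← mul_smul, ← hc u hu, mul_smul, smul_left_cancel_iff] at e
    rw [← mul_smul, ← hc u' hu', mul_smul, e]
  have hUeven : 2 ∣ Nat.card U := by
    have h1 : Nat.card (MulAction.orbit U (w • a)) = P.B.index - 1 := by
      have : MulAction.orbit U (w • a) = {a}ᶜ := by
        ext p
        exact ⟨by
          rintro ⟨u, rfl⟩ e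
          exact hwa (smul_left_cancel (u : G) (e.trans ((hfix _).2 (hUB u.2)).symm)), fun hp => by
          obtain ⟨u, hu, e⟩ := htr p hp
          exact ⟨⟨u, hu⟩, e⟩⟩
      rw [this, Nat.card_coe_set_eq, Set.ncard_compl, Set.ncard_singleton]
      rfl
    rw [Nat.card_coe_set_eq, ← MulAction.index_stabilizer] at h1
    exact (h1 ▸ (Nat.Odd.sub_odd hind odd_one).two_dvd).trans (Subgroup.index_dvd_card _)
  let Z : Subgroup G :=
    { carrier := {z | z ∈ U ∧ (∀ u ∈ U, u * z = z * u) ∧ z * z = 1}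
      one_mem' := ⟨U.one_mem, fun u _ => by rw [mul_one, one_mul], one_mul 1⟩
      mul_mem' := fun {x y} hx hy => ⟨U.mul_mem hx.1 hy.1, fun u hu => by
        rw [← mul_assoc, hx.2.1 u hu, mul_assoc, hy.2.1 u hu, mul_assoc], by
        calc x * y * (x * y) = x * (y * x) * y := by group
          _ = (x * x) * (y * y) := by rw [hx.2.1 y hy.1]; group
          _ = 1 := by rw [hx.2.2, hy.2.2, one_mul]⟩
      inv_mem' := fun {x} hx => by rwa [H38.inv_eq_of_mul_self hx.2.2] }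
  obtain ⟨z, hz, hz1⟩ : ∃ z ∈ Z, z ≠ 1 := by
    obtain ⟨S⟩ : Nonempty (Sylow 2 U) := inferInstance
    obtain ⟨s, hs, hs1, hs2⟩ := H38.exists_invol_of_even (X := (S : Subgroup U) ⊓ Subgroup.center U) (by
      obtain ⟨n, hn⟩ := IsPGroup.iff_card.1
        (S.isPGroup'.to_le (inf_le_left : (S : Subgroup U) ⊓ Subgroup.center U ≤ _))
      rw [hn, Nat.even_pow]
      refine ⟨even_two, fun e => H3.inf_center_ne_bot (S : Subgroup U) (S.ne_bot_of_dvd_card hUeven) ?_⟩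
      rwa [e, pow_zero, Subgroup.card_eq_one] at hn)
    exact ⟨s, ⟨s.2, fun u hu => congrArg Subtype.val (Subgroup.mem_center_iff.1 hs.2 ⟨u, hu⟩),
      congrArg Subtype.val hs2⟩, fun e => hs1 (Subtype.ext e)⟩
  have hkey : ∀ g : G, g ∉ P.B → ∀ y ∈ Z, g * y * g⁻¹ ∈ P.B → y = 1 := fun g hg y hy h => by
    refine hsemi y hy.1 hy.2.1 (g⁻¹ • a) (fun e => hg ((hfix g).1 (inv_smul_eq_iff.1 e).symm)) ?_
    have := (hfix _).2 h
    rw [mul_smul, mul_smul] at this
    exact eq_inv_smul_iff.2 this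
  have hN : Subgroup.normalizer (Z : Set G) = P.B := by
    refine le_antisymm (fun g hg => ?_) fun b hb => ?_
    · by_contra h
      exact hz1 (hkey g h z hz (hUB ((Subgroup.mem_normalizer_iff.1 hg z).1 hz).1))
    · have key : ∀ b ∈ P.B, ∀ y ∈ Z, b * y * b⁻¹ ∈ Z := fun b hb y hy =>
        ⟨hconj b hb y hy.1, fun u hu => by
          have := hy.2.1 _ (hconj b⁻¹ (P.B.inv_mem hb) u hu)
          calc _ = b * (b⁻¹ * u * b⁻¹⁻¹ * y) * b⁻¹ := by group
            _ = _ := by rw [this]; group, by rw [conj_mul, hy.2.2]; group⟩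
      refine Subgroup.mem_normalizer_iff.2 fun y => ⟨key b hb y, fun h => ?_⟩
      simpa [mul_assoc] using key b⁻¹ (P.B.inv_mem hb) _ h
  have hbot : ∀ g : G, g ∉ Subgroup.normalizer (Z : Set G) →
      Z.map (MulAut.conj g).toMonoidHom ⊓ Subgroup.normalizer (Z : Set G) = ⊥ := fun g hg => by
    rw [hN] at hg ⊢
    rw [eq_bot_iff]
    rintro _ ⟨⟨y, hy, rfl⟩, h⟩
    rw [hkey g hg y hy h, map_one]
    exact one_mem _
  have hnn : ¬ Z.Normal := fun h => hwB (by
    rw [← hN, Subgroup.normalizer_eq_top]; trivial)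
  have hK : Subgroup.normalClosure (Z : Set G) = ⊤ :=
    Subgroup.normalClosure_normal.eq_bot_or_eq_top.resolve_left fun e =>
      hz1 (Subgroup.mem_bot.1 (e ▸ Subgroup.subset_normalClosure hz))
  have hse := (S1911.result Z ⟨H38.even_card_of_invol hz hz1 hz.2.2, fun g hg => by
    rw [eq_bot_iff.2 ((inf_comm _ _).le.trans ((inf_le_inf_left _ Subgroup.le_normalizer).trans
      (hbot g hg).le)), Subgroup.card_bot]
    exact odd_one⟩ fun g hg => by rw [hbot g hg, Subgroup.card_bot]; exact odd_one).resolve_left hnn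
  rw [hK] at hse
  let e : (⊤ : Subgroup G) ≃* G := Subgroup.topEquiv
  have := e.isSimpleGroup
  rcases S0222.result (by
    by_contra! h
    exact hnn ⟨fun y hy g => by
      rwa [show g * y = y * g from congrArg Subtype.val (h ⟨g, trivial⟩ ⟨y, trivial⟩),
        mul_inv_cancel_right]⟩) _ hse with ⟨F, _, _, hF, -, ⟨f⟩⟩ | ⟨-, m, hm, h⟩ |
      ⟨F, _, _, q, hF, hq, hq4, ⟨f⟩⟩
  · obtain ⟨n, -, hn⟩ := FiniteField.card F 2
    exact Or.inl ⟨F, inferInstance, inferInstance, ⟨n, hn⟩, ⟨e.symm.trans f⟩⟩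
  · exact Or.inr (Or.inl ⟨inferInstance, m, hm, by rw [← h, Subgroup.card_top]⟩)
  · obtain ⟨p, hp, k, hp', hk⟩ := FiniteField.card' F
    obtain rfl : 2 = p := (Nat.prime_dvd_prime_iff_eq Nat.prime_two hp').1
      (Nat.prime_two.dvd_of_dvd_pow (hk ▸ hF ▸ hq.two_dvd.trans (dvd_pow_self q two_ne_zero)))
    obtain ⟨n, -, rfl⟩ := (Nat.dvd_prime_pow Nat.prime_two).1
      (hk ▸ hF ▸ dvd_pow_self q two_ne_zero : q ∣ 2 ^ (k : ℕ))
    refine Or.inr (Or.inr ⟨F, inferInstance, inferInstance, n, ?_, hF, ⟨e.symm.trans f⟩⟩)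
    exact (Nat.pow_le_pow_iff_right (by norm_num : 1 < 2)).1 hq4

end Cfsg.Agent.S0349
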