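import Cfsg.Statements.S0447
import Cfsg.Agent.H19.PermSmall
import Cfsg.Agent.H74.Spin
import Cfsg.Agent.H67.Conj
import Cfsg.Agent.H2.Gaschutz

set_option autoImplicit false
open Cfsg

namespace Cfsg.Agent.S0447

theorem zpow_mul_left {H : Type*} [Group H] {a b : H} (ha : a * a = 1) (hb : b * b = 1) (i : ℤ) :
    (a * b) ^ i * a = a * (a * b) ^ (-i) := by
  have hai : a⁻¹ = a := inv_eq_of_mul_eq_one_right ha
  have hbi : b⁻¹ = b := inv_eq_of_mul_eq_one_right hb
  have h1 : a * (a * b) * a⁻¹ = (a * b)⁻¹ := by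
    rw [← mul_assoc, ha, one_mul, mul_inv_rev, hbi]
  have : a * (a * b) ^ (-i) * a⁻¹ = (a * b) ^ i := by
    rw [← conj_zpow, h1, inv_zpow', neg_neg]
  rw [← this, hai, mul_assoc, ha, mul_one]

open Subgroup in
theorem mem_closure_pair {H : Type*} [Group H] {a b : H} (ha : a * a = 1) (hb : b * b = 1)
    {x : H} (hx : x ∈ closure ({a, b} : Set H)) :
    ∃ i : ℤ, x = (a * b) ^ i ∨ x = a * (a * b) ^ i := by
  have hai : a⁻¹ = a := inv_eq_of_mul_eq_one_right ha
  have hbi : b⁻¹ = b := inv_eq_of_mul_eq_one_right hb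
  have h2 := zpow_mul_left ha hb
  have h3 : ∀ i : ℤ, (a * b) ^ i * b = a * (a * b) ^ (-i + 1) := by
    intro i
    rw [zpow_add_one, ← mul_assoc, ← h2, mul_assoc, ← mul_assoc a a, ha, one_mul]
  have h4 : ∀ i : ℤ, a * (a * b) ^ i * a = (a * b) ^ (-i) := by
    intro i
    rw [mul_assoc, h2, ← mul_assoc, ha, one_mul]
  have h5 : ∀ i : ℤ, a * (a * b) ^ i * b = (a * b) ^ (-i + 1) := by
    intro i
    rw [mul_assoc, h3, ← mul_assoc, ha, one_mul]
  have step : ∀ x y : H, y ∈ ({a, b} : Set H) → (∃ i : ℤ, x = (a * b) ^ i ∨ x = a * (a * b) ^ i) →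
      ∃ i : ℤ, x * y = (a * b) ^ i ∨ x * y = a * (a * b) ^ i := by
    rintro x y hy ⟨i, hx | hx⟩ <;> rcases hy with hy | hy
    · exact ⟨-i, Or.inr (by rw [hx, hy, h2])⟩
    · exact ⟨-i + 1, Or.inr (by rw [hx, hy, h3])⟩
    · exact ⟨-i, Or.inl (by rw [hx, hy, h4])⟩
    · exact ⟨-i + 1, Or.inl (by rw [hx, hy, h5])⟩
  induction hx using closure_induction_right with
  | one => exact ⟨0, Or.inl (by simp)⟩
  | mul_right x _ y hy ih => exact step x y hy ih
  | mul_inv_cancel x _ y hy ih =>
    have : y⁻¹ = y := by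
      rcases hy with hy | hy
      · rw [hy, hai]
      · rw [hy, hbi]
    rw [this]; exact step x y hy ih

open Subgroup in
theorem split {H K : Type*} [Group H] [Finite H] [Group K] (π : H →* K) (hπ : Function.Surjective π)
    (hk : π.ker = center H) (hZ : Nat.card (center H) = 2)
    (hl : ∀ x : H, π x * π x = 1 → π x ≠ 1 → x * x = 1) {s t : K} (hs : s * s = 1) (ht : t * t = 1)
    (hs1 : s ≠ 1) (ht1 : t ≠ 1) {j : ℕ} (h1 : (s * t) ^ 2 ^ j ≠ 1) (h2 : (s * t) ^ 2 ^ (j + 1) = 1)
    (h3 : ∀ i < 2 ^ (j + 1), (s * t) ^ i ≠ s) (hK : ¬ 2 ^ (j + 3) ∣ Nat.card K) :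
    ∃ L : Subgroup H, (center H).IsComplement' L := by
  haveI : Fact (Nat.Prime 2) := ⟨Nat.prime_two⟩
  obtain ⟨a, rfl⟩ := hπ s
  obtain ⟨b, rfl⟩ := hπ t
  have ha := hl a hs hs1
  have hb := hl b ht ht1
  have ho : orderOf (π a * π b) = 2 ^ (j + 1) := orderOf_eq_prime_pow h1 h2
  have hab : (a * b) ^ 2 ^ (j + 1) = 1 := by
    have := hl ((a * b) ^ 2 ^ j) (by
      rw [map_pow, map_mul, ← pow_add, ← two_mul, ← pow_succ', h2]) (by rwa [map_pow, map_mul])
    rwa [← pow_add, ← two_mul, ← pow_succ'] at this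
  have hns : π a ∉ zpowers (π a * π b) := by
    classical
    haveI : Finite K := Finite.of_surjective π hπ
    intro h
    obtain ⟨i, hi, he⟩ := (mem_zpowers_iff_mem_range_orderOf.1 h |> Finset.mem_image.1)
    exact h3 i (by rw [← ho]; simpa using hi) he
  have hA : closure ({a, b} : Set H) ⊓ center H = ⊥ := by
    rw [eq_bot_iff]
    intro x hx
    obtain ⟨hx, hxc⟩ := mem_inf.1 hx
    rw [← hk, MonoidHom.mem_ker] at hxc
    obtain ⟨i, rfl | rfl⟩ := mem_closure_pair ha hb hx
    · rw [map_zpow, map_mul, ← orderOf_dvd_iff_zpow_eq_one, ho] at hxc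
      obtain ⟨m, rfl⟩ := hxc
      rw [mem_bot, zpow_mul, zpow_natCast, hab, one_zpow]
    · exfalso
      rw [map_mul, map_zpow, map_mul, mul_eq_one_iff_eq_inv] at hxc
      exact hns (by
        have := inv_mem (zpow_mem_zpowers (π a * π b) i)
        rwa [← hxc] at this)
  refine H2.gaschutz_exists (center H) (center H ⊔ closure {a, b}) le_sup_left ?_ _ le_sup_right hA rfl
  rw [hZ, Nat.prime_two.coprime_iff_not_dvd]
  intro hd
  have hp : IsPGroup 2 (closure ({a, b} : Set H)) := by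
    intro x
    obtain ⟨i, hi | hi⟩ := mem_closure_pair ha hb x.2
    · refine ⟨j + 1, Subtype.ext ?_⟩
      rw [SubgroupClass.coe_pow, hi, ← zpow_natCast, ← zpow_mul, mul_comm, zpow_mul, zpow_natCast,
        hab, one_zpow]; rfl
    · refine ⟨1, Subtype.ext ?_⟩
      rw [SubgroupClass.coe_pow, hi, pow_one, pow_two, mul_assoc, ← mul_assoc _ a,
        zpow_mul_left ha hb, ← mul_assoc, ← mul_assoc, ha, one_mul, ← zpow_add]
      simp
  obtain ⟨k, hk'⟩ := hp.exists_card_eq
  have hlt : zpowers (a * b) < closure ({a, b} : Set H) := by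
    refine lt_of_le_of_ne (zpowers_le.2 (mul_mem (subset_closure (by simp)) (subset_closure (by simp))))
      fun h => hns ?_
    have : a ∈ zpowers (a * b) := by rw [h]; exact subset_closure (by simp)
    obtain ⟨i, hi⟩ := mem_zpowers_iff.1 this
    exact ⟨i, by simp only [← map_mul, ← map_zpow, hi]⟩
  have h4 : 2 ^ (j + 1) < 2 ^ k := by
    have h5 := H67.card_lt_of_lt hlt
    rw [hk', Nat.card_zpowers] at h5
    refine lt_of_le_of_lt (Nat.le_of_dvd (orderOf_pos _) ?_) h5
    rw [← ho, ← map_mul]; exact orderOf_map_dvd π _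
  have h5 : 2 ^ (j + 2) ∣ Nat.card (closure ({a, b} : Set H)) := by
    rw [hk']; exact pow_dvd_pow 2 ((Nat.pow_lt_pow_iff_right (by norm_num)).1 h4)
  have h6 := H67.card_sup_of_inf_eq_bot (H := center H) (K := closure ({a, b} : Set H))
    (Or.inr (by rw [normalizer_eq_top]; exact le_top)) (by rw [inf_comm]; exact hA)
  have h7 := (center H ⊔ closure ({a, b} : Set H)).card_mul_index
  have h8 := π.ker.card_mul_index
  rw [index_ker, MonoidHom.range_eq_top.2 hπ, card_top, hk, hZ] at h8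
  rw [h6, hZ, ← h8, mul_assoc] at h7
  refine hK ?_
  rw [← Nat.eq_of_mul_eq_mul_left (by norm_num) h7, pow_succ]
  exact mul_dvd_mul h5 hd

theorem card_alt (n : ℕ) (hn : 2 ≤ n) : 2 * Nat.card (alternatingGroup (Fin n)) = n.factorial := by
  haveI : Nontrivial (Fin n) := Fin.nontrivial_iff_two_le.2 hn
  rw [two_mul_nat_card_alternatingGroup, Nat.card_perm, Nat.card_eq_fintype_card, Fintype.card_fin]

open Equiv in
theorem part1 (n : ℕ) (H : Type) [Group H] [Finite H] (hn : n ≤ 7)
    (h : Cfsg.IsNonsplitDoubleCover H (alternatingGroup (Fin n))) (x : H) (hx : orderOf x = 2) :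
    x ∈ Subgroup.center H := by
  obtain ⟨hZ, ⟨e⟩, hns⟩ := h
  let π : H →* alternatingGroup (Fin n) := e.toMonoidHom.comp (QuotientGroup.mk' _)
  have hπ : Function.Surjective π := e.surjective.comp (QuotientGroup.mk'_surjective _)
  have hk : π.ker = Subgroup.center H := by
    ext y
    rw [MonoidHom.mem_ker]
    change e _ = 1 ↔ _
    rw [map_eq_one_iff e e.injective]
    exact QuotientGroup.eq_one_iff y
  by_contra hxc
  rw [← hk, MonoidHom.mem_ker] at hxc
  have hx2 : x ^ 2 = 1 := by rw [← hx]; exact pow_orderOf_eq_one x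
  have hπx : π x ^ 2 = 1 := by rw [← map_pow, hx2, map_one]
  have hl : ∀ y : H, π y * π y = 1 → π y ≠ 1 → y * y = 1 := by
    intro y hy hy1
    obtain ⟨g, hg⟩ := H19.alt_conj_invol (by simpa using hn) hπx hxc (by rw [pow_two, hy]) hy1
    obtain ⟨g, rfl⟩ := hπ g
    have h1 : (g * x * g⁻¹)⁻¹ * y ∈ Subgroup.center H := by
      rw [← hk, MonoidHom.mem_ker, map_mul, map_inv, map_mul, map_mul, map_inv, hg, inv_mul_cancel]
    have h2 : ((g * x * g⁻¹)⁻¹ * y) ^ 2 = 1 := by
      have := pow_card_eq_one' (x := (⟨_, h1⟩ : Subgroup.center H))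
      rw [hZ] at this
      exact congrArg Subtype.val this
    have h3 := Subgroup.mem_center_iff.1 h1 (g * x * g⁻¹)
    have h4 : (g * x * g⁻¹) ^ 2 = 1 := by rw [conj_pow, hx2]; simp
    have h5 : y = (g * x * g⁻¹) * ((g * x * g⁻¹)⁻¹ * y) := by group
    rw [← pow_two, h5, (show Commute _ _ from h3).mul_pow, h2, h4, one_mul]
  have h4 : 4 ≤ n := by
    have h1 : ((π x : alternatingGroup (Fin n)) : Perm (Fin n)) ^ 2 = 1 := by
      exact_mod_cast congrArg Subtype.val hπx
    have h2 := H19.support_even_invol (by simpa using hn) h1 (fun h => hxc (Subtype.ext h)) (π x).2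
    have h3 := Finset.card_le_univ ((π x : alternatingGroup (Fin n)) : Perm (Fin n)).support
    rw [h2] at h3
    simpa using h3
  have hc := card_alt n (by omega)
  have fin : ∀ (s t : Perm (Fin n)) (j : ℕ), Perm.sign s = 1 → Perm.sign t = 1 → s * s = 1 →
      t * t = 1 → s ≠ 1 → t ≠ 1 → (s * t) ^ 2 ^ j ≠ 1 → (s * t) ^ 2 ^ (j + 1) = 1 →
      (∀ i < 2 ^ (j + 1), (s * t) ^ i ≠ s) → ¬ 2 ^ (j + 3) ∣ Nat.card (alternatingGroup (Fin n)) →
      False := by
    intro s t j hs ht a1 a2 a3 a4 a5 a6 a7 a8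
    obtain ⟨L, hL⟩ := split π hπ hk hZ hl (s := ⟨s, hs⟩) (t := ⟨t, ht⟩) (j := j) (Subtype.ext a1)
      (Subtype.ext a2) (fun h => a3 (congrArg Subtype.val h)) (fun h => a4 (congrArg Subtype.val h))
      (fun h => a5 (congrArg Subtype.val h)) (Subtype.ext a6)
      (fun i hi h => a7 i hi (congrArg Subtype.val h)) a8
    exact hns L hL
  interval_cases n
  · exact fin (swap 0 1 * swap 2 3) (swap 0 2 * swap 1 3) 0 (by decide) (by decide) (by decide)
      (by decide) (by decide) (by decide) (by decide) (by decide) (by decide)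
      (by simp only [Nat.factorial] at hc; omega)
  · exact fin (swap 0 1 * swap 2 3) (swap 0 2 * swap 1 3) 0 (by decide) (by decide) (by decide)
      (by decide) (by decide) (by decide) (by decide) (by decide) (by decide)
      (by simp only [Nat.factorial] at hc; omega)
  · exact fin (swap 0 1 * swap 2 3) (swap 0 2 * swap 4 5) 1 (by decide) (by decide) (by decide)
      (by decide) (by decide) (by decide) (by decide) (by decide) (by decide)
      (by simp only [Nat.factorial] at hc; omega)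
  · exact fin (swap 0 1 * swap 2 3) (swap 0 2 * swap 4 5) 1 (by decide) (by decide) (by decide)
      (by decide) (by decide) (by decide) (by decide) (by decide) (by decide)
      (by simp only [Nat.factorial] at hc; omega)


/-- Involutions in double covers of alternating groups: for n ≤ 7, a finite non-split double cover of the alternating group of degree n has exactly one element of order 2 (the central one); for degree 8 there is a non-split double cover with two distinct involutions. -/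
theorem result : (∀ (n : ℕ) (H : Type) (_ : Group H) (_ : Finite H), n ≤ 7 → Cfsg.IsNonsplitDoubleCover H (alternatingGroup (Fin n)) → ∀ x y : H, orderOf x = 2 → orderOf y = 2 → x = y) ∧ ∃ (H : Type) (_ : Group H) (_ : Finite H), Cfsg.IsNonsplitDoubleCover H (alternatingGroup (Fin 8)) ∧ ∃ x y : H, x ≠ y ∧ orderOf x = 2 ∧ orderOf y = 2 := by
  refine ⟨fun n H _ _ hn h x y hx hy => ?_, ?_⟩
  · obtain ⟨b, -, hb⟩ := (Nat.card_eq_two_iff' (1 : Subgroup.center H)).1 h.1
    have e1 := hb ⟨x, part1 n H hn h x hx⟩ fun h1 => by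
      rw [show x = 1 from congrArg Subtype.val h1] at hx; simp at hx
    have e2 := hb ⟨y, part1 n H hn h y hy⟩ fun h1 => by
      rw [show y = 1 from congrArg Subtype.val h1] at hy; simp at hy
    exact congrArg Subtype.val (e1.trans e2.symm)
  obtain ⟨W, _, ξ, z, hd, h4, h0⟩ := H74.exists_spin_of_hom (alternatingGroup (Fin 8)).subtype
  have hsurj : Function.Surjective ξ := hd.ext.1
  have hker : ξ.ker = Subgroup.center W := by
    refine le_antisymm hd.ext.2 fun w hw => ?_
    have h1 : ξ w ∈ Subgroup.center (alternatingGroup (Fin 8)) := by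
      rw [Subgroup.mem_center_iff]
      intro g
      obtain ⟨g, rfl⟩ := hsurj g
      rw [← map_mul, ← map_mul, Subgroup.mem_center_iff.1 hw g]
    rwa [alternatingGroup.center_eq_bot (by simp), Subgroup.mem_bot] at h1
  have hzk : z ∈ ξ.ker := (hd.ker z).2 (Or.inr rfl)
  have hcard : Nat.card ξ.ker = 2 := by
    rw [Nat.card_eq_two_iff' (1 : ξ.ker)]
    refine ⟨⟨z, hzk⟩, fun h => hd.ne (congrArg Subtype.val h), fun y hy => Subtype.ext ?_⟩
    exact ((hd.ker y).1 y.2).resolve_left fun h => hy (Subtype.ext h)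
  haveI : Finite ξ.ker := Nat.finite_of_card_ne_zero (by rw [hcard]; norm_num)
  haveI : Finite W := ξ.finite_iff_finite_ker_range.2 ⟨inferInstance, inferInstance⟩
  refine ⟨W, inferInstance, inferInstance, ⟨by rw [← hker, hcard], ⟨?_⟩, fun L hL => ?_⟩, ?_⟩
  · exact (QuotientGroup.quotientMulEquivOfEq hker.symm).trans
      (QuotientGroup.quotientKerEquivOfSurjective ξ hsurj)
  · let t : alternatingGroup (Fin 8) := ⟨Equiv.swap 0 1 * Equiv.swap 2 3, by
      rw [Equiv.Perm.mem_alternatingGroup]; decide⟩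
    obtain ⟨w, hw⟩ := hsurj t
    obtain ⟨⟨c, l⟩, hcl, -⟩ := hL.existsUnique w
    have h1 : ξ l = t := by
      have hc : ξ c = 1 := by rw [← MonoidHom.mem_ker, hker]; exact c.2
      rw [← hw, ← hcl, map_mul, hc, one_mul]
    have h2 := h4 t (Subtype.ext (by decide)) (by decide) l h1
    have h3 : z ∈ Subgroup.center W ⊓ L := ⟨by rw [← hker]; exact hzk, by
      rw [← h2]; exact pow_mem l.2 2⟩
    rw [hL.disjoint.eq_bot, Subgroup.mem_bot] at h3
    exact hd.ne h3
  · let t : alternatingGroup (Fin 8) :=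
      ⟨Equiv.swap 0 1 * Equiv.swap 2 3 * (Equiv.swap 4 5 * Equiv.swap 6 7), by
        rw [Equiv.Perm.mem_alternatingGroup]; decide⟩
    obtain ⟨w, hw⟩ := hsurj t
    have h2 := h0 t (Subtype.ext (by decide)) (by decide) w hw
    have ht : t ≠ 1 := fun h => absurd (congrArg Subtype.val h) (by decide)
    haveI : Fact (Nat.Prime 2) := ⟨Nat.prime_two⟩
    refine ⟨z, w, fun h => ht ?_, orderOf_eq_prime (by rw [pow_two, hd.sq]) hd.ne,
      orderOf_eq_prime h2 fun h => ht ?_⟩
    · rw [← hw, ← h]; exact hzk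
    · rw [← hw, h, map_one]

end Cfsg.Agent.S0447
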