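import Cfsg.Statements.S0473
import Cfsg.Agent.H44.F24He
import Cfsg.Agent.H41.Exist

set_option autoImplicit false
open Cfsg

namespace Cfsg.Agent.S0473

open H44 H44.F24 in
theorem exists_fi23 : ∃ K : Subgroup H41.L24.F.grp, K ≤ Subgroup.centralizer {H41.L24.F.t (H41.pn 306936 11)} ∧
    K ≤ commutator H41.L24.F.grp ∧ Cfsg.IsFi23 K := by
  obtain ⟨f, hf⟩ := rep1 Fi24.sat
  have h1 : ∀ x, 1 ≤ x ∧ x ≤ 10 → (iso.toMonoidHom.comp f) (Fi23.gm x) =
      iso (ev (wt Fi24.gm WX) [x, 12]) := fun x hx => by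
    obtain ⟨h2, h3⟩ := (by decide : ∀ x ∈ List.range' 1 10, x ∈ B1 ∧ nth [] V1 x = [x]) x
      (PD.mem_range_of_inR hx)
    have h4 := hf.val x h2
    rw [show wt Fi23.gm V1 x = Fi23.gm x by rw [wt, h3, ev_single]] at h4
    rw [ev_cons, ev_single, h4, wt_let (x := 12) (by decide), mul_assoc, hf.cc, mul_one]
    rfl
  have h2 : ∀ x, 1 ≤ x ∧ x ≤ 10 → ((iso (ev (wt Fi24.gm WX) [x, 12]) : H41.L24.F.grp) : Equiv.Perm (Fin 306936)) =
      H41.wp H41.N24.π [x - 1, 11] := fun x hx => by
    rw [iso_coe, map_evμ (by simp [lettersIn]; omega)]; rfl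
  have hs := Fi23M.simple
  have hi : Function.Injective (iso.toMonoidHom.comp f) := by
    refine injective_of_simple (y := Fi23.gm 1) fun h => ?_
    have h3 := congrArg Subtype.val h
    rw [h1 1 (by decide), h2 1 (by decide)] at h3
    exact H41.N24.act.apply_ne (w := [0, 11]) (p := 31672) (q := 31672) (by decide +kernel)
      (by rw [show H41.wp H41.N24.π [0, 11] = 1 from h3]; rfl)
  refine ⟨(iso.toMonoidHom.comp f).range, ?_, ?_,
    simple_card_of_equiv (MonoidHom.ofInjective hi) ⟨hs, Fi23M.card⟩⟩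
  · rintro _ ⟨y, rfl⟩
    have h3 : H41.L24.F.t (H41.pn 306936 11) = iso (Fi24.gm 12) :=
      Subtype.ext (H41.L24.T_l.trans (map_gm 12 (by decide)).symm)
    rw [Subgroup.mem_centralizer_singleton_iff, h3]
    exact ((hf.comm y).map iso).eq
  · rw [range_eq_gen Fi23.top h1, gen_le]
    intro x h3 h4
    have h5 : [x - 1, 11].all (· < 14) = true := by simp; omega
    have := wp_mem_commutator h5 (by simp)
    rwa [show (⟨_, wp_mem_grp h5⟩ : H41.L24.F.grp) = iso (ev (wt Fi24.gm WX) [x, 12]) from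
      Subtype.ext (h2 x ⟨h3, h4⟩).symm] at this

/-- The largest Fischer 3-transposition group: a group of order 2 · 1255205709190661721292800 generated by a conjugacy class of 306936 3-transpositions, in which a transposition centraliser has order 2 · 4089470473293004800 and contains a simple subgroup of order 4089470473293004800; its subgroup of index 2 is simple and contains simple subgroups of orders 4089470473293004800 and 4030387200. -/
theorem result : ∃ (G : Type) (_ : Group G) (_ : Finite G), Nat.card G = 2 * 1255205709190661721292800 ∧ ∃ D : Set G, Cfsg.IsThreeTranspositionClass D ∧ Nat.card D = 306936 ∧ (∀ d ∈ D, Nat.card (Subgroup.centralizer ({d} : Set G)) = 2 * 4089470473293004800 ∧ ∃ K : Subgroup G, K ≤ Subgroup.centralizer ({d} : Set G) ∧ Cfsg.IsFi23 K) ∧ ∃ H : Subgroup G, H.index = 2 ∧ Cfsg.IsFi24' H ∧ (∃ K : Subgroup H, Cfsg.IsFi23 K) ∧ (∃ K : Subgroup H, Cfsg.IsHe K) := by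
  let e := MulEquiv.refl H41.L24.F.grp
  have hc : Nat.card (Set.range fun p => e (H41.L24.F.t p)) = 306936 := by
    rw [Nat.card_range_of_injective (H41.FS.tau_injective e)]
    simp
  obtain ⟨K, hK1, hK2, hK3⟩ := exists_fi23
  obtain ⟨f, hf1, hf2⟩ := H44.F24.exists_he
  refine ⟨H41.L24.F.grp, inferInstance, inferInstance, H41.L24.card_grp, _, H41.L24.r3.isClass e, hc, ?_,
    commutator _, H41.index24, ⟨H41.simple24, H41.card_commutator24⟩, H44.exists_sub_of_le hK2 hK3,
    H44.exists_sub_of_le hf2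
      (H44.simple_card_of_equiv (MonoidHom.ofInjective hf1) ⟨H44.HeM.simple, H44.HeM.card⟩)⟩
  rintro _ ⟨p, rfl⟩
  constructor
  · have h1 : (Set.range fun p => e (H41.L24.F.t p)) = conjugatesOf (e (H41.L24.F.t p)) := by
      ext y
      constructor
      · rintro ⟨q, rfl⟩
        exact H41.L24.r3.isConj p q
      · intro hy
        obtain ⟨c, rfl⟩ := isConj_iff.1 hy
        exact ⟨_, H41.FS.t_conj (g := c) p⟩
    have h2 := (Subgroup.centralizer {e (H41.L24.F.t p)}).index_mul_card
    rw [← H44.card_conjugatesOf, ← h1, hc, H41.L24.card_grp] at h2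
    generalize Nat.card (Subgroup.centralizer {e (H41.L24.F.t p)}) = n at h2 ⊢
    omega
  · obtain ⟨c, hc⟩ := isConj_iff.1 (H41.L24.r3.isConj (H41.pn 306936 11) p)
    refine ⟨K.map (MulAut.conj c).toMonoidHom, ?_,
      H44.simple_card_of_equiv ((MulAut.conj c).subgroupMap K) hK3⟩
    change _ ≤ Subgroup.centralizer {H41.L24.F.t p}
    rw [← hc, H44.centralizer_conj]
    exact Subgroup.map_mono hK1

end Cfsg.Agent.S0473
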