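import Cfsg.Statements.S0655
import Cfsg.Agent.H51.Thompson

set_option autoImplicit false
open Cfsg

namespace Cfsg.Agent.S0655

/-- In a p-group the intersection of all elementary abelian subgroups of largest order is the subgroup generated by the elements of order dividing p in the centre (equivalently the centralizer) of the elementary-version Thompson subgroup. -/
theorem result {S : Type*} [Group S] [Finite S] {p : ℕ} [Fact p.Prime] (hS : IsPGroup p S) : sInf (Cfsg.maxElementaryAbelianSubgroups p S) = Cfsg.omegaCenterThompson p S ∧ Cfsg.omegaCenterThompson p S = Cfsg.omegaOne p (Subgroup.centralizer (Cfsg.thompsonSubgroup p S : Set S)) := by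
  have h1 : sInf (Cfsg.maxElementaryAbelianSubgroups p S) = Cfsg.omegaCenterThompson p S := by
    rw [← H51.maxEA_top, H51.sInf_maxEA_eq_omegaOne, Cfsg.centerThompsonOf,
      H51.thompsonSubgroupOf_top, Cfsg.omegaCenterThompson]
  refine ⟨h1, le_antisymm (H51.omegaOne_mono inf_le_right) ?_⟩
  rw [← h1, H51.omegaOne_le_iff, ← H51.maxEA_top]
  intro x hx he
  exact H51.mem_sInf_maxEA.mpr ⟨trivial, he, by rwa [H51.thompsonSubgroupOf_top]⟩

end Cfsg.Agent.S0655
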