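import Cfsg.Statements.S0692
import Cfsg.Agent.H61.RegMat

set_option autoImplicit false
open Cfsg

namespace Cfsg.Agent.S0692

def tab : ℕ := 0x724a1810480042c51ca0851c21890080840851031012422801031ca0c92c62030ca2411480461450090822c20c728114510108730224a10818228b0c21461490c32c31090c62470081c120800400620320c10718024b1013041030421010cc10524828a1891c62881452811c52061852070803090c61811c608708424524814a2822052401060c70c530a1061862450481421491cb1c608a2052893071c91ca20008b1c42880c600518300a0c11c400b2052481cb2081c518c20910904c1c328908324428428504a24920b2490c60062851ca1852012850c820208810718718a0831c810724700324914824628610a00720a28508100100100120418704420a0c610910708a04824a1c61c50c0280000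

def ent (x y : ZMod 11) : ℕ := (tab >>> (18 * (x.val * 11 + y.val))) % 262144

def T (x y : ZMod 11) : ZMod 11 × ZMod 11 := ((ent x y % 64 : ℕ), (ent x y / 64 % 64 : ℕ))

def D (x y : ZMod 11) : ℕ := ent x y / 4096

theorem hA' : ∀ x y : ZMod 11, (x ≠ 0 ∨ y ≠ 0) →
    T (0 * x + -1 * y) (1 * x + 0 * y) =
      (0 * (T x y).1 + -1 * (T x y).2, 1 * (T x y).1 + 0 * (T x y).2) := by
  decide +kernel

theorem hB' : ∀ x y : ZMod 11, (x ≠ 0 ∨ y ≠ 0) →
    T (2 * x + 4 * y) (1 * x + -3 * y) =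
      (2 * (T x y).1 + 4 * (T x y).2, 1 * (T x y).1 + -3 * (T x y).2) := by
  decide +kernel

theorem hD' : ∀ x y : ZMod 11, (x ≠ 0 ∨ y ≠ 0) → (x = 1 ∧ y = 0) ∨
      D (0 * x + -1 * y) (1 * x + 0 * y) < D x y ∨
      D (2 * x + 4 * y) (1 * x + -3 * y) < D x y := by
  decide +kernel

theorem hT' : T 1 0 = (0, 1) := by decide +kernel

/-- An exceptional sharply doubly transitive group of degree 11^2: the listed matrices generate a subgroup of GL(2,11) of order 120 acting regularly on the non-zero vectors. -/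
theorem result (A : Matrix.GeneralLinearGroup (Fin 2) (ZMod 11)) (B : Matrix.GeneralLinearGroup (Fin 2) (ZMod 11)) (hA : (A : Matrix (Fin 2) (Fin 2) (ZMod 11)) = !![0, -1; 1, 0]) (hB : (B : Matrix (Fin 2) (Fin 2) (ZMod 11)) = !![2, 4; 1, -3]) : Nat.card (Subgroup.closure ({A, B} : Set (Matrix.GeneralLinearGroup (Fin 2) (ZMod 11)))) = 120 ∧ ∀ v w : Fin 2 → ZMod 11, v ≠ 0 → w ≠ 0 → ∃! h : Subgroup.closure ({A, B} : Set (Matrix.GeneralLinearGroup (Fin 2) (ZMod 11))), Matrix.mulVec ((h : Matrix.GeneralLinearGroup (Fin 2) (ZMod 11)) : Matrix (Fin 2) (Fin 2) (ZMod 11)) v = w := by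
  have : Fact (Nat.Prime 11) := ⟨by norm_num⟩
  have eA : A 0 0 = 0 ∧ A 0 1 = -1 ∧ A 1 0 = 1 ∧ A 1 1 = 0 :=
    ⟨congrFun (congrFun hA 0) 0, congrFun (congrFun hA 0) 1, congrFun (congrFun hA 1) 0,
      congrFun (congrFun hA 1) 1⟩
  have eB : B 0 0 = 2 ∧ B 0 1 = 4 ∧ B 1 0 = 1 ∧ B 1 1 = -3 :=
    ⟨congrFun (congrFun hB 0) 0, congrFun (congrFun hB 0) 1, congrFun (congrFun hB 1) 0,
      congrFun (congrFun hB 1) 1⟩
  have := H61.regular_of_table (F := ZMod 11) {A, B} T D hT' (by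
    intro g hg
    rcases hg with rfl | rfl
    · rw [eA.1, eA.2.1, eA.2.2.1, eA.2.2.2]
      exact hA'
    · rw [eB.1, eB.2.1, eB.2.2.1, eB.2.2.2]
      exact hB') (by
    intro x y hxy
    rcases hD' x y hxy with h | h | h
    · exact Or.inl h
    · refine Or.inr ⟨A, by simp, ?_⟩
      rw [eA.1, eA.2.1, eA.2.2.1, eA.2.2.2]
      exact h
    · refine Or.inr ⟨B, by simp, ?_⟩
      rw [eB.1, eB.2.1, eB.2.2.1, eB.2.2.2]
      exact h)
  rw [ZMod.card] at this
  exact this

end Cfsg.Agent.S0692
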