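import Cfsg.Statements.S0999
import Cfsg.Agent.H58.BrRed

set_option autoImplicit false
open Cfsg

namespace Cfsg.Agent.S0999

/-- Let G be a non-cyclic finite simple group and p a prime divisor of its order with p^3 > |G|. Then p > 3 and G is isomorphic to the projective special linear group of dimension 2 over the field with p elements, or p - 1 is a power of 2 and G is isomorphic to that group over the field with p - 1 elements. -/
theorem result {G : Type*} [Group G] [Finite G] [IsSimpleGroup G] (hG : ¬ IsCyclic G) (p : ℕ) (hp : p.Prime) (hdvd : p ∣ Nat.card G) (hbig : Nat.card G < p ^ 3) : (∃ (F : Type) (_ : Field F) (_ : Fintype F), Fintype.card F = p ∧ 3 < p ∧ Nonempty (G ≃* Matrix.ProjectiveSpecialLinearGroup (Fin 2) F)) ∨ (∃ (m : ℕ) (F : Type) (_ : Field F) (_ : Fintype F), Fintype.card F = 2 ^ m ∧ p = 2 ^ m + 1 ∧ 3 < p ∧ Nonempty (G ≃* Matrix.ProjectiveSpecialLinearGroup (Fin 2) F)) := by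
  have : Fact p.Prime := ⟨hp⟩
  have hc : ¬ IsMulCommutative G := fun h => hG (by
    have : Fact (Nat.card G).Prime := ⟨Group.is_simple_iff_prime_card.1 inferInstance⟩
    exact isCyclic_of_prime_card rfl)
  obtain ⟨P⟩ : Nonempty (Sylow p G) := inferInstance
  have hP' := H58.card_sylow_of_card_lt hdvd hbig P fun h =>
    H58.normalizer_pgroup_ne_top hc P.isPGroup' (P.ne_bot_of_dvd_card hdvd)
      (Subgroup.normalizer_eq_top_iff.2 h)
  obtain ⟨n, hn⟩ := H58.exists_card_sylow_eq p G
  have hF := H58.not_formF_of_card_lt (H58.commutator_eq_top hc) hbig P hP' hn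
  obtain ⟨h3, ⟨-, -, h⟩ | ⟨m, hm, -, K, _, _, hK, _, h⟩⟩ := H58.brauer_simple hc P hP' hn hF
  · exact Or.inl ⟨ZMod p, inferInstance, inferInstance, ZMod.card p, h3, h⟩
  · exact Or.inr ⟨m, K, inferInstance, inferInstance, hK, hm, h3, h⟩

end Cfsg.Agent.S0999
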