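import Cfsg.Statements.S4304
import Cfsg.Agent.H89.SylowSmall

set_option autoImplicit false
open Cfsg

namespace Cfsg.Agent.S4304

/-- No finite group has exactly 15 Sylow 7-subgroups. -/
theorem result {G : Type*} [Group G] [Finite G] : Nat.card (Sylow 7 G) ≠ 15 := by
  intro h
  have hp : Fact (Nat.Prime 7) := ⟨by norm_num⟩
  obtain ⟨S, _, _, hS, hc, hd, hn⟩ := H89.exists_simple_of_card_sylow 7 h (by norm_num)
    (by decide +kernel) (fun m hm h1 => by
      have := Nat.le_of_dvd (by norm_num) hm
      interval_cases m <;> simp_all)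
  obtain ⟨P⟩ : Nonempty (Sylow 7 S) := inferInstance
  have hP := S4343.result hc 7 hd (by rw [hn]; norm_num) P
  obtain ⟨e, h1, h2, h3, h4⟩ := H89.two_mul_add_one hc (by norm_num) P hP hn
  have he : e = 3 := by
    have := Nat.le_of_dvd (by norm_num) h1
    interval_cases e <;> simp_all
  subst he
  have hq : Fact (Nat.Prime 5) := ⟨by norm_num⟩
  obtain ⟨Q⟩ : Nonempty (Sylow 5 S) := inferInstance
  have h5 : Nat.card S = 5 ^ 1 * 63 := by rw [h4]; norm_num
  have hQ := H58.card_sylow_of_eq Q h5 (by norm_num)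
  obtain ⟨f, h6, h7, h8⟩ := H89.exists_automizer hc Q hQ
  have h9 : f ∣ Nat.card S := by
    rw [← H58.card_normalizer_mul_card_sylow Q, h8]
    exact (dvd_mul_left _ _).mul_right _
  rw [h4] at h9
  have := Nat.le_of_dvd (by norm_num) h6
  interval_cases f <;> simp_all

end Cfsg.Agent.S4304
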