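import Cfsg.Statements.S1010
import Cfsg.Agent.H89.SylowCount
import Cfsg.Agent.S4304
import Cfsg.Agent.S4343

set_option autoImplicit false
open Cfsg

namespace Cfsg.Agent.S1010

open Subgroup MulAction H89

instance instFactFive : Fact (Nat.Prime 5) := ⟨by norm_num⟩
instance instFactSeven : Fact (Nat.Prime 7) := ⟨by norm_num⟩

theorem num1 {d : ℕ} (h1 : d ∣ 60) (h2 : ¬ 2 ∣ d) (h4 : ¬ 5 ∣ d) : d ∣ 3 := by
  have := Nat.le_of_dvd (by norm_num) h1
  interval_cases d <;> simp_all

theorem num2 {n : ℕ} (h4 : n ∣ 240) (h3 : 5 ∣ n) (hn7 : n ≡ 1 [MOD 7]) (hn15 : n ≠ 15) :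
    n = 120 := by
  have := Nat.le_of_dvd (by norm_num) h4
  obtain ⟨k, rfl⟩ := h3
  have hk : k ≤ 48 := by omega
  rw [Nat.ModEq] at hn7
  interval_cases k <;> simp_all

theorem num3 {c e : ℕ} (hc1 : c ∣ 4) (he1 : e ∣ 5 - 1) (hm : c * e = 16) : c = 4 ∧ e = 4 := by
  have h1 := Nat.le_of_dvd (by norm_num) hc1
  have h2 := Nat.le_of_dvd (by norm_num) he1
  constructor <;> nlinarith

theorem exists_subgroup_le_card {G : Type*} [Group G] [Finite G] {C : Subgroup G} {p k : ℕ}
    (hp : p.Prime) (h : p ^ k ∣ Nat.card C) : ∃ T : Subgroup G, T ≤ C ∧ Nat.card T = p ^ k := by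
  have := Fact.mk hp
  obtain ⟨T, hT⟩ := Sylow.exists_subgroup_card_pow_prime p h
  exact ⟨T.map C.subtype, map_subtype_le _, by rw [H3.card_map_subtype, hT]⟩

section

variable {G : Type*} [Group G] [Finite G] [IsSimpleGroup G] (hG : ¬ IsMulCommutative G)
  (hn : Nat.card (Sylow 5 G) = 21) (hP : ∀ P : Sylow 5 G, Nat.card P = 5)

include hG hn hP

theorem eq_of_even {P R : Sylow 5 G} {c : G} (hc : c ∈ centralizer (P : Set G))
    (h2 : 2 ∣ orderOf c) (hR : c • R = R) : R = P := by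
  obtain ⟨u, hu, ho⟩ := exists_orderOf_eq_prime_mem_zpowers Nat.prime_two h2
  have hu' : u ∈ centralizer (P : Set G) := zpowers_le.2 hc hu
  obtain ⟨j, hj, h1, -, h3⟩ := prime_centralizer (k := 4) hG P (hP P) hn (by norm_num) hu'
    Nat.prime_two (by norm_num) ho
  have h4 : j = 0 := by
    have := Nat.le_of_dvd (by omega) (h3 rfl)
    omega
  rw [h4, Nat.card_coe_set_eq, zero_mul, add_zero, Set.ncard_eq_one] at h1
  obtain ⟨a, ha⟩ := h1
  have h5 : R ∈ fixedBy (Sylow 5 G) u := (zpowers_le (H := stabilizer G R)).2 hR hu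
  have h6 : P ∈ fixedBy (Sylow 5 G) u :=
    Sylow.smul_eq_iff_mem_normalizer.2 (centralizer_le_normalizer _ hu')
  rw [ha] at h5 h6
  exact h5.trans h6.symm

theorem fix_three {P : Sylow 5 G} {c : G} (hc : c ∈ centralizer (P : Set G)) (h1 : c ≠ 1) {k : ℕ}
    (h3 : c ^ 3 ^ k = 1) : Nat.card (fixedBy (Sylow 5 G) c) = 6 := by
  obtain ⟨j, hj⟩ := card_fixedBy_modEq_one P (hP P) hc
  have h4 := card_fixedBy_lt (exists_smul_sylow_ne (p := 5) (G := G) (by rw [hn]; norm_num)) h1
  have : Fact (Nat.Prime 3) := ⟨Nat.prime_three⟩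
  have h5 := card_fixedBy_modEq_pow (X := Sylow 5 G) h3
  rw [hn] at h4 h5
  rw [Nat.ModEq] at h5
  omega

theorem card_cent_dvd (P : Sylow 5 G) : Nat.card (centralizer (P : Set G)) ∣ 60 := by
  classical
  rw [Nat.dvd_iff_prime_pow_dvd_dvd]
  intro q k hq hd
  rcases Nat.eq_zero_or_pos k with rfl | hk
  · simp
  have h1 : q = 2 ∨ q = 3 ∨ q = 5 := by
    by_cases hq5 : q = 5
    · exact Or.inr (Or.inr hq5)
    obtain ⟨c, hc, ho⟩ := H3.exists_mem_orderOf_eq_prime hq ((dvd_pow_self q hk.ne').trans hd)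
    obtain ⟨j, hj, -, h2, -⟩ := prime_centralizer (k := 4) hG P (hP P) hn (by norm_num) hc
      hq hq5 ho
    have h3 := Nat.le_of_dvd (by omega) h2
    have h4 : q ≤ 4 := by omega
    have h5 := hq.two_le
    interval_cases q
    · exact Or.inl rfl
    · exact Or.inr (Or.inl rfl)
    · exact absurd hq (by norm_num)
  rcases h1 with rfl | rfl | rfl
  · by_cases hk3 : k ≤ 2
    · exact (pow_dvd_pow 2 hk3).trans (by norm_num)
    exfalso
    obtain ⟨T, hT, hc⟩ := exists_subgroup_le_card hq ((pow_dvd_pow 2 (not_le.1 hk3)).trans hd)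
    have h2 := H58.card_modEq_one_of_orbits (H := T) (X := Sylow 5 G) 8 P
      (fun g => Sylow.smul_eq_iff_mem_normalizer.2 (centralizer_le_normalizer _ (hT g.2))) ?_
    · rw [hn] at h2
      exact absurd h2 (by decide)
    · intro R hR
      have h3 : stabilizer T R = ⊥ := by
        rw [eq_bot_iff]
        intro g hg
        by_contra h4
        apply hR
        refine eq_of_even hG hn hP (hT g.2) ?_ hg
        have h5 := orderOf_dvd_natCard g
        rw [hc] at h5
        obtain ⟨i, -, hi⟩ := (Nat.dvd_prime_pow hq).1 h5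
        rw [orderOf_coe, hi]
        refine dvd_pow_self 2 fun h6 => h4 ?_
        rw [h6, pow_zero, orderOf_eq_one_iff] at hi
        exact hi
      rw [h3, index_bot, hc]
      norm_num
  · by_cases hk3 : k ≤ 1
    · exact (pow_dvd_pow 3 hk3).trans (by norm_num)
    exfalso
    obtain ⟨T, hT, hc⟩ := exists_subgroup_le_card hq ((pow_dvd_pow 3 (not_le.1 hk3)).trans hd)
    have := Fintype.ofFinite T
    have := Fintype.ofFinite (Sylow 5 G)
    have h2 := sum_card_fixedBy_eq_card_orbits_mul_card_group T (Sylow 5 G)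
    have h3 : ∀ g ∈ Finset.univ.erase (1 : T), Fintype.card (fixedBy (Sylow 5 G) g) = 6 := by
      intro g hg
      rw [← Nat.card_eq_fintype_card]
      refine fix_three hG hn hP (hT g.2) (fun h => (Finset.mem_erase.1 hg).1 (Subtype.ext h))
        (k := 2) ?_
      have := pow_card_eq_one' (x := g)
      rw [hc] at this
      exact congrArg Subtype.val this
    rw [← Finset.add_sum_erase _ _ (Finset.mem_univ 1), Finset.sum_congr rfl h3,
      Finset.sum_const, Finset.card_erase_of_mem (Finset.mem_univ _), Finset.card_univ,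
      ← Nat.card_eq_fintype_card (α := T), hc, ← Nat.card_eq_fintype_card, fixedBy_one_eq_univ,
      Nat.card_univ, hn] at h2
    norm_num at h2
    omega
  · by_cases hk3 : k ≤ 1
    · exact (pow_dvd_pow 5 hk3).trans (by norm_num)
    exfalso
    obtain ⟨T, hT, hc⟩ := exists_subgroup_le_card hq ((pow_dvd_pow 5 (not_le.1 hk3)).trans hd)
    obtain ⟨R, hR⟩ := (IsPGroup.of_card hc).exists_le_sylow
    have h2 := card_le_of_le hR
    rw [hc] at h2
    have h3 : Nat.card (R : Subgroup G) = 5 := hP R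
    omega

theorem mem_cent_of_three {R : Sylow 5 G} {u : G} (ho : orderOf u = 3) (h : u • R = R) :
    u ∈ centralizer (R : Set G) := by
  have h1 := Sylow.smul_eq_iff_mem_normalizer.1 h
  have h2 : (R : Subgroup G).normalizerMonoidHom ⟨u, h1⟩ = 1 := by
    rw [← orderOf_eq_one_iff]
    have h3 := orderOf_dvd_natCard ((R : Subgroup G).normalizerMonoidHom ⟨u, h1⟩)
    rw [H58.card_mulAut_of_prime_card (hP R)] at h3
    have h4 := orderOf_map_dvd (R : Subgroup G).normalizerMonoidHom ⟨u, h1⟩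
    rw [orderOf_mk, ho] at h4
    exact Nat.eq_one_of_dvd_coprimes (by norm_num) h3 h4
  have h3 : (⟨u, h1⟩ : normalizer ((R : Subgroup G) : Set G)) ∈
      (R : Subgroup G).normalizerMonoidHom.ker := h2
  rw [normalizerMonoidHom_ker, mem_subgroupOf] at h3
  exact h3

theorem ncard_cent_three {P : Sylow 5 G} {u : G} (ho : orderOf u = 3)
    (hu : u ∈ centralizer (P : Set G)) :
    {R : Sylow 5 G | orderOf u = 3 ∧ u ∈ centralizer (R : Set G)}.ncard = 6 := by
  rw [← fix_three hG hn hP hu (k := 1) (by rintro rfl; simp at ho)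
    (by rw [pow_one, ← ho, pow_orderOf_eq_one]), Nat.card_coe_set_eq]
  congr 1
  ext R
  exact ⟨fun h => Sylow.smul_eq_iff_mem_normalizer.2 (centralizer_le_normalizer _ h.2),
    fun h => ⟨ho, mem_cent_of_three hG hn hP ho h⟩⟩

theorem not_three_dvd (P : Sylow 5 G) : ¬ 3 ∣ Nat.card (centralizer (P : Set G)) := by
  intro h3
  obtain ⟨w, hw, hwo⟩ := H3.exists_mem_orderOf_eq_prime Nat.prime_three h3
  have hw1 : w ≠ 1 := by rintro rfl; simp at hwo
  set X := {u : G | ∃ R : Sylow 5 G, orderOf u = 3 ∧ u ∈ centralizer (R : Set G)} with hX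
  have hXc : ∀ u ∈ X, ∀ g : G, g * u * g⁻¹ ∈ X := fun u ⟨R, h⟩ g =>
    ⟨g • R, by rw [H92.orderOf_conj]; exact h.1, conj_mem_centralizer_smul h.2 g⟩
  have hXi : ∀ u ∈ X, u⁻¹ ∈ X := fun u ⟨R, h⟩ => ⟨R, by rw [orderOf_inv]; exact h.1, inv_mem h.2⟩
  have hXn : ∀ u ∈ X, u⁻¹ ≠ u := by
    rintro u ⟨R, h, -⟩ h1
    have h2 : u ^ 2 = 1 := by rw [sq]; nth_rw 1 [← h1]; simp
    have := orderOf_dvd_of_pow_eq_one h2
    rw [h] at this
    omega
  have hcount : ∀ Q : Sylow 5 G,
      X.ncard * 6 = 21 * {u : G | orderOf u = 3 ∧ u ∈ centralizer (Q : Set G)}.ncard := by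
    intro Q
    rw [← hn]
    exact ncard_mul_eq_card_mul_fiber
      (fun (u : G) (R : Sylow 5 G) => orderOf u = 3 ∧ u ∈ centralizer (R : Set G))
      (fun g y R h => ⟨by rw [H92.orderOf_conj]; exact h.1, conj_mem_centralizer_smul h.2 g⟩) 6
      (fun y R h => ncard_cent_three hG hn hP h.1 h.2) Q
  -- every element of `X` not commuting with `w` centralizes each `Q` centralized by `w`
  have key : ∀ Q : Sylow 5 G, w ∈ centralizer (Q : Set G) → ∀ u ∈ X, ¬ Commute w u →
      u ∈ centralizer (Q : Set G) := by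
    intro Q hQ
    set Y := {u : G | orderOf u = 3 ∧ u ∈ centralizer (Q : Set G)} with hY
    have hY1 : Y.ncard ≤ 11 := by
      have h1 := ncard_pPrime_centralizer_mul_le Q (hP Q)
      have h2 := Nat.le_of_dvd (by norm_num) (card_cent_dvd hG hn hP Q)
      have h4 : insert 1 Y ⊆ {g | g ∈ centralizer (Q : Set G) ∧ ¬ 5 ∣ orderOf g} := by
        rintro g (rfl | hg)
        · exact ⟨one_mem _, by simp⟩
        · exact ⟨hg.2, by rw [hg.1]; norm_num⟩
      have h5 := Set.ncard_le_ncard h4 (Set.toFinite _)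
      rw [Set.ncard_insert_of_notMem (fun h => by simpa using h.1)] at h5
      omega
    obtain ⟨x, hx, hxo⟩ := H3.exists_mem_orderOf_eq_prime (N := (Q : Subgroup G))
      (p := 5) Fact.out (dvd_of_eq (hP Q).symm)
    have hQx := H58.eq_zpowers_of_card_prime (p := 5) Fact.out (hP Q) hx
      (by rintro rfl; simp at hxo)
    set E := {u | u ∈ X ∧ ¬ Commute w u ∧ u ∉ centralizer (Q : Set G)} with hE
    have hEc : ∀ g ∈ centralizer (Q : Set G), Commute g w → ∀ u ∈ E, g * u * g⁻¹ ∈ E := by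
      rintro g hg hgw u ⟨h1, h2, h4⟩
      refine ⟨hXc u h1 g, fun h => h2 ?_, fun h => h4 ?_⟩
      · have h5 := (hgw.inv_left.mul_left h.symm).mul_left hgw
        simpa [mul_assoc] using h5.symm
      · have h5 := mul_mem (mul_mem (inv_mem hg) h) hg
        simpa [mul_assoc] using h5
    have h5 : 5 ∣ E.ncard := by
      refine dvd_ncard_of_conj Fact.out hxo E
        (hEc x (sylow_le_centralizer Q (hP Q) hx) (hQ x hx)) fun u hu h => hu.2.2 ?_
      intro z hz
      have hz' : z ∈ zpowers x := hQx ▸ hz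
      obtain ⟨k, rfl⟩ := hz'
      exact (h.zpow_left k).eq
    have h6 : 3 ∣ E.ncard :=
      dvd_ncard_of_conj Nat.prime_three hwo E (hEc w hQ (Commute.refl w)) fun u hu => hu.2.1
    have h7 : 2 ∣ E.ncard := by
      refine two_dvd_ncard_of_inv E (fun u hu => ⟨hXi u hu.1, fun h => hu.2.1 ?_,
        fun h => hu.2.2 ?_⟩) fun u hu => hXn u hu.1
      · simpa using h
      · simpa using h
    have h8 : E.ncard + Y.ncard ≤ X.ncard := by
      rw [← Set.ncard_union_eq (Set.disjoint_left.2 fun u h h' => h.2.2 h'.2)]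
      refine Set.ncard_le_ncard ?_ (Set.toFinite _)
      rintro u (h | h)
      · exact h.1
      · exact ⟨Q, h⟩
    have h9 := hcount Q
    rw [← hY] at h9
    have h10 : E.ncard = 0 := by omega
    rw [Set.ncard_eq_zero] at h10
    intro u hu hc
    by_contra h11
    have : u ∈ E := ⟨hu, hc, h11⟩
    rw [h10] at this
    exact this
  obtain ⟨Q, ⟨-, hQ⟩, hQP⟩ : ∃ Q ∈ {R : Sylow 5 G | orderOf w = 3 ∧ w ∈ centralizer (R : Set G)},
      Q ≠ P := Set.exists_ne_of_one_lt_ncard (by rw [ncard_cent_three hG hn hP hwo hw]; norm_num) P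
  have hD : Nat.card ↥(centralizer (P : Set G) ⊓ centralizer (Q : Set G)) ∣ 3 := by
    have h1 : Nat.card ↥(centralizer (P : Set G) ⊓ centralizer (Q : Set G)) ∣ 60 :=
      (card_dvd_of_le inf_le_left).trans (card_cent_dvd hG hn hP P)
    have h2 : ¬ 2 ∣ Nat.card ↥(centralizer (P : Set G) ⊓ centralizer (Q : Set G)) := by
      intro h
      obtain ⟨t, ht, hto⟩ := H3.exists_mem_orderOf_eq_prime Nat.prime_two h
      exact hQP (eq_of_even hG hn hP ht.1 (dvd_of_eq hto.symm)
        (Sylow.smul_eq_iff_mem_normalizer.2 (centralizer_le_normalizer _ ht.2)))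
    have h4 : ¬ 5 ∣ Nat.card ↥(centralizer (P : Set G) ⊓ centralizer (Q : Set G)) := by
      intro h
      obtain ⟨t, ht, hto⟩ := H3.exists_mem_orderOf_eq_prime (p := 5) Fact.out h
      exact hQP (eq_of_mem_centralizer_of_dvd P (hP P) (dvd_of_eq hto.symm) ht.2 ht.1)
    exact num1 h1 h2 h4
  have hzw : Nat.card (zpowers w) = 3 := by rw [Nat.card_zpowers, hwo]
  have hD' : zpowers w = centralizer (P : Set G) ⊓ centralizer (Q : Set G) :=
    eq_of_le_of_card_ge (zpowers_le.2 ⟨hw, hQ⟩) (hzw ▸ Nat.le_of_dvd (by norm_num) hD)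
  have hsub : {u : G | orderOf u = 3 ∧ u ∈ centralizer (P : Set G)} ⊆ (zpowers w : Set G) \ {1} := by
    rintro u ⟨huo, hu⟩
    refine ⟨?_, by rintro rfl; simp at huo⟩
    by_cases hc : Commute w u
    · have : Fact (Nat.Prime 3) := ⟨Nat.prime_three⟩
      have h1 : IsPGroup 3 ↥(zpowers u ⊔ zpowers w) :=
        (H58.isPGroup_zpowers_of_orderOf_eq huo).to_sup_of_normal_right'
          (H58.isPGroup_zpowers_of_orderOf_eq hwo)
          (zpowers_le.2 (centralizer_le_normalizer _ fun z ⟨k, hk⟩ => hk ▸ (hc.zpow_left k).eq))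
      obtain ⟨k, hk⟩ := IsPGroup.iff_card.1 h1
      have h2 := (card_dvd_of_le (sup_le (zpowers_le.2 hu) (zpowers_le.2 hw))).trans
        (card_cent_dvd hG hn hP P)
      rw [hk] at h2
      have h4 : k ≤ 1 := by
        by_contra h5
        exact absurd ((pow_dvd_pow 3 (not_le.1 h5)).trans h2) (by norm_num)
      have h5 : zpowers w = zpowers u ⊔ zpowers w := eq_of_le_of_card_ge le_sup_right
        (by rw [hk, hzw]; exact Nat.pow_le_pow_right (n := 3) (by norm_num) h4)
      rw [h5]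
      exact mem_sup_left (mem_zpowers u)
    · rw [hD']
      exact ⟨hu, key Q hQ u ⟨P, huo, hu⟩ hc⟩
  have h1 := Set.ncard_le_ncard hsub (Set.toFinite _)
  have h2 : (zpowers w : Set G).ncard = 3 := by rw [← Nat.card_coe_set_eq]; exact hzw
  rw [Set.ncard_sdiff_singleton_of_mem (one_mem _), h2] at h1
  have h4 := hcount P
  have h5 := two_dvd_ncard_of_inv X hXi hXn
  have h6 : 0 < X.ncard := (Set.ncard_pos (Set.toFinite _)).2 ⟨w, P, hwo, hw⟩
  omega

theorem false_of_simple : False := by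
  obtain ⟨P⟩ : Nonempty (Sylow 5 G) := inferInstance
  have hC : ∀ R : Sylow 5 G, Nat.card (centralizer (R : Set G)) ∣ 20 := fun R =>
    Nat.Coprime.dvd_of_dvd_mul_left ((Nat.prime_three.coprime_iff_not_dvd).2
      (not_three_dvd hG hn hP R)).symm (card_cent_dvd hG hn hP R)
  have h5 : ∀ g : G, 5 ∣ orderOf g → orderOf g ∣ 20 := by
    intro g hg
    obtain ⟨R, hR⟩ := exists_mem_centralizer_of_dvd P (hP P) hg
    exact (orderOf_dvd_natCard _ hR).trans (hC R)
  have hno5 : ∀ (q : ℕ) [Fact q.Prime] (Q : Sylow q G), Nat.card Q = q → q.Coprime 20 →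
      ¬ 5 ∣ Nat.card (centralizer (Q : Set G)) := by
    intro q hq Q hQ hc hd
    obtain ⟨x, hx, hxo⟩ := H3.exists_mem_orderOf_eq_prime (p := 5) Fact.out hd
    obtain ⟨y, hy, hyo⟩ := H3.exists_mem_orderOf_eq_prime (N := (Q : Subgroup G)) hq.out
      (dvd_of_eq hQ.symm)
    have h1 : Commute y x := hx y hy
    have h2 := h1.orderOf_mul_eq_mul_orderOf_of_coprime
      (by rw [hxo, hyo]; exact hc.coprime_dvd_right (by norm_num))
    rw [hxo, hyo] at h2
    have h3 := h5 (y * x) (h2 ▸ dvd_mul_left _ _)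
    rw [h2] at h3
    exact hq.out.one_lt.ne' (Nat.eq_one_of_dvd_coprimes hc dvd_rfl ((dvd_mul_right _ _).trans h3))
  obtain ⟨e, he1, he2, he3⟩ := exists_automizer hG P (hP P)
  have hg := H58.card_normalizer_mul_card_sylow P
  rw [he3, hn] at hg
  have hc5 : 5 ∣ Nat.card (centralizer (P : Set G)) :=
    (dvd_of_eq (hP P).symm).trans (card_dvd_of_le (sylow_le_centralizer P (hP P)))
  obtain ⟨c, hc⟩ := hc5
  have hc1 : c ∣ 4 := Nat.dvd_of_mul_dvd_mul_left (by norm_num : 0 < 5) (hc ▸ hC P)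
  rw [hc] at hg
  have hce : c * e ∣ 16 := mul_dvd_mul hc1 he1
  obtain ⟨Q⟩ : Nonempty (Sylow 7 G) := inferInstance
  have hQ : Nat.card Q = 7 := H58.card_sylow_of_eq Q (k := 1) (m := 15 * (c * e))
    (by rw [← hg]; ring) fun h => absurd (h.trans (mul_dvd_mul_left 15 hce)) (by norm_num)
  obtain ⟨f, hf1, hf2, hf3⟩ := exists_automizer hG Q hQ
  have hg7 := H58.card_normalizer_mul_card_sylow Q
  rw [hf3] at hg7
  have hc7 : 7 ∣ Nat.card (centralizer (Q : Set G)) :=
    (dvd_of_eq hQ.symm).trans (card_dvd_of_le (sylow_le_centralizer Q hQ))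
  obtain ⟨d, hd⟩ := hc7
  have hd5 := hno5 7 Q hQ (by norm_num)
  have hn7 := card_sylow_modEq_one 7 G
  have hn15 := S4304.result (G := G)
  rw [hd] at hg7 hd5
  have hnum : Nat.card (Sylow 7 G) = 120 ∧ d = 1 ∧ c * e = 16 := by
    generalize Nat.card (Sylow 7 G) = n at hg7 hn7 hn15
    have h1 : d * f * n = 15 * (c * e) := by
      apply Nat.eq_of_mul_eq_mul_left (by norm_num : 0 < 7)
      rw [← mul_assoc, ← mul_assoc, hg7, ← hg]
      ring
    generalize c * e = m at h1 hce
    have h2 : ¬ 5 ∣ d * f := by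
      intro h
      rcases (Nat.Prime.dvd_mul Fact.out).1 h with h | h
      · exact hd5 (h.mul_left 7)
      · exact absurd (h.trans hf1) (by norm_num)
    have h3 : 5 ∣ n := ((Nat.Prime.dvd_mul (p := 5) Fact.out).1
      (h1 ▸ Dvd.dvd.mul_right (by norm_num) m)).resolve_left h2
    have h4 : n ∣ 240 := (Dvd.intro_left _ h1).trans (mul_dvd_mul_left 15 hce)
    have h6 : n = 120 := num2 h4 h3 hn7 hn15
    subst h6
    have h7 := Nat.le_of_dvd (by norm_num) hce
    have h8 : f ≠ 0 := by rintro rfl; simp at hf1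
    have h9 : d ≠ 0 := by
      rintro rfl
      exact h2 (by simp)
    have h10 : 2 ≤ f := by omega
    have h11 : d * f ≤ 2 := by omega
    have h12 : d = 1 := by nlinarith [Nat.pos_of_ne_zero h9]
    subst h12
    omega
  obtain ⟨hn120, rfl, hm⟩ := hnum
  have hc4 : c = 4 ∧ e = 4 := num3 hc1 he1 hm
  obtain ⟨rfl, rfl⟩ := hc4
  have h7 : ∀ g : G, 7 ∣ orderOf g → orderOf g ∣ 7 := by
    intro g hg
    obtain ⟨R, hR⟩ := exists_mem_centralizer_of_dvd Q hQ hg
    obtain ⟨a, rfl⟩ := exists_smul_eq G R Q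
    rw [← H92.orderOf_conj a g, ← mul_one 7, ← hd]
    exact orderOf_dvd_natCard _ (conj_mem_centralizer_smul hR a)
  have : Fact (Nat.Prime 3) := ⟨Nat.prime_three⟩
  obtain ⟨R⟩ : Nonempty (Sylow 3 G) := inferInstance
  have hR : Nat.card R = 3 := H58.card_sylow_of_eq R (k := 1) (m := 560)
    (by rw [← hg]; norm_num) (by norm_num)
  obtain ⟨e3, h31, h32, h33⟩ := exists_automizer hG R hR
  have h34 : e3 = 2 := ((Nat.dvd_prime Nat.prime_two).1 h31).resolve_left h32
  have hg3 := H58.card_normalizer_mul_card_sylow R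
  rw [h33, h34, ← hg] at hg3
  have hA3 := le_ncard_dvd_orderOf R hR
  have hA5 := le_ncard_dvd_orderOf P (hP P)
  have hA7 := le_ncard_dvd_orderOf Q hQ
  rw [hn, hc] at hA5
  rw [hn120, hd] at hA7
  rw [mul_comm (Nat.card (Sylow 3 G)), mul_right_comm, hg3] at hA3
  -- the elements of order dividing `16`
  have hB := H58.ncard_eq_card_mul_fiber
    (fun (g : G) (S : Sylow 5 G) => g ∈ centralizer (S : Set G) ∧ g ≠ 1 ∧ orderOf g ∣ 16)
    (fun g y S h => ⟨conj_mem_centralizer_smul h.1 g, by simpa using h.2.1,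
      by rw [H92.orderOf_conj]; exact h.2.2⟩) ?_ P
  swap
  · intro y S S' h h'
    refine (eq_of_even hG hn hP h.1 ?_
      (Sylow.smul_eq_iff_mem_normalizer.2 (centralizer_le_normalizer _ h'.1))).symm
    obtain ⟨i, -, hi⟩ := (Nat.dvd_prime_pow (m := 4) Nat.prime_two).1 h.2.2
    rw [hi]
    refine dvd_pow_self 2 fun h6 => h.2.1 ?_
    rwa [h6, pow_zero, orderOf_eq_one_iff] at hi
  obtain ⟨L, hL, hLc⟩ := exists_subgroup_le_card (C := centralizer (P : Set G)) (k := 2)
    Nat.prime_two (by rw [hc]; norm_num)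
  have hB1 : 3 ≤ {g | g ∈ centralizer (P : Set G) ∧ g ≠ 1 ∧ orderOf g ∣ 16}.ncard := by
    have h1 := H58.ncard_subgroup_ne_one L
    rw [hLc] at h1
    refine le_trans h1.ge (Set.ncard_le_ncard (fun g hg => ⟨hL hg.2, hg.1, ?_⟩) (Set.toFinite _))
    exact (orderOf_dvd_natCard _ hg.2).trans (by rw [hLc]; norm_num)
  obtain ⟨T, hT, hTc⟩ := exists_subgroup_le_card (C := normalizer (P : Set G)) (k := 4)
    Nat.prime_two (by rw [he3, hc]; norm_num)
  obtain ⟨t, ht, htC⟩ : ∃ t ∈ T, t ∉ centralizer (P : Set G) := by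
    by_contra h
    push Not at h
    have := card_dvd_of_le (show T ≤ centralizer (P : Set G) from h)
    rw [hTc, hc] at this
    exact absurd this (by norm_num)
  have hto : orderOf t ∣ 16 := (orderOf_dvd_natCard _ ht).trans (by rw [hTc]; norm_num)
  have ht1 : t ≠ 1 := by rintro rfl; exact htC (one_mem _)
  set B := {g : G | ∃ S : Sylow 5 G, g ∈ centralizer (S : Set G) ∧ g ≠ 1 ∧ orderOf g ∣ 16}
    with hBdef
  have htB : t ∉ B := by
    rintro ⟨S, h1, -, -⟩
    refine htC ?_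
    rwa [eq_of_even hG hn hP h1 ?_ (Sylow.smul_eq_iff_mem_normalizer.2 (hT ht))]
    obtain ⟨i, -, hi⟩ := (Nat.dvd_prime_pow (m := 4) Nat.prime_two).1 hto
    rw [hi]
    refine dvd_pow_self 2 fun h6 => ht1 ?_
    rwa [h6, pow_zero, orderOf_eq_one_iff] at hi
  have hB2 : B.ncard + 2 ≤ {g : G | orderOf g ∣ 16}.ncard := by
    have h1 : (1 : G) ∉ insert t B := by
      rintro (h | ⟨S, -, h, -⟩)
      · exact ht1 h.symm
      · exact h rfl
    rw [add_assoc B.ncard 1 1 |>.symm, ← Set.ncard_insert_of_notMem htB,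
      ← Set.ncard_insert_of_notMem h1]
    refine Set.ncard_le_ncard ?_ (Set.toFinite _)
    rintro g (rfl | rfl | ⟨S, -, -, h⟩)
    · simp
    · exact hto
    · exact h
  have hU : {g : G | 3 ∣ orderOf g}.ncard + {g : G | 5 ∣ orderOf g}.ncard +
      {g : G | 7 ∣ orderOf g}.ncard + {g : G | orderOf g ∣ 16}.ncard ≤ Nat.card G := by
    rw [← Set.ncard_union_eq, ← Set.ncard_union_eq, ← Set.ncard_union_eq, ← Set.ncard_univ]
    · exact Set.ncard_le_ncard (Set.subset_univ _) (Set.toFinite _)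
    · refine Set.disjoint_left.2 ?_
      rintro g ((h | h) | h) h' <;> exact absurd (dvd_trans h h') (by norm_num)
    · refine Set.disjoint_left.2 ?_
      rintro g (h | h) h' <;> exact absurd (dvd_trans h (h7 g h')) (by norm_num)
    · exact Set.disjoint_left.2 fun g h h' => absurd (dvd_trans h (h5 g h')) (by norm_num)
  rw [hn] at hB
  omega

end

/-- No finite group has exactly twenty-one Sylow 5-subgroups. -/
theorem result {G : Type*} [Group G] [Finite G] : Nat.card (Sylow 5 G) ≠ 21 := by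
  intro h
  obtain ⟨S, _, _, hS, hc, hd, hn⟩ := H89.exists_simple_of_card_sylow 5 h (by norm_num)
    (by decide +kernel) (fun m hm h1 => by
      have := Nat.le_of_dvd (by norm_num) hm
      interval_cases m <;> simp_all)
  exact false_of_simple hc hn (S4343.result hc 5 hd (by rw [hn]; norm_num))

end Cfsg.Agent.S1010
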