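import Cfsg.Statements.S1143
import Cfsg.Agent.Lead.T3Chain
import Cfsg.Agent.H57.T3Cls
import Cfsg.Agent.H72.T3Ma
import Cfsg.Agent.H7.T3Me
import Cfsg.Agent.H49.T3Mt
import Cfsg.Agent.H75.T3Frame
import Cfsg.Agent.H8.T3Mu

set_option autoImplicit false
open Cfsg

namespace Cfsg.Agent.S1143

/-- Tits: a finite simple group with an irreducible (B,N)-pair of rank at least `3` is of Lie type: it satisfies one of the classical predicates or is one of the exceptional groups. -/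
theorem result {G : Type*} [Group G] [Finite G] [IsSimpleGroup G]
    (P : Cfsg.BNPair G) (h3 : 3 ≤ P.rank) (hirr : P.Irreducible) :
    Cfsg.IsPSL G ∨ Cfsg.IsPSp G ∨ Cfsg.IsPSU G ∨ Cfsg.IsPOmegaOdd G ∨ Cfsg.IsPOmegaPlus G ∨ Cfsg.IsPOmegaMinus G ∨
      Cfsg.IsExceptionalLieType G := by
  exact Lead.T3.main
    { sub0 := @H28.T3Sub.subStmt.{0}
      ba1 := @Lead.T3.Ch.ba1
      cls := @H57.T3Cls.clsStmt
      fh := @H28.T3Sub.fhStmt
      usl := @Lead.T3.Ch.usl
      uc := @Lead.T3.Ch.uc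
      uf1 := @Lead.T3.Ch.uf1
      uf2 := @Lead.T3.Ch.uf2
      trans := @Lead.T3.Ch.trans
      ma := @H72.T3M.maStmt
      md := @H72.T3M.mdStmt
      me := @H7.T3Me.meStmt
      mf := @H7.T3Me.mfStmt
      mt := @H49.T3Mt.mtStmt
      ms := @H75.T3G.msStmt
      mo := @H75.T3G.moStmt
      mu := @H8.T3U.muStmt
      fin := @Lead.T3.Ch.fin
      fin0 := @Lead.T3.Ch.fin.{0} } P h3 hirr

end Cfsg.Agent.S1143
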