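import Cfsg.Statements.S1154
import Cfsg.Agent.H39.ReeInst
import Cfsg.Agent.H39.ReeBasic

set_option autoImplicit false
open Cfsg

namespace Cfsg.Agent.S1154

/-- In the small Ree group ²G₂(q), q = 3^(2m+1) with m ≥ 1, realised as G¹ inside the Chevalley group G₂ over the field with q elements (θ the 3^m-th power map), with `U¹ = G¹ ∩ U` (U the positive unipotent subgroup of the ambient G₂): `U¹` has exactly `q² - 1` elements of order 3. -/
theorem result {K : Type*} [Field K] [Fintype K] {m : ℕ} (hm : 1 ≤ m) (hK : Fintype.card K = 3 ^ (2 * m + 1)) :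
    Nat.card {u : ↥(Cfsg.Lie.chevG2.posUnipotent K ⊓ Cfsg.Lie.twistedG2 K (3 ^ m)) // orderOf u = 3} = (3 ^ (2 * m + 1)) ^ 2 - 1 := by
  obtain ⟨S, hU, -, -⟩ := H39.exists_ree hK
  have := S.finite
  rw [← hK, ← Nat.card_eq_fintype_card, ← S.card_Y, ← Nat.card_congr
    ((H39.infEquiv hU).toEquiv.subtypeEquiv (p := fun x => x.1 ∈ (S.Y : Set _) \ {1}) fun x => by
      rw [MulEquiv.toEquiv_eq_coe, MulEquiv.coe_toEquiv, MulEquiv.orderOf_eq, orderOf_eq_prime_iff,
        Set.mem_sdiff, SetLike.mem_coe, ← S.cube_eq_one_iff x.2]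
      exact and_congr ⟨fun h => Subtype.ext h, fun h => congrArg Subtype.val h⟩
        (not_congr ⟨fun h => Subtype.ext h, fun h => congrArg Subtype.val h⟩)),
    Nat.card_congr (Equiv.subtypeSubtypeEquivSubtype (p := fun x => x ∈ S.U)
      (q := fun x => x ∈ (S.Y : Set _) \ {1}) fun h => S.Y_le_U h.1)]
  exact Set.ncard_sdiff_singleton_of_mem S.Y.one_mem

end Cfsg.Agent.S1154
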