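import Cfsg.Statements.S4477
import Cfsg.Agent.H19.FS
import Cfsg.Agent.H24.Deg
import Cfsg.Agent.H9.Taussky
import Cfsg.Agent.H90.Basic
import Cfsg.Agent.H11.GroupUtil
import Cfsg.Agent.H12.Central

set_option autoImplicit false
open Cfsg

namespace Cfsg.Agent.S4477

open scoped commutatorElement

open Cfsg.Agent.H11 in
open scoped ComplexConjugate in
theorem index_le_four {G : Type*} [Group G] [Finite G] (hG : IsPGroup 2 G) {z : G}
    (hz : z ∈ commutator G) (hzc : z ∈ Subgroup.center G) (hz2 : z * z = 1) (m : ℤ)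
    (h : (H19.sqCount (1 : G) : ℂ) - H19.sqCount z = 2 * (4 * m + 2)) : (commutator G).index ≤ 4 := by
  classical
  have := Fintype.ofFinite G
  have := Fintype.ofFinite (IrrCharacter G)
  have := Fact.mk Nat.prime_two
  let Y := {χ : IrrCharacter G // (χ : G → ℂ) z ≠ (χ : G → ℂ) 1 ∧ (χ : G → ℂ) 1 = 2}
  let f : Function.End Y := fun χ => ⟨⟨fun g => conj ((χ.1 : G → ℂ) g), isIrrCharacter_conj χ.1.2⟩,
    fun h => χ.2.1 ((starRingEnd ℂ).injective h), by simp [χ.2.2, map_ofNat]⟩
  have h1 : Fintype.card Y ≡ Fintype.card f.fixedPoints [MOD 2] :=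
    Equiv.Perm.card_fixedPoints_modEq (n := 1) (funext fun χ => Subtype.ext (Subtype.ext
      (funext fun g => Complex.conj_conj _)))
  have h2 : ∀ χ : IrrCharacter G, ∃ k : ℤ, H19.fs (χ : G → ℂ) * ((χ : G → ℂ) 1 - (χ : G → ℂ) z) =
      8 * k + 4 * (if ((χ : G → ℂ) z ≠ (χ : G → ℂ) 1 ∧ (χ : G → ℂ) 1 = 2) ∧
        ∀ g, ((χ : G → ℂ) g).im = 0 then 1 else 0) := fun χ => by
    by_cases h3 : (χ : G → ℂ) z = (χ : G → ℂ) 1
    · exact ⟨0, by simp [h3]⟩
    obtain ⟨c, hc⟩ := center_le_charCenter χ.2 hzc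
    have h4 : (χ : G → ℂ) z = -(χ : G → ℂ) 1 := by
      have e1 := hc z
      have e2 := hc 1
      rw [mul_one] at e2
      rw [hz2, e2, ← mul_assoc] at e1
      have e3 : (c : ℂ) * c = 1 := mul_right_cancel₀ (irr_apply_one_ne_zero χ.2)
        (by rw [← e1, one_mul])
      rcases mul_self_eq_one_iff.1 e3 with e | e
      · exact absurd (by rw [e2, e, one_mul]) h3
      · rw [e2, e, neg_one_mul]
    obtain ⟨k, hk⟩ := H24.exists_deg_eq_pow_of_isPGroup hG χ.2
    have h5 := H24.irr_deg χ.2
    rw [hk] at h5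
    by_cases hr : ∀ g, ((χ : G → ℂ) g).im = 0
    · obtain ⟨e, he⟩ : ∃ e : ℤ, H19.fs (χ : G → ℂ) = 2 * e + 1 := by
        rcases H19.fs_of_real χ.2 hr with h | h
        · exact ⟨0, by simp [h]⟩
        · exact ⟨-1, by rw [h]; norm_num⟩
      rcases k with - | - | k
      · exact absurd (apply_eq_of_mem_charKer
          ((H24.deg_eq_one_iff_commutator_le χ.2).1 (by simpa using hk) hz)) h3
      · refine ⟨e, ?_⟩
        rw [if_pos ⟨⟨h3, by simpa using h5⟩, hr⟩, he, h4, h5]
        push_cast
        ring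
      · refine ⟨(2 * e + 1) * 2 ^ k, ?_⟩
        rw [if_neg fun h => ?_, he, h4, h5]
        · push_cast
          ring
        · have h6 : 2 ^ (k + 1 + 1) = 2 := by exact_mod_cast h5.symm.trans h.1.2
          have : 0 < 2 ^ k := by positivity
          omega
    · obtain ⟨g, hg⟩ := not_forall.1 hr
      exact ⟨0, by rw [if_neg fun h => hr h.2, H19.fs_eq_zero_of_not_real χ.2 hg]; simp⟩
  choose k hk using h2
  rw [H19.sqCount_eq_sum, H19.sqCount_eq_sum, ← Finset.sum_sub_distrib,
    Finset.sum_congr rfl fun χ _ => (mul_sub _ _ _).symm.trans (hk χ), Finset.sum_add_distrib,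
    ← Finset.mul_sum, ← Finset.mul_sum, Finset.sum_boole, ← Fintype.card_subtype] at h
  have h3 : Fintype.card f.fixedPoints = Fintype.card {χ : IrrCharacter G //
      ((χ : G → ℂ) z ≠ (χ : G → ℂ) 1 ∧ (χ : G → ℂ) 1 = 2) ∧ ∀ g, ((χ : G → ℂ) g).im = 0} :=
    Fintype.card_congr ((Equiv.subtypeEquivRight fun χ => ⟨fun h g =>
      Complex.conj_eq_iff_im.1 (congrFun (congrArg (fun x : Y => (x.1 : G → ℂ)) h) g),
      fun h => Subtype.ext (Subtype.ext (funext fun g => Complex.conj_eq_iff_im.2 (h g)))⟩).trans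
      (Equiv.subtypeSubtypeEquivSubtypeInter _ fun χ : IrrCharacter G => ∀ g, ((χ : G → ℂ) g).im = 0))
  rw [← h3] at h
  have h4 : 8 * ∑ χ, k χ + 4 * (Fintype.card f.fixedPoints : ℤ) = 2 * (4 * m + 2) := by
    exact_mod_cast h
  have h5 : ¬ 2 ∣ Nat.card Y := by
    rw [Nat.card_eq_fintype_card]
    unfold Nat.ModEq at h1
    omega
  let act : MulAction (G →* ℂˣ) Y :=
    { smul := fun l χ => ⟨⟨(χ.1 : G → ℂ) * fun g => (l g : ℂ),
        isIrrCharacter_mul_linear χ.1.2 (isCharacter_monoidHom l) (by simp)⟩, by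
          have : l z = 1 := Abelianization.commutator_subset_ker l hz
          simpa [this] using χ.2⟩
      one_smul := fun χ => Subtype.ext (Subtype.ext (funext fun g => mul_one _))
      mul_smul := fun l l' χ => Subtype.ext (Subtype.ext (funext fun g => by
        change (χ.1 : G → ℂ) g * ((l g * l' g : ℂˣ) : ℂ) = (χ.1 : G → ℂ) g * l' g * l g
        push_cast
        ring)) }
  have h6 : IsPGroup 2 (G →* ℂˣ) := fun l => by
    obtain ⟨n, hn⟩ := hG.exists_card_eq
    exact ⟨n, MonoidHom.ext fun g => by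
      rw [MonoidHom.pow_apply, ← map_pow, ← hn, pow_card_eq_one', map_one, MonoidHom.one_apply]⟩
  obtain ⟨χ, hχ⟩ := h6.nonempty_fixed_point_of_prime_not_dvd_card Y h5
  have h7 : ∀ g, g ∉ commutator G → (χ.1 : G → ℂ) g = 0 := fun g hg => by
    obtain ⟨l, -, hl⟩ := exists_monoidHom_ne_one (commutator G) le_rfl hg
    have h8 : (χ.1 : G → ℂ) g * l g = (χ.1 : G → ℂ) g :=
      congrFun (congrArg (fun x : Y => (x.1 : G → ℂ)) (hχ l)) g
    by_contra h9
    exact hl (Units.ext (mul_left_cancel₀ h9 (by simpa using h8)))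
  have h8 := H12.sum_normSq_irr χ.1.2
  have h9 : ∑ g, Complex.normSq ((χ.1 : G → ℂ) g) ≤ ∑ g, if g ∈ commutator G then (4 : ℝ) else 0 :=
    Finset.sum_le_sum fun g _ => by
      split_ifs with hg
      · have := H12.IsCharacter_norm_le (isCharacter_of_irr χ.1.2) g
        rw [χ.2.2] at this
        rw [Complex.normSq_eq_norm_sq]
        have h0 := norm_nonneg ((χ.1 : G → ℂ) g)
        simp only [Complex.norm_ofNat] at this
        nlinarith
      · simp [h7 g hg]
  rw [h8, ← Finset.sum_filter, Finset.sum_const, nsmul_eq_mul, ← Fintype.card_subtype,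
    ← Nat.card_eq_fintype_card, ← (commutator G).card_mul_index] at h9
  exact Nat.le_of_mul_le_mul_left (by exact_mod_cast h9) (Nat.card_pos (α := commutator G))

universe u in
theorem key (n : ℕ) : ∀ (G : Type u) [Group G] [Finite G], Nat.card G = n → IsPGroup 2 G →
    Nat.card {x : G // x * x = 1} % 4 = 2 → IsCyclic G ∨ (commutator G).index = 4 := by
  induction n using Nat.strong_induction_on with
  | _ n ih =>
  intro G _ _ hn hG ht
  classical
  have := Fact.mk Nat.prime_two
  by_cases hc : commutator G = ⊥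
  · left
    have hcomm : ∀ a b : G, a * b = b * a := fun a b => by
      have : ⁅a, b⁆ ∈ commutator G := Subgroup.commutator_mem_commutator trivial trivial
      rwa [hc, Subgroup.mem_bot, commutatorElement_eq_one_iff_mul_comm] at this
    let _ : CommGroup G := { (inferInstance : Group G) with mul_comm := hcomm }
    refine H90.isCyclic_of_card_pow_prime_eq_one_le fun p hp => ?_
    obtain ⟨a, ha⟩ := (hG.to_subgroup (powMonoidHom p : G →* G).ker).exists_card_eq
    by_cases h2 : p = 2
    · subst h2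
      have h3 : Nat.card (powMonoidHom 2 : G →* G).ker = Nat.card {x : G // x * x = 1} :=
        Nat.card_congr (Equiv.subtypeEquivRight fun x => by simp [MonoidHom.mem_ker, sq])
      rw [← h3, ha] at ht
      rw [ha]
      rcases a with - | - | a
      · simp
      · simp
      · omega
    · rw [Subgroup.card_eq_one.2 (eq_bot_iff.2 fun x hx => ?_)]
      · exact hp.one_le
      obtain ⟨b, hb⟩ := hG x
      exact orderOf_eq_one_iff.1 (Nat.eq_one_of_dvd_coprimes
        (((Nat.coprime_primes hp Nat.prime_two).2 h2).pow_right b) (orderOf_dvd_of_pow_eq_one hx)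
        (orderOf_dvd_of_pow_eq_one hb))
  right
  obtain ⟨z, hz, hzc, hz2⟩ := H11.exists_mem_center_orderOf_eq_prime hG (commutator G) hc
  have hZ : Subgroup.zpowers z ≤ Subgroup.center G := (Subgroup.zpowers_le).2 hzc
  have hZn : (Subgroup.zpowers z).Normal := ⟨fun a ha g => by
    rwa [Subgroup.mem_center_iff.1 (hZ ha) g, mul_inv_cancel_right]⟩
  have hzz : z * z = 1 := by rw [← sq, ← hz2, pow_orderOf_eq_one]
  have hz1 : z ≠ 1 := fun h => by simp [h] at hz2
  have hnc : ¬ IsCyclic (G ⧸ Subgroup.zpowers z) := fun h => hc (eq_bot_iff.2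
    (Subgroup.commutator_le.2 fun a _ b _ => by
      rw [Subgroup.mem_bot, commutatorElement_eq_one_iff_mul_comm]
      exact commutative_of_cyclic_center_quotient (QuotientGroup.mk' (Subgroup.zpowers z))
        (by rwa [QuotientGroup.ker_mk']) a b))
  have hcard : Nat.card G = Nat.card (G ⧸ Subgroup.zpowers z) * 2 := by
    rw [Subgroup.card_eq_card_quotient_mul_card_subgroup (Subgroup.zpowers z), Nat.card_zpowers, hz2]
  have hQ := hG.to_quotient (Subgroup.zpowers z)
  by_cases hs : Nat.card {x : G ⧸ Subgroup.zpowers z // x * x = 1} % 4 = 2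
  · have h1 := (ih _ (by have := Nat.card_pos (α := G ⧸ Subgroup.zpowers z); omega) _ rfl hQ
      hs).resolve_left hnc
    rwa [commutator_def, ← MonoidHom.range_eq_top.2 (QuotientGroup.mk'_surjective _),
      ← map_commutator_eq, Subgroup.index_map, QuotientGroup.ker_mk',
      sup_eq_left.2 ((Subgroup.zpowers_le).2 hz), MonoidHom.range_eq_top.2
      (QuotientGroup.mk'_surjective _), Subgroup.index_top, mul_one] at h1
  have hnt : Nontrivial (G ⧸ Subgroup.zpowers z) := by
    by_contra h
    have := not_nontrivial_iff_subsingleton.1 h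
    exact hnc isCyclic_of_subsingleton
  have h1 : 2 ∣ Nat.card {x : G ⧸ Subgroup.zpowers z // x * x = 1} := by
    have := Fintype.ofFinite (G ⧸ Subgroup.zpowers z)
    have h2 := Equiv.Perm.card_fixedPoints_modEq (p := 2) (n := 1)
      (f := (fun x => x⁻¹ : Function.End (G ⧸ Subgroup.zpowers z)))
      (funext fun x => inv_inv x)
    obtain ⟨a, ha, h3⟩ := hQ.nontrivial_iff_card.1 hnt
    rw [← Nat.card_eq_fintype_card, ← Nat.card_eq_fintype_card, h3] at h2
    rw [Nat.card_congr (Equiv.subtypeEquivRight (q := fun x => x⁻¹ = x) fun x => by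
      rw [inv_eq_iff_mul_eq_one])]
    exact (h2.dvd_iff dvd_rfl).1 (dvd_pow_self 2 ha.ne')
  have h2 : Nat.card {x : G // x * x = 1} + Nat.card {x : G // x * x = z} =
      2 * Nat.card {x : G ⧸ Subgroup.zpowers z // x * x = 1} := by
    have h3 := Nat.card_congr (QuotientGroup.preimageMkEquivSubgroupProdSet (Subgroup.zpowers z)
      {x | x * x = 1})
    rw [Nat.card_prod, Nat.card_zpowers, hz2] at h3
    refine Eq.trans ?_ h3
    rw [← Nat.card_sum]
    refine Nat.card_congr ((subtypeOrEquiv _ _ (Pi.disjoint_iff.2 fun x =>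
      Prop.disjoint_iff.2 fun h => hz1 (h.2.symm.trans h.1))).symm.trans
      (Equiv.subtypeEquivRight fun x => ?_))
    rw [Set.mem_preimage, Set.mem_setOf_eq, ← QuotientGroup.mk_mul, QuotientGroup.eq_one_iff,
      mem_zpowers_iff_mem_range_orderOf, hz2]
    simp [Finset.range_add_one, eq_comm, or_comm]
  have h3 := index_le_four hG hz hzc hzz ((Nat.card {x : G // x * x = 1} / 4 : ℕ) -
    (Nat.card {x : G ⧸ Subgroup.zpowers z // x * x = 1} / 4 : ℕ)) (by
      rw [H19.sqCount, H19.sqCount]
      have : (Nat.card {x : G // x * x = 1} : ℤ) - Nat.card {x : G // x * x = z} =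
        2 * (4 * ((Nat.card {x : G // x * x = 1} / 4 : ℕ) -
          (Nat.card {x : G ⧸ Subgroup.zpowers z // x * x = 1} / 4 : ℕ)) + 2) := by omega
      exact_mod_cast this)
  have h4 := H9.sq_le_index_commutator hG (by
    have := Finite.one_lt_card (α := G ⧸ Subgroup.zpowers z)
    omega)
  omega

/-- Let G be a finite 2-group whose number of involutions is congruent to 1 modulo 4. Then G is cyclic or its commutator subgroup has index 4. -/
theorem result {G : Type*} [Group G] [Finite G] (hG : IsPGroup 2 G) (ht : Nat.card {x : G // orderOf x = 2} % 4 = 1) : IsCyclic G ∨ (commutator G).index = 4 := by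
  refine key _ G rfl hG ?_
  have := Fact.mk Nat.prime_two
  have h : Nat.card {x : G // x * x = 1} = Nat.card {x : G // orderOf x = 2} + 1 := by
    classical
    rw [← Nat.card_unique (α := {x : G // x = 1}), ← Nat.card_sum]
    refine Nat.card_congr ((Equiv.subtypeEquivRight fun x => ?_).trans (subtypeOrEquiv _ _
      (Pi.disjoint_iff.2 fun x => Prop.disjoint_iff.2 fun h => by simp [h.2] at h)))
    rw [orderOf_eq_prime_iff, sq]
    by_cases h : x = 1 <;> simp [h]
  omega

end Cfsg.Agent.S4477
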