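import Cfsg.Statements.S1294
import Cfsg.Agent.H55.Graph
import Cfsg.Agent.S0217
-- import your own Cfsg.Agent.* helpers here

set_option autoImplicit false
open Cfsg

namespace Cfsg.Agent.S1294

/-- Let G be finite with O_{p'}(G) = 1 and p-rank at least 3, whose reduced rank-2 commuting graph for p is connected. Let θ assign to every element a of order p with m_p(C_G(a)) ≥ 3 a solvable subgroup θ a ≤ C_G(a) of order prime to p, so that θ (g a g⁻¹) = g (θ a) g⁻¹ for all g and θ a ∩ C_G(b) ≤ θ b for commuting such a, b. Then θ a = 1 for every such a. -/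
theorem result {G : Type*} [Group G] [Finite G] (p : ℕ) [Fact p.Prime] (hO : Cfsg.pPrimeCore p G = ⊥) (hrk : ¬ Cfsg.PRankLE p 2 G) (hconn : Cfsg.IsRankGraphConnected p 2 G) (θ : G → Subgroup G) (hC : ∀ a : G, (orderOf a = p ∧ ¬ Cfsg.PRankLE p 2 ↥(Subgroup.centralizer ({a} : Set G))) → θ a ≤ Subgroup.centralizer ({a} : Set G) ∧ ¬ p ∣ Nat.card ↥(θ a) ∧ Group.IsSolvable ↥(θ a)) (heq : ∀ a g : G, (orderOf a = p ∧ ¬ Cfsg.PRankLE p 2 ↥(Subgroup.centralizer ({a} : Set G))) → θ (g * a * g⁻¹) = (θ a).map (MulAut.conj g).toMonoidHom) (hbal : ∀ a b : G, (orderOf a = p ∧ ¬ Cfsg.PRankLE p 2 ↥(Subgroup.centralizer ({a} : Set G))) → (orderOf b = p ∧ ¬ Cfsg.PRankLE p 2 ↥(Subgroup.centralizer ({b} : Set G))) → a * b = b * a → θ a ⊓ Subgroup.centralizer {b} ≤ θ b) (a : G) (ha : (orderOf a = p ∧ ¬ Cfsg.PRankLE p 2 ↥(Subgroup.centralizer ({a} : Set G)))) : θ a = ⊥ := by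
  refine H55.trivial_of_connected hO hconn θ (fun A hA hA3 => ?_)
    (fun a g h1 h2 => heq a g ⟨h1, h2⟩) ha.1 ha.2
  have hI : ∀ a ∈ A, a ≠ 1 → orderOf a = p ∧
      ¬ Cfsg.PRankLE p 2 ↥(Subgroup.centralizer ({a} : Set G)) := fun a ha ha1 =>
    ⟨H55.ea_orderOf hA ha ha1,
      H55.not_pRankLE_iff.mpr ⟨A, H55.ea_le_centralizer_singleton hA ha, hA, hA3⟩⟩
  have hsf : IsSignalizerFunctor p A θ := by
    refine ⟨fun a ha ha1 => (hC a (hI a ha ha1)).1, fun a ha ha1 => (hC a (hI a ha ha1)).2.1,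
      fun a ha ha1 b hb x hx => ?_, fun a ha ha1 b hb hb1 =>
        hbal a b (hI a ha ha1) (hI b hb hb1) (H55.ea_comm hA ha hb)⟩
    have h := heq a b (hI a ha ha1)
    rw [H55.ea_comm hA hb ha, mul_inv_cancel_right] at h
    rw [h]
    exact ⟨x, hx, rfl⟩
  exact ⟨hsf, (Cfsg.Agent.S0217.result A (fun a ha b hb => H55.ea_comm hA ha hb) hA.2 hA3 θ hsf.1
    hsf.2.1 hsf.2.2.1 (fun a ha ha1 => (hC a (hI a ha ha1)).2.2) hsf.2.2.2).1⟩

end Cfsg.Agent.S1294
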