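import Cfsg.Statements.S1322
import Cfsg.Agent.H52.LBalance
import Cfsg.Agent.H52.Pump
import Cfsg.Agent.S0205

set_option autoImplicit false
open Cfsg

namespace Cfsg.Agent.S1322

/-- Let G be finite with L_{2'}(G) = E(G), t an involution and L ≤ C_G(t) a component of C_G(t). Then there is a component D of G with: L = D; or L < D and D = ⁅D, ⟨t⟩⁆; or tDt⁻¹ ≠ D and L is the layer of C_{D ⊔ tDt⁻¹}(t). -/
theorem result {G : Type*} [Group G] [Finite G] (hL2 : Cfsg.pLayer 2 G = Cfsg.layer G) (t : G) (ht : orderOf t = 2) (L : Subgroup G) (hLt : L ≤ Subgroup.centralizer ({t} : Set G)) (hL : Cfsg.IsComponent (L.subgroupOf (Subgroup.centralizer ({t} : Set G)))) : ∃ D : Subgroup G, Cfsg.IsComponent D ∧ (L = D ∨ (L < D ∧ D = ⁅D, Subgroup.zpowers t⁆) ∨ (D.map (MulAut.conj t).toMonoidHom ≠ D ∧ L = (Cfsg.layer ↥((D ⊔ D.map (MulAut.conj t).toMonoidHom) ⊓ Subgroup.centralizer ({t} : Set G))).map ((D ⊔ D.map (MulAut.conj t).toMonoidHom) ⊓ Subgroup.centralizer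 ({t} : Set G)).subtype)) := by
  have hK : IsComponentOf L (Subgroup.centralizer ({t} : Set G)) := ⟨hLt, hL⟩
  have hd : 2 ∣ Nat.card L := by
    by_contra h
    exact H52.IsQuasisimple.not_isSolvable (H52.IsComponentOf.isQuasisimple hK)
      (S0205.result (Nat.odd_iff.mpr (Nat.two_dvd_ne_zero.mp h)))
  have hE : L ≤ layer G := by
    rw [← hL2]
    refine (H52.IsPComponentOf.le_Lp (H52.IsComponentOf.isPComponentOf hK hd)).trans ?_
    rw [← H52.centralizer_zpowers]
    exact H52.Lp_two_centralizer_le_pLayer (H52.isPGroup_zpowers_of_orderOf_eq_prime ht)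
  obtain ⟨D, hD, h⟩ := H52.IsComponentOf.pump_top (ht ▸ Nat.prime_two) hK hE
  refine ⟨D, hD, ?_⟩
  rcases h with h | ⟨h1, h2⟩ | ⟨h1, h2, h3⟩
  · exact Or.inl h
  · rcases h1.eq_or_lt with h | h
    · exact Or.inl h
    · exact Or.inr (Or.inl ⟨h, h2.symm⟩)
  · refine Or.inr (Or.inr ⟨fun e => h1 (H52.cnj_eq_iff_mem_normalizer.mp e), ?_⟩)
    have := h2.Ly_eq (H52.IsComponent.isQuasisimple hD)
    rw [H52.orbitSup_zpowers_of_orderOf_eq_two ht, H52.centralizer_zpowers] at this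
    rw [h3, ← this]

end Cfsg.Agent.S1322
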