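import Cfsg.Statements.S1333
import Cfsg.Agent.H1.KBal
import Cfsg.Agent.H1.KBig

set_option autoImplicit false
open Cfsg

namespace Cfsg.Agent.S1333

/-- Let X be a finite group whose non-abelian composition factors are known simple groups, p any prime, and P a p-subgroup of X. Then L_{p'}(C_X(P)) ≤ L_{p'}(X). -/
theorem result {X : Type*} [Group X] [Finite X] (hK : Cfsg.IsCompositionKGroup X) (p : ℕ) [Fact p.Prime] (P : Subgroup X) (hP : IsPGroup p ↥P) : (Cfsg.pLayer p ↥(Subgroup.centralizer (P : Set X))).map (Subgroup.centralizer (P : Set X)).subtype ≤ Cfsg.pLayer p X := by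
    exact H52.Lp_centralizer_le_pLayer_of_schreier (H1.KB.sq_of_comp H1.KO.schK' hK p) hP

end Cfsg.Agent.S1333
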