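import Cfsg.Statements.S1334
import Cfsg.Agent.H1.KBal
import Cfsg.Agent.H1.KBig
import Cfsg.Agent.H52.Terminal

set_option autoImplicit false
open Cfsg

namespace Cfsg.Agent.S1334

open Subgroup H52 in
theorem Lp_eq {G : Type*} [Group G] [Finite G] (p : ℕ) [Fact p.Prime]
    (hK : ∀ T : Subgroup G, IsPGroup p ↥T → T ≠ ⊥ →
      Cfsg.IsCompositionKGroup ↥(Subgroup.normalizer (T : Set G))) (a b : G) (ha : orderOf a = p)
    (hb : orderOf b = p) (hab : a * b = b * a) :
    Lp p (Lp p (centralizer ({a} : Set G)) ⊓ centralizer ({b} : Set G)) =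
      Lp p (centralizer ({a} : Set G) ⊓ centralizer ({b} : Set G)) := by
  have hsn : SN (Lp p (centralizer ({a} : Set G))) (centralizer ({a} : Set G)) :=
    SN.of_le_normalizer (Lp_le _) (le_normalizer_Lp _)
  refine le_antisymm (hsn.inf_right _).Lp_le ?_
  have h1 : H1.KB.SQ p (centralizer ({a} : Set G)) := by
    refine H1.KB.sq_of_sn H1.KO.schK' (hK (zpowers a) (isPGroup_zpowers_of_orderOf_eq_prime ha)
      (by rw [Ne, zpowers_eq_bot]; exact ne_one_of_orderOf_eq_prime ha)) ?_ p
    rw [← centralizer_zpowers]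
    exact SN.of_le_normalizer (centralizer_le_normalizer' _)
      (normalizer_le_normalizer_centralizer _)
  have h2 := Lp_inf_centralizer_le_of_schreier h1 (isPGroup_zpowers_of_orderOf_eq_prime hb)
    (zpowers_le.2 (mem_centralizer_singleton_iff'.2 hab))
  rw [centralizer_zpowers] at h2
  exact map_pLayer_subtype_le_of_le (inf_le_inf_right _ (Lp_le _))
    (le_inf h2 ((Lp_le _).trans inf_le_right))

/-- Let G be finite such that every p-local subgroup has all its non-abelian composition factors among the known simple groups, and let a, b be commuting elements of order p. Then the p-layer of L_{p'}(C_G(a)) ∩ C_G(b) equals the p-layer of L_{p'}(C_G(b)) ∩ C_G(a) (both viewed in G). -/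
theorem result {G : Type*} [Group G] [Finite G] (p : ℕ) [Fact p.Prime] (hK : ∀ T : Subgroup G, IsPGroup p ↥T → T ≠ ⊥ → Cfsg.IsCompositionKGroup ↥(Subgroup.normalizer (T : Set G))) (a b : G) (ha : orderOf a = p) (hb : orderOf b = p) (hab : a * b = b * a) : (Cfsg.pLayer p ↥((Cfsg.pLayer p ↥(Subgroup.centralizer ({a} : Set G))).map (Subgroup.centralizer ({a} : Set G)).subtype ⊓ Subgroup.centralizer ({b} : Set G))).map ((Cfsg.pLayer p ↥(Subgroup.centralizer ({a} : Set G))).map (Subgroup.centralizer ({a} : Set G)).subtype ⊓ Subgroup.centralizer ({b} : Set G)).subtype = (Cfsg.pLayer p ↥((Cfsg.pLayer p ↥(Subgroup.centralizer ({b} : Set G))).map (Subgroup.centralizer ({b} : Set G)).subtype ⊓ Subgroup.centralizer ({a} : Set G))).map ((Cfsg.pLayer p ↥(Subgroup.centralizer ({b} : Set G))).map (Subgroup.centralizer ({b} : Set G)).subtype ⊓ Subgroup.centralizer ({a} : Set G)).subtype := by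
    have h1 := Lp_eq p hK a b ha hb hab
    have h2 := Lp_eq p hK b a hb ha hab.symm
    rw [inf_comm (Subgroup.centralizer ({b} : Set G))] at h2
    exact h1.trans h2.symm

end Cfsg.Agent.S1334
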