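import Cfsg.Statements.S1339
import Cfsg.Agent.H32.TraceConj
import Cfsg.Agent.H52.FStar

set_option autoImplicit false
open Cfsg

namespace Cfsg.Agent.S1339

/-- Let F be a field with 2 elements, n ≥ 3, and t ∈ SL(n, F) a transvection (t = 1 + E_{ij}, i ≠ j). Then the generalized Fitting subgroup of C(t) is O_2(C(t)). -/
theorem result {F : Type*} [Field F] [Fintype F] [DecidableEq F] (hF : Fintype.card F = 2) (n : ℕ) (hn : 3 ≤ n) (i j : Fin n) (hij : i ≠ j) (t : Matrix.SpecialLinearGroup (Fin n) F) (ht : (t : Matrix (Fin n) (Fin n) F) = Matrix.transvection i j 1) : Cfsg.generalizedFittingSubgroup ↥(Subgroup.centralizer ({t} : Set (Matrix.SpecialLinearGroup (Fin n) F))) = Cfsg.pCore 2 ↥(Subgroup.centralizer ({t} : Set (Matrix.SpecialLinearGroup (Fin n) F))) := by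
  have : Fact (Nat.Prime 2) := ⟨Nat.prime_two⟩
  let v : Fin n → F := Pi.single i 1
  let φ : Fin n → F := Pi.single j 1
  have hv : v ≠ 0 := Pi.single_ne_zero_iff.2 one_ne_zero
  have hφ : φ ⬝ᵥ v = 0 := by simp [v, φ, hij.symm]
  have h2 : (2 : F) = 0 := by
    have := FiniteField.cast_card_eq_zero F
    rw [hF] at this
    exact_mod_cast this
  have h01 : ∀ a : F, a ≠ 0 → a = 1 := fun a ha => by
    have := FiniteField.pow_card_sub_one_eq_one a ha
    rwa [hF, pow_one] at this
  have ht' : t = H32.tvS v φ hφ := by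
    apply Subtype.ext
    change (t : Matrix (Fin n) (Fin n) F) = 1 + Matrix.vecMulVec v φ
    rw [ht, Matrix.transvection, Matrix.single_eq_single_vecMulVec_single]
  have hext : ∀ {g h : Matrix.SpecialLinearGroup (Fin n) F},
      (∀ x, g.1.mulVec x = h.1.mulVec x) → g = h := fun h => Subtype.ext (H25.mat_ext_mulVec h)
  have hcomm : ∀ (g : Matrix.SpecialLinearGroup (Fin n) F) (ψ : Fin n → F) (hψ : ψ ⬝ᵥ v = 0),
      H32.tvS v ψ hψ * g = g * H32.tvS v ψ hψ → ∀ x,
        (ψ ⬝ᵥ g.1.mulVec x) • v = (ψ ⬝ᵥ x) • g.1.mulVec v := by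
    intro g ψ hψ h x
    have h1 := congrArg (fun y : Matrix.SpecialLinearGroup (Fin n) F => y.1.mulVec x) h
    simp only [H32.SL_mul_mulVec, H32.tvS_mulVec, Matrix.mulVec_add, Matrix.mulVec_smul] at h1
    exact add_left_cancel h1
  have hfix : ∀ g ∈ Subgroup.centralizer ({t} : Set (Matrix.SpecialLinearGroup (Fin n) F)),
      g.1.mulVec v = v := by
    intro g hg
    have h1 := hcomm g φ hφ (ht' ▸ hg t rfl) φ
    have h3 : φ ⬝ᵥ φ = 1 := by simp [φ]
    rw [h3, one_smul] at h1
    rw [← h1, h01 (φ ⬝ᵥ g.1.mulVec φ), one_smul]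
    intro h0
    rw [h0, zero_smul] at h1
    apply hv
    rw [← H32.SL_inv_mulVec_mulVec g v, ← h1, Matrix.mulVec_zero]
  let Q : Subgroup (Subgroup.centralizer ({t} : Set (Matrix.SpecialLinearGroup (Fin n) F))) :=
    { carrier := {g | ∀ x, g.1.1.mulVec x - x ∈ Submodule.span F {v}}
      one_mem' := fun x => by simp
      mul_mem' := fun {a b} ha hb x => by
        have := add_mem (ha (b.1.1.mulVec x)) (hb x)
        rwa [sub_add_sub_cancel, ← H32.SL_mul_mulVec] at this
      inv_mem' := fun {a} ha x => by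
        have := neg_mem (ha (a.1⁻¹.1.mulVec x))
        rwa [H32.SL_mulVec_inv_mulVec, neg_sub] at this }
  have hQn : Q.Normal := ⟨fun a ha g x => by
    obtain ⟨c, hc⟩ := Submodule.mem_span_singleton.1 (ha (g.1⁻¹.1.mulVec x))
    refine Submodule.mem_span_singleton.2 ⟨c, ?_⟩
    change _ = (g.1 * a.1 * g.1⁻¹).1.mulVec x - x
    rw [H32.SL_mul_mulVec, H32.SL_mul_mulVec, ← sub_add_cancel (a.1.1.mulVec _) (g.1⁻¹.1.mulVec x),
      ← hc, Matrix.mulVec_add, Matrix.mulVec_smul, hfix _ g.2, H32.SL_mulVec_inv_mulVec,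
      add_sub_cancel_right]⟩
  refine H52.fstar_eq_pCore_of_centralizer_le (Q := Q) (fun a => ⟨1, ?_⟩) fun g hg x => ?_
  · refine Subtype.ext (Subtype.ext (hext fun x => ?_))
    obtain ⟨c, hc⟩ := Submodule.mem_span_singleton.1 (a.2 x)
    change (a.1.1 ^ 2 ^ 1).1.mulVec x = (1 : Matrix (Fin n) (Fin n) F).mulVec x
    rw [pow_one, pow_two, H32.SL_mul_mulVec, Matrix.one_mulVec]
    have h3 : a.1.1.1.mulVec x = c • v + x := by rw [hc, sub_add_cancel]
    rw [h3, Matrix.mulVec_add, Matrix.mulVec_smul, hfix _ a.1.2, h3, ← add_assoc, ← add_smul,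
      ← two_mul, h2, zero_mul, zero_smul, zero_add]
  · by_contra hx
    obtain ⟨ψ, hψ1, hψ2⟩ := H26.exists_dot_eq_one_of_notMem _ hx
    have hψ : ψ ⬝ᵥ v = 0 := hψ2 v (Submodule.mem_span_singleton_self v)
    have hq : H32.tvS v ψ hψ ∈
        Subgroup.centralizer ({t} : Set (Matrix.SpecialLinearGroup (Fin n) F)) := by
      rintro _ rfl
      rw [ht']
      refine hext fun y => ?_
      simp only [H32.SL_mul_mulVec, H32.tvS_mulVec, dotProduct_add, dotProduct_smul, hψ, hφ,
        smul_zero, add_zero]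
      abel
    have h3 := hg ⟨_, hq⟩ (fun y => by
      change (H32.tvS v ψ hψ).1.mulVec y - y ∈ _
      rw [H32.tvS_mulVec, add_sub_cancel_left]
      exact Submodule.smul_mem _ _ (Submodule.mem_span_singleton_self v))
    have h4 := hcomm g.1 ψ hψ (congrArg Subtype.val h3) x
    rw [hfix _ g.2] at h4
    rw [dotProduct_sub, smul_left_injective F hv h4, sub_self] at hψ1
    exact zero_ne_one hψ1

end Cfsg.Agent.S1339
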