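import Cfsg.Statements.S1340
import Cfsg.Agent.H32.InvCent
import Cfsg.Agent.H52.Fitting

set_option autoImplicit false
open Cfsg

namespace Cfsg.Agent.S1340

/-- Let F be a finite field of odd order and n ≥ 3 with (n, |F|) ≠ (3, 3). Then GL(n, F) has a non-central involution t such that C(t) / O(C(t)) has a component. -/
theorem result {F : Type*} [Field F] [Fintype F] [DecidableEq F] (hF : Odd (Fintype.card F)) (n : ℕ) (hn : 3 ≤ n) (h33 : ¬ (n = 3 ∧ Fintype.card F = 3)) : ∃ t : Matrix.GeneralLinearGroup (Fin n) F, orderOf t = 2 ∧ t ∉ Subgroup.center (Matrix.GeneralLinearGroup (Fin n) F) ∧ Cfsg.HasComponent (↥(Subgroup.centralizer ({t} : Set (Matrix.GeneralLinearGroup (Fin n) F))) ⧸ Cfsg.oddCore ↥(Subgroup.centralizer ({t} : Set (Matrix.GeneralLinearGroup (Fin n) F)))) := by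
  obtain ⟨m, rfl⟩ : ∃ m, n = m + 1 := ⟨n - 1, by omega⟩
  have hne := H32.neg_one_ne_one_of_odd hF
  have : Nontrivial (Fin m) := Fin.nontrivial_iff_two_le.2 (by omega)
  have h : 3 ≤ Fintype.card (Fin m) ∨ ∃ x : F, x ≠ 0 ∧ x ^ 2 ≠ 1 := by
    by_cases h2 : m = 2
    · have := Fintype.one_lt_card (α := F)
      obtain ⟨k, hk⟩ := hF
      exact Or.inr (H32.exists_ne_zero_sq_ne_one (by omega))
    · left; simp; omega
  obtain ⟨i, j, hij⟩ := exists_pair_ne (Fin m)
  let t := H32.blkGL F m (-1, 1)
  have ht : t.1 = H32.blk1 ((-1 : F) • 1) 1 := by simp [t, H32.blkGL_coe]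
  have hC := H32.centralizer_eq_range_blkGL hne ht
  refine ⟨t, ?_, fun hc => ?_, ?_⟩
  · rw [orderOf_injective _ H32.blkGL_injective]
    refine orderOf_eq_prime (by simp) fun h1 => hne ?_
    have := congrArg (fun x : GL (Fin m) F × Fˣ => x.1.1 i i) h1
    simpa using this
  · obtain ⟨c, hc⟩ := Matrix.GeneralLinearGroup.mem_center_iff_val_mem_range_scalar.1 hc
    have h1 := congrFun (congrFun hc i.castSucc) i.castSucc
    have h2 := congrFun (congrFun hc (Fin.last m)) (Fin.last m)
    rw [ht, H32.blk1_cc] at h1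
    rw [ht, H32.blk1_ll] at h2
    simp at h1 h2
    exact hne (h1.symm.trans h2)
  · let e : GL (Fin m) F × Fˣ ≃* Subgroup.centralizer ({t} : Set (GL (Fin (m + 1)) F)) :=
      (MonoidHom.ofInjective H32.blkGL_injective).trans (MulEquiv.subgroupCongr hC.symm)
    let L : Subgroup (GL (Fin m) F × Fˣ) :=
      (Matrix.SpecialLinearGroup.toGL : Matrix.SpecialLinearGroup (Fin m) F →* _).range.prod ⊥
    have hL : IsComponent L := by
      have := H32.range_toGL_normal (ι := Fin m) (F := F)
      refine ⟨Subgroup.Normal.isSubnormal inferInstance, ?_⟩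
      exact H52.IsQuasisimple.of_mulEquiv (H32.range_toGL_isComponent h).2
        ((Subgroup.prodEquiv _ _).trans (MulEquiv.prodUnique)).symm
    refine ⟨_, H52.IsComponent.map_of_surjective (H52.IsComponent.map_equiv hL e)
      (QuotientGroup.mk'_surjective _) fun h0 => ?_⟩
    rw [Subgroup.map_eq_bot_iff, QuotientGroup.ker_mk'] at h0
    let s : Matrix.SpecialLinearGroup (Fin m) F :=
      Matrix.SpecialLinearGroup.diag2n hij (-1) (neg_ne_zero.2 one_ne_zero)
    have hs : orderOf s = 2 := by
      refine orderOf_eq_prime (Subtype.ext ?_) fun h1 => hne ?_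
      · change s.1 ^ 2 = 1
        rw [Matrix.SpecialLinearGroup.diag2n_coe, Matrix.diagonal_pow, ← Matrix.diagonal_one]
        congr 1
        funext k
        simp only [Pi.pow_apply]
        split_ifs <;> simp
      · have := congrArg (fun x : Matrix.SpecialLinearGroup (Fin m) F => x.1 i i) h1
        simpa [s, Matrix.SpecialLinearGroup.diag2n_coe] using this
    have h1 := h0 (Subgroup.mem_map_of_mem e.toMonoidHom
      (show (Matrix.SpecialLinearGroup.toGL s, 1) ∈ L from ⟨⟨s, rfl⟩, rfl⟩))
    have h2 := Subgroup.orderOf_dvd_natCard _ h1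
    rw [orderOf_injective _ e.injective, Prod.orderOf_mk, orderOf_one, Nat.lcm_one_right,
      orderOf_injective _ Matrix.SpecialLinearGroup.toGL_injective, hs] at h2
    exact absurd (Nat.Coprime.eq_one_of_dvd H52.coprime_card_pPrimeCore.symm h2) (by norm_num)

end Cfsg.Agent.S1340
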