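import Cfsg.Statements.S1564
import Cfsg.Agent.H42.Flags

set_option autoImplicit false
set_option maxRecDepth 1000000
open scoped Pointwise
open Cfsg

namespace Cfsg.Agent.S1564

open Cfsg.Agent.H42

theorem cls : Classes GD3 {s | s.card = 3} (fun x => (MulAction.orbit GD3 x).ncard)
    (decReps toSet [(8388611, 1, 1), (7, 63, 63), (44, 210, 210), (13, 630, 630), (28, 1120, 1120)]) :=
  encSet.classes_size (gens := gensD3) inM_gensD3 GD3 GD3_eq {s | s.card = 3} (Set.toFinite _)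
    (fun g _ x hx => (Finset.card_smul_finset g x).trans hx) _
    (fun r hr => by
      have h := repsChk_spec (p := fun n => Nat.ble (n + 1) (2 ^ 24) && Nat.beq (pc n) 3)
        (by decide +kernel) hr
      rw [Bool.and_eq_true, ble_iff, beq_iff] at h
      exact ⟨h.1.1, (card_toSet h.1.1).trans h.1.2, h.2⟩) 1200 (sizesChk_set (by decide +kernel))
    (by decide) (by rw [ncard_card_eq]; decide)

theorem coatom : IsCoatom GD3 :=
  isCoatom_of_classes encSet (fun _ h => h) (fun _ => rfl) (x0 := triad0) triad0_lt cls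
    (fun k => (Finset.card_smul_finset k _).trans card_triad0) gensD3_mem (L := [(88649940336825597068917695123214368, [[3, 5, 1, 4, 4, 0, 5, 2, 0, 4],
    [1, 3, 0, 7, 3, 0, 0, 2, 6],
    [5, 0, 2, 7, 9, 5, 6, 8, 7, 3, 8],
    [2, 1, 2, 1, 3],
    [0, 5, 1, 4, 9, 7, 9, 11, 6, 4, 4, 11, 5, 10],
    [3, 1, 2, 11, 9, 13, 7, 7, 12, 4, 8, 12],
    [5, 0, 5, 8, 4, 11, 4, 3, 13],
    [13, 18, 9, 12, 16, 15, 4, 10, 1, 4, 6, 4],
    [11, 17, 18, 4, 16, 3, 13, 8, 5, 6]]),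
    (220852631785862954643215284270840930, [[3, 1, 3, 4, 0, 2, 1, 4],
    [5, 1, 4, 1, 4, 3, 0, 0, 0, 2],
    [0, 2, 1, 7, 1, 2, 0, 9, 5, 0, 8, 3, 5],
    [3, 0, 2, 0, 2, 2],
    [2, 5, 5, 2, 5, 7, 2, 5, 11, 2, 5, 2, 5, 7, 4, 10],
    [5, 3, 0, 4, 2, 4, 1, 2, 4],
    [2, 1, 7, 5, 7, 9, 9, 3, 6, 6, 3, 9],
    [15, 15, 10, 9, 16, 6, 10, 12, 6, 10, 10, 9],
    [12, 14, 18, 3, 15, 11, 13, 8, 3]]),
    (137868954336905089581696320915620866, [[1, 1, 4, 3, 5, 0],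
    [1, 5, 0, 3, 6, 5, 0, 0, 5, 2],
    [1, 1, 1, 3, 7, 2, 0, 7, 2],
    [1, 3, 3, 0, 9, 0, 7, 11, 0, 4, 6],
    [3, 0, 2, 0, 5, 2, 11, 2, 10, 0, 6],
    [3, 1, 4, 3, 1, 4, 2, 5, 2, 4],
    [3, 1, 7, 9, 9, 6, 5, 8],
    [3, 0, 7, 9, 5, 8, 8, 6, 9],
    [12, 20, 6, 18, 10, 13, 7, 8, 10, 5, 8, 8, 2, 0],
    [8, 16, 13, 14, 12, 10, 12, 6, 8]]),
    (90884628425364754328632559954140260, [[2, 2],
    [7, 2, 7, 0, 4, 3],
    [7, 1, 2, 6, 1, 6, 0, 6],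
    [9, 3, 1, 4, 4, 2],
    [0, 2, 7, 11, 4, 7, 4, 1, 11, 4],
    [3, 3, 1, 4, 8, 7, 12, 4, 11, 14, 4, 6, 10, 14],
    [2, 1, 2, 2, 0, 3],
    [3, 7, 1, 13, 8, 2, 7, 12],
    [5, 7, 9, 9, 1, 2, 4, 7, 8],
    [5, 3, 0, 5, 7, 2, 8],
    [16, 22, 24, 22, 16, 22, 10, 19, 3, 10, 10, 2, 4, 1],
    [24, 18, 24, 13, 21, 13, 14, 12, 4]])])
    (by decide +kernel) (exists_ne_of_card _ (card_stab_triad card_triad0) (by norm_num))
    (by decide +kernel)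

/-- The stabiliser of a set of three points (setwise) is a maximal proper subgroup of the group of the length-24 code. -/
theorem result (s : Finset Cfsg.GolayPt) (hs : s.card = 3) : IsCoatom (MulAction.stabilizer Cfsg.M24 s) := by
  obtain ⟨g, rfl⟩ := exists_smul_triad0 hs
  exact isCoatom_stabilizer_smul g _ coatom

end Cfsg.Agent.S1564
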