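import Cfsg.Statements.S1617
import Cfsg.Agent.H19.PT3

set_option autoImplicit false
open Cfsg

namespace Cfsg.Agent.S1617


/-- A generating conjugacy class of involutions on which the group (with trivial solvable radical) acts with rank 3 is a class of 3-transpositions. -/
theorem result {G : Type*} [Group G] [Finite G] (hsol : ∀ N : Subgroup G, N.Normal → Group.IsSolvable ↥N → N = ⊥) {D : Set G} (hinv : ∀ d ∈ D, orderOf d = 2) (hconj : ∃ d ∈ D, D = conjugatesOf d) (hgen : Subgroup.closure D = ⊤) (hrank : ∀ x ∈ D, ∃ y ∈ D, ∃ z ∈ D, {w : G | ∃ g : G, Commute g x ∧ g * y * g⁻¹ = w} ≠ {w : G | ∃ g : G, Commute g x ∧ g * x * g⁻¹ = w} ∧ {w : G | ∃ g : G, Commute g x ∧ g * z * g⁻¹ = w} ≠ {w : G | ∃ g : G, Commute g x ∧ g * x * g⁻¹ = w} ∧ {w : G | ∃ g : G, Commute g x ∧ g * y * g⁻¹ = w} ≠ {w : G | ∃ g : G, Commute g x ∧ g * z * g⁻¹ = w} ∧ D = {w : G | ∃ g : G, Commute g x ∧ g * x * g⁻¹ = w} ∪ {w : G | ∃ g : G, Commute g x ∧ g *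 y * g⁻¹ = w} ∪ {w : G | ∃ g : G, Commute g x ∧ g * z * g⁻¹ = w}) : Cfsg.IsThreeTranspositionClass D := by
  obtain ⟨d, hd, hD⟩ := hconj
  have hsq : ∀ x ∈ D, x * x = 1 := fun x hx => by rw [← pow_two, ← hinv x hx, pow_orderOf_eq_one]
  have hne : ∀ x ∈ D, x ≠ 1 := fun x hx e => by
    have := hinv x hx
    rw [e, orderOf_one] at this
    omega
  have hcj : ∀ x ∈ D, ∀ g : G, g * x * g⁻¹ ∈ D := fun x hx g => by
    rw [hD] at hx ⊢
    exact IsConj.trans hx (isConj_iff.2 ⟨g, rfl⟩)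
  have hns : ¬ Group.IsSolvable G := fun hs =>
    hne d hd (Subgroup.mem_bot.1 (hsol ⊤ inferInstance inferInstance ▸ Subgroup.mem_top d))
  have hcomm : ∀ a ∈ D, ∀ b ∈ D, (a * b) ^ 2 = 1 ↔ Commute a b := fun a ha b hb => by
    refine ⟨fun e => ?_, fun e => by rw [e.mul_pow, pow_two, pow_two, hsq a ha, hsq b hb, one_mul]⟩
    have h1 := inv_eq_of_mul_eq_one_right ((pow_two _).symm.trans e)
    rw [mul_inv_rev, inv_eq_of_mul_eq_one_right (hsq a ha), inv_eq_of_mul_eq_one_right (hsq b hb)] at h1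
    exact h1.symm
  have hpow : ∀ a ∈ D, ∀ b ∈ D, ∀ j : ℕ, ∃ w ∈ D, (a * b) ^ j = a * w := fun a ha b hb j => by
    induction j using Nat.twoStepInduction with
    | zero => exact ⟨a, ha, by rw [pow_zero, hsq a ha]⟩
    | one => exact ⟨b, hb, pow_one _⟩
    | more j h1 _ =>
      obtain ⟨w, hw, e⟩ := h1
      refine ⟨_, hcj w hw (b * a), ?_⟩
      rw [pow_succ, pow_succ', e, mul_inv_rev, inv_eq_of_mul_eq_one_right (hsq a ha),
        inv_eq_of_mul_eq_one_right (hsq b hb)]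
      simp only [mul_assoc]
  refine ⟨⟨hinv, ?_⟩, ⟨d, hd, hD⟩, hgen⟩
  obtain ⟨c, hc, hcd, hcc⟩ : ∃ c ∈ D, c ≠ d ∧ Commute d c := by
    by_contra hcon
    push Not at hcon
    have h2 : IsPGroup 2 (Subgroup.zpowers d) := IsPGroup.of_card (n := 1) (by
      rw [Nat.card_zpowers, hinv d hd, pow_one])
    obtain ⟨P, hP⟩ := h2.exists_le_sylow
    have hdP := hP (Subgroup.mem_zpowers d)
    obtain ⟨N, hN, hNo, hNf⟩ := S0215.result P d (hinv d hd) hdP fun g hg => by
      have hb := hcj d hd g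
      generalize g * d * g⁻¹ = b at hg hb
      obtain ⟨k, hk⟩ := P.isPGroup' ⟨_, mul_mem hdP hg⟩
      have hk' : (d * b) ^ 2 ^ k = 1 := by simpa using congrArg Subtype.val hk
      clear hk
      induction k with
      | zero =>
        rw [pow_zero, pow_one] at hk'
        exact mul_left_cancel (hk'.trans (hsq d hd).symm)
      | succ k ih =>
        refine ih ?_
        obtain ⟨w, hw, e⟩ := hpow d hd b hb (2 ^ k)
        rw [pow_succ, pow_mul, e] at hk'
        by_contra h3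
        refine hcon w hw (fun e' => h3 ?_) ((hcomm d hd w hw).1 hk')
        rw [e, e', hsq d hd]
    rw [hsol N hN (S0205.result hNo)] at hNf
    have h1 : Subgroup.center G = ⊥ := hsol _ inferInstance (Group.isSolvable_of_comm fun a b =>
      Subtype.ext (Subgroup.mem_center_iff.1 b.2 a))
    refine hne d hd (Subgroup.mem_bot.1 (h1 ▸ Subgroup.mem_center_iff.2 fun g => ?_))
    have := Subgroup.mem_bot.1 (hNf g)
    rw [mul_inv_eq_one, mul_inv_eq_iff_eq_mul] at this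
    exact this.symm
  have hord : ∀ g y : G, Commute g d → orderOf (d * (g * y * g⁻¹)) = orderOf (d * y) := fun g y hg => by
    have : d * (g * y * g⁻¹) = MulAut.conj g (d * y) := by
      rw [MulAut.conj_apply, ← mul_assoc g, hg.eq]; simp only [mul_assoc]
    rw [this, MulEquiv.orderOf_eq]
  obtain ⟨n, hn⟩ : ∃ n, ∀ w ∈ D, Commute d w ∨ orderOf (d * w) = n := by
    obtain ⟨y, hy, z, hz, -, -, -, h4⟩ := hrank d hd
    have key : ∀ y z : G, (∀ w ∈ D, w = d ∨ (∃ g, Commute g d ∧ g * y * g⁻¹ = w) ∨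
        ∃ g, Commute g d ∧ g * z * g⁻¹ = w) → (∃ g, Commute g d ∧ g * y * g⁻¹ = c) →
        ∃ n, ∀ w ∈ D, Commute d w ∨ orderOf (d * w) = n := by
      rintro y z h5 ⟨k, hk, e⟩
      refine ⟨orderOf (d * z), fun w hw => ?_⟩
      rcases h5 w hw with rfl | ⟨g, hg, rfl⟩ | ⟨g, hg, rfl⟩
      · exact Or.inl (Commute.refl _)
      · refine Or.inl ((hcomm d hd _ hw).1 (orderOf_dvd_iff_pow_eq_one.1 ?_))
        rw [hord g y hg, ← hord k y hk, e]
        exact orderOf_dvd_iff_pow_eq_one.2 ((hcomm d hd c hc).2 hcc)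
      · exact Or.inr (hord g z hg)
    have h5 : ∀ w ∈ D, w = d ∨ (∃ g, Commute g d ∧ g * y * g⁻¹ = w) ∨
        ∃ g, Commute g d ∧ g * z * g⁻¹ = w := fun w hw => by
      rw [h4] at hw
      rcases hw with (⟨g, hg, rfl⟩ | h6) | h6
      · exact Or.inl (by rw [hg.eq, mul_inv_cancel_right])
      · exact Or.inr (Or.inl h6)
      · exact Or.inr (Or.inr h6)
    rcases h5 c hc with h6 | h6 | h6
    · exact absurd h6 hcd
    · exact key y z h5 h6
    · exact key z y (fun w hw => (h5 w hw).imp_right Or.symm) h6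
  have hn' : ∀ a ∈ D, ∀ b ∈ D, Commute a b ∨ orderOf (a * b) = n := fun a ha b hb => by
    obtain ⟨g, rfl⟩ := isConj_iff.1 (show IsConj d a from (hD ▸ ha : a ∈ conjugatesOf d))
    refine (hn _ (hcj b hb g⁻¹)).imp (fun e => by simpa [mul_assoc] using e.conj g) fun e => ?_
    rw [← e, ← MulEquiv.orderOf_eq (MulAut.conj g) (d * _)]
    simp [mul_assoc]
  obtain ⟨h, h1, h2, h3⟩ := S0200.result d (hinv d hd) fun N hN h2 hm =>
    hne d hd (Subgroup.mem_bot.1 (hsol N hN (by have := h2.isNilpotent; infer_instance) ▸ hm))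
  have h4 : d * (h⁻¹ * d * h⁻¹⁻¹) = h ^ 2 := by
    have h5 : h⁻¹ * d = d * h := by rw [← h3, inv_mul_cancel_right]
    rw [h5, inv_inv, ← mul_assoc, ← mul_assoc, hsq d hd, one_mul, pow_two]
  have hodd : ∀ a ∈ D, ∀ b ∈ D, Odd (orderOf (a * b)) → orderOf (a * b) ≠ 1 → orderOf (a * b) = n :=
    fun a ha b hb e1 e2 => (hn' a ha b hb).resolve_left fun e3 => e2 (Nat.dvd_one.1 (by
      have := Nat.dvd_gcd (dvd_refl (orderOf (a * b))) (orderOf_dvd_of_pow_eq_one ((hcomm a ha b hb).2 e3))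
      rwa [Nat.coprime_two_right.2 e1] at this))
  have h5 : orderOf (h ^ 2) = orderOf h := (Nat.coprime_two_right.2 h2).orderOf_pow
  have hb := hcj d hd h⁻¹
  have h6 : orderOf h ≠ 1 := fun e => h1 (orderOf_eq_one_iff.1 e)
  have h7 := hodd d hd _ hb (by rwa [h4, h5]) (by rwa [h4, h5])
  generalize h⁻¹ * d * h⁻¹⁻¹ = b at h4 hb h7
  have hno : Odd n := by rwa [← h7, h4, h5]
  have hn1 : n ≠ 1 := by rwa [← h7, h4, h5]
  have hp := Nat.minFac_prime hn1
  have hnp : n.Prime := by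
    obtain ⟨w, hw, e⟩ := hpow d hd b hb (n / n.minFac)
    have h8 : orderOf (d * w) = n.minFac := by
      rw [← e, ← h7]
      exact orderOf_pow_orderOf_div (orderOf_pos _).ne' (Nat.minFac_dvd _)
    have h9 := hodd d hd w hw (h8 ▸ hno.of_dvd_nat (Nat.minFac_dvd n)) (h8 ▸ hp.ne_one)
    rw [← h9, h8]; exact hp
  by_cases h3 : n = 3
  · intro a ha b hb
    exact (hn' a ha b hb).imp (hcomm a ha b hb).2 fun e => by rw [← h3, ← e, pow_orderOf_eq_one]
  refine absurd (H19.PT.solvable (p := n) ⟨hnp, ?_, hsq, hcj, fun a ha b hb =>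
    (hn' a ha b hb).imp_right fun e => by rw [← e, pow_orderOf_eq_one]⟩ hgen) hns
  have := hnp.two_le
  obtain ⟨m, rfl⟩ := hno
  omega

end Cfsg.Agent.S1617
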