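import Cfsg.Statements.S1662
import Cfsg.Agent.H47.B6Main
import Cfsg.Agent.H81.ZCor
import Cfsg.Agent.S1070

set_option autoImplicit false
open Cfsg

namespace Cfsg.Agent.S1662

open Subgroup

/-- Uniqueness of the Baby Monster at the level of isomorphism: a finite simple group having an involution t whose centraliser has a normal subgroup M of index 2, containing its own centraliser in the involution centraliser, which is a non-split double cover of the twisted group ²E₆(2) (realised over a field with four elements) is isomorphic to the presented Baby Monster. -/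
theorem result {G : Type*} [Group G] [Finite G] [IsSimpleGroup G] (t : G) (ht : orderOf t = 2) (M : Subgroup (Subgroup.centralizer ({t} : Set G))) [M.Normal] (hM : M.index = 2) (K : Type) [Field K] [Fintype K] (hK : Fintype.card K = 4) (hout : Subgroup.centralizer (M : Set (Subgroup.centralizer ({t} : Set G))) ≤ M) (hcov : Cfsg.IsNonsplitDoubleCover M (Cfsg.Lie.twistedE6 K 2)) : Cfsg.Spor.IsoB G := by
  obtain ⟨t1, tt⟩ := H49.orderOf_two_iff.1 ht
  obtain ⟨c2, ⟨e⟩, ns⟩ := hcov
  obtain ⟨hs, hna⟩ := S1070.result (K := K) (q := 2) Nat.prime_two.isPrimePow hK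
  have tC : t ∈ centralizer ({t} : Set G) := mem_centralizer_singleton_iff.2 rfl
  have c0 : ∀ k : centralizer ({t} : Set G), k * ⟨t, tC⟩ = ⟨t, tC⟩ * k := fun k =>
    Subtype.ext (mem_centralizer_singleton_iff.1 k.2)
  have tM : (⟨t, tC⟩ : centralizer ({t} : Set G)) ∈ M := hout fun k _ => c0 k
  have hZ : ∀ m : M, m ∈ center M ↔ m.1.1 = 1 ∨ m.1.1 = t := fun m => by
    have z0 : (⟨_, tM⟩ : M) ∈ center M := mem_center_iff.2 fun k => Subtype.ext (c0 k)
    have := eq_of_le_of_card_ge (zpowers_le.2 z0) (by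
      rw [c2, H49.card_zpowers_invol (fun e => t1 (congrArg (fun x : M => x.1.1) e))
        (Subtype.ext (Subtype.ext tt))])
    rw [← this, H49.mem_zpowers_invol (Subtype.ext (Subtype.ext tt)), Subtype.ext_iff, Subtype.ext_iff,
      Subtype.ext_iff, Subtype.ext_iff]
    rfl
  let π := e.toMonoidHom.comp (QuotientGroup.mk' (center M))
  have p1 : Function.Surjective π := e.surjective.comp (QuotientGroup.mk'_surjective _)
  have p2 : ∀ m, π m = 1 ↔ m ∈ center M := fun m =>
    e.map_eq_one_iff.trans (QuotientGroup.eq_one_iff m)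
  have pf : commutator M = ⊤ := H34.MidA.commutator_eq_top_of_ker hna π p1 fun m hm => by
    by_contra n
    refine ns (commutator M) (isComplement'_of_disjoint_and_mul_eq_univ
      (disjoint_def.2 fun {x} h1 h2 => ((hZ x).1 h1).elim (fun e => Subtype.ext (Subtype.ext e))
        fun e => absurd ?_ n) (Set.eq_univ_of_forall fun x => ?_))
    · rcases (hZ m).1 ((p2 m).1 hm) with c | c
      · exact (Subtype.ext (Subtype.ext c) : m = 1) ▸ one_mem _
      · exact (Subtype.ext (Subtype.ext (e.trans c.symm)) : x = m) ▸ h2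
    · obtain ⟨l, hl, e⟩ : π x ∈ (commutator M).map π := by
        rw [map_commutator_eq, MonoidHom.range_eq_top.2 p1,
          (commutator_normal _ _).eq_bot_or_eq_top.resolve_left fun e => hna ⟨⟨fun x y =>
            mem_center_iff.1 (((commutator_eq_bot_iff_center_eq_top _).1 e).ge (mem_top y)) x⟩⟩]
        trivial
      exact ⟨x * l⁻¹, (p2 _).1 (by simp [e]), l, hl, by simp⟩
  let ε := M.equivMapOfInjective _ (centralizer ({t} : Set G)).subtype_injective
  obtain ⟨T, Q, θ, R, -, -, -, h, rx, ry, d1, d2, -⟩ := H47.B6.exists_data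
  have fl := H34.MidA.fl_std h rx ry
  have tN : t ∈ M.map (centralizer ({t} : Set G)).subtype := ⟨_, tM, rfl⟩
  obtain ⟨α, g⟩ := H47.Bu.exists_good0 h fl t1 tt (Q' := M.map (Subgroup.subtype _)) (z' := 1)
    ⟨map_subtype_le _, by rw [← M.index_mul_card, hM, card_map_of_injective (subtype_injective _)],
      inf_le_left, fun F _ _ hF => by
        obtain ⟨σ, s1, s2, -⟩ := H34.MidA.exists_proj h fl K hK
        obtain ⟨σ', s3, s4, -⟩ := H34.MidA.exists_proj h fl F hF
        obtain ⟨ψ, -⟩ := H49.exists_equiv_of_ker_eq σ σ' s1 s3 fun k => by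
          rw [← MonoidHom.mem_ker, ← MonoidHom.mem_ker, s2, s4]
        refine ⟨ψ.toMonoidHom.comp (π.comp ε.symm.toMonoidHom),
          ψ.surjective.comp (p1.comp ε.symm.surjective), fun m => ?_⟩
        obtain ⟨m, rfl⟩ := ε.surjective m
        exact ψ.map_eq_one_iff.trans (((congrArg (π · = 1) (ε.symm_apply_apply m)).to_iff.trans
          (p2 m)).trans (hZ m)), by
        rw [← map_top_of_surjective ε.toMonoidHom ε.surjective, ← pf, map_commutator_eq,
          MonoidHom.range_eq_top.2 ε.surjective]; rfl, fun D hD _ _ => hD.trans inf_le_left⟩ tN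
  obtain ⟨k, k1, k2⟩ : ∃ k, Commute t (k * t * k⁻¹) ∧ k * t * k⁻¹ ≠ t := by
    by_contra! n
    refine hna ⟨⟨fun a b => ?_⟩⟩
    obtain ⟨a, rfl⟩ := p1 a
    obtain ⟨b, rfl⟩ := p1 b
    rw [← map_mul, ← map_mul]
    exact congrArg π (Subtype.ext (Subtype.ext (H81.comm_of_simple_of_isolated ⟨ht, n⟩ _ _)))
  refine H47.B6.core d1 d2 g t1 (fun x hx => ?_) k2 k1.symm
  have xC : x ∈ centralizer ({t} : Set G) := mem_centralizer_singleton_iff.2 (hx t tN)
  have c : ∀ m ∈ M, m * ⟨x, xC⟩ = ⟨x, xC⟩ * m := fun m hm =>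
    Subtype.ext (hx _ ⟨m, hm, rfl⟩).symm
  exact (hZ ⟨_, hout c⟩).1 (mem_center_iff.2 fun m => Subtype.ext (c m m.2))

end Cfsg.Agent.S1662
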