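import Cfsg.Statements.S1668
import Cfsg.Agent.H44.SzR

set_option autoImplicit false
open Cfsg

namespace Cfsg.Agent.S1668

/-- Recognition of the sporadic Suzuki group as a rank 3 permutation group: a transitive permutation group on 1782 points in which the stabiliser of a point is isomorphic to the Chevalley group G₂(4) and has two further orbits, of sizes 416 and 1365, is isomorphic to the sporadic Suzuki group. -/
theorem result {Ω : Type*} [Fintype Ω] [DecidableEq Ω] (hΩ : Fintype.card Ω = 1782) (G : Subgroup (Equiv.Perm Ω)) [MulAction.IsPretransitive G Ω] (a : Ω) (K : Type) [Field K] [Fintype K] (hK : Fintype.card K = 4) (e : MulAction.stabilizer G a ≃* Cfsg.Lie.chevG2.group K) (b c : Ω) (hb : (MulAction.orbit (MulAction.stabilizer G a) b).ncard = 416) (hc : (MulAction.orbit (MulAction.stabilizer G a) c).ncard = 1365) : Cfsg.Spor.IsoSuz G := by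
  open H44 H44.G24sM H44.SzR MulAction in
  have hne : k 1 ≠ 1 :=
    ev_single k 1 ▸ Gl.ne_one model (l := [1]) (by decide) (a := 38) (b := 60)
      (by decide) (by decide) (by decide) (by decide +kernel)
  obtain ⟨e1⟩ := G24I.equiv G24sM.sat hne
  let e0 : G24sM.K ≃* stabilizer G a := (Subgroup.topEquiv.symm.trans <|
    (MulEquiv.subgroupCongr G24sM.top.symm).trans <|
      e1.trans (open H28 in H37.validG2.fieldEquiv (H28.equivF4 hK).symm)).trans e.symm
  have hH : Nat.card (stabilizer G a) = 251596800 := by
    rw [← Nat.card_congr e0.toEquiv, G24sM.card]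
  have hst : ∀ p : Ω, (orbit (stabilizer G a) p).ncard *
      Nat.card (stabilizer (stabilizer G a) p) = 251596800 := fun p => by
    rw [← index_stabilizer, Subgroup.index_mul_card, hH]
  have hJ : Nat.card ((stabilizer (stabilizer G a) b).comap e0.toMonoidHom) = 604800 := by
    have := hst b
    rw [hb] at this
    rw [Subgroup.comap_equiv_eq_map_symm', Subgroup.card_map_of_injective e0.symm.injective]
    omega
  obtain ⟨x, hx, hfix⟩ := SzC.exists_conj
    (J := ((stabilizer (stabilizer G a) b).comap e0.toMonoidHom).map G24sM.K.subtype)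
    (Subgroup.map_subtype_le _)
    (by rw [Subgroup.card_map_of_injective G24sM.K.subtype_injective, hJ])
  let e2 : G24sM.K ≃* stabilizer G a := (MulAut.conj (⟨x, hx⟩ : G24sM.K)).symm.trans e0
  have hK0 : (stabilizer (stabilizer G a) b).comap e2.toMonoidHom = K0 := by
    refine Subgroup.eq_of_le_of_card_ge (fun y hy => mem_K0.2 ?_) ?_
    · have := hfix _ ⟨_, (show (MulAut.conj (⟨x, hx⟩ : G24sM.K)).symm y ∈
        (stabilizer (stabilizer G a) b).comap e0.toMonoidHom from hy), rfl⟩
      simpa [mul_assoc] using this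
    · have := hst b
      rw [hb] at this
      rw [card_K0, Subgroup.comap_equiv_eq_map_symm',
        Subgroup.card_map_of_injective e2.symm.injective]
      omega
  have ha : orbit (stabilizer G a) a = {a} := by
    ext p
    exact ⟨fun ⟨y, hy⟩ => hy.symm.trans y.2, fun h => h ▸ mem_orbit_self _⟩
  have hd : ∀ p q : Ω, (orbit (stabilizer G a) p).ncard ≠ (orbit (stabilizer G a) q).ncard →
      Disjoint (orbit (stabilizer G a) p) (orbit (stabilizer G a) q) := fun p q h =>
    (orbit.eq_or_disjoint p q).resolve_left fun e => h (by rw [e])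
  have hu : orbit (stabilizer G a) a ∪ (orbit (stabilizer G a) b ∪ orbit (stabilizer G a) c) =
      Set.univ := by
    have h1 : (orbit (stabilizer G a) a).ncard = 1 := by rw [ha, Set.ncard_singleton]
    rw [Set.eq_univ_iff_ncard, Set.ncard_union_eq (Set.disjoint_union_right.2
      ⟨hd _ _ (by omega), hd _ _ (by omega)⟩), Set.ncard_union_eq (hd _ _ (by omega)), h1, hb, hc,
      Nat.card_eq_fintype_card, hΩ]
  have hyp : Hyp ((stabilizer G a).subtype.comp e2.toMonoidHom) a b := by
    refine ⟨(stabilizer G a).subtype_injective.comp e2.injective, fun y => ⟨fun h => ?_, ?_⟩,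
      fun y => ?_, fun p => ?_⟩
    · exact ⟨e2.symm ⟨y, h⟩, by simp⟩
    · rintro ⟨z, rfl⟩
      exact (e2 z).2
    · rw [← hK0]
      rfl
    · rcases (hu ▸ Set.mem_univ p : p ∈ _ ∪ (_ ∪ _)) with h | ⟨y, h⟩ | h
      · exact Or.inl (by rwa [ha] at h)
      · exact Or.inr (Or.inl ⟨e2.symm y, by
          change (e2 (e2.symm y) : G) • b = p
          rw [MulEquiv.apply_symm_apply]
          exact h⟩)
      · refine Or.inr (Or.inr fun y hy h7 => ?_)
        have h1 := hst p
        rw [orbit_eq_iff.2 h, hc] at h1
        have h2 := (stabilizer (stabilizer G a) p).orderOf_dvd_natCard (x := e2 y) hy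
        rw [MulEquiv.orderOf_eq, h7] at h2
        omega
  obtain ⟨u, hu⟩ := exists_smul_eq G b a
  refine hyp.iso hu ?_
  rw [← (stabilizer G a).index_mul_card, index_stabilizer_of_transitive, hH,
    Nat.card_eq_fintype_card, hΩ]

end Cfsg.Agent.S1668
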