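import Cfsg.Statements.S1706
import Cfsg.Agent.H90.ThO

set_option autoImplicit false
open Cfsg

namespace Cfsg.Agent.S1706

/-- In the presented Thompson sporadic group (generators a, b, c, d, e, s, t, u), the subgroup generated by the images of a, b, c, d, e, s, t has index 143127000. -/
theorem result : (((Subgroup.closure ({Cfsg.Spor.Th.a, Cfsg.Spor.Th.b, Cfsg.Spor.Th.c, Cfsg.Spor.Th.d, Cfsg.Spor.Th.e, Cfsg.Spor.Th.s, Cfsg.Spor.Th.t} : Set (FreeGroup Cfsg.Spor.Th.Gen))).map (PresentedGroup.mk (Cfsg.Spor.coxRelators Cfsg.Spor.Th.edges ∪ {r | r ∈ Cfsg.Spor.Th.extra})))).index = 143127000 := by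
  open Cfsg.Agent.H90 Cfsg.Agent.H44 in
  rw [ThP.words_eq, ← ThO.index_K, ThV.φ_range]
  congr 1
  apply le_antisymm
  · exact H44.wgen_le.2 fun s hs => H90.F3.ev_mem_gen _ (by revert s; decide)
  · have h : ∀ x, [x] ∈ [[1], [2], [3], [4], [5], [6], [8]] →
        H90.ThP.gm x ∈ H44.wgen H90.ThP.gm [[1], [2], [3], [4], [5], [6], [8]] := fun x hx =>
      H44.ev_single H90.ThP.gm x ▸ H44.mem_wgen _ _ hx
    have h7 := H90.ThP.sat [6, 7] (by decide)
    have h9 := H90.ThP.sat [8, 9] (by decide)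
    rw [H90.ThV.ev_two] at h7 h9
    refine H44.gen_le.2 fun x h1 h2 => ?_
    interval_cases x
    exacts [h 1 (by decide), h 2 (by decide), h 3 (by decide), h 4 (by decide), h 5 (by decide),
      h 6 (by decide), eq_inv_of_mul_eq_one_right h7 ▸ inv_mem (h 6 (by decide)), h 8 (by decide),
      eq_inv_of_mul_eq_one_right h9 ▸ inv_mem (h 8 (by decide))]

end Cfsg.Agent.S1706
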