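import Cfsg.Statements.S1741
import Cfsg.Agent.H89.SMc

set_option autoImplicit false
open Cfsg

namespace Cfsg.Agent.S1741

/-- Let G be a finite simple group whose Sylow 2-subgroups are isomorphic to a Sylow 2-subgroup of the Mathieu group of degree 12, and suppose G has two involutions that are not conjugate. Then G is isomorphic to the Mathieu group of degree 12. -/
theorem result {G : Type*} [Group G] [Finite G] [IsSimpleGroup G]
    (S : Sylow 2 G) (P : Sylow 2 ↥Cfsg.Spor.M12) (hS : Nonempty (↥(S : Subgroup G) ≃* ↥(P : Subgroup ↥Cfsg.Spor.M12)))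
    (h2 : ∃ x y : G, orderOf x = 2 ∧ orderOf y = 2 ∧ ¬ IsConj x y) : Cfsg.Spor.IsoM12 G := by
  obtain ⟨e⟩ := hS
  obtain ⟨x, y, hx, hy, hxy⟩ := h2
  obtain ⟨ι0, h0⟩ := H89.S.exists_fr
  obtain ⟨ι, h⟩ := h0.of_equiv P S e
  exact H89.S.main hx hy hxy h

end Cfsg.Agent.S1741
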