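import Cfsg.Statements.S1745
import Cfsg.Agent.H38.StdA4
import Cfsg.Agent.S3334

set_option autoImplicit false
open Cfsg

namespace Cfsg.Agent.S1745

/-- Let G be a non-abelian finite simple group with the strong B-property (every section of G has the B-property) possessing a standard subgroup L which is a non-split double cover of the alternating group of degree 8. Then G is a group of Lie type in characteristic 3, or an alternating group of degree at least 9, or G is isomorphic to the McLaughlin group. -/
theorem result {G : Type*} [Group G] [Finite G] [IsSimpleGroup G] (hG : ¬ IsMulCommutative G)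
    (hB : Cfsg.HasStrongBProperty G) (L : Subgroup G) (hL : Cfsg.IsStandardSubgroup L)
    (hLX : Cfsg.IsNonsplitDoubleCover ↥L ↥(alternatingGroup (Fin 8))) :
    Cfsg.IsLieTypeChar 3 G ∨ (∃ n : ℕ, 9 ≤ n ∧ Nonempty (G ≃* ↥(alternatingGroup (Fin n)))) ∨ Cfsg.Spor.IsoMcL G := by
  obtain ⟨z, hz, hc⟩ := H38.SA.cent_of_simple hG hL (by simp) hLX
  refine Or.inr (Or.inr ((S3334.result z hz hc).resolve_left fun e => ?_))
  rw [H38.SA.oddCore_eq_bot_of_simple (even_iff_two_dvd.2 (hz ▸ orderOf_dvd_natCard z)), sup_bot_eq] at e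
  have hc : ∀ g : G, Commute g z := fun g =>
    Subgroup.mem_centralizer_singleton_iff.1 (e ▸ Subgroup.mem_top g)
  have h1 : (Subgroup.zpowers z).Normal := ⟨fun x hx g => by
    obtain ⟨n, rfl⟩ := Subgroup.mem_zpowers_iff.1 hx
    rw [((hc g).zpow_right n).eq, mul_inv_cancel_right]
    exact hx⟩
  refine H38.SA.no_index_two hG ⊥ inferInstance ?_
  rw [Subgroup.index_bot, ← Subgroup.card_top, ← h1.eq_bot_or_eq_top.resolve_left (by
    rw [Subgroup.zpowers_eq_bot]; rintro rfl; simp at hz), Nat.card_zpowers, hz]

end Cfsg.Agent.S1745
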