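import Cfsg.Statements.S1749
import Cfsg.Agent.H59.StD
import Cfsg.Agent.H66.ONE
import Cfsg.Agent.H66.ONMat
import Cfsg.Agent.S0820
import Cfsg.Agent.H38.StdA4

set_option autoImplicit false
open Cfsg

namespace Cfsg.Agent.S1749

open Subgroup H66.ON H59.St

/-- Let G be a non-abelian finite simple group with the strong B-property (every section of G has the B-property) possessing a standard subgroup L whose centre is cyclic of order 4 with quotient isomorphic to the projective special linear group of dimension 3 over the field with 4 elements. Then G is a group of Lie type in characteristic 3, or an alternating group of degree at least 9, or G is isomorphic to the O'Nan group. -/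
theorem result {G : Type*} [Group G] [Finite G] [IsSimpleGroup G] (hG : ¬ IsMulCommutative G)
    (hB : Cfsg.HasStrongBProperty G) (L : Subgroup G) (hL : Cfsg.IsStandardSubgroup L)
    {F : Type*} [Field F] [Fintype F] (hF : Fintype.card F = 4)
    (hLX : IsCyclic ↥(Subgroup.center ↥L) ∧ Nat.card ↥(Subgroup.center ↥L) = 4 ∧
      Nonempty (↥L ⧸ Subgroup.center ↥L ≃* Matrix.ProjectiveSpecialLinearGroup (Fin 3) F)) :
    Cfsg.IsLieTypeChar 3 G ∨ (∃ n : ℕ, 9 ≤ n ∧ Nonempty (G ≃* ↥(alternatingGroup (Fin n)))) ∨ Cfsg.Spor.IsoON G := by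
  obtain ⟨hZc, hZ4, ⟨e⟩⟩ := hLX
  obtain ⟨ℓ, l1, l2, l3⟩ := Mat.exists_gens hF e
  have hX : XH L := ⟨hZc, hZ4, l3, fun a b ha hb => by
    simpa using e.symm.toMonoidHom.map_isConj (S0820.result hF (e a) (e b)
      (by rwa [e.orderOf_eq]) (by rwa [e.orderOf_eq]))⟩
  have hp := hL.1.1.commutator_eq_top
  obtain ⟨g, hg, h7, h9⟩ := (hX.exists_xd hp ⟨l1, l2, l3⟩).elim fun _ hg => hX.exists_std hg
  obtain ⟨N, okN, hN⟩ : ∃ N ∈ [[7], [9, 12]], H44.ev g N = 1 :=
    (hg.cases_N hX h7 h9).elim (fun e => ⟨_, by decide, e⟩) fun e => ⟨_, by decide, e⟩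
  have h0 : XS g N := ⟨hX, hg, h7, h9, hg.sat, hg.base hX, hN, okN⟩
  have k : ∀ p : L, L.subtype p ∈ K L.subtype ↔ p ∈ center L := fun p => by
    rw [memK, mem_center_iff]
    exact forall_congr' fun q => (Subtype.ext_iff (a1 := q * p) (a2 := p * q)).symm
  have ht : orderOf (L.subtype (c g 9 * c g 9)) = 2 :=
    H10.orderOf_eq_two_of (congrArg Subtype.val h0.y4) fun e => h0.yy (Subtype.ext e)
  have h : SG L.subtype g N := ⟨h0, L.subtype_injective, L.range_subtype.symm ▸ hL, ht, ⟨_, rfl⟩,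
    (k _).2 (mul_mem h0.yZ h0.yZ), by
      rintro _ ⟨p, rfl⟩ a b
      exact (h0.invZ ((k p).1 a) (Subtype.ext b)).imp (congrArg Subtype.val) (congrArg Subtype.val)⟩
  obtain ⟨s, hs, hne⟩ := H81.exists_conj_of_not_isolated ht fun hi =>
    hG ⟨⟨H81.comm_of_simple_of_isolated hi⟩⟩
  obtain ⟨μ, hμ⟩ := h.exists_sw hs.symm hne
  obtain ⟨-, -, -, -, rfl, -⟩ := h.NB hμ
  have h2 := H38.SA.no_index_two hG
  have hI : ∀ {e}, e ∈ I L.subtype → e ∈ L.subtype.range := h.IA hμ h2
    (H38.SA.oddCore_eq_bot_of_simple (even_iff_two_dvd.2 (ht ▸ _root_.orderOf_dvd_natCard _)))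
  obtain ⟨s, s1, s2, s3⟩ := h.two hμ h2
  obtain ⟨θ, hθ⟩ := h.aut s1
  have hA : ∀ y ∈ L.subtype.range, Commute y _ := fun _ ⟨p, e⟩ => e ▸ memK.1 h.tK p
  obtain ⟨g', N, α, hD⟩ := exists_HD hX hp ⟨l1, l2, l3⟩ L.subtype h.inj ht θ hθ
    (fun p hp => s2 ⟨p, (L.subtype p)⁻¹ * s, memK.2 fun q => (cj_eq.1 (by
      rw [cj_mul, ← hθ, hp, ← cj_map, cj_cj])).symm, by simp⟩) (hI (h.sqI s1))
    fun y => ⟨fun e => (s3 y e).symm.imp hI hI, fun e => e.elim (hA y) fun e =>
      (inv_mul_cancel_right y s ▸ (hA _ e).mul_left s1 : Commute y _)⟩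
  refine .inr (.inr (hD.iso ?_))
  rw [← (L.subtype.range.subgroupOf _).card_mul_index, Nat.card_congr (subgroupOfEquivOfLe
    fun y hy => H10.Std.mem_cent1.2 (hA y hy)).toEquiv, L.range_subtype, hX.cardX,
    show (L.subgroupOf _).index = 2 from relIndex_eq_two_iff_exists_notMem_and.2
      ⟨s⁻¹, inv_mem (H10.Std.mem_cent1.2 s1), fun e => s2 (AI L.subtype ⟨s, inv_mem_iff.1 e⟩),
        fun y hy => (s3 y (H10.Std.mem_cent1.1 hy)).imp (fun e => L.range_subtype.le (hI e))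
          fun e => L.range_subtype.le (hI e)⟩]

end Cfsg.Agent.S1749
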