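import Cfsg.Statements.S1762
import Cfsg.Agent.S1761
import Cfsg.Agent.S1719
import Cfsg.Agent.H92.W3F
import Cfsg.Agent.H69.WcE
import Cfsg.Agent.H88.W3N1
import Cfsg.Agent.H18.W3N5
import Cfsg.Agent.H99.W3N2b
import Cfsg.Agent.H33.N2a
import Cfsg.Agent.H52.FStar

set_option autoImplicit false
open Cfsg

namespace Cfsg.Agent.S1762

/-- Let G be a non-abelian finite simple group and let z be an involution of G such that Q, the generalized Fitting subgroup of the centralizer C of z, is a 2-group of symplectic type (every characteristic abelian subgroup of Q is cyclic); suppose moreover that Q is extraspecial of order 2^7. Then G is isomorphic to the projective special linear group of dimension 5 over the field with 2 elements, the projective special unitary group of dimension 5 over the field with 4 elements, the Mathieu group of degree 24, the Held group, or the sporadic Suzuki group. -/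
theorem result {G : Type*} [Group G] [Finite G] [IsSimpleGroup G]
    (hG : ¬ IsMulCommutative G) (z : G) (hz : orderOf z = 2) (hQ : Cfsg.IsOfSymplecticType ↥(Cfsg.generalizedFittingSubgroup ↥(Subgroup.centralizer ({z} : Set G)))) (hE : Cfsg.IsExtraspecial 2 ↥(Cfsg.generalizedFittingSubgroup ↥(Subgroup.centralizer ({z} : Set G)))) (hcard : Nat.card ↥(Cfsg.generalizedFittingSubgroup ↥(Subgroup.centralizer ({z} : Set G))) = 2 ^ 7) :
    (∃ (F : Type) (_ : Field F) (_ : Fintype F), Fintype.card F = 2 ∧ Nonempty (G ≃* Matrix.ProjectiveSpecialLinearGroup (Fin 5) F)) ∨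
      (∃ (F : Type) (_ : Field F) (_ : Fintype F), Fintype.card F = 4 ∧ Nonempty (G ≃* Cfsg.PSU 5 F 2)) ∨
      Cfsg.Spor.IsoM24 G ∨ Cfsg.Spor.IsoHe G ∨ Cfsg.Spor.IsoSuz G := by
  have hz1 : z ≠ 1 := (H49.orderOf_two_iff.1 hz).1
  obtain ⟨hl, hO⟩ := H49.LX.of_fstar hz1 rfl
    ((H49.isExtraspecial_map_iff (Subgroup.subtype_injective _)).2 hE)
  have hc : Nat.card (H49.O2C z) = 128 := by
    rw [H49.O2C, ← hO, Subgroup.card_map_of_injective (Subgroup.subtype_injective _), hcard]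
    norm_num
  have hl' : H49.LX (H49.O2C z) z := by rw [H49.O2C, ← hO]; exact hl
  have hN : ∀ c : Subgroup.centralizer ({z} : Set G),
      c ∈ generalizedFittingSubgroup (Subgroup.centralizer ({z} : Set G)) ↔ c.1 ∈ H49.O2C z :=
    fun c => by
      rw [H49.O2C, ← hO]
      exact (Subgroup.mem_map_iff_mem (Subgroup.subtype_injective _)).symm
  rcases S1761.result z hz hQ hE 3 le_rfl hcard with h | ⟨-, h | h⟩ | hirr
  · exact Or.inl h
  · exact Or.inr (Or.inr (Or.inl h))
  · exact Or.inr (Or.inr (Or.inr (Or.inl h)))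
  by_cases hw : H69.XV.WC z
  · exact Or.inr (Or.inl (H69.Out.wc3 hw hc))
  obtain ⟨g, hg, hg'⟩ : ∃ g : G, g * z * g⁻¹ ∈ H49.O2C z ∧ g * z * g⁻¹ ≠ z := by
    by_contra hn
    push Not at hn
    exact hw ⟨hl', hn⟩
  have ip : H92.Lx.IP z (g * z * g⁻¹) := ⟨hl', ⟨g, rfl⟩, hg, hg'⟩
  obtain ⟨d⟩ := H69.XV.exists_VD hl'
  have hres := H92.Lx.res_of_simple hl'
  have irr : ∀ W, H92.Lx.Inv d W → W = ⊥ ∨ W = ⊤ := fun W hW => by
    refine (hirr ((d.pre W).subgroupOf _) ⟨fun x hx c => ?_⟩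
      (by rw [Subgroup.zpowers_le]; exact d.z_mem_pre W) fun x hx => (hN x).2 hx.1).imp
      (fun e => ?_) fun e => ?_
    · have hc := Subgroup.mem_centralizer_singleton_iff.1 c.2
      refine d.mem_pre.2 ⟨hl'.conj_mem hc hx.1, ?_⟩
      have := hW c hc _ hx.2
      rwa [d.ρ_p hc hx.1] at this
    · refine (Submodule.eq_bot_iff _).2 fun v hv => ?_
      obtain ⟨x, hx, rfl⟩ := d.p_surj v
      have : (⟨x, Subgroup.mem_centralizer_singleton_iff.2 (hl'.cen x hx)⟩ :
          Subgroup.centralizer ({z} : Set G)) ∈ (d.pre W).subgroupOf _ := d.mem_pre.2 ⟨hx, hv⟩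
      rw [e] at this
      obtain ⟨k, hk⟩ := this
      exact (d.p_eq_zero hx).2 ((H49.mem_zpowers_invol hl'.zz).1 ⟨k, congrArg Subtype.val hk⟩)
    · refine Submodule.eq_top_iff'.2 fun v => ?_
      obtain ⟨x, hx, rfl⟩ := d.p_surj v
      have : (⟨x, Subgroup.mem_centralizer_singleton_iff.2 (hl'.cen x hx)⟩ :
          Subgroup.centralizer ({z} : Set G)) ∈ (d.pre W).subgroupOf _ := e ▸ (hN _).2 hx
      exact (d.mem_pre.1 this).2
  have tr : H92.W3.TR z := H92.W3.tr_of ip hc d irr fun u hu => by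
    by_contra hn
    rw [not_or] at hn
    have S := H92.W3.sys ip hc irr
    obtain ⟨U₁, U₂, h1, h2, h3, h4, h5, h6⟩ := H92.W3.n34 S (H92.W3.card_V d hc)
      ⟨1, by simp, d.ρ_one _⟩ ((H92.W3.UU_iff ip).2 hu) hn.1 hn.2
    exact H18.W3.n5 hres hc d S h1 h2 h3 h4 h5 (ip.pt_ne d) h6
  have := @H52.fstar_normal (Subgroup.centralizer ({z} : Set G)) _
  rcases H33.N2a.n2a tr d (fun a b c a0 b0 ba qa qb qc ab ac bc => by
    by_contra c0
    exact H88.W3.n1 tr d a0 b0 ba c0 qa qb qc ab ac bc) hN with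
    ⟨⟨e⟩⟩ | ⟨K, r, v, h1, h2, h3, h4, h5⟩
  · exact Or.inr (Or.inr (Or.inr (Or.inr (S1719.result z hz _ rfl hE hcard e
      ⟨g, ⟨Subgroup.mem_centralizer_singleton_iff.2 ip.tz, (hN _).2 hg⟩, hg'⟩))))
  · exact (H99.W3.n2b hres tr d h1 h2 h3 h4 h5).elim

end Cfsg.Agent.S1762
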