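import Cfsg.Statements.S1821
import Cfsg.Agent.H81.QTKF
import Cfsg.Agent.S2068

set_option autoImplicit false
open Cfsg

namespace Cfsg.Agent.S1821


/-- Nonsolvable uniqueness groups in a simple QTKE-group. Let G be a non-abelian finite simple QTKE-group, T a Sylow 2-subgroup of G, and L a maximal member of ℒ(G, T) (so L is a 𝒞-component of ⟨L, T⟩, T is Sylow in ⟨L, T⟩ and O₂(⟨L, T⟩) ≠ 1, and L is maximal among such subgroups). Then (1) L is a 𝒞-component of every subgroup H of G with O₂(H) ≠ 1 containing ⟨L, T⟩; (2) F*(L) = O₂(L); and (3) N_G(⟨L^T⟩) is the unique maximal 2-local subgroup of G containing ⟨L, T⟩, so that ⟨L, T⟩ is a uniqueness subgroup. -/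
theorem result {G : Type*} [Group G] [Finite G] [IsSimpleGroup G]
    (hG : ¬ IsMulCommutative G) (hQ : Cfsg.IsQTKE G) (T : Sylow 2 G) (L : Subgroup G)
    (hL : L ∈ Cfsg.calLMax (T : Subgroup G)) :
    (∀ H ∈ Cfsg.calHOver (L ⊔ (T : Subgroup G)), L.subgroupOf H ∈ Cfsg.calC ↥H) ∧
    Cfsg.generalizedFittingSubgroup ↥L = Cfsg.pCore 2 ↥L ∧
    Cfsg.maxTwoLocalsContaining (L ⊔ (T : Subgroup G)) =
      {Subgroup.normalizer (Cfsg.conjClosure L (T : Subgroup G) : Set G)} := by
  exact H81.QT.s1821 (H81.QT.kf_of S2068.result) hG hQ T L hL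

end Cfsg.Agent.S1821
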