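import Cfsg.Statements.S1893
import Cfsg.Agent.H56.QuadFit
import Cfsg.Agent.H2.Hall

set_option autoImplicit false
open Cfsg

namespace Cfsg.Agent.S1893

/-- Let S be a finite solvable group, π a set of primes containing neither 2 nor 3, H a Hall π-subgroup of S, and A a self-centralizing normal subgroup of the Fitting subgroup F(H). Then C_S(A) = A × D for a normal subgroup D of C_S(A) whose order has no prime divisor in π. -/
theorem result {S : Type*} [Group S] [Finite S] [Group.IsSolvable S]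
    (π : Set ℕ) (h2 : 2 ∉ π) (h3 : 3 ∉ π) (H : Subgroup S) (hH : Cfsg.IsPiHall π H)
    (A : Subgroup S) (hA : Cfsg.IsSCN ((Cfsg.fittingSubgroup H).map H.subtype) A) :
    ∃ D : Subgroup S, D ≤ Subgroup.centralizer (A : Set S) ∧
      (∀ c ∈ Subgroup.centralizer (A : Set S), ∀ d ∈ D, c * d * c⁻¹ ∈ D) ∧
      A ⊓ D = ⊥ ∧ A ⊔ D = Subgroup.centralizer (A : Set S) ∧
      ∀ q : ℕ, q.Prime → q ∣ Nat.card D → q ∉ π := by
  obtain ⟨hA1, hA2, hA3⟩ := hA
  set FH := (Cfsg.fittingSubgroup H).map H.subtype with hFH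
  have hFHH : FH ≤ H := Subgroup.map_subtype_le _
  let K := piCore πᶜ S
  let f := QuotientGroup.mk' K
  have hf : Function.Surjective f := QuotientGroup.mk'_surjective _
  have hHK : H ⊓ K = ⊥ := by
    apply Subgroup.eq_bot_of_card_eq
    exact H2.IsPiNum.eq_one (π := π) (H2.IsPiNum.of_dvd hH.1 (Subgroup.card_dvd_of_le inf_le_left))
      (H2.IsPiNum.of_dvd (H3.piCore_pi πᶜ S) (Subgroup.card_dvd_of_le inf_le_right))
  have hinj : ∀ x ∈ H, ∀ y ∈ H, f x = f y → x = y := by
    intro x hx y hy h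
    have h1 : x⁻¹ * y ∈ H ⊓ K := ⟨H.mul_mem (H.inv_mem hx) hy, QuotientGroup.eq.1 h⟩
    rw [hHK, Subgroup.mem_bot] at h1
    exact inv_mul_eq_one.1 h1
  set F := Cfsg.fittingSubgroup (S ⧸ K) with hF
  have hFn : F.Normal := H3.fitting_normal _
  have hFπ : H2.IsPiNum π (Nat.card F) := by
    intro p hp hd
    by_contra hpπ
    have : Fact p.Prime := ⟨hp⟩
    obtain ⟨x, hx, hxo⟩ := H3.exists_mem_orderOf_eq_prime hp hd
    have h1 : x ∈ pCore p (S ⧸ K) := H7.mem_pCore_of_mem_fitting hx (k := 1)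
      (by rw [pow_one, ← hxo]; exact pow_orderOf_eq_one x)
    have h4 : pCore p (S ⧸ K) ≤ piCore πᶜ (S ⧸ K) := by
      rw [← H3.piCore_singleton]
      exact H3.piCore_mono (by rintro _ rfl; exact hpπ)
    have h5 := h4 h1
    rw [H3.piCore_quotient_piCore, Subgroup.mem_bot] at h5
    rw [h5, orderOf_one] at hxo
    exact hp.one_lt.ne hxo
  have hF5 : ∀ p : ℕ, p.Prime → p ∣ Nat.card F → 5 ≤ p := by
    intro p hp hd
    have h1 := hFπ p hp hd
    have h4 : p ≠ 2 := by rintro rfl; exact h2 h1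
    have h5 : p ≠ 3 := by rintro rfl; exact h3 h1
    have h6 : p ≠ 4 := by rintro rfl; exact absurd hp (by decide)
    have := hp.two_le
    omega
  have hFH' : F ≤ FH.map f := by
    have h1 : H ⊓ F.comap f ≤ FH := by
      refine H3.le_map_fitting ?_ inf_le_left
        (H4.le_normalizer_inf Subgroup.le_normalizer Subgroup.le_normalizer_of_normal)
      have := H3.fitting_isNilpotent (S ⧸ K)
      let g : (H ⊓ F.comap f : Subgroup S) →* F :=
        (f.comp (H ⊓ F.comap f).subtype).codRestrict F (fun x => x.2.2)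
      have hg : Function.Injective g := fun x y h =>
        Subtype.ext (hinj _ x.2.1 _ y.2.1 (congrArg Subtype.val h))
      exact nilpotent_of_mulEquiv (MonoidHom.ofInjective hg).symm
    intro x hx
    obtain ⟨y, hy, rfl⟩ := H2.normal_le_of_isPiHall (H2.isPiHall_map hf hH) hFπ hx
    exact Subgroup.mem_map_of_mem f (h1 ⟨hy, hx⟩)
  have hFC : F ⊓ Subgroup.centralizer ((A.map f : Subgroup _) : Set (S ⧸ K)) ≤ A.map f := by
    rintro x ⟨hx, hxC⟩
    obtain ⟨y, hy, rfl⟩ := hFH' hx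
    refine Subgroup.mem_map_of_mem f (hA3.le ⟨hy, fun a ha => ?_⟩)
    have h1 := hFHH (hA1 ha)
    have h4 := hFHH hy
    refine hinj _ (H.mul_mem h1 h4) _ (H.mul_mem h4 h1) ?_
    rw [map_mul, map_mul]
    exact hxC _ (Subgroup.mem_map_of_mem f ha)
  have hFN : F ≤ Subgroup.normalizer ((A.map f : Subgroup _) : Set (S ⧸ K)) :=
    hFH'.trans ((Subgroup.map_mono hA2).trans (Subgroup.le_normalizer_map f))
  have hCA : Subgroup.centralizer ((A.map f : Subgroup _) : Set (S ⧸ K)) ≤ A.map f := by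
    intro c hc
    refine hFC ⟨H56.mem_fitting_of_quadratic hF5 ?_, hc⟩
    have h1 : ⁅F, Subgroup.zpowers c⁆ ≤ A.map f := by
      refine le_trans (le_inf (Subgroup.commutator_le_left _ _) ?_) hFC
      refine (Subgroup.commutator_mono le_rfl (Subgroup.zpowers_le.2 hc)).trans ?_
      exact Subgroup.le_normalizer_iff_commutator_le_right.1 (H4.le_normalizer_centralizer hFN)
    rw [eq_bot_iff]
    refine (Subgroup.commutator_mono h1 (Subgroup.zpowers_le.2 hc)).trans ?_
    rw [Subgroup.commutator_comm, Subgroup.commutator_eq_bot_iff_le_centralizer.2 le_rfl]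
  have hAC : A ≤ Subgroup.centralizer (A : Set S) := hA3.ge.trans inf_le_right
  refine ⟨K ⊓ Subgroup.centralizer (A : Set S), inf_le_right, fun c hc d hd => ⟨?_, ?_⟩, ?_,
    le_antisymm (sup_le hAC inf_le_right) fun c hc => ?_, fun q hq hd => ?_⟩
  · exact Subgroup.Normal.conj_mem inferInstance d hd.1 c
  · exact Subgroup.mul_mem _ (Subgroup.mul_mem _ hc hd.2) (Subgroup.inv_mem _ hc)
  · rw [eq_bot_iff, ← hHK]
    exact inf_le_inf (hA1.trans hFHH) inf_le_left
  · have h1 : f c ∈ Subgroup.centralizer ((A.map f : Subgroup _) : Set (S ⧸ K)) := by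
      rintro _ ⟨a, ha, rfl⟩
      rw [← map_mul, hc a ha, map_mul]
    obtain ⟨a, ha, h4⟩ := hCA h1
    have h5 : c = a * (a⁻¹ * c) := by group
    rw [h5]
    exact Subgroup.mul_mem _ (Subgroup.mem_sup_left ha) (Subgroup.mem_sup_right
      ⟨QuotientGroup.eq.1 h4, Subgroup.mul_mem _ (Subgroup.inv_mem _ (hAC ha)) hc⟩)
  · exact H3.piCore_pi πᶜ S q hq (hd.trans (Subgroup.card_dvd_of_le inf_le_left))

end Cfsg.Agent.S1893
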