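import Cfsg.Statements.S1907
import Cfsg.Agent.H7.PPCore

set_option autoImplicit false
open Cfsg

namespace Cfsg.Agent.S1907

/-- Let P be a Sylow p-subgroup of a finite group G, H = P ∩ O_{p',p}(G), N = N_G(H) and D = O_{p'}(G). (a) If y is an element of p-power order of N and d ∈ D with d⁻¹ y d ∈ N, then d = d₁ d₂ with d₁ ∈ C_D(y) and d₂ ∈ C_D(H). (b) Two elements of P that are conjugate in G are conjugate in N. -/
theorem result {G : Type*} [Group G] [Finite G] {p : ℕ} [Fact p.Prime] (P : Sylow p G) :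
    (∀ y ∈ Subgroup.normalizer (((P : Subgroup G) ⊓ Cfsg.pPrimePCore p G : Subgroup G) : Set G), (∃ k : ℕ, orderOf y = p ^ k) →
      ∀ d ∈ Cfsg.pPrimeCore p G, d⁻¹ * y * d ∈ Subgroup.normalizer (((P : Subgroup G) ⊓ Cfsg.pPrimePCore p G : Subgroup G) : Set G) →
        ∃ d₁ ∈ Cfsg.pPrimeCore p G ⊓ Subgroup.centralizer ({y} : Set G),
          ∃ d₂ ∈ Cfsg.pPrimeCore p G ⊓ Subgroup.centralizer (((P : Subgroup G) ⊓ Cfsg.pPrimePCore p G : Subgroup G) : Set G), d = d₁ * d₂) ∧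
    ∀ x y : G, x ∈ (P : Subgroup G) → y ∈ (P : Subgroup G) → IsConj x y →
      ∃ n ∈ Subgroup.normalizer (((P : Subgroup G) ⊓ Cfsg.pPrimePCore p G : Subgroup G) : Set G), n * x * n⁻¹ = y := by
  set H : Subgroup G := (P : Subgroup G) ⊓ Cfsg.pPrimePCore p G with hH
  have hHp : IsPGroup p H := P.2.to_inf_left
  have part1 : ∀ y ∈ Subgroup.normalizer (H : Set G), (∃ k : ℕ, orderOf y = p ^ k) →
      ∀ d ∈ Cfsg.pPrimeCore p G, d⁻¹ * y * d ∈ Subgroup.normalizer (H : Set G) →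
        ∃ d₁ ∈ Cfsg.pPrimeCore p G ⊓ Subgroup.centralizer ({y} : Set G),
          ∃ d₂ ∈ Cfsg.pPrimeCore p G ⊓ Subgroup.centralizer (H : Set G), d = d₁ * d₂ := by
    rintro y hy ⟨k, hk⟩ d hd hdy
    have hz : Subgroup.zpowers y ≤ Subgroup.normalizer (H : Set G) := Subgroup.zpowers_le.mpr hy
    obtain ⟨c, hc, hdc⟩ := H4.exists_mul_mem_centralizer (A := Subgroup.zpowers y)
      (D := Cfsg.pPrimeCore p G ⊓ Subgroup.centralizer (H : Set G))
      (H83.le_norm_inf Subgroup.le_normalizer_of_normal (H83.le_norm_cent hz))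
      (by
        rw [Nat.card_zpowers, hk]
        exact (H3.coprime_card_of_le inf_le_left (H3.pPrimeCore_coprime p G)).symm.pow_left k)
      (Or.inl inferInstance) (x := d) (fun a ha => by
        have h1 : d⁻¹ * (a * d * a⁻¹) ∈ Cfsg.pPrimeCore p G :=
          mul_mem (inv_mem hd) ((pPrimeCore_normal p G).conj_mem _ hd a)
        refine ⟨h1, H7.pPrimeCore_inf_normalizer_le hHp ⟨h1, ?_⟩⟩
        have h2 : d⁻¹ * a * d ∈ Subgroup.normalizer (H : Set G) := by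
          obtain ⟨n, rfl⟩ := ha
          have := zpow_mem hdy n
          have e := conj_zpow (i := n) (a := d⁻¹) (b := y)
          rw [inv_inv] at e
          rwa [e] at this
        have := mul_mem h2 (inv_mem (hz ha))
        simpa [mul_assoc] using this)
    refine ⟨d * c, ⟨mul_mem hd hc.1, ?_⟩, c⁻¹, inv_mem hc, by group⟩
    exact Subgroup.centralizer_le (by simp) hdc
  refine ⟨part1, fun x y hx hy hxy => ?_⟩
  obtain ⟨g, rfl⟩ := isConj_iff.mp hxy
  obtain ⟨n, hn, k, hk, rfl⟩ :=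
    H7.exists_normalizer_mul_pPrimeCore (H7.isSylowIn_inf_pPrimePCore P) g
  have hPN : (P : Subgroup G) ≤ Subgroup.normalizer (H : Set G) :=
    haveI := H3.pPrimePCore_normal p G
    H83.le_norm_inf Subgroup.le_normalizer Subgroup.le_normalizer_of_normal
  obtain ⟨j, hj⟩ := IsPGroup.iff_orderOf.mp P.2 ⟨x, hx⟩
  obtain ⟨d₁, hd₁, d₂, hd₂, h⟩ := part1 x (hPN hx) ⟨j, by rw [← hj, Subgroup.orderOf_mk]⟩ k⁻¹
    (inv_mem hk) (by
      have := mul_mem (mul_mem (inv_mem hn) (hPN hy)) hn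
      convert this using 1
      group)
  refine ⟨n * d₂⁻¹, mul_mem hn (inv_mem (Subgroup.centralizer_le_normalizer _ hd₂.2)), ?_⟩
  have h1 : d₁ * x = x * d₁ := Subgroup.mem_centralizer_singleton_iff.mp hd₁.2
  rw [inv_eq_iff_eq_inv] at h
  rw [h]
  calc n * d₂⁻¹ * x * (n * d₂⁻¹)⁻¹ = n * d₂⁻¹ * d₁⁻¹ * (d₁ * x) * (n * d₂⁻¹)⁻¹ := by group
    _ = _ := by rw [h1]; group

end Cfsg.Agent.S1907
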