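import Cfsg.Statements.S1914
import Cfsg.Agent.H3.Sm5
import Cfsg.Agent.H3.SmR

set_option autoImplicit false
open Cfsg

namespace Cfsg.Agent.S1914

open Subgroup Cfsg.Agent.H8 Cfsg.Agent.H3.Sm

theorem four {G : Type*} [Group G] {r z s : G} (rr : r * r = z) (z1 : z ≠ 1) (zz : z * z = 1)
    (hs : s ∈ zpowers r) (ss : s * s = 1) : s = 1 ∨ s = z := by
  obtain ⟨_, ⟨k, rfl⟩, e⟩ := par hs
  rw [← (Commute.refl r).mul_zpow, rr] at e
  have zr : z * r = r * z := by rw [← rr, mul_assoc]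
  rcases zpow_two zz k with k | k <;> rw [k] at e <;> rcases e with e | e
  · exact Or.inl e
  · exact absurd (by rw [← rr, ← ss, e, one_mul]) z1
  · exact Or.inr e
  · refine absurd ?_ z1
    rwa [e, mul_assoc, ← mul_assoc r, ← zr, mul_assoc, rr, zz, mul_one] at ss

theorem main {G : Type*} [Group G] [Finite G] {A S : Subgroup G} {t r z : G} (h : Hy A S t r z)
    (v : G) (hv : v ∈ S) (vv : v * v = 1) : v = 1 ∨ v = z := by
  by_contra hh
  push Not at hh
  have hT := h.sylT.isPGroup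
  by_cases nf : ∀ w ∈ S, w * w = 1 →
    (∀ x ∈ S ⊔ zpowers t, x * w * x⁻¹ = w ∨ x * w * x⁻¹ = w * z) → w = 1 ∨ w = z
  · obtain ⟨a, i, m, na⟩ := str hT le_sup_left h.nT h.hz h.z1 h.zz (fun x hx => h.zT hx) hv vv
      hh.1 hh.2 nf
    exact h.maxc m (na t (mem_sup_right (mem_zpowers t)))
  push Not at nf
  obtain ⟨w, hw, ww, wT, w1, wz⟩ := nf
  have zw : z * w = w * z := (h.zc w hw).symm
  have nz : w ∈ normalizer (zpowers z : Set G) := nrm_of (T := zpowers w) (fun x hx b hb => by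
    rwa [act_fix (mul_inv_eq_iff_eq_mul.2 (h.zc _ (zpowers_le.2 hw hx))) hb]) (mem_zpowers w)
  have mz : ∀ x ∈ zpowers z, x = 1 ∨ x = z := by
    rintro _ ⟨k, rfl⟩; exact zpow_two h.zz k
  have mW : ∀ x ∈ zpowers z ⊔ zpowers w, x = 1 ∨ x = z ∨ x = w ∨ x = w * z := fun x hx => by
    rcases (msz nz (ww ▸ one_mem _)).1 hx with k | k
    · exact (mz x k).imp_right Or.inl
    · rcases mz _ k with k | k
      · exact Or.inr (Or.inr (Or.inl (by rw [eq_inv_of_mul_eq_one_right k, inv_self ww])))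
      · exact Or.inr (Or.inr (Or.inr (by rw [← k, ← mul_assoc, ww, one_mul])))
  have zW : z ∈ zpowers z ⊔ zpowers w := mem_sup_left (mem_zpowers z)
  have wW : w ∈ zpowers z ⊔ zpowers w := mem_sup_right (mem_zpowers w)
  obtain ⟨B, h1, h2, h3, h4, h5⟩ := selfc (B₀ := zpowers z ⊔ zpowers w) hT le_sup_left h.nT
    (sup_le (zpowers_le.2 h.hz) (zpowers_le.2 hw)) (fun a ha b hb => by
      have c : Commute z w := zw
      refine Commute.eq ?_
      rcases mW a ha with rfl | rfl | rfl | rfl <;> rcases mW b hb with rfl | rfl | rfl | rfl <;>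
        simp [c, c.symm, Commute.mul_left, Commute.mul_right])
    (nrm_of fun x hx b hb => by
      have k1 : x * z * x⁻¹ = z := by rw [h.zT hx, mul_inv_cancel_right]
      have k2 : x * w * x⁻¹ ∈ zpowers z ⊔ zpowers w := by
        rcases wT x hx with e | e <;> rw [e]
        exacts [wW, mul_mem wW zW]
      rcases mW b hb with e | e | e | e <;> rw [e]
      · simp
      · rwa [k1]
      · exact k2
      · rw [← conj_mul, k1]; exact mul_mem k2 zW)
  have hb : Hb A S B t r z w := ⟨h, h1 wW, h1 zW, ww, w1, wz, wT, h2, h3, h4, h5⟩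
  by_cases e : S ≤ B
  · exact hb.abel e
  · obtain ⟨b, k⟩ := hb.exists_b
    exact Hc.fin ⟨hb, k, e⟩

/-- Let A be a semisimple subgroup (a central product of quasisimple groups, A = E(A)) of a finite group and t an involution normalizing A such that the Sylow 2-subgroups of C_A(t) are cyclic of order 4. Then A has 2-rank exactly 1. -/
theorem result {G : Type*} [Group G] [Finite G] (A : Subgroup G) (hA : Cfsg.layer ↥A = ⊤)
    (t : G) (ht : orderOf t = 2) (htA : t ∈ Subgroup.normalizer (A : Set G))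
    (hC : ∀ R : Sylow 2 ↥(A ⊓ Subgroup.centralizer ({t} : Set G)), IsCyclic R ∧ Nat.card R = 4) :
    Cfsg.PRankLE 2 1 A ∧ ¬ Cfsg.PRankLE 2 0 A := by
  have tt : t * t = 1 := by rw [← sq, ← ht, pow_orderOf_eq_one]
  obtain ⟨R, hR⟩ := exists_isSylowIn 2 (A ⊓ centralizer ({t} : Set G))
  obtain ⟨r, rfl, r4⟩ : ∃ r, R = zpowers r ∧ orderOf r = 4 := by
    obtain ⟨h1, h2⟩ := hC hR.toSylow
    have e := subgroupOfEquivOfLe hR.le
    obtain ⟨r, hr⟩ := (Subgroup.isCyclic_iff_exists_zpowers_eq_top R).1 (e.isCyclic.1 h1)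
    exact ⟨r, hr.symm, by rw [← Nat.card_zpowers, hr, ← Nat.card_congr e.toEquiv]; exact h2⟩
  have hr := hR.le (mem_zpowers r)
  have tr : t * r * t⁻¹ = r := mul_inv_eq_iff_eq_mul.2 (mem_centralizer_singleton_iff.1 hr.2).symm
  have zz : r * r * (r * r) = 1 := by
    rw [← pow_orderOf_eq_one r, r4]; simp only [pow_succ, pow_zero, one_mul, mul_assoc]
  have z1 : r * r ≠ 1 := fun e => by
    have := orderOf_dvd_of_pow_eq_one ((sq r).trans e)
    rw [r4] at this; omega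
  refine ⟨?_, nrank0 (mul_mem hr.1 hr.1) zz z1⟩
  obtain ⟨T, hT, hRT⟩ := exists_isSylowIn_ge (H := A ⊔ zpowers t) (Q := zpowers r ⊔ zpowers t)
    (hR.isPGroup.to_sup_of_normal_left' (two_zp (n := 1) (by simpa [sq] using tt))
      (zpowers_le.2 (nrm_of (T := zpowers t) (fun x hx b hb => by
        obtain ⟨k, rfl⟩ := mem_zpowers_iff.1 hx
        rcases zpow_two tt k with e | e <;> rw [e]
        · simpa using hb
        · rwa [act_fix tr hb]) (mem_zpowers t))))
    (sup_le_sup_right (zpowers_le.2 hr.1) _)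
  have nA : A ⊔ zpowers t ≤ normalizer (A : Set G) := sup_le le_normalizer (zpowers_le.2 htA)
  have hS := hT.inf_of_le_normalizer nA
  rw [inf_eq_right.2 (le_sup_left : A ≤ A ⊔ zpowers t)] at hS
  have nS : T ≤ normalizer ((T ⊓ A : Subgroup G) : Set G) := nrm_of fun x hx s hs =>
    ⟨T.mul_mem (T.mul_mem hx hs.1) (T.inv_mem hx), cj (nA (hT.le hx)) hs.2⟩
  have tT : t ∈ T := hRT (mem_sup_right (mem_zpowers t))
  have rS : r ∈ T ⊓ A := ⟨hRT (mem_sup_left (mem_zpowers r)), hr.1⟩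
  have cen : ∀ s ∈ T ⊓ A, t * s * t⁻¹ = s → s ∈ zpowers r := fun s hs e => by
    rw [← hR.eq_of_le (Q := T ⊓ A ⊓ centralizer {t}) hS.isPGroup.to_inf_left
      (inf_le_inf_right _ inf_le_right) (zpowers_le.2 ⟨rS, hr.2⟩)]
    exact ⟨hs, mem_centralizer_singleton_iff.2 (mul_inv_eq_iff_eq_mul.1 e).symm⟩
  obtain ⟨z, hz, y1, yy, zc⟩ := cinv hT.isPGroup inf_le_left nS (mul_mem rS rS) z1
  obtain rfl := (four rfl z1 zz (cen z hz (mul_inv_eq_iff_eq_mul.2 (zc t tT))) yy).resolve_left y1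
  refine rank1 hS (z := r * r) ?_
  by_cases tA : t ∈ A
  · have e := (four rfl z1 zz (cen t ⟨tT, tA⟩ (by group)) tt).resolve_left fun e => by
      rw [e, orderOf_one] at ht; omega
    exact fun s hs ss => four rfl z1 zz (cen s hs (by rw [e, ← zc s hs.1, mul_inv_cancel_right])) ss
  refine main ⟨perf hA, hS, tt, tA, htA, nS tT, rS, tr, rfl, z1, zz, cen, fun s hs => zc s hs.1,
    fun y hy y' hy' e1 e2 e3 e4 e5 e6 e7 => ?_⟩
  obtain ⟨g, -, k1, k2⟩ := two_two hR
    ⟨hy, mem_centralizer_singleton_iff.2 (mul_inv_eq_iff_eq_mul.1 e1).symm⟩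
    ⟨hy', mem_centralizer_singleton_iff.2 (mul_inv_eq_iff_eq_mul.1 e2).symm⟩ e3 e4 e5
  have k : ∀ x, x * x = 1 → x ≠ 1 → g * x * g⁻¹ ∈ zpowers r → g * x * g⁻¹ = r * r :=
    fun x xx x1 e => (four rfl z1 zz e (by rw [conj_mul, xx]; simp)).resolve_left (by simpa using x1)
  simpa using (k y e3 e6 k1).trans (k y' e4 e7 k2).symm

end Cfsg.Agent.S1914
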