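import Cfsg.Statements.S1915
import Cfsg.Agent.H3.SmR

set_option autoImplicit false
open Cfsg

namespace Cfsg.Agent.S1915

open Subgroup Cfsg.Agent.H8 Cfsg.Agent.H3.Sm

/-- Let A be a semisimple subgroup (A = E(A)) of a finite group and U a Klein four-group normalizing A. If the subgroup of A generated by the normalizers N_A(V) of the nontrivial subgroups V of U has 2-rank exactly 1, then A has 2-rank exactly 1. -/
theorem result {G : Type*} [Group G] [Finite G] (A : Subgroup G) (hA : Cfsg.layer ↥A = ⊤)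
    (U : Subgroup G) (hU : IsKleinFour U) (hUA : U ≤ Subgroup.normalizer (A : Set G))
    (hΓ : Cfsg.PRankLE 2 1 ↥(⨆ V : {V : Subgroup G // V ≤ U ∧ V ≠ ⊥}, A ⊓ Subgroup.normalizer ((V : Subgroup G) : Set G)) ∧
      ¬ Cfsg.PRankLE 2 0 ↥(⨆ V : {V : Subgroup G // V ≤ U ∧ V ≠ ⊥}, A ⊓ Subgroup.normalizer ((V : Subgroup G) : Set G))) :
    Cfsg.PRankLE 2 1 A ∧ ¬ Cfsg.PRankLE 2 0 A := by
  have uu : ∀ u ∈ U, u * u = 1 := fun u hu =>
    congrArg Subtype.val (IsKleinFour.mul_self (⟨u, hu⟩ : U))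
  have hU2 : IsPGroup 2 U := fun u => ⟨1, Subtype.ext (by simpa [sq] using uu u u.2)⟩
  obtain ⟨T, hT, hUT⟩ := exists_isSylowIn_ge (H := A ⊔ U) hU2 le_sup_right
  have nA : A ⊔ U ≤ normalizer (A : Set G) := sup_le le_normalizer hUA
  have hS := hT.inf_of_le_normalizer nA
  rw [inf_eq_right.2 (le_sup_left : A ≤ A ⊔ U)] at hS
  have nS : T ≤ normalizer ((T ⊓ A : Subgroup G) : Set G) := nrm_of fun x hx s hs =>
    ⟨T.mul_mem (T.mul_mem hx hs.1) (T.inv_mem hx), cj (nA (hT.le hx)) hs.2⟩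
  obtain ⟨y, hy, yy, y1⟩ := inv_of hΓ.2
  have yA : y ∈ A := (iSup_le fun V => inf_le_left : _ ≤ A) hy
  refine ⟨?_, nrank0 yA yy y1⟩
  obtain ⟨g, -, hg, -⟩ := two_two hS yA yA yy yy rfl
  obtain ⟨z, hz, z1, zz, zc⟩ := cinv hT.isPGroup inf_le_left nS hg (by simpa using y1)
  have fix : ∀ u ∈ U, u ≠ 1 → ∀ s ∈ T ⊓ A, s * s = 1 → u * s * u⁻¹ = s → s = 1 ∨ s = z :=
    fun u hu u1 s hs ss e => or_iff_not_imp_left.2 fun s1 => by
      have k : ∀ x ∈ A, u * x = x * u → x ∈ ⨆ V : {V : Subgroup G // V ≤ U ∧ V ≠ ⊥},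
          A ⊓ normalizer ((V : Subgroup G) : Set G) := fun x hx e =>
        le_iSup (fun V : {V : Subgroup G // V ≤ U ∧ V ≠ ⊥} =>
          A ⊓ normalizer ((V : Subgroup G) : Set G))
          ⟨zpowers u, zpowers_le.2 hu, by simpa using u1⟩ ⟨hx, nrm_of (T := zpowers x)
            (fun a ha b hb => by
              rwa [act_fix (a := u) (by
                obtain ⟨k, rfl⟩ := mem_zpowers_iff.1 ha
                rw [← ((show Commute u x from e).zpow_right k).eq, mul_inv_cancel_right]) hb])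
            (mem_zpowers x)⟩
      exact uq_of hΓ.1 (k s hs.2 (mul_inv_eq_iff_eq_mul.1 e)) (k z hz.2 (zc u (hUT hu))) ss zz s1 z1
        (zc s hs.1)
  obtain ⟨u, hu, w, hw, u1, w1, uw⟩ : ∃ u ∈ U, ∃ w ∈ U, u ≠ 1 ∧ w ≠ 1 ∧ u * w ≠ 1 := by
    have := Fintype.ofFinite U
    obtain ⟨a, b, c, h1, h2, h3⟩ := (Fintype.two_lt_card_iff (α := U)).1 (by
      rw [← Nat.card_eq_fintype_card, hU.card_four]; omega)
    exact ⟨_, (a * c⁻¹).2, _, (c * b⁻¹).2, fun e => h2 (mul_inv_eq_one.1 (Subtype.ext e)),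
      fun e => h3 (mul_inv_eq_one.1 (Subtype.ext e)).symm,
      fun e => h1 (Subtype.ext (by simpa [mul_assoc, mul_inv_eq_one] using e))⟩
  refine rank1 hS (z := z) fun v hv vv => ?_
  by_contra hh
  push Not at hh
  obtain ⟨a, i, m, na⟩ := str hT.isPGroup inf_le_left nS hz z1 zz zc hv vv hh.1 hh.2
    fun x hx xx e => by
      rcases e u (hUT hu) with k | k
      · exact fix u hu u1 x hx xx k
      rcases e w (hUT hw) with k1 | k1
      · exact fix w hw w1 x hx xx k1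
      refine fix _ (mul_mem hu hw) uw x hx xx ?_
      rw [show u * w * x * (u * w)⁻¹ = u * (w * x * w⁻¹) * u⁻¹ by group, k1, ← conj_mul, k,
        zc u (hUT hu), mul_inv_cancel_right, mul_assoc, zz, mul_one]
  have I : ∀ u ∈ U, u ≠ 1 → Inv A (T ⊓ A) a z u := fun u hu u1 =>
    ⟨uu u hu, hUA hu, nS (hUT hu), na u (hUT hu), fix u hu u1⟩
  exact m.klein (perf hA) hS (I u hu u1) (I w hw w1) (I _ (mul_mem hu hw) uw)

end Cfsg.Agent.S1915
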