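import Cfsg.Statements.S1921
import Cfsg.Agent.H52.Diagonal

set_option autoImplicit false
open Cfsg

namespace Cfsg.Agent.S1921

/-- Let a be an involution of a finite group H and L a component of H with a L a⁻¹ ≠ L; put M = ⟨L, aLa⁻¹⟩ and let J be the subgroup generated by the elements x · a x a⁻¹ with x ∈ L (the diagonal). Then every element of M outside J·Z(M) generates M together with J. -/
theorem result {H : Type*} [Group H] [Finite H] (a : H) (ha : orderOf a = 2) (L : Subgroup H) (hL : Cfsg.IsComponent L)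
    (hLa : L.map (MulAut.conj a).toMonoidHom ≠ L) (x : H) (hxM : x ∈ L ⊔ L.map (MulAut.conj a).toMonoidHom)
    (hxJ : x ∉ Subgroup.closure {y : H | ∃ l ∈ L, y = l * (a * l * a⁻¹)} ⊔
      ((L ⊔ L.map (MulAut.conj a).toMonoidHom) ⊓ Subgroup.centralizer ((L ⊔ L.map (MulAut.conj a).toMonoidHom : Subgroup H) : Set H))) :
    Subgroup.closure {y : H | ∃ l ∈ L, y = l * (a * l * a⁻¹)} ⊔ Subgroup.zpowers x = L ⊔ L.map (MulAut.conj a).toMonoidHom := by
  have hc : ⁅L, H52.cnj a L⁆ = ⊥ :=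
    H52.IsComponent.commutator_eq_bot_of_ne hL (H52.IsComponent.conj hL a) hLa.symm
  have h := H52.semiReg_zpowers_of_orderOf_eq_two ha hc
  have hJ : Subgroup.closure {y : H | ∃ l ∈ L, y = l * (a * l * a⁻¹)} = h.diag.range := by
    refine le_antisymm ((Subgroup.closure_le _).mpr ?_) ?_
    · rintro _ ⟨l, hl, rfl⟩
      exact ⟨⟨l, hl⟩, h.diag_apply_of_orderOf_eq_two ha _⟩
    · rintro _ ⟨l, rfl⟩
      exact Subgroup.subset_closure ⟨l, l.2, h.diag_apply_of_orderOf_eq_two ha _⟩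
  have hM := H52.orbitSup_zpowers_of_orderOf_eq_two ha L
  rw [hJ] at hxJ ⊢
  have hJM : h.diag.range ≤ L ⊔ H52.cnj a L := hM ▸ h.range_diag_le.trans inf_le_left
  refine le_antisymm (sup_le hJM (Subgroup.zpowers_le.mpr hxM)) ?_
  set X := h.diag.range ⊔ Subgroup.zpowers x
  obtain ⟨l, hl, _, ⟨m, hm, rfl⟩, e⟩ := (H52.mem_sup_of_commutator_eq_bot hc).mp hxM
  have hm' := h.diag_apply_of_orderOf_eq_two ha ⟨m, hm⟩
  have e1 : x = l * m⁻¹ * h.diag ⟨m, hm⟩ := by rw [hm', ← e]; simp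
  have hu : l * m⁻¹ ∈ X := by
    have : l * m⁻¹ = x * (h.diag ⟨m, hm⟩)⁻¹ := by rw [e1]; simp
    rw [this]
    exact mul_mem (Subgroup.mem_sup_right (Subgroup.mem_zpowers x))
      (inv_mem (Subgroup.mem_sup_left ⟨_, rfl⟩))
  have hLX : L ≤ X := by
    have hn : L ≤ Subgroup.normalizer ((L ⊓ X : Subgroup H) : Set H) := by
      refine H52.le_normalizer_of_forall_map_conj_le ?_
      rintro k hk _ ⟨u, ⟨huL, huX⟩, rfl⟩
      refine ⟨L.mul_mem (L.mul_mem hk huL) (L.inv_mem hk), ?_⟩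
      have h1 := h.restSup_le_centralizer (h.inv_mul_diag_mem ⟨k, hk⟩) u huL
      have h2 : k * u * k⁻¹ = h.diag ⟨k, hk⟩ * u * (h.diag ⟨k, hk⟩)⁻¹ := by
        have : h.diag ⟨k, hk⟩ * u = k * (k⁻¹ * h.diag ⟨k, hk⟩ * u) := by group
        rw [this, ← h1]; group
      change k * u * k⁻¹ ∈ X
      rw [h2]
      exact mul_mem (mul_mem (Subgroup.mem_sup_left ⟨_, rfl⟩) huX)
        (inv_mem (Subgroup.mem_sup_left ⟨_, rfl⟩))
    rcases H52.IsQuasisimple.eq_or_commutator_eq_bot hL.2 inf_le_left hn with h1 | h1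
    · exact h1.ge.trans inf_le_right
    · exfalso
      have hlm : l * m⁻¹ ∈ L := mul_mem hl (inv_mem hm)
      have h2 := h.cnj_center_le (one_mem _) (H52.conj_mem_cnj
        ⟨hlm, Subgroup.commutator_eq_bot_iff_le_centralizer.mp h1 ⟨hlm, hu⟩⟩)
      rw [hM, one_mul, inv_one, mul_one] at h2
      exact hxJ (e1 ▸ mul_mem (Subgroup.mem_sup_right h2) (Subgroup.mem_sup_left ⟨_, rfl⟩))
  refine sup_le hLX ?_
  rintro _ ⟨k, hk, rfl⟩
  have : (MulAut.conj a).toMonoidHom k = k⁻¹ * h.diag ⟨k, hk⟩ := by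
    rw [h.diag_apply_of_orderOf_eq_two ha]; simp
  rw [this]
  exact mul_mem (inv_mem (hLX hk)) (Subgroup.mem_sup_left ⟨_, rfl⟩)

end Cfsg.Agent.S1921
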