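import Cfsg.Statements.S1922
import Cfsg.Agent.H56.InvCnt

set_option autoImplicit false
open Cfsg

namespace Cfsg.Agent.S1922

/-- Let z be an involution of a finite group G and H a proper subgroup such that z lies in gHg⁻¹ exactly when g ∈ H. Then the following are equivalent: (1) for every conjugate t ≠ z of z commuting with z, the product zt lies in gHg⁻¹ exactly when g ∈ H; (2) z lies in the centre of some Sylow 2-subgroup of G, and for every conjugate t ≠ z of z commuting with z, the centralizer of zt is contained in H. -/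
theorem result {G : Type*} [Group G] [Finite G] (z : G) (hz : orderOf z = 2) (H : Subgroup G) (hH : H ≠ ⊤)
    (h0 : ∀ g : G, z ∈ H.map (MulAut.conj g).toMonoidHom ↔ g ∈ H) :
    (∀ t : G, IsConj z t → t ≠ z → t * z = z * t → ∀ g : G, z * t ∈ H.map (MulAut.conj g).toMonoidHom ↔ g ∈ H) ↔
      ((∃ P : Sylow 2 G, z ∈ (Subgroup.center ↥(P : Subgroup G)).map (P : Subgroup G).subtype) ∧
        ∀ t : G, IsConj z t → t ≠ z → t * z = z * t → Subgroup.centralizer ({z * t} : Set G) ≤ H) := by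
  have hzz : z * z = 1 := H10.mul_self_of_orderOf_two hz
  simp only [H10.mem_map_conj] at h0 ⊢
  have hzH : z ∈ H := by simpa using (h0 1).2 H.one_mem
  have hDo : ∀ d, IsConj z d → orderOf d = 2 := by
    intro d hd
    obtain ⟨k, rfl⟩ := isConj_iff.1 hd
    rw [H10.orderOf_conj, hz]
  have hDD : ∀ d, IsConj z d → d * d = 1 := fun d hd => H10.mul_self_of_orderOf_two (hDo d hd)
  have hDc : ∀ d g, IsConj z d → IsConj z (g * d * g⁻¹) := fun d g hd =>
    hd.trans (isConj_iff.2 ⟨g, rfl⟩)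
  have hA : ∀ d, IsConj z d → d ∈ H → ∀ g, g * d * g⁻¹ ∈ H → g ∈ H := by
    intro d hd hdH g hg
    obtain ⟨k, rfl⟩ := isConj_iff.1 hd
    have h1 : k⁻¹ ∈ H := (h0 k⁻¹).1 (by simpa using hdH)
    have h2 : (g * k)⁻¹ ∈ H := (h0 (g * k)⁻¹).1 (by
      have : (g * k)⁻¹⁻¹ * z * (g * k)⁻¹ = g * (k * z * k⁻¹) * g⁻¹ := by group
      rwa [this])
    have : g = (g * k)⁻¹⁻¹ * k⁻¹ := by group
    rw [this]; exact H.mul_mem (H.inv_mem h2) h1
  have hCom : ∀ d, IsConj z d → d ∈ H → ∀ g, g * d = d * g → g ∈ H := fun d hd hdH g hg =>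
    hA d hd hdH g (by rw [hg]; simpa using hdH)
  constructor
  · intro h1
    refine ⟨?_, fun t ht htz hc c hcm => ?_⟩
    swap
    · have h2 : z * t ∈ H := H.mul_mem hzH (hCom z (IsConj.refl z) hzH t hc)
      refine (h1 t ht htz hc c).1 ?_
      have := Subgroup.mem_centralizer_singleton_iff.1 hcm
      rw [mul_assoc, ← this]; simpa using h2
    have hC : ∀ e e', IsConj z e → IsConj z e' → e ≠ e' → e * e' = e' * e → e * e' ∈ H → e ∈ H := by
      intro e e' he he' hne hc hm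
      obtain ⟨k, rfl⟩ := isConj_iff.1 he
      have h2 := (h1 (k⁻¹ * e' * k⁻¹⁻¹) (hDc _ _ he') (fun h => hne (by rw [← h]; group))
        (by
          have : k⁻¹ * e' * k⁻¹⁻¹ * z = k⁻¹ * (e' * (k * z * k⁻¹)) * k := by group
          rw [this, ← hc]; group) k⁻¹).1 (by
          have : k⁻¹⁻¹ * (z * (k⁻¹ * e' * k⁻¹⁻¹)) * k⁻¹ = k * z * k⁻¹ * e' := by group
          rwa [this])
      have h3 : k ∈ H := by simpa using H.inv_mem h2
      exact H.mul_mem (H.mul_mem h3 hzH) h2
    have hB : ∀ e, IsConj z e → e ∉ H → Odd (orderOf (e * z)) := by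
      intro e he heH
      by_contra hodd
      obtain ⟨m, hm⟩ := Nat.not_odd_iff_even.1 hodd
      have hm0 : m ≠ 0 := by
        rintro rfl
        exact (orderOf_pos (e * z)).ne' hm
      obtain ⟨hs1, -, hs3, hs4⟩ := H10.central_involution hzz (hDD e he) hm0 (by omega)
      have hinv := H10.inverts_mul_right hzz (hDD e he)
      have hd : IsConj z ((e * z) ^ m * z) := by
        rcases Nat.even_or_odd' m with ⟨a, rfl | rfl⟩
        · have := H10.pow_conj_pow_mul hinv a 0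
          rw [add_zero, pow_zero, one_mul] at this
          rw [← this]; exact hDc _ _ (IsConj.refl z)
        · have := H10.pow_conj_pow_mul hinv a 1
          rw [pow_one, mul_assoc e z z, hzz, mul_one] at this
          rw [← this]; exact hDc _ _ he
      generalize (e * z) ^ m = s at hs1 hs3 hs4 hd
      have hsH : s ∈ H := hCom z (IsConj.refl z) hzH s hs3.eq
      have h2 : z * (s * z) = s := by rw [hs3.eq, ← mul_assoc, hzz, one_mul]
      have h3 : e * z * e⁻¹ * (e * (s * z) * e⁻¹) = s := by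
        calc e * z * e⁻¹ * (e * (s * z) * e⁻¹) = e * (z * (s * z)) * e⁻¹ := by group
          _ = s := by rw [h2, ← hs4.eq]; group
      have h4 := hC (e * z * e⁻¹) (e * (s * z) * e⁻¹) (hDc _ _ (IsConj.refl z)) (hDc _ _ hd)
        (fun h => hs1 (by simpa using h.symm))
        (by
          rw [h3]
          calc s = e * (s * (z * z)) * e⁻¹ := by rw [hzz, mul_one, ← hs4.eq]; group
            _ = _ := by group) (by rw [h3]; exact hsH)
      exact heH (hA z (IsConj.refl z) hzH e h4)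
    obtain ⟨g, hg⟩ : ∃ g, g ∉ H := by
      by_contra h
      push Not at h
      exact hH (eq_top_iff.2 fun g _ => h g)
    obtain ⟨e₀, he₀, he₀H⟩ : ∃ e₀, IsConj z e₀ ∧ e₀ ∉ H :=
      ⟨g * z * g⁻¹, hDc _ _ (IsConj.refl z), fun h => hg (hA z (IsConj.refl z) hzH g h)⟩
    have he₀i : e₀⁻¹ = e₀ := inv_eq_of_mul_eq_one_right (hDD _ he₀)
    have hS : ∀ e e', IsConj z e → IsConj z e' → e₀ * e ∈ H → e₀ * e' ∈ H → e * e' = e' * e →
        e = e' := by
      intro e e' he he' h2 h3 hc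
      by_contra hne
      have h4 : e * e' ∈ H := by
        have : e * e' = (e₀ * e)⁻¹ * (e₀ * e') := by
          rw [mul_inv_rev, inv_eq_of_mul_eq_one_right (hDD _ he)]; group
        rw [this]; exact H.mul_mem (H.inv_mem h2) h3
      have h5 := hC e e' he he' hne hc h4
      exact he₀H (by simpa using H.mul_mem h2 (H.inv_mem h5))
    have c1 := H56.card_modEq_card_commute (fun e => IsConj z e ∧ e₀ * e ∈ H) (hDD _ he₀) (by
      rintro e ⟨he, h2⟩
      refine ⟨hDc _ _ he, ?_⟩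
      have : e₀ * (e₀ * e * e₀⁻¹) = (e₀ * e)⁻¹ := by
        rw [mul_inv_rev, inv_eq_of_mul_eq_one_right (hDD _ he), ← mul_assoc, ← mul_assoc,
          hDD _ he₀, one_mul]
      rw [this]; exact H.inv_mem h2)
    have c2 : Nat.card {x // (IsConj z x ∧ e₀ * x ∈ H) ∧ e₀ * x * e₀⁻¹ = x} = 1 := by
      have h2 : e₀ * e₀ ∈ H := by rw [hDD _ he₀]; exact H.one_mem
      rw [Nat.card_eq_one_iff_exists]
      refine ⟨⟨e₀, ⟨he₀, h2⟩, by group⟩, fun x => Subtype.ext ?_⟩
      exact hS _ _ x.2.1.1 he₀ x.2.1.2 h2 (mul_inv_eq_iff_eq_mul.1 x.2.2).symm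
    have c3 : Nat.card {e // IsConj z e ∧ e₀ * e ∈ H} = Nat.card {d // IsConj z d ∧ d ∈ H} := by
      refine Nat.card_eq_of_bijective (fun e => ⟨e₀ * e * z * (e₀ * e)⁻¹,
        hDc _ _ (IsConj.refl z), H.mul_mem (H.mul_mem e.2.2 hzH) (H.inv_mem e.2.2)⟩) ⟨?_, ?_⟩
      · rintro ⟨e, he, h2⟩ ⟨e', he', h3⟩ h
        have h4 : e₀ * e * z * (e₀ * e)⁻¹ = e₀ * e' * z * (e₀ * e')⁻¹ := congrArg Subtype.val h
        have hei : e⁻¹ = e := inv_eq_of_mul_eq_one_right (hDD _ he)
        have hei' : e'⁻¹ = e' := inv_eq_of_mul_eq_one_right (hDD _ he')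
        have heH : e ∉ H := fun h5 => he₀H (by simpa using H.mul_mem h2 (H.inv_mem h5))
        have h5 : Commute (e' * e) z := by
          show e' * e * z = z * (e' * e)
          calc e' * e * z = e'⁻¹ * e₀⁻¹ * (e₀ * e * z * (e₀ * e)⁻¹) * e₀ * e := by
                rw [hei']; group
            _ = z * (e'⁻¹ * e) := by rw [h4]; group
            _ = _ := by rw [hei']
        have h6 := H10.sq_eq_one_of_commute_of_inverts hzz (hDD _ he) (hB e he heH) h5 (by
          rw [mul_inv_rev, hei, hei', mul_assoc, mul_assoc, hDD _ he, mul_one])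
        refine Subtype.ext (hS e e' he he' h2 h3 ?_)
        have h7 : (e' * e)⁻¹ = e' * e := inv_eq_of_mul_eq_one_right (by rw [← sq, h6])
        rwa [mul_inv_rev, hei, hei'] at h7
      · rintro ⟨d, hd, hdH⟩
        have h2 : e₀ * d * e₀⁻¹ ∉ H := fun h => he₀H (hA d hd hdH _ h)
        have h3 := hDc d e₀ hd
        obtain ⟨a, -, h4, h5⟩ := H10.exists_involution_conj_of_odd hz (hDo _ h3) (hB _ h3 h2)
        generalize (e₀ * d * e₀⁻¹ * z) ^ a * z = e at h4 h5
        have h6 : e₀ * e * z * (e₀ * e)⁻¹ = d := by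
          calc e₀ * e * z * (e₀ * e)⁻¹ = e₀ * (e * z * e⁻¹) * e₀⁻¹ := by group
            _ = (e₀ * e₀) * d * (e₀ * e₀)⁻¹ := by rw [h5]; group
            _ = d := by rw [hDD _ he₀]; group
        exact ⟨⟨e, h4, hA z (IsConj.refl z) hzH _ (h6 ▸ hdH)⟩, Subtype.ext h6⟩
    have c4 := H56.card_modEq_card_commute (fun d => IsConj z d ∧ d ∈ H) hzz (fun d hd =>
      ⟨hDc _ _ hd.1, H.mul_mem (H.mul_mem hzH hd.2) (H.inv_mem hzH)⟩)
    have c5 := H56.card_modEq_card_commute (fun d => IsConj z d) hzz (fun d hd => hDc _ _ hd)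
    have c6 : Nat.card {x // (IsConj z x ∧ x ∈ H) ∧ z * x * z⁻¹ = x} =
        Nat.card {x // IsConj z x ∧ z * x * z⁻¹ = x} :=
      Nat.card_congr (Equiv.subtypeEquivRight fun x => ⟨fun h => ⟨h.1.1, h.2⟩, fun h =>
        ⟨⟨h.1, hCom z (IsConj.refl z) hzH x (mul_inv_eq_iff_eq_mul.1 h.2).symm⟩, h.2⟩⟩)
    rw [c2, c3] at c1
    rw [c6] at c4
    have c7 := (c5.trans c4.symm).trans c1
    rw [H9.card_isConj_eq_index] at c7
    refine H56.exists_sylow_mem_center (H10.isPGroup_zpowers_of_pow (k := 1) (by simpa [sq] using hzz)) ?_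
    unfold Nat.ModEq at c7
    omega
  · rintro ⟨⟨P, hP⟩, h2⟩ t ht htz hc g
    have htH : t ∈ H := hCom z (IsConj.refl z) hzH t hc
    refine ⟨fun hg => ?_, fun hg => H.mul_mem (H.mul_mem (H.inv_mem hg) (H.mul_mem hzH htH)) hg⟩
    obtain ⟨⟨z', hz'⟩, hzc, rfl⟩ := hP
    have hPz : ∀ x ∈ (P : Subgroup G), x * z' = z' * x := fun x hx =>
      congrArg Subtype.val (Subgroup.mem_center_iff.1 hzc ⟨x, hx⟩)
    simp only [Subgroup.coe_subtype] at *
    have hPH : (P : Subgroup G) ≤ H := fun x hx => hCom _ (IsConj.refl _) hzH x (hPz x hx)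
    obtain ⟨h, hh, hhP⟩ := H10.exists_conj_mem_sylow P hPH (x := g⁻¹ * (z' * t) * g) (k := 1) (by
      have : (g⁻¹ * (z' * t) * g) ^ 2 ^ 1 = g⁻¹ * (z' * (t * z') * t) * g := by
        rw [pow_one, sq]; group
      rw [this, hc, ← mul_assoc z', hzz, one_mul, hDD t ht]; group) hg
    have h3 := hPz _ hhP
    have h4 : g * h⁻¹ * z' * (g * h⁻¹)⁻¹ ∈ H := by
      apply h2 t ht htz hc
      rw [Subgroup.mem_centralizer_singleton_iff]
      calc g * h⁻¹ * z' * (g * h⁻¹)⁻¹ * (z' * t)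
          = g * h⁻¹ * (z' * (h * (g⁻¹ * (z' * t) * g) * h⁻¹)) * h * g⁻¹ := by group
        _ = _ := by rw [← h3]; group
    simpa using H.mul_mem (hA _ (IsConj.refl _) hzH _ h4) hh

end Cfsg.Agent.S1922
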