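import Cfsg.Statements.S1930
import Cfsg.Agent.H54.FlE
import Cfsg.Agent.H52.FStar

set_option autoImplicit false
open Cfsg

namespace Cfsg.Agent.S1930

/-- Inside a finite group let G be a nontrivial subgroup and R an r-subgroup (r a prime) normalizing G, with the order of G prime to r. Let p > 3 be a prime with F*(G) = O_p(G), and let P be the intersection of all R-invariant Sylow p-subgroups of G. Then P has a nontrivial characteristic subgroup that is normalized by G. -/
theorem result {X : Type*} [Group X] [Finite X] (G R : Subgroup X) (r : ℕ) [Fact r.Prime] (hR : IsPGroup r ↥R) (hcop : (Nat.card ↥G).Coprime r) (hnorm : R ≤ Subgroup.normalizer (G : Set X)) (hG : G ≠ ⊥) (p : ℕ) [Fact p.Prime] (hp : 3 < p) (hF : Cfsg.generalizedFittingSubgroup ↥G = Cfsg.pCore p ↥G) (P : Subgroup X) (hP : P = ⨅ S : {S : Sylow p ↥G // ∀ a ∈ R, ((S : Subgroup ↥G).map G.subtype).map (MulAut.conj a).toMonoidHom = (S : Subgroup ↥G).map G.subtype}, ((S : Sylow p ↥G) : Subgroup ↥G).map G.subtype)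 : ∃ C : Subgroup ↥P, C.Characteristic ∧ C ≠ ⊥ ∧ G ≤ Subgroup.normalizer ((C.map P.subtype : Subgroup X) : Set X) := by
  have hp5 : 5 ≤ p := by
    rcases Nat.lt_or_ge p 5 with h | h
    · have : p = 4 := by omega
      exact absurd (this ▸ (Fact.out : p.Prime)) (by norm_num)
    · exact h
  have hc : (Nat.card R).Coprime (Nat.card G) := by
    obtain ⟨n, hn⟩ := hR.exists_card_eq
    rw [hn]; exact hcop.symm.pow_left n
  have hsol := H4.isSolvable_of_isPGroup hR
  have hC := H52.fstar_eq_pCore_iff_centralizer_le.1 hF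
  have hTP : pCoreOf p G ≤ P := hP ▸ le_iInf fun S => (H85.isSyl_map_subtype S.1).pCoreOf_le
  have hPS : ∀ S, H85.IsSyl p S G → R ≤ Subgroup.normalizer (S : Set X) → P ≤ S := fun S hS h => by
    rw [hP, ← hS.map_toSylow]
    exact iInf_le_of_le ⟨hS.toSylow, fun a ha => by
      rw [hS.map_toSylow]; exact H85.cj_eq_of_mem_normalizer (h ha)⟩ le_rfl
  have h1 := H54.Fl.le_normalizer_kInf hp5 hnorm hc hsol hTP hPS fun x hx hxc h => by
    have h2 : (⟨x, hx⟩ : G) ∈ pCore p G :=
      hC fun y hy => Subtype.ext (h y (Subgroup.mem_map_of_mem _ hy))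
    exact Subgroup.le_normalizer (hTP (Subgroup.mem_map_of_mem _ h2))
  obtain ⟨S0, hS0⟩ := H4.exists_invariant_sylow hnorm hc (Or.inl hsol) p
  have hPp := (H85.isSyl_map_subtype S0).isPGroup.to_le (hPS _ (H85.isSyl_map_subtype S0) hS0)
  have hne : P ≠ ⊥ := fun e => hG (by
    have h2 : pCore p G = ⊥ :=
      (Subgroup.map_eq_bot_iff_of_injective _ G.subtype_injective).1 (le_bot_iff.1 (e ▸ hTP))
    rw [h2] at hC
    exact eq_bot_iff.2 fun x hx => congrArg Subtype.val
      (Subgroup.mem_bot.1 (hC (x := ⟨x, hx⟩) fun y hy => by rw [Subgroup.mem_bot.1 hy]; simp)))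
  exact ⟨kInfUpper P, H54.kInfUpper_characteristic,
    (H54.isCharPFunctor_kInfUpper p).1 P hPp ((Subgroup.nontrivial_iff_ne_bot P).2 hne), h1⟩

end Cfsg.Agent.S1930
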