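import Cfsg.Statements.S1931
import Cfsg.Agent.H54.FlF

set_option autoImplicit false
open Cfsg

namespace Cfsg.Agent.S1931

/-- Inside a finite group let G be a subgroup and R a noncyclic abelian r-subgroup (r a prime) normalizing G, with the order of G prime to r, and let p > 3 be a prime. Suppose that for every nonidentity a ∈ R, R centralizes the subgroup O^p(F*(C_G(a))) generated by the p'-elements of the generalized Fitting subgroup of C_G(a). Then R centralizes O^p(F*(G)). -/
theorem result {X : Type*} [Group X] [Finite X] (G R : Subgroup X) (r : ℕ) [Fact r.Prime] (hR : IsPGroup r ↥R) (hcop : (Nat.card ↥G).Coprime r) (hnorm : R ≤ Subgroup.normalizer (G : Set X)) (hab : IsMulCommutative ↥R) (hnc : ¬ IsCyclic ↥R) (p : ℕ) [Fact p.Prime] (hp : 3 < p) (hloc : ∀ a ∈ R, a ≠ 1 → R ≤ Subgroup.centralizer ((((Cfsg.pResidual p ↥(Cfsg.generalizedFittingSubgroup ↥(G ⊓ Subgroup.centralizer ({a} : Set X)))).map (Cfsg.generalizedFittingSubgroup ↥(G ⊓ Subgroup.centralizer ({a} : Set X))).subtype).map (G ⊓ Subgroup.centralizer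 ({a} : Set X)).subtype : Subgroup X) : Set X)) : R ≤ Subgroup.centralizer ((((Cfsg.pResidual p ↥(Cfsg.generalizedFittingSubgroup ↥G)).map (Cfsg.generalizedFittingSubgroup ↥G).subtype).map G.subtype : Subgroup X) : Set X) := by
  have hp5 : 5 ≤ p := by
    rcases Nat.lt_or_ge p 5 with h | h
    · have : p = 4 := by omega
      exact absurd (this ▸ (Fact.out : p.Prime)) (by norm_num)
    · exact h
  have hc : (Nat.card R).Coprime (Nat.card G) := by
    obtain ⟨n, hn⟩ := hR.exists_card_eq
    rw [hn]; exact hcop.symm.pow_left n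
  have a : H54.Fl.Act G R := ⟨hnorm, hc, H4.isSolvable_of_isPGroup hR⟩
  have h := H54.Fl.good_of_local hp5 a hnc (fun b hb hb1 => (H54.Fl.good_iff (a.mono inf_le_left
    (H4.le_normalizer_inf hnorm (((Subgroup.le_centralizer R).trans (Subgroup.centralizer_le
      (Set.singleton_subset_iff.2 hb))).trans Subgroup.le_normalizer)))).2 (hloc b hb hb1)) ⊥
    ⟨bot_le, IsPGroup.of_bot, Subgroup.le_normalizer_of_normal⟩
  rw [inf_eq_left.2 Subgroup.le_normalizer_of_normal] at h
  exact (H54.Fl.good_iff a).1 h

end Cfsg.Agent.S1931
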