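import Cfsg.Statements.S1932
import Cfsg.Agent.H54.Glaub
import Cfsg.Agent.H51.Constraint

set_option autoImplicit false
open Cfsg

namespace Cfsg.Agent.S1932

/-- Let G be a finite group that is 2-constrained and has no section isomorphic to the symmetric group of degree 4, and let S be a Sylow 2-subgroup of G of nilpotency class at most 2. Then G = N_G(J(S))·O_{2'}(G), where J(S) is the Thompson subgroup generated by the elementary abelian subgroups of S of largest order. -/
theorem result {G : Type*} [Group G] [Finite G] (hcon : Cfsg.IsPConstrained 2 G) (hS4 : ¬ Cfsg.Involves (Equiv.Perm (Fin 4)) G) (S : Sylow 2 G) (hcl : Subgroup.lowerCentralSeries (S : Subgroup G) 2 = ⊥) : Subgroup.normalizer ((Cfsg.thompsonSubgroupOf 2 (S : Subgroup G)) : Set G) ⊔ Cfsg.pPrimeCore 2 G = ⊤ := by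
  have hf := QuotientGroup.mk'_surjective (pPrimeCore 2 G)
  have hk0 := QuotientGroup.ker_mk' (pPrimeCore 2 G)
  set f := QuotientGroup.mk' (pPrimeCore 2 G)
  have hk : (Nat.card f.ker).Coprime 2 := hk0.symm ▸ H3.pPrimeCore_coprime 2 G
  have hS := (H85.isSyl_top S).map f
  rw [Subgroup.map_top_of_surjective _ hf] at hS
  have hcl' : ⁅⁅(S : Subgroup G), (S : Subgroup G)⁆, (S : Subgroup G)⁆ = ⊥ := hcl
  have h1 := H54.le_normalizer_thompson_of_class_two (dvd_refl 2) ⊤ _ hS
    (H54.charIn_top_iff.2 (H51.isPConstrained_iff.1 hcon))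
    (fun h => hS4 (H82.involves_of_involves_quotient (H82.involves_of_involves_subgroup h)))
    (by rw [← Subgroup.map_commutator, ← Subgroup.map_commutator, hcl', Subgroup.map_bot])
  rw [H6.normalizer_thompson_map f hf hk _ S.2] at h1
  rw [← hk0, ← Subgroup.comap_map_eq, top_le_iff.1 h1, Subgroup.comap_top]

end Cfsg.Agent.S1932
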