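import Cfsg.Statements.S1944
import Cfsg.Agent.H56.NormMap
import Cfsg.Agent.H7.PPCore

set_option autoImplicit false
open Cfsg

namespace Cfsg.Agent.S1944

/-- Let S be a Sylow p-subgroup of the finite group G and suppose that the centre Z(S) lies in O_{p',p}(G). The elements of S each of which is its only G-conjugate in S form a subgroup W of Z(S); W is then a direct factor of Z(S): there is a subgroup K of Z(S) with W ∩ K = 1 and WK = Z(S). -/
theorem result {G : Type*} [Group G] [Finite G] {p : ℕ} [Fact p.Prime] (S : Sylow p G)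
    (hZ : ((S : Subgroup G) ⊓ Subgroup.centralizer ((S : Subgroup G) : Set G)) ≤ Cfsg.pPrimePCore p G) :
    ∃ W K : Subgroup G, (∀ x : G, x ∈ W ↔ (x ∈ (S : Subgroup G) ∧ ∀ g : G, g * x * g⁻¹ ∈ (S : Subgroup G) → g * x * g⁻¹ = x)) ∧
      K ≤ ((S : Subgroup G) ⊓ Subgroup.centralizer ((S : Subgroup G) : Set G)) ∧ W ⊓ K = ⊥ ∧ W ⊔ K = ((S : Subgroup G) ⊓ Subgroup.centralizer ((S : Subgroup G) : Set G)) := by
  have hp : p.Prime := Fact.out
  set T : Subgroup G := (S : Subgroup G) ⊓ pPrimePCore p G with hT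
  set N : Subgroup G := Subgroup.normalizer (T : Set G) with hN
  set Z : Subgroup G := (S : Subgroup G) ⊓ Subgroup.centralizer ((S : Subgroup G) : Set G) with hZd
  have := H3.pPrimePCore_normal p G
  have hSN : (S : Subgroup G) ≤ N :=
    H4.le_normalizer_inf Subgroup.le_normalizer (Subgroup.le_normalizer_of_normal)
  let A : Subgroup G := T ⊓ Subgroup.centralizer (T : Set G)
  have hA : IsMulCommutative A := ⟨⟨fun a b => Subtype.ext (b.2.2 a a.2.1)⟩⟩
  have hNA : N ≤ Subgroup.normalizer (A : Set G) :=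
    H4.le_normalizer_inf le_rfl (H4.normalizer_le_normalizer_centralizer _)
  have hZA : Z ≤ A := le_inf (le_inf inf_le_left hZ)
    (inf_le_right.trans (Subgroup.centralizer_le (fun x hx => hx.1)))
  have hAS : A ≤ (S : Subgroup G) := inf_le_left.trans inf_le_left
  obtain ⟨τ, h1, h2⟩ := H56.exists_norm_map_sub (S : Subgroup G) hNA
  let W : Subgroup G := (S : Subgroup G) ⊓ Subgroup.centralizer (N : Set G)
  have hWZ : W ≤ Z := inf_le_inf_left _ (Subgroup.centralizer_le hSN)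
  have hm : ((S : Subgroup G).relIndex N).Coprime p :=
    ((Nat.Prime.coprime_iff_not_dvd hp).2 fun h => S.not_dvd_index
      (h.trans (Subgroup.relIndex_dvd_index_of_le hSN))).symm
  have hord : ∀ x ∈ (S : Subgroup G), (orderOf x).Coprime ((S : Subgroup G).relIndex N) := by
    intro x hx
    obtain ⟨k, hk⟩ := IsPGroup.iff_orderOf.1 S.isPGroup' ⟨x, hx⟩
    rw [Subgroup.orderOf_mk] at hk
    rw [hk]; exact Nat.Coprime.pow_left _ hm.symm
  refine ⟨W, Z ⊓ τ.ker.map A.subtype, fun x => ⟨fun hx => ⟨hx.1, fun g hg => ?_⟩,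
    fun hx => ⟨hx.1, fun n hn => ?_⟩⟩, inf_le_left, ?_, le_antisymm (sup_le hWZ inf_le_left) ?_⟩
  · obtain ⟨n, hn, k, hk, hg'⟩ :=
      H7.exists_normalizer_mul_pPrimeCore (H7.isSylowIn_inf_pPrimePCore S) g⁻¹
    have hg2 : g = k⁻¹ * n⁻¹ := by rw [← mul_inv_rev, ← hg', inv_inv]
    have h3 : n⁻¹ * x * n⁻¹⁻¹ = x := by
      rw [hx.2 n⁻¹ (inv_mem hn)]; group
    have h4 : g * x * g⁻¹ = k⁻¹ * x * k⁻¹⁻¹ := by
      conv_rhs => rw [← h3]
      rw [hg2]; group
    rw [h4] at hg ⊢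
    exact H7.conj_eq_of_mem_pPrimeCore S.isPGroup' hx.1 (inv_mem hk) hg
  · have hxZ : x ∈ Z := ⟨hx.1, fun s hs => by
      have := hx.2 s (mul_mem (mul_mem hs hx.1) (inv_mem hs))
      exact mul_inv_eq_iff_eq_mul.1 this⟩
    have h3 : n * x * n⁻¹ ∈ T := H4.conj_mem_of_mem_normalizer hn (hZA hxZ).1
    exact mul_inv_eq_iff_eq_mul.1 (hx.2 n h3.1)
  · rw [eq_bot_iff]
    rintro x ⟨hxW, hxZ, a, ha, rfl⟩
    have h3 := h2 a hxW.2
    rw [show τ a = 1 from ha] at h3
    have h4 : (a : G) ^ (S : Subgroup G).relIndex N = 1 := by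
      have := congrArg Subtype.val h3
      simpa using this.symm
    have h5 := (hord a hxW.1).eq_one_of_dvd (orderOf_dvd_of_pow_eq_one h4)
    exact orderOf_eq_one_iff.1 h5
  · intro z hz
    let a : A := ⟨z, hZA hz⟩
    have h3 : (τ a : G) ∈ W := ⟨hAS (τ a).2, h1 a hz.2⟩
    obtain ⟨m, hm'⟩ := exists_pow_eq_self_of_coprime (hord _ h3.1).symm
    let w : A := τ a ^ m
    have hw : (w : G) ∈ W := pow_mem h3 m
    have h4 : τ w = τ a := by
      rw [h2 w hw.2]
      apply Subtype.ext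
      simp only [w, SubmonoidClass.coe_pow]
      rw [← pow_mul, mul_comm, pow_mul, hm']
    have h5 : z = w * ((w⁻¹ * a : A) : G) := by simp [a]
    rw [h5]
    refine mul_mem (Subgroup.mem_sup_left hw) (Subgroup.mem_sup_right ⟨?_, w⁻¹ * a, ?_, rfl⟩)
    · exact Z.mul_mem (Z.inv_mem (hWZ hw)) hz
    · show τ (w⁻¹ * a) = 1
      rw [map_mul, map_inv, h4, inv_mul_cancel]

end Cfsg.Agent.S1944
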