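import Cfsg.Statements.S1948
import Cfsg.Agent.H7.PPCore

set_option autoImplicit false
open Cfsg

namespace Cfsg.Agent.S1948

/-- Let S be a Sylow p-subgroup of the finite group G. Then G = N_G(S)·O_{p'}(G) if and only if G is p-constrained and N_G(S) controls fusion in S, in the sense that whenever a subgroup Q of S has a conjugate g Q g⁻¹ inside S, the element g is a product n c with n normalizing S and c centralizing Q. -/
theorem result {G : Type*} [Group G] [Finite G] {p : ℕ} [Fact p.Prime] (S : Sylow p G) :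
    Subgroup.normalizer ((S : Subgroup G) : Set G) ⊔ Cfsg.pPrimeCore p G = ⊤ ↔
      (Cfsg.IsPConstrained p G ∧
        ∀ Q : Subgroup G, Q ≤ (S : Subgroup G) → ∀ g : G, Q.map (MulAut.conj g).toMonoidHom ≤ (S : Subgroup G) →
          ∃ n ∈ Subgroup.normalizer ((S : Subgroup G) : Set G), ∃ c ∈ Subgroup.centralizer (Q : Set G), g = n * c) := by
  constructor
  · intro h
    refine ⟨H7.isPConstrained_of_normalizer_sup S h, fun Q hQ g hg => ?_⟩
    obtain ⟨n, hn, k, hk, rfl⟩ := (H83.mem_sup_right_norm Subgroup.le_normalizer_of_normal).mp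
      (h.ge (Subgroup.mem_top g))
    refine ⟨n, hn, k, fun q hq => ?_, rfl⟩
    have h1 : n * k * q * (n * k)⁻¹ ∈ (S : Subgroup G) := hg ⟨q, hq, rfl⟩
    have h2 := (Subgroup.mem_normalizer_iff''.mp hn _).mp h1
    have h3 := H7.conj_eq_of_mem_pPrimeCore S.2 (hQ hq) hk (by simpa [mul_assoc] using h2)
    rw [mul_inv_eq_iff_eq_mul] at h3
    exact h3.symm
  · rintro ⟨h1, h2⟩
    have hS := H7.isSylowIn_inf_pPrimePCore S
    have hC := h1 hS.toSylow
    rw [hS.map_toSylow] at hC
    rw [eq_top_iff]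
    rintro g -
    obtain ⟨m, hm, k, hk, rfl⟩ := H7.exists_normalizer_mul_pPrimeCore hS g
    obtain ⟨n, hn, c, hc, rfl⟩ := h2 _ inf_le_left m
      ((H8.mem_normalizer_iff_conj_smul_eq.mp hm).le.trans inf_le_left)
    obtain ⟨s, hs, l, hl, rfl⟩ := H7.exists_mul_of_mem_pPrimePCore hS (hC hc)
    exact mul_mem (mul_mem (Subgroup.mem_sup_left hn) (mul_mem
      (Subgroup.mem_sup_left (Subgroup.le_normalizer hs.1)) (Subgroup.mem_sup_right hl)))
      (Subgroup.mem_sup_right hk)

end Cfsg.Agent.S1948
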