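import Cfsg.Statements.S1953
import Cfsg.Agent.H56.QdFree

set_option autoImplicit false
open Cfsg

namespace Cfsg.Agent.S1953

/-- Let p be an odd prime and P a Sylow p-subgroup of the finite group G, and suppose that for no p-subgroup Q of G does N_G(Q)/C_G(Q) have a section isomorphic to SL₂(p). Call a subgroup Q of P centric-radical when Z(Q) is a Sylow p-subgroup of C_G(Q) and the only normal subgroup X of N_G(Q) containing Q·C_G(Q) such that the index of Q·C_G(Q) in X is a power of p is Q·C_G(Q) itself (that is, N_G(Q)/Q·C_G(Q) has no nontrivial normal p-subgroup). Then there is a centric-radical subgroup Q of P contained in every centric-radical subgroup of P; it is normal in P, and N_G(Q) controls strong fusion in P: whenever a subgroup A of P has g A g⁻¹ ≤ P, the element g is a product h c with h in N_G(Q) and c centralizing A. -/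
theorem result {G : Type*} [Group G] [Finite G] {p : ℕ} [Fact p.Prime] (hp : p ≠ 2) (P : Sylow p G)
    (hfree : ∀ Q : Subgroup G, IsPGroup p ↥Q → ¬ ∃ (H K : Subgroup G) (_ : (K.subgroupOf H).Normal),
      Subgroup.centralizer (Q : Set G) ≤ K ∧ K ≤ H ∧ H ≤ Subgroup.normalizer (Q : Set G) ∧
      Nonempty ((↥H ⧸ K.subgroupOf H) ≃* Matrix.SpecialLinearGroup (Fin 2) (ZMod p)))
    (cr : Subgroup G → Prop)
    (hcr : ∀ Q : Subgroup G, cr Q ↔ (Q ≤ (P : Subgroup G) ∧
      (∃ R : Sylow p ↥(Subgroup.centralizer (Q : Set G)),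
        (R : Subgroup ↥(Subgroup.centralizer (Q : Set G))).map (Subgroup.centralizer (Q : Set G)).subtype = Q ⊓ Subgroup.centralizer (Q : Set G)) ∧
      ∀ X : Subgroup G, X ≤ Subgroup.normalizer (Q : Set G) →
        (∀ n ∈ Subgroup.normalizer (Q : Set G), X.map (MulAut.conj n).toMonoidHom = X) →
        Q ⊔ Subgroup.centralizer (Q : Set G) ≤ X → (∃ k : ℕ, (Q ⊔ Subgroup.centralizer (Q : Set G)).relIndex X = p ^ k) →
        X = Q ⊔ Subgroup.centralizer (Q : Set G))) :
    ∃ Q : Subgroup G, cr Q ∧ (∀ R : Subgroup G, cr R → Q ≤ R) ∧ (∀ x ∈ (P : Subgroup G), Q.map (MulAut.conj x).toMonoidHom = Q) ∧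
      ∀ A : Subgroup G, A ≤ (P : Subgroup G) → ∀ g : G, A.map (MulAut.conj g).toMonoidHom ≤ (P : Subgroup G) →
        ∃ h ∈ Subgroup.normalizer (Q : Set G), ∃ c ∈ Subgroup.centralizer (A : Set G), g = h * c := by
  have hS := H85.isSyl_top P
  have hpq : ∀ Q X : Subgroup G, X ≤ Subgroup.normalizer (Q : Set G) →
      Q ⊔ Subgroup.centralizer (Q : Set G) ≤ X →
      ((∃ k : ℕ, (Q ⊔ Subgroup.centralizer (Q : Set G)).relIndex X = p ^ k) ↔
        H85.PQuot p (Q ⊔ Subgroup.centralizer (Q : Set G)) X) := by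
    intro Q X h1 h2
    have : ((Q ⊔ Subgroup.centralizer (Q : Set G)).subgroupOf X).Normal :=
      (Subgroup.normal_subgroupOf_iff_le_normalizer h2).2 (h1.trans
        (H85.le_normalizer_sup le_rfl (H85.normalizer_le_normalizer_centralizer Q)))
    rw [← H85.pquot_subgroupOf_iff (le_refl X), Subgroup.subgroupOf_self, H85.pquot_top_iff,
      IsPGroup.iff_card]
    rfl
  obtain ⟨Q, hQ, h1, h2, h3⟩ := H56.exists_centric_radical (H54.isCharPFunctor_kInfLower p)
    (H56.fusCtl_kInf_of_qdFree hp (H56.qdFree_of_automizers hfree)) hS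
  have hn := h1.le_norm hQ
  refine ⟨Q, (hcr Q).2 ⟨hQ, ?_, fun X hX hXn hQX hk => h3 X hX
    (fun n hn => H85.cj_eq_iff_mem_normalizer.1 (hXn n hn)) hQX ((hpq Q X hX hQX).1 hk)⟩,
    fun R hR => ?_, fun x hx => H85.cj_eq_of_mem_normalizer (hn hx), fun A hA g hg => ?_⟩
  · have h4 := (hS.of_le hn le_top).inf_of_le_normalizer (Subgroup.centralizer_le_normalizer _)
      (H85.normalizer_le_normalizer_centralizer Q)
    exact ⟨h4.toSylow, h4.map_toSylow.trans
      (le_antisymm (le_inf h2 inf_le_right) (inf_le_inf_right _ hQ))⟩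
  · obtain ⟨hRP, ⟨T, hT⟩, hR⟩ := (hcr R).1 hR
    have h4 := H85.isSyl_map_subtype T
    rw [hT] at h4
    refine h1.le_of_radical P.isPGroup' hQ hRP ((h4.eq_of_le P.isPGroup'.to_inf_left
      (inf_le_inf_right _ hRP) inf_le_right).le.trans inf_le_left) fun X hX hXn hRX hk => ?_
    exact hR X hX (fun n hn => H85.cj_eq_of_mem_normalizer (hXn hn)) hRX ((hpq R X hX hRX).2 hk)
  · obtain ⟨x, hx, hxg⟩ := h1 A hA g trivial hg
    exact ⟨x, hx, _, hxg, (mul_inv_cancel_left x g).symm⟩

end Cfsg.Agent.S1953
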