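import Cfsg.Statements.S2007
import Cfsg.Agent.H56.Sections

set_option autoImplicit false
open Cfsg

namespace Cfsg.Agent.S2007

/-- Let p be a prime, G a finite group with Sylow p-subgroup S, and T a normal subgroup of S containing C_S(T). If N_G(T)/C_G(T) is a p-group (every element of N_G(T) of order prime to p centralizes T), then N_G(T) has a normal p-complement. -/
theorem result {G : Type*} [Group G] [Finite G] {p : ℕ} [Fact p.Prime] (S : Sylow p G) (T : Subgroup G) (hTS : T ≤ (S : Subgroup G)) (hTn : (S : Subgroup G) ≤ Subgroup.normalizer ((T : Subgroup G) : Set G)) (hC : (S : Subgroup G) ⊓ Subgroup.centralizer ((T : Subgroup G) : Set G) ≤ T) (hN : ∀ g ∈ Subgroup.normalizer ((T : Subgroup G) : Set G), (orderOf g).Coprime p → g ∈ Subgroup.centralizer ((T : Subgroup G) : Set G)) : Cfsg.HasNormalPComplement p ↥(Subgroup.normalizer ((T : Subgroup G) : Set G)) := by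
  set N := Subgroup.normalizer ((T : Subgroup G) : Set G) with hNdef
  set C := Subgroup.centralizer ((T : Subgroup G) : Set G) with hCdef
  have hCN : C ≤ N := Subgroup.centralizer_le_normalizer _
  have h1 : H85.IsSyl p ((S : Subgroup G) ⊓ C) C :=
    (H85.isSyl_of_sylow_le S hTn).inf_of_le_normalizer hCN
      (H85.normalizer_le_normalizer_centralizer T)
  have h2 : HasNormalPComplement p C := by
    refine H8.hasNormalPComplement_of_normalizer_le_centralizer h1.toSylow fun x _ => ?_
    rw [Subgroup.mem_centralizer_iff]
    intro y hy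
    exact Subtype.ext (Subgroup.mem_centralizer_iff.1 x.2 y (hC hy))
  refine H8.hasNormalPComplement_of_pResidual_le (H := C.subgroupOf N) ?_
    ((H8.hasNormalPComplement_subgroupOf_iff hCN).mpr h2)
  rw [H8.pResidual_le_iff]
  intro g hg
  exact hN g g.2 (by simpa using hg)

end Cfsg.Agent.S2007
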