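import Cfsg.Statements.S1988
import Cfsg.Agent.H54.Transport
import Cfsg.Agent.S2006
import Cfsg.Agent.S2007

set_option autoImplicit false
universe u
open Cfsg

namespace Cfsg.Agent.S1988

/-- Let p be an odd prime, G a finite group with Sylow p-subgroup S and K the lower K-infinity subgroup of S. If N_G(K) has a normal p-complement, or if N_G(K)/C_G(K) is a p-group (every element of N_G(K) of order prime to p centralizes K), then G has a normal p-complement. -/
theorem result {G : Type u} [Group G] [Finite G] {p : ℕ} [Fact p.Prime] (hp : p ≠ 2) (S : Sylow p G) (h : Cfsg.HasNormalPComplement p ↥(Subgroup.normalizer ((Cfsg.inducedFunctor Cfsg.kInfLower (S : Subgroup G) : Subgroup G) : Set G)) ∨ ∀ g ∈ Subgroup.normalizer ((Cfsg.inducedFunctor Cfsg.kInfLower (S : Subgroup G) : Subgroup G) : Set G), (orderOf g).Coprime p → g ∈ Subgroup.centralizer ((Cfsg.inducedFunctor Cfsg.kInfLower (S : Subgroup G) : Subgroup G) : Set G)) : Cfsg.HasNormalPComplement p G := by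
  have hW := H54.isCharPFunctor_kInfLower p
  have hN : Cfsg.HasNormalPComplement p ↥(Subgroup.normalizer
      ((Cfsg.inducedFunctor Cfsg.kInfLower (S : Subgroup G) : Subgroup G) : Set G)) := by
    rcases h with h | h
    · exact h
    · refine S2007.result S _ (H54.inducedFunctor_le _) ?_ ?_ h
      · have := H54.kInfLower_characteristic (P := (S : Subgroup G))
        exact Subgroup.le_normalizer.trans (H3.normalizer_le_normalizer_map_of_characteristic _ _)
      · rintro x ⟨hx, hc⟩
        have := S.isPGroup'.isNilpotent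
        exact ⟨⟨x, hx⟩, H54.centralizer_kInfLower_le fun y hy => Subtype.ext (hc _ ⟨y, hy, rfl⟩), rfl⟩
  refine S2006.result _ hW S hN fun K R _ hC T hT => ?_
  obtain ⟨g, h1, h2, -, -, h5⟩ := H54.exists_of_kInf_not_normal (H3.pCore_le_sylow T) (Or.inl hT)
  obtain ⟨U, V, hUV, hU, h6, h7⟩ := h5 hC
  have h2le : 2 ≤ p - 1 := by
    have := (Fact.out : p.Prime).two_le
    omega
  have := hUV.2.1
  exact ⟨g, h1, h2, U, V, hUV, hU,
    (H54.iterCommutator_antitone Subgroup.le_normalizer_of_normal h2le).trans h6, h7⟩

end Cfsg.Agent.S1988
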