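import Cfsg.Statements.S2029
import Cfsg.Agent.H86.KM
import Cfsg.Agent.S3049

set_option autoImplicit false
open Cfsg

namespace Cfsg.Agent.S2029

open Subgroup
open scoped commutatorElement Pointwise

variable {G : Type*} [Group G] {p : ℕ}

def Pr (G : Type*) [Group G] (p k r : ℕ) : Prop :=
  ∃ B T : Subgroup G, IsElementaryAbelian p B ∧ p ^ k ≤ Nat.card B ∧ IsElementaryAbelian 2 T ∧
    2 ^ r ≤ Nat.card T ∧ T ≤ centralizer (B : Set G)

theorem stepA [Finite G] [hp : Fact p.Prime] (h2 : p ≠ 2) (hG : IsOfLocalCharacteristic p G)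
    {B T : Subgroup G} (hB : IsElementaryAbelian p B) (hB1 : B ≠ ⊥) (hT : IsElementaryAbelian 2 T)
    (hT1 : T ≠ ⊥) (hTB : T ≤ centralizer (B : Set G)) :
    ∃ T', H55.Hyp 2 T T' ∧ ∃ s ∈ T, ∃ y ∈ pCoreOf p (centralizer (B : Set G)), orderOf y = p ∧
      T' ≤ centralizer {y} ∧ s * y * s⁻¹ = y⁻¹ ∧ IsElementaryAbelian p (B ⊔ zpowers y) ∧
      Nat.card B * p ≤ Nat.card (B ⊔ zpowers y : Subgroup G) := by
  have hC : H83.CharP p (centralizer (B : Set G)) :=
    (H83.charP_iff.mpr (hG.2 B (H55.ea_isPGroup hB) hB1)).of_normal (centralizer_le_normalizer _)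
      (H53.normalizer_le_normalizer_centralizer' B)
  have hP := H83.pCoreOf_isPGroup (p := p) (centralizer (B : Set G))
  obtain ⟨T', hT', s, hs, k, hk, hk1, h1, h3⟩ := H86.exists_eigen hT
    (P := pCoreOf p (centralizer (B : Set G))) (by
      obtain ⟨j, hj⟩ := hP.exists_card_eq
      rw [hj]; exact (hp.out.odd_of_ne_two h2).pow) (hTB.trans (H83.le_norm_pCoreOf _)) (fun h => by
      obtain ⟨a, ha, ha1⟩ := H55.exists_ne_one_of_ne_bot hT1
      refine ha1 (hC.eq_one (hTB ha) ?_ (le_centralizer_iff.mp h ha))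
      rw [H55.ea_orderOf hT ha ha1]
      exact (Nat.coprime_primes Nat.prime_two hp.out).mpr h2.symm)
  obtain ⟨j, hj⟩ := (IsPGroup.iff_orderOf.mp hP) ⟨k, hk⟩
  rw [← Subgroup.orderOf_coe] at hj
  have hj0 : j ≠ 0 := by rintro rfl; exact hk1 (orderOf_eq_one_iff.mp hj)
  obtain ⟨i, rfl⟩ := Nat.exists_eq_succ_of_ne_zero hj0
  have ho : orderOf (k ^ p ^ i) = p := by
    rw [orderOf_pow_of_dvd (pow_pos hp.out.pos i).ne' (hj ▸ pow_dvd_pow p (Nat.le_succ i)), hj,
      pow_succ, Nat.mul_div_cancel_left _ (pow_pos hp.out.pos i)]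
  have hinv : s * k ^ p ^ i * s⁻¹ = (k ^ p ^ i)⁻¹ := by rw [← conj_pow, h3, inv_pow]
  have hyC : k ^ p ^ i ∈ centralizer (B : Set G) := H83.pCoreOf_le _ (pow_mem hk _)
  refine ⟨T', hT', s, hs, k ^ p ^ i, pow_mem hk _, ho, fun a ha => ?_, hinv,
    H86.ea_sup_zpowers hB (orderOf_dvd_iff_pow_eq_one.mp ho.dvd) (fun b hb =>
      mem_centralizer_singleton_iff.mpr (mem_centralizer_iff.mp hyC b hb)) fun h => ?_⟩
  · exact mem_centralizer_singleton_iff.mpr
      (Commute.pow_right (mem_centralizer_singleton_iff.mp (h1 ha)) _)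
  · rw [← mem_centralizer_iff.mp (hTB hs) _ h, mul_inv_cancel_right, ← mul_eq_one_iff_eq_inv, ← sq]
      at hinv
    have := orderOf_dvd_of_pow_eq_one hinv
    rw [ho] at this
    exact h2 ((Nat.prime_dvd_prime_iff_eq hp.out Nat.prime_two).mp this)

theorem Pr.step [Finite G] [hp : Fact p.Prime] (h2 : p ≠ 2) (hG : IsOfLocalCharacteristic p G)
    {k r : ℕ} (hk : k ≠ 0) (h : Pr G p k (r + 1)) : Pr G p (k + 1) r := by
  obtain ⟨B, T, hB, hBk, hT, hTr, hTB⟩ := h
  obtain ⟨T', hT', s, hs, y, hy, ho, h1, -, h3, h4⟩ := stepA h2 hG hB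
    (H55.ne_bot_of_pow_le_card hk hBk) hT (H55.ne_bot_of_pow_le_card (Nat.succ_ne_zero r) hTr) hTB
  refine ⟨_, T', h3, (pow_succ p k ▸ Nat.mul_le_mul_right p hBk).trans h4, H55.ea_mono hT hT'.le,
    hT'.pow_le hTr, ?_⟩
  rw [H53.centralizer_sup', H52.centralizer_zpowers]
  exact le_inf (hT'.le.trans hTB) h1

theorem Pr.asc [Finite G] [hp : Fact p.Prime] (h2 : p ≠ 2) (hG : IsOfLocalCharacteristic p G)
    (hG2 : IsCharacteristicTwoType G) {j : ℕ} (hj : j ≠ 0) (h : Pr G p (j + 1) 2) :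
    Pr G p (j + 2) 2 := by
  by_contra hn
  have hn3 : ¬ Pr G p (j + 1) 3 := fun h => hn (h.step h2 hG (Nat.succ_ne_zero j))
  have hn4 : ¬ Pr G p j 4 := fun h => hn3 (h.step h2 hG hj)
  obtain ⟨F, T, hF, hFk, hT, hTr, hTF⟩ := h
  obtain ⟨T', hT', s, hs, y, hy, ho, h1, hinv, hB, hBc⟩ := stepA h2 hG hF
    (H55.ne_bot_of_pow_le_card (Nat.succ_ne_zero j) hFk) hT
    (H55.ne_bot_of_pow_le_card two_ne_zero hTr) hTF
  obtain ⟨t, ht, ht1⟩ := H55.exists_ne_one_of_ne_bot (hT'.ne_bot hTr)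
  set B := F ⊔ zpowers y with hBdef
  have hBk : p ^ (j + 2) ≤ Nat.card B := (pow_succ p (j + 1) ▸ Nat.mul_le_mul_right p hFk).trans hBc
  have htt : t * t = 1 := by rw [← sq]; exact hT.2 t (hT'.le ht)
  have hss : s * s = 1 := by rw [← sq]; exact hT.2 s hs
  have hyB : y ∈ B := mem_sup_right (mem_zpowers y)
  have hy1 : y ≠ 1 := by rintro rfl; exact hp.out.one_lt.ne (by rw [← ho, orderOf_one])
  have hyo : (orderOf y).Coprime 2 := by
    rw [ho]; exact (Nat.coprime_primes hp.out Nat.prime_two).mpr h2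
  have hBt : B ≤ centralizer {t} := sup_le
    (fun f hf => mem_centralizer_singleton_iff.mpr (mem_centralizer_iff.mp (hTF (hT'.le ht)) f hf))
    (zpowers_le_of_mem (mem_centralizer_singleton_iff.mpr
      (mem_centralizer_singleton_iff.mp (h1 ht)).symm))
  have hzp : IsPGroup 2 (zpowers t) := H55.ea_isPGroup (H55.ea_zpowers (by rw [sq, htt]))
  have hC : H83.CharP 2 (centralizer ({t} : Set G)) := by
    rw [← H52.centralizer_zpowers]
    exact (H83.charP_iff.mpr (hG2.2 _ hzp (zpowers_ne_bot.mpr ht1))).of_normal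
      (centralizer_le_normalizer _) (H53.normalizer_le_normalizer_centralizer' _)
  set Q := pCoreOf 2 (centralizer ({t} : Set G)) with hQdef
  have hQ : IsPGroup 2 Q := H83.pCoreOf_isPGroup _
  have hQt : Q ≤ centralizer {t} := H83.pCoreOf_le _
  have hNQ : centralizer {t} ≤ normalizer (Q : Set G) := H83.le_norm_pCoreOf _
  have htQ : t ∈ Q := H83.le_pCoreOf (N := zpowers t)
    (zpowers_le_of_mem (mem_centralizer_singleton_iff.mpr rfl))
    (by rw [← H52.centralizer_zpowers]; exact centralizer_le_normalizer _) hzp (mem_zpowers t)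
  have hst : s ∈ centralizer {t} := H55.ea_le_centralizer_singleton hT (hT'.le ht) hs
  obtain ⟨D, hDQ, hN, hf, hsq, hna, hle, hcomm⟩ := H86.exists_symp h2 hQ hB (hBt.trans hNQ) htt hBt
    (H86.inv_ea_le_zpowers h2 hB htt ht1 hQt hBt
      (fun V hV h => not_le.mp fun h4 => hn ⟨B, V, hB, hBk, hV, h4, h⟩)
      (fun K hK V hV h => not_le.mp fun h8 =>
        hn3 ⟨K, V, H55.ea_mono hB hK.le, hK.pow_le hBk, hV, h8, h⟩))
  have hdis : ∀ x ∈ Q, x ∈ pCoreOf p (centralizer (F : Set G)) → x = 1 := fun x h1 h3 => by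
    obtain ⟨k, hk⟩ := H83.pCoreOf_isPGroup (p := p) _ ⟨x, h3⟩
    refine H8.eq_one_of_mem_of_coprime hQ h1 (Nat.Coprime.coprime_dvd_left
      (orderOf_dvd_of_pow_eq_one (show x ^ p ^ k = 1 from congrArg Subtype.val hk)) ?_)
    exact ((Nat.coprime_primes hp.out Nat.prime_two).mpr h2).pow_left k
  obtain ⟨K, hK, hyK, hKy⟩ := H86.exists_hyp_not_cent hB
    (H55.not_dvd_card_of_isPGroup h2.symm (hQ.to_le hDQ)) ((hBt.trans hNQ).trans hN) hyB
    fun h => hy1 (hC.eq_one (hBt hyB) hyo (hf y (hNQ (hBt hyB)) hyo h))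
  have hFK : ¬ F ≤ K := fun h => hKy fun u hu => by
    have huF : u ∈ centralizer (F : Set G) := H53.centralizer_anti h hu.2
    rw [mem_centralizer_singleton_iff, ← commutatorElement_eq_one_iff_mul_comm]
    refine hdis _ (H53.commutatorElement_mem_of_mem_normalizer (hDQ hu.1) (hNQ (hBt hyB))) ?_
    rw [← commutatorElement_inv]
    exact inv_mem (H53.commutatorElement_mem_of_mem_normalizer hy (H83.le_norm_pCoreOf _ huF))
  have hsF : s ∈ centralizer (F : Set G) := hTF hs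
  have hsB : MulAut.conj s • B = B := by
    refine H8.mem_normalizer_iff_conj_smul_eq.mp (H53.le_normalizer_sup (H := zpowers s)
      (zpowers_le_of_mem (centralizer_le_normalizer _ hsF)) (zpowers_le_of_mem ?_) (mem_zpowers s))
    refine H8.mem_normalizer_of_conj_smul_le ?_
    rw [← H8.map_conj_eq_smul, MonoidHom.map_zpowers]
    exact zpowers_le_of_mem (by
      change s * y * s⁻¹ ∈ _
      rw [hinv]; exact inv_mem (mem_zpowers y))
  have hKK : K ⊔ MulAut.conj s • K = B := by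
    refine hK.sup_eq (hsB ▸ pointwise_smul_le_pointwise_smul_iff.mpr hK.le) fun h => ?_
    have hKF : ¬ K ≤ F := fun h => hFK (H53.eq_of_le_of_card_le h
      (Nat.le_of_mul_le_mul_right (hK.card ▸ hBc) hp.out.pos)).ge
    obtain ⟨x, hxK, hxF⟩ := SetLike.not_le_iff_exists.mp hKF
    obtain ⟨f, hf, z, hz, rfl⟩ := (H53.mem_sup_of_le_normalizer (zpowers_le_of_mem
      (centralizer_le_normalizer _ (H83.pCoreOf_le _ hy)))).mp (hK.le hxK)
    obtain ⟨i, rfl⟩ := mem_zpowers_iff.mp hz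
    have h3 := h (H8.conj_mem_conj_smul.mpr hxK)
    have h4 : s * (f * y ^ i) * s⁻¹ = f * (y ^ i)⁻¹ := by
      calc s * (f * y ^ i) * s⁻¹ = (s * f) * s⁻¹ * (s * y * s⁻¹) ^ i := by rw [conj_zpow]; group
        _ = _ := by rw [← mem_centralizer_iff.mp hsF f hf, hinv]; group
    have h5 : (y ^ i) ^ 2 ∈ K := by
      have := mul_mem (inv_mem h3) hxK
      rw [h4] at this
      simpa [sq, mul_assoc] using this
    have h6 : y ^ i ∈ K := H8.mem_of_pow_mem_of_coprime h5
      (Nat.Coprime.coprime_dvd_left (orderOf_dvd_of_mem_zpowers hz) hyo)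
    refine hyK (zpowers_le_of_mem h6 (S3049.mem_zpowers_of_prime hp.out ho hz fun h7 => hxF ?_))
    rw [h7, mul_one]; exact hf
  obtain ⟨a, ha, a', ha', hne, haa⟩ := hna K hK.le fun h => hKy fun u hu =>
    mem_centralizer_singleton_iff.mpr (mem_centralizer_iff.mp (h hyB) u hu)
  have hsD : MulAut.conj s • D = D := H8.mem_normalizer_iff_conj_smul_eq.mp (hN (hNQ hst))
  have hconj : ∀ x ∈ ⁅D ⊓ centralizer (K : Set G), B⁆, ∀ z ∈ ⁅D ⊓ centralizer (K : Set G), B⁆,
      Commute x (s * z * s⁻¹) := by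
    intro x hx z hz
    refine mem_centralizer_iff.mp (hcomm K _ hKK ?_) x hx
    have := H8.conj_mem_conj_smul (g := s).mpr hz
    rwa [H8.commutator_conj_smul, smul_inf, hsD, hsB, ← H8.centralizer_conj_smul] at this
  have hts : Commute t s := (mem_centralizer_singleton_iff.mp hst).symm
  have htD : ∀ x ∈ ⁅D ⊓ centralizer (K : Set G), B⁆, Commute t x := fun x hx =>
    (mem_centralizer_singleton_iff.mp (hQt (hDQ (hle K hK.le hx).1))).symm
  have htD' : ∀ x ∈ ⁅D ⊓ centralizer (K : Set G), B⁆, Commute t (s * x * s⁻¹) := fun x hx =>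
    (hts.mul_right (htD x hx)).mul_right hts.inv_right
  have hsq' : ∀ x ∈ ⁅D ⊓ centralizer (K : Set G), B⁆, x * x * (s * x * s⁻¹ * (s * x * s⁻¹)) = 1 := by
    intro x hx
    rw [conj_mul]
    rcases hsq x (hle K hK.le hx).1 with h | h
    · rw [h]; group
    · rw [h, ← hts.eq, mul_inv_cancel_right, htt]
  obtain ⟨e1, c1⟩ := H86.ea_eight htt ht1 (htD a ha) (htD a' ha') (htD' a ha) (htD' a' ha')
    (hconj a ha a ha) (hconj a ha a' ha') (hconj a' ha' a ha) (hconj a' ha' a' ha') haa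
    (by rw [conj_mul, conj_mul, haa, ← mul_assoc s, ← hts.eq]; group) (hsq' a ha) (hsq' a' ha')
  have hus : ∀ x ∈ ⁅D ⊓ centralizer (K : Set G), B⁆, x * (s * x * s⁻¹) ∈ centralizer {s} := by
    intro x hx
    rw [mem_centralizer_singleton_iff, (hconj x hx x hx).eq]
    have h3 := (hconj x hx x hx).eq
    rw [← eq_inv_of_mul_eq_one_left hss] at h3 ⊢
    calc s * x * s * x * s = s * (x * (s * x * s)) := by group
      _ = _ := by rw [h3]
  have huQ : ∀ x ∈ ⁅D ⊓ centralizer (K : Set G), B⁆, x * (s * x * s⁻¹) ∈ Q := fun x hx =>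
    mul_mem (hDQ (hle K hK.le hx).1) (H53.conj_mem_of_mem_normalizer (hNQ hst) (hDQ (hle K hK.le hx).1))
  have hsL : s ∈ centralizer ((K ⊓ F : Subgroup G) : Set G) := H53.centralizer_anti inf_le_right hsF
  have huL : ∀ x ∈ ⁅D ⊓ centralizer (K : Set G), B⁆,
      x * (s * x * s⁻¹) ∈ centralizer ((K ⊓ F : Subgroup G) : Set G) := fun x hx => by
    have : x ∈ centralizer ((K ⊓ F : Subgroup G) : Set G) :=
      H53.centralizer_anti inf_le_left (hle K hK.le hx).2
    exact mul_mem this (mul_mem (mul_mem hsL this) (inv_mem hsL))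
  obtain ⟨e2, c2⟩ := H86.ea_sup_zpowers e1 (u := s) (by rw [sq, hss])
    (sup_le (sup_le (zpowers_le_of_mem (mem_centralizer_singleton_iff.mpr hts.eq))
      (zpowers_le_of_mem (hus a ha))) (zpowers_le_of_mem (hus a' ha'))) (fun h => by
      have hsQ : s ∈ Q := (sup_le (sup_le (zpowers_le_of_mem htQ) (zpowers_le_of_mem (huQ a ha)))
        (zpowers_le_of_mem (huQ a' ha')) : _ ≤ Q) h
      have h3 := H53.commutatorElement_mem_of_mem_normalizer hsQ (hNQ (hBt hyB))
      rw [commutatorElement_def, hinv, ← mul_inv_rev, inv_mem_iff, ← sq] at h3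
      exact hy1 (hdis y (by
        have := hdis _ h3 (pow_mem hy 2)
        rw [H8.eq_one_of_pow_eq_one_of_coprime this hyo]; exact one_mem _) hy))
  refine hn4 ⟨K ⊓ F, _, H55.ea_mono hF inf_le_right, hK.pow_le_card_inf le_sup_left hFk, e2,
    by omega, sup_le (sup_le (sup_le (zpowers_le_of_mem ?_) (zpowers_le_of_mem (huL a ha)))
      (zpowers_le_of_mem (huL a' ha'))) (zpowers_le_of_mem hsL)⟩
  exact H53.centralizer_anti inf_le_right (hTF (hT'.le ht))

/-- Let p be an odd prime and G a finite group that is both of local characteristic p (p divides its order and every p-local subgroup N satisfies C_N(O_p(N)) ≤ O_p(N)) and of characteristic 2 type (even order and every 2-local subgroup M satisfies C_M(O_2(M)) ≤ O_2(M)). Then every 2-local subgroup of G has p-rank at most 2. -/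
theorem result {G : Type*} [Group G] [Finite G] (p : ℕ) [Fact p.Prime] (hp : p ≠ 2) (hGp : Cfsg.IsOfLocalCharacteristic p G) (hG2 : Cfsg.IsCharacteristicTwoType G) : Cfsg.TwoLocalPRankLE p 2 G := by
  have hpp := (Fact.out : p.Prime)
  rintro H ⟨T₀, hT₀, hT1, hH⟩ A hAc hAp
  by_contra hlt
  have hn : ¬ Pr G p 2 2 := by
    intro h
    have key : ∀ j, Pr G p (j + 2) 2 := fun j => by
      induction j with
      | zero => exact h
      | succ j ih => exact ih.asc hp hGp hG2 (Nat.succ_ne_zero j)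
    obtain ⟨B, -, -, hB, -⟩ := key (Nat.card G)
    have h1 := Nat.lt_pow_self hpp.one_lt (n := Nat.card G + 2)
    have h2 := card_le_card_group B
    omega
  have hn3 : ¬ Pr G p 1 3 := fun h => hn (h.step hp hGp one_ne_zero)
  set B := A.map H.subtype with hBdef
  have hB : IsElementaryAbelian p B := H83.EA_map_subtype_iff.mpr ⟨hAc, hAp⟩
  have hB3 : p ^ 3 ≤ Nat.card B := by
    obtain ⟨k, hk⟩ := (H55.ea_isPGroup hB).exists_card_eq
    rw [← H83.card_map_subtype, not_le, hk] at hlt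
    rw [hk]
    exact Nat.pow_le_pow_right hpp.pos ((Nat.pow_lt_pow_iff_right hpp.one_lt).mp hlt)
  have hC : H83.CharP 2 H := hH ▸ H83.charP_iff.mpr (hG2.2 _ hT₀ hT1)
  set Q := pCoreOf 2 H with hQdef
  have hQ : IsPGroup 2 Q := H83.pCoreOf_isPGroup _
  have hBH : B ≤ H := map_subtype_le _
  have hBQ : B ≤ normalizer (Q : Set G) := hBH.trans (H83.le_norm_pCoreOf _)
  have h4 : ∀ K, H55.Hyp p B K → ∀ V, IsElementaryAbelian 2 V → V ≤ centralizer (K : Set G) →
      Nat.card V < 4 := fun K hK V hV h => not_le.mp fun h4 =>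
    hn ⟨K, V, H55.ea_mono hB hK.le, hK.pow_le hB3, hV, h4, h⟩
  have hBZ : B ≤ centralizer (H83.OZ 2 Q : Set G) := by
    by_contra hc
    obtain ⟨K, hK, h⟩ := H86.exists_hyp_four_le hp hB (H55.ea_isPGroup (H83.EA_OZ Q))
      (H83.norm_OZ hBQ) hc
    have h1 := h4 K hK _ (H55.ea_mono (H83.EA_OZ Q) inf_le_left) inf_le_right
    have h2 : 0 < Nat.card (H83.OZ 2 Q ⊓ centralizer (B : Set G) : Subgroup G) := Nat.card_pos
    omega
  obtain ⟨t, ht, ht1⟩ := H55.exists_ne_one_of_ne_bot (H83.OZ_ne_bot hQ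
    (hC.pCoreOf_ne_bot fun h => hT1 (le_bot_iff.mp (h ▸ hH ▸ le_normalizer))))
  have htt : t * t = 1 := by rw [← sq]; exact (H83.mem_OZ.mp ht).2.2
  have hBt : B ≤ centralizer {t} := hBZ.trans (H55.centralizer_le_singleton ht)
  have hQt : Q ≤ centralizer {t} := (H83.le_cent_OZ Q).trans (H55.centralizer_le_singleton ht)
  obtain ⟨D, hDQ, hN, hf, hsq, hna, hle, hcomm⟩ := H86.exists_symp hp hQ hB hBQ htt hBt
    (H86.inv_ea_le_zpowers hp hB htt ht1 hQt hBt
      (fun V hV h => not_le.mp fun h4 =>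
        hn ⟨B, V, hB, H55.pow_two_le_of_pow_three_le hB3, hV, h4, h⟩)
      (fun K hK V hV h => (h4 K hK V hV h).trans (by norm_num)))
  have hK : ∀ b ∈ B, b ≠ 1 → ∃ K, H55.Hyp p B K ∧ b ∉ K ∧
      ∃ a ∈ ⁅D ⊓ centralizer (K : Set G), B⁆, ∃ a' ∈ ⁅D ⊓ centralizer (K : Set G), B⁆,
        a * a = t ∧ a' * a' = t ∧ a * a' = t * (a' * a) := by
    intro b hb hb1
    have hbo : (orderOf b).Coprime 2 := by
      rw [H55.ea_orderOf hB hb hb1]; exact (Nat.coprime_primes hpp Nat.prime_two).mpr hp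
    obtain ⟨K, hK, hbK, hKb⟩ := H86.exists_hyp_not_cent hB
      (H55.not_dvd_card_of_isPGroup hp.symm (hQ.to_le hDQ)) (hBQ.trans hN) hb
      fun h => hb1 (hC.eq_one (hBH hb) hbo (hf b (hBQ hb) hbo h))
    obtain ⟨a, ha, a', ha', hne, haa⟩ := hna K hK.le fun h => hKb fun u hu =>
      mem_centralizer_singleton_iff.mpr (mem_centralizer_iff.mp (h hb) u hu)
    have key : ∀ x ∈ ⁅D ⊓ centralizer (K : Set G), B⁆, ∀ z ∈ ⁅D ⊓ centralizer (K : Set G), B⁆,
        x * z ≠ z * x → x * x = t := by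
      intro x hx z hz hxz
      refine (hsq x (hle K hK.le hx).1).resolve_left fun h => ?_
      obtain ⟨e1, c1⟩ := H86.ea_sup_zpowers (H55.ea_zpowers (p := 2) (a := t) (by rw [sq, htt]))
        (u := x) (by rw [sq, h]) (zpowers_le_of_mem (mem_centralizer_singleton_iff.mpr
          (mem_centralizer_singleton_iff.mp (hQt (hDQ (hle K hK.le hx).1))).symm)) fun h' =>
          hxz (mem_centralizer_singleton_iff.mp (zpowers_le_of_mem (mem_centralizer_singleton_iff.mpr
            (mem_centralizer_singleton_iff.mp (hQt (hDQ (hle K hK.le hz).1))).symm) h'))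
      have h1 := h4 K hK _ e1 (sup_le (zpowers_le_of_mem (mem_centralizer_iff.mpr fun k hk =>
        mem_centralizer_singleton_iff.mp (hBt (hK.le hk)))) (zpowers_le_of_mem (hle K hK.le hx).2))
      rw [Nat.card_zpowers, orderOf_eq_prime (by rw [sq, htt]) ht1] at c1
      omega
    exact ⟨K, hK, hbK, a, ha, a', ha', key a ha a' ha' hne, key a' ha' a ha hne.symm, haa⟩
  obtain ⟨b, hb, hb1⟩ := H55.exists_ne_one_of_ne_bot (H55.ne_bot_of_pow_le_card three_ne_zero hB3)
  obtain ⟨K, hK1, -, a, ha, a', ha', h1, h2, h3⟩ := hK b hb hb1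
  obtain ⟨b', hb', hb1'⟩ := H55.exists_ne_one_of_ne_bot
    (hK1.ne_bot (H55.pow_two_le_of_pow_three_le hB3))
  obtain ⟨K', hK2, hbK, c, hc, c', hc', h5, h6, h7⟩ := hK b' (hK1.le hb') hb1'
  have hKK : K ⊔ K' = B := by rw [sup_comm]; exact hK2.sup_eq hK1.le fun h => hbK (h hb')
  have hcm : ∀ x ∈ ⁅D ⊓ centralizer (K : Set G), B⁆, ∀ z ∈ ⁅D ⊓ centralizer (K' : Set G), B⁆,
      Commute x z := fun x hx z hz => mem_centralizer_iff.mp (hcomm K K' hKK hz) x hx
  have htD : ∀ K, K ≤ B → ∀ x ∈ ⁅D ⊓ centralizer (K : Set G), B⁆, Commute t x := fun K hK x hx =>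
    (mem_centralizer_singleton_iff.mp (hQt (hDQ (hle K hK hx).1))).symm
  obtain ⟨e1, c1⟩ := H86.ea_eight htt ht1 (htD K hK1.le a ha) (htD K hK1.le a' ha')
    (htD K' hK2.le c hc) (htD K' hK2.le c' hc') (hcm a ha c hc) (hcm a ha c' hc') (hcm a' ha' c hc)
    (hcm a' ha' c' hc') h3 h7 (by rw [h1, h5, htt]) (by rw [h2, h6, htt])
  have hL : ∀ x ∈ ⁅D ⊓ centralizer (K : Set G), B⁆, ∀ z ∈ ⁅D ⊓ centralizer (K' : Set G), B⁆,
      x * z ∈ centralizer ((K ⊓ K' : Subgroup G) : Set G) := fun x hx z hz =>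
    mul_mem (H53.centralizer_anti inf_le_left (hle K hK1.le hx).2)
      (H53.centralizer_anti inf_le_right (hle K' hK2.le hz).2)
  exact hn3 ⟨K ⊓ K', _, H55.ea_mono hB (inf_le_left.trans hK1.le),
    hK1.pow_le_card_inf hK2.le (hK2.pow_le hB3), e1, c1,
    sup_le (sup_le (zpowers_le_of_mem (mem_centralizer_iff.mpr fun k hk =>
      mem_centralizer_singleton_iff.mp (hBt (hK1.le hk.1)))) (zpowers_le_of_mem (hL a ha c hc)))
      (zpowers_le_of_mem (hL a' ha' c' hc'))⟩

end Cfsg.Agent.S2029
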