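import Cfsg.Statements.S2059
import Cfsg.Agent.H97.YtMain
-- import your own Cfsg.Agent.* helpers here

set_option autoImplicit false
open Cfsg

namespace Cfsg.Agent.S2059

/-- The Schur multiplier of the Monster (realised inside the presented Bimonster) is trivial; here the Schur multiplier is described through stem extensions, as in the definitions: surjective homomorphisms onto the group from a finite group, whose kernel is central in that finite group and contained in that finite group's commutator subgroup. -/
theorem result : Cfsg.HasCyclicSchurMultiplier Cfsg.Spor.Monster 1 := by
  obtain ⟨_, _, _, h⟩ := H97.Yt.exists_hyp
  have := H97.Gr.isM_real.1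
  exact h.multiplier

end Cfsg.Agent.S2059
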