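import Cfsg.Statements.S2195
import Cfsg.Agent.H71.P3Red
import Cfsg.Agent.H10.P3W1
import Cfsg.Agent.H13.P3Line
import Cfsg.Agent.H84.P3Bq
import Cfsg.Agent.H62.P3Ca
import Cfsg.Agent.H92.P3How
import Cfsg.Agent.H43.P3Mult
import Cfsg.Agent.H40.P3Bor
import Cfsg.Agent.H36.P3Spr
import Cfsg.Agent.H44.P3W2
import Cfsg.Agent.H3.P3B1
import Cfsg.Agent.H38.P3Par
import Cfsg.Agent.H91.P3K1
import Cfsg.Agent.H86.P3K2
import Cfsg.Agent.H66.P3Oa
import Cfsg.Agent.H57.P3Ob
import Cfsg.Agent.H52.P3Oc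
import Cfsg.Agent.H28.P3Od
import Cfsg.Agent.H49.P3Oe
import Cfsg.Agent.H29.P3Neg
import Cfsg.Agent.H24.P3Qf
import Cfsg.Agent.H5.P3Tor
import Cfsg.Agent.H70.P3Tv
import Cfsg.Agent.H80.P3Qq
import Cfsg.Agent.H69.P3Ni
import Cfsg.Agent.H4.P3Na
import Cfsg.Agent.H23.P3Syl
import Cfsg.Agent.H14.P3Hw
import Cfsg.Agent.H39.P3Ch
import Cfsg.Agent.H2.P3Dec
import Cfsg.Agent.H81.P3Div
import Cfsg.Agent.H14.P3Rho
import Cfsg.Agent.H14.P3Nj
import Cfsg.Agent.H77.P3K3

set_option autoImplicit false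
open Cfsg

namespace Cfsg.Agent.S2195

/-- Primitive rank 3 actions of the projective symplectic groups in dimension at least 6 over fields of odd order. Let G ≅ PSp_{2k}(F), k ≥ 3, F a finite field with q elements, q odd, act faithfully and primitively on a finite set X so that a point stabilizer has exactly three orbits. Then X has as many points as the projective space of F^{2k}: |X|·(q − 1) = q^{2k} − 1. (The action is in fact the one on the points of the projective space, all of which are isotropic for the symplectic form; only the number of points is asserted here.) -/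
theorem result {G X : Type*} [Group G] [Finite G] [MulAction G X] [FaithfulSMul G X] [Fintype X] {F : Type*} [Field F] [Fintype F] (k : ℕ) (hk : 3 ≤ k) (hq : Odd (Fintype.card F)) (e : G ≃* Cfsg.PSp k F) (hprim : MulAction.IsPreprimitive G X) (x : X) (h3 : Nat.card (MulAction.orbitRel.Quotient ↥(MulAction.stabilizer G x) X) = 3) :
    Fintype.card X * (Fintype.card F - 1) = Fintype.card F ^ (2 * k) - 1 := by
  have neg := H29.P3Neg.neg
  have rho := @H14.P3Rho.rho
  have mj := @H14.P3Rho.mj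
  have meet := @H14.P3Nj.meet
  have spr : H71.P3.SprStmt := @H36.P3Spr.spr H36.P3Spr.fr
  have qf := @H24.P3Q.qf
  have w1 := @H10.P3W1.w1
  have w2 := @H44.P3W2.w2
  have oa := @H66.P3Oa.oa
  have mult : H71.P3.MultStmt := @H43.P3M.mult H2P3.mono @H81.P3Div.inj @oa @H57.P3Ob.ob
    @H52.P3Oc.oc @H28.P3Od.od @H49.P3Oe.oe
  have main : H71.P3.MainStmt := @H71.P3.main (@H70.P3Tv.tv neg @rho) (@H80.P3Qq.qq @qf @w1 @w2)
    (@H14.P3Nj.nj @mj @meet @spr) (@H69.P3Ni.ni neg @rho @mj @meet @spr)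
    (@H4.P3Na.na neg @rho @mj @w1 @w2) (@H91.P3K1.k1 @qf @H5.P3Tor.tor) @H86.P3.k2 @H77.P3K3.k3
    (@H62.P3Ca.ca H13.P3Line.line H81.P3Div.div @H3.P3B1.b1 @H84.P3Bq.bq) (@H23.P3Syl.syl @qf)
    @H38.P3Par.par @H23.P3Syl.idx (@H39.P3C.ch H2P3.dec @mult @oa)
  exact H71.P3.fin @main (H92.P3How.how H14.P3Hw.hw1 (@H40.P3Bor.bor @qf) @oa) k hk hq e hprim x h3

end Cfsg.Agent.S2195
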