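import Cfsg.Statements.S2215
import Cfsg.Agent.H32.X3Sp
import Cfsg.Agent.H81.KGroup

set_option autoImplicit false
open Cfsg

namespace Cfsg.Agent.S2215

/-- Let G be a finite non-abelian simple group all of whose composition factors are known simple groups, p a prime and S a Sylow p-subgroup of G that is extraspecial of order p³. Then one of the following holds: G ≅ PSL₃(p), or p is odd and G ≅ PSU₃(p); p = 2 and G is isomorphic to the alternating group of degree 7 or to PSL₂(q) with q ≡ ±7 (mod 16); p = 3 and G ≅ PSU₃(3), or G ≅ G₂(rᵃ) for a prime r ≡ ±2, ±4 (mod 9) and a ≥ 1 not divisible by 3, with a > 1 if r = 2; p = 3 and G is the Tits group or G ≅ ²F₄(2ᵃ) with a ≥ 3 odd and not divisible by 3; or G is sporadic, namely p = 3 and G is one of M₁₂, M₂₄, J₂, J₄, He, Ru; p = 5 and G is one of HS, Co₃, Co₂, McL, Ru, Th; p = 7 and G is one of He, O'N, Fi₂₄′;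 p = 11 and G ≅ J₄; or p = 13 and G is the Monster. -/
theorem result {G : Type*} [Group G] [Finite G] [IsSimpleGroup G] (hG : ¬ IsMulCommutative G) (hK : Cfsg.IsCompositionKGroup G)
    {p : ℕ} [Fact p.Prime] (S : Sylow p G) (hS : Cfsg.IsExtraspecial p ↥(S : Subgroup G)) (hS3 : Nat.card (S : Subgroup G) = p ^ 3) :
    (Nonempty (G ≃* Matrix.ProjectiveSpecialLinearGroup (Fin 3) (ZMod p)) ∨
       (p ≠ 2 ∧ ∃ (F : Type) (_ : Field F) (_ : Fintype F), Fintype.card F = p ^ 2 ∧ Nonempty (G ≃* Cfsg.PSU 3 F p))) ∨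
    (p = 2 ∧ (Nonempty (G ≃* ↥(alternatingGroup (Fin 7))) ∨
       ∃ (F : Type) (_ : Field F) (_ : Fintype F), (Fintype.card F % 16 = 7 ∨ Fintype.card F % 16 = 9) ∧
         Nonempty (G ≃* Matrix.ProjectiveSpecialLinearGroup (Fin 2) F))) ∨
    (p = 3 ∧ ((∃ (F : Type) (_ : Field F) (_ : Fintype F), Fintype.card F = 9 ∧ Nonempty (G ≃* Cfsg.PSU 3 F 3)) ∨
       ∃ (F : Type) (_ : Field F) (_ : Fintype F) (r a : ℕ), r.Prime ∧ (r % 9 = 2 ∨ r % 9 = 4 ∨ r % 9 = 5 ∨ r % 9 = 7) ∧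
         1 ≤ a ∧ ¬ 3 ∣ a ∧ (r = 2 → 1 < a) ∧ Fintype.card F = r ^ a ∧ Nonempty (G ≃* ↥(Cfsg.Lie.chevG2.group F)))) ∨
    (p = 3 ∧ (Cfsg.Lie.IsoTits G ∨
       ∃ (K : Type) (_ : Field K) (_ : Fintype K) (m : ℕ), 1 ≤ m ∧ ¬ 3 ∣ (2 * m + 1) ∧ Fintype.card K = 2 ^ (2 * m + 1) ∧
         Nonempty (G ≃* ↥(Cfsg.Lie.twistedF4 K (2 ^ m))))) ∨
    (p = 3 ∧ (Cfsg.Spor.IsoM12 G ∨ Cfsg.Spor.IsoM24 G ∨ Cfsg.Spor.IsoJ2 G ∨ Cfsg.Spor.IsoJ4 G ∨ Cfsg.Spor.IsoHe G ∨ Cfsg.Spor.IsoRu G)) ∨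
    (p = 5 ∧ (Cfsg.Spor.IsoHS G ∨ Cfsg.Spor.IsoCo3 G ∨ Cfsg.Spor.IsoCo2 G ∨ Cfsg.Spor.IsoMcL G ∨ Cfsg.Spor.IsoRu G ∨ Cfsg.Spor.IsoTh G)) ∨
    (p = 7 ∧ (Cfsg.Spor.IsoHe G ∨ Cfsg.Spor.IsoON G ∨ Cfsg.Spor.IsoFi24' G)) ∨
    (p = 11 ∧ Cfsg.Spor.IsoJ4 G) ∨
    (p = 13 ∧ Cfsg.Spor.IsoM G) := by
  have hx := H73.GK.x3_of_extraspecial S hS hS3
  let e : (↥(⊤ : Subgroup G) ⧸ (⊥ : Subgroup ↥(⊤ : Subgroup G))) ≃* G :=
    QuotientGroup.quotientBot.trans Subgroup.topEquiv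
  have h := H81.isKnownSimple_of_equiv e (hK ⊤ Subgroup.IsSubnormal.top ⊥ e.isSimpleGroup
    fun hc => hG ⟨⟨fun a b => e.symm.injective (by rw [map_mul, map_mul]; exact hc.is_comm.comm _ _)⟩⟩)
  change H73.GK.X3Concl G p
  rcases h with h | h | h | h | h | h | h | h | h | h
  · have : Fact (Nat.card G).Prime := ⟨h⟩
    have := isCyclic_of_prime_card (p := Nat.card G) (α := G) rfl
    exact absurd (inferInstance : IsMulCommutative G) hG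
  · exact H32.X3.x3_alt h hx
  · exact H32.X3.x3_PSL h hx
  · exact H32.X3.x3_PSp h hx
  · exact H32.X3.x3_PSU h hx
  · exact H32.X3.x3_POmegaOdd h hx
  · exact H32.X3.x3_POmegaPlus h hx
  · exact H32.X3.x3_POmegaMinus h hx
  · exact H32.X3.x3_ex h hx
  · exact H32.X3.x3_spor h hx

end Cfsg.Agent.S2215
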