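import Cfsg.Statements.S2221
import Cfsg.Agent.H98.AltDec

set_option autoImplicit false
open Cfsg

namespace Cfsg.Agent.S2221

open H98 H98.AltS H98.AltD Equiv Sum

/-- Direct decomposability of the Sylow 2-subgroups of the alternating groups. Let n ≥ 4 and let P be a Sylow 2-subgroup of the alternating group of degree n. Then P is the internal direct product of two nontrivial subgroups if and only if n = 4, n = 5, or n ≡ 2, 3 (mod 4) with 4⌊n/4⌋ not a power of 2. In the remaining cases (n ≡ 0, 1 (mod 4) with n ≥ 8, or n ≡ 2, 3 (mod 4) with 4⌊n/4⌋ a power of 2) P is directly indecomposable. -/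
theorem result (n : ℕ) (hn : 4 ≤ n)
    (P : Sylow 2 (alternatingGroup (Fin n))) :
    (∃ S₁ S₂ : Subgroup (alternatingGroup (Fin n)), S₁ ≠ ⊥ ∧ S₂ ≠ ⊥ ∧
        Cfsg.IsInternalDirectProduct S₁ S₂ (P : Subgroup (alternatingGroup (Fin n)))) ↔
      (n = 4 ∨ n = 5 ∨ ((n % 4 = 2 ∨ n % 4 = 3) ∧ ∀ r : ℕ, 4 * (n / 4) ≠ 2 ^ r)) := by
  obtain ⟨R, hR⟩ := exists_sylIn 2 (⊤ : Subgroup (Perm (Fin (n / 2))))
  have hβ : Fintype.card (Fin (n % 2)) < 2 := by simpa using Nat.mod_lt _ two_pos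
  haveI : Subsingleton (Fin (n % 2)) := Fintype.card_le_one_iff_subsingleton.1 (by omega)
  have h0 := dec_iff hβ hR (by simp [Nat.div_add_mod']) P
  change Dec _ ↔ _
  by_cases h5 : n ≤ 5
  · refine iff_of_true ((dec_iff (ι := Fin 2) hβ (R := ⊤) ⟨le_top, IsPGroup.of_card (n := 1)
      (by simp [Fintype.card_perm]),
      fun U _ _ h => top_le_iff.1 h⟩ (by simp; omega) P).2 dec_two) (by omega)
  by_cases h1 : n % 4 = 2 ∨ n % 4 = 3
  · by_cases h2 : ∀ r : ℕ, 4 * (n / 4) ≠ 2 ^ r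
    · refine iff_of_true (h0.2 (dec_of_odd hR (by simp; omega) (by simp; omega) fun s hs => ?_))
        (Or.inr (Or.inr ⟨h1, h2⟩))
      rw [Fintype.card_fin] at hs
      exact h2 (s + 1) (by rw [pow_succ]; omega)
    · refine iff_of_false (mt h0.1 ?_) (by rintro (h | h | h); exacts [by omega, by omega, h2 h.2])
      push Not at h2
      obtain ⟨r, hr⟩ := h2
      obtain _ | _ | r := r
      · omega
      · omega
      rw [pow_succ] at hr
      exact not_dec_of_pow (s := r) (by simp; omega) hR (by simp; omega) (by simp; omega)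
  refine iff_of_false ?_ (by omega)
  by_cases h9 : n ≤ 9
  · exact mt h0.1 (not_dec_of_pow (s := 1) (by simp; omega) hR (by simp; omega) (by simp; omega))
  obtain ⟨R', hR'⟩ := exists_sylIn 2 (⊤ : Subgroup (Perm (Fin (n / 4))))
  have h2 := sylIn_SS (β := Empty) (by simp) hR'
  refine mt (dec_iff hβ h2 (by simp; omega) P).1 (not_dec_of_even (by simp; omega) h2
    (τ := ee Empty fun _ => (1 : ZMod 2)) ?_ ?_ ?_) <;> rintro (⟨i, m⟩ | ⟨⟨⟩⟩)
  · simp [ee_inl]
  · simp [ee_inl, add_assoc, CharTwo.add_self_eq_zero]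
  · refine EE_le_SS _ ⟨Pi.single i 1, ?_⟩
    rw [ee_single, ee_inl]
    rcases eq_or_ne m 0 with rfl | h
    · rw [zero_add]
    · rw [h01 m h, CharTwo.add_self_eq_zero, swap_comm]

end Cfsg.Agent.S2221
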