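import Cfsg.Statements.S2228
import Cfsg.Agent.H29.J3Syl

set_option autoImplicit false
open Cfsg

namespace Cfsg.Agent.S2228

/-- Let G be a finite simple group in which all involutions are conjugate and the centralizer of an involution has a normal extraspecial subgroup of order 32 complemented by a subgroup isomorphic to the alternating group of degree 5 (a group of J₃-type). Then a Sylow 19-subgroup of G is self-centralizing with normalizer-quotient cyclic of order 9, and a Sylow 17-subgroup is self-centralizing with normalizer-quotient cyclic of order 8. -/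
theorem result {G : Type*} [Group G] [Finite G] [IsSimpleGroup G]
    (hone : ∀ x y : G, orderOf x = 2 → orderOf y = 2 → IsConj x y)
    (t : G) (ht : orderOf t = 2) (E A : Subgroup ↥(Subgroup.centralizer ({t} : Set G))) [E.Normal]
    (hE : Cfsg.IsExtraspecial 2 ↥E) (hE32 : Nat.card ↥E = 32) (hEA : E.IsComplement' A)
    (eA : ↥A ≃* ↥(alternatingGroup (Fin 5))) :
    (∀ X : Sylow 19 G, Subgroup.centralizer ((X : Subgroup G) : Set G) = X ∧
        ∃ h : ((X : Subgroup G).subgroupOf (Subgroup.normalizer ((X : Subgroup G) : Set G))).Normal,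
          IsCyclic (↥(Subgroup.normalizer ((X : Subgroup G) : Set G)) ⧸ (X : Subgroup G).subgroupOf _) ∧
          Nat.card (↥(Subgroup.normalizer ((X : Subgroup G) : Set G)) ⧸ (X : Subgroup G).subgroupOf _) = 9) ∧
    (∀ Y : Sylow 17 G, Subgroup.centralizer ((Y : Subgroup G) : Set G) = Y ∧
        ∃ h : ((Y : Subgroup G).subgroupOf (Subgroup.normalizer ((Y : Subgroup G) : Set G))).Normal,
          IsCyclic (↥(Subgroup.normalizer ((Y : Subgroup G) : Set G)) ⧸ (Y : Subgroup G).subgroupOf _) ∧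
          Nat.card (↥(Subgroup.normalizer ((Y : Subgroup G) : Set G)) ⧸ (Y : Subgroup G).subgroupOf _) = 8) := by
  obtain e : Subgroup.centralizer ({t} : Set G) ⧸ E ≃* alternatingGroup (Fin 5) :=
    hEA.symm.QuotientMulEquiv.trans eA
  have hJ : Cfsg.Spor.IsoJ3 G := (H70.iso_of_simple ht E hE32 hE e).resolve_left fun h =>
    let ⟨x, y, hx, hy, hxy⟩ := H70.IsoJ2.not_isConj h; hxy (hone x y hx hy)
  have hG := H70.IsoJ3.card hJ
  obtain ⟨⟨g, h, h1, h2⟩, ⟨g', h', h3, h4⟩, h5⟩ := H29.isoJ3_facts hJ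
  have hC : Nat.card (Subgroup.centralizer ({t} : Set G)) = 1920 := by
    rw [Subgroup.card_eq_card_quotient_mul_card_subgroup E, Nat.card_congr e.toEquiv, H70.card_A5, hE32]
  have key : ∀ (y : G) (m : ℕ), orderOf y = 2 * m → 0 < m →
      ∃ z : Subgroup.centralizer ({t} : Set G), orderOf z = 2 * m := fun y m hy hm => by
    have h6 : orderOf (y ^ m) = 2 := by
      rw [orderOf_pow' y hm.ne', hy, Nat.gcd_mul_left_left, Nat.mul_div_cancel _ hm]
    obtain ⟨c, hc⟩ := isConj_iff.1 (hone _ _ h6 ht)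
    refine ⟨⟨c * y * c⁻¹, Subgroup.mem_centralizer_singleton_iff.2 ?_⟩, ?_⟩
    · rw [← hc]; group
    · rw [Subgroup.orderOf_mk, ← hy]
      exact orderOf_injective (MulAut.conj c).toMonoidHom (MulAut.conj c).injective y
  have no2 : ∀ (y : G) (m : ℕ), orderOf y = 2 * m → 0 < m → 2 * m ∣ 1920 := fun y m hy hm => by
    obtain ⟨z, hz⟩ := key y m hy hm
    exact hz ▸ hC ▸ orderOf_dvd_natCard z
  have no16 : ∀ y : G, ¬ 16 ∣ orderOf y := fun y hy => by
    obtain ⟨z, hz⟩ := key (y ^ (orderOf y / 16)) 8 (orderOf_pow_orderOf_div (orderOf_pos y).ne' hy)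
      (by norm_num)
    have h6 : ∀ x : Equiv.Perm (Fin 5), Equiv.Perm.sign x = 1 → x ^ 4 = 1 → x ^ 2 = 1 := by
      decide +kernel
    have h7 : orderOf (e z) ∣ 4 := by
      have h8 := orderOf_dvd_natCard (e z)
      have h9 : orderOf (e z) ∣ 2 * 8 := by
        rw [e.orderOf_eq, ← hz]
        exact orderOf_map_dvd (QuotientGroup.mk' E) z
      rw [H70.card_A5] at h8
      exact Nat.dvd_gcd h8 h9
    have h8 : e z ^ 2 = 1 := Subtype.ext (h6 _ (e z).2
      (congrArg Subtype.val (orderOf_dvd_iff_pow_eq_one.1 h7)))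
    rw [← map_pow, e.map_eq_one_iff, ← QuotientGroup.mk_pow, QuotientGroup.eq_one_iff] at h8
    obtain ⟨u, hu⟩ := H49.exists_XS hE
    have h9 := hu.pow_four h8
    rw [← pow_mul, ← orderOf_dvd_iff_pow_eq_one, hz] at h9
    omega
  have arith : ∀ c q : ℕ, c ∣ 2 ^ 7 * 1215 * q → q.Prime → ¬ 2 ∣ c → ¬ q ∣ c → c ∈ Nat.divisors 1215 :=
    fun c q h6 hq h7 h8 => Nat.mem_divisors.2 ⟨(Nat.Coprime.pow_right 7
      ((Nat.Prime.coprime_iff_not_dvd Nat.prime_two).2 h7).symm).dvd_of_dvd_mul_left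
      (((Nat.Prime.coprime_iff_not_dvd hq).2 h8).symm.dvd_of_dvd_mul_right h6), (by norm_num : (1215 : ℕ) ≠ 0)⟩
  have o19 : orderOf ((5 : ℕ) : ZMod 19) = 9 := (orderOf_eq_iff (by decide)).2 (by decide)
  have o17 : orderOf ((9 : ℕ) : ZMod 17) = 8 := (orderOf_eq_iff (by decide)).2 (by decide)
  constructor
  · intro X
    have : Fact (Nat.Prime 19) := ⟨by norm_num⟩
    have hn : ¬ 19 ^ 2 ∣ Nat.card G := by rw [hG]; norm_num
    obtain ⟨c, e, n, k1, k2, k3, k4, k5, k6, -, k8⟩ := H29.sylow_prime_data (d := 9) hn X h1 h2 o19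
    have k9 : c * e * n = 2 ^ 7 * 1215 * 17 := by omega
    have k10 := arith c 17 (k9 ▸ (dvd_mul_right c e).mul_right n) (by norm_num)
      (fun h => let ⟨_, y, hy⟩ := k8 2 Nat.prime_two h; absurd (no2 y 19 hy (by norm_num)) (by norm_num))
      (fun h => let ⟨_, y, hy⟩ := k8 17 (by norm_num) h; h5 y hy)
    have k11 : c * e ≡ 9 [MOD 19] := by
      have := k3.mul_left (c * e)
      rw [k9, mul_one] at this
      exact this.symm
    have k12 : ∀ c ∈ Nat.divisors 1215, ∀ e ∈ Nat.divisors 18, 9 ∣ e → c * e ≡ 9 [MOD 19] →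
        c * e ∣ 2 ^ 7 * 1215 * 17 → c = 1 ∧ e = 9 := by decide +kernel
    obtain ⟨rfl, rfl⟩ := k12 c k10 e (Nat.mem_divisors.2 ⟨k1, by norm_num⟩) k2 k11 ⟨n, k9.symm⟩
    exact H29.sylow_prime_quot (H29.card_sylow_prime (h1 ▸ orderOf_dvd_natCard g) hn X) k5 k6
  · intro X
    have : Fact (Nat.Prime 17) := ⟨by norm_num⟩
    have hn : ¬ 17 ^ 2 ∣ Nat.card G := by rw [hG]; norm_num
    obtain ⟨c, e, n, k1, k2, k3, k4, k5, k6, ⟨y, k7⟩, k8⟩ := H29.sylow_prime_data (d := 8) hn X h3 h4 o17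
    have k9 : c * e * n = 2 ^ 7 * 1215 * 19 := by omega
    have k10 := arith c 19 (k9 ▸ (dvd_mul_right c e).mul_right n) (by norm_num)
      (fun h => let ⟨_, y, hy⟩ := k8 2 Nat.prime_two h; absurd (no2 y 17 hy (by norm_num)) (by norm_num))
      (fun h => let ⟨_, y, hy⟩ := k8 19 (by norm_num) h; h5 y hy)
    have k11 : c * e ≡ 8 [MOD 17] := by
      have := k3.mul_left (c * e)
      rw [k9, mul_one] at this
      exact this.symm
    have k12 : ∀ c ∈ Nat.divisors 1215, ∀ e ∈ Nat.divisors 16, 8 ∣ e → c * e ≡ 8 [MOD 17] →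
        ¬ 16 ∣ e → c = 1 ∧ e = 8 := by decide +kernel
    obtain ⟨rfl, rfl⟩ := k12 c k10 e (Nat.mem_divisors.2 ⟨k1, by norm_num⟩) k2 k11
      fun h => no16 y (h.trans k7)
    exact H29.sylow_prime_quot (H29.card_sylow_prime (h3 ▸ orderOf_dvd_natCard g') hn X) k5 k6

end Cfsg.Agent.S2228
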