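import Cfsg.Statements.S2256
import Cfsg.Agent.H98.NilSym

set_option autoImplicit false
open Cfsg

namespace Cfsg.Agent.S2256

open H98 H98.NilS

/-- Let n ≡ 3 (mod 4) with n ≥ 7. Then every nilpotent subgroup of the alternating group on n letters has order at most 3 times the order of a Sylow 2-subgroup of the alternating group on n − 3 letters; the bound is attained by a nilpotent subgroup isomorphic to the direct product of such a Sylow 2-subgroup with a cyclic group of order 3; and any two nilpotent subgroups of the alternating group attaining the bound are conjugate in it. -/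
theorem result  (n : ℕ) (hn : n % 4 = 3) (h7 : 7 ≤ n)
    (P : Sylow 2 (alternatingGroup (Fin (n - 3)))) :
    (∀ N : Subgroup (alternatingGroup (Fin n)), Group.IsNilpotent N → Nat.card N ≤ 3 * Nat.card P) ∧
    (∃ M : Subgroup (alternatingGroup (Fin n)), Group.IsNilpotent M ∧ Nat.card M = 3 * Nat.card P ∧
      Nonempty (M ≃* (↥(P : Subgroup (alternatingGroup (Fin (n - 3)))) × Multiplicative (ZMod 3)))) ∧
    (∀ N₁ N₂ : Subgroup (alternatingGroup (Fin n)), Group.IsNilpotent N₁ → Group.IsNilpotent N₂ →
      Nat.card N₁ = 3 * Nat.card P → Nat.card N₂ = 3 * Nat.card P →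
      ∃ g : alternatingGroup (Fin n), N₂ = N₁.map (MulAut.conj g).toMonoidHom) := by
  obtain ⟨φ, hφ, hs⟩ := exists_hom (n := n) (by omega)
  have hP := card_syl_alt (by omega) P
  have e := fun N : Subgroup (alternatingGroup (Fin n)) =>
    N.equivMapOfInjective _ (alternatingGroup (Fin n)).subtype_injective
  refine ⟨fun N hN => ?_, exists_range P.isPGroup' ((φ.comp (((alternatingGroup _).subtype.comp
    (P : Subgroup _).subtype).prodMap (MonoidHom.id _))).codRestrict _ fun x =>
      Equiv.Perm.mem_alternatingGroup.2 ((hs _).trans (Equiv.Perm.mem_alternatingGroup.1 x.1.1.2)))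
    fun x y h => ((Subtype.val_injective.comp Subtype.val_injective).prodMap
      Function.injective_id) (hφ (congrArg Subtype.val h)), fun N₁ N₂ h₁ h₂ k₁ k₂ => ?_⟩
  · have h := alt_bound_eq hn h7 (Group.nilpotent_of_mulEquiv (e N)) (Subgroup.map_subtype_le N)
    rw [← Nat.card_congr (e N).toEquiv, ← hP] at h
    omega
  · obtain ⟨j, hj⟩ := IsPGroup.iff_card.1 P.isPGroup'
    rw [hj] at hP k₁ k₂
    obtain ⟨g, hg, h⟩ := alt_conj hn h7 hP (Subgroup.map_subtype_le N₁) (Subgroup.map_subtype_le N₂)
      (Group.nilpotent_of_mulEquiv (e N₁)) (Group.nilpotent_of_mulEquiv (e N₂))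
      (Nat.card_congr (e N₁).toEquiv ▸ k₁) (Nat.card_congr (e N₂).toEquiv ▸ k₂)
    refine ⟨⟨g, hg⟩, Subgroup.map_injective (alternatingGroup _).subtype_injective ?_⟩
    rw [h, Subgroup.map_map, Subgroup.map_map]
    rfl

end Cfsg.Agent.S2256
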