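import Cfsg.Statements.S2271
import Cfsg.Agent.H19.PermSmall

set_option autoImplicit false
open Cfsg

namespace Cfsg.Agent.S2271

open Equiv Equiv.Perm Finset

section
variable {Ω : Type} [Fintype Ω] [DecidableEq Ω]

/-- number of agreements -/
def M (b c h : Perm Ω) : ℕ := (univ.filter fun u => h (b u) = c (h u)).card

/-- number of even permutations with two prescribed values -/
def T (u v x y : Ω) : ℕ := (univ.filter fun h : Perm Ω => sign h = 1 ∧ h u = x ∧ h v = y).card

theorem M_symm (b c h : Perm Ω) : M c b h⁻¹ = M b c h := by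
  refine card_bij (fun x _ => h⁻¹ x) (fun x hx => ?_) (fun _ _ _ _ e => h⁻¹.injective e)
    fun u hu => ⟨h u, ?_, by simp⟩
  · simp only [mem_filter, mem_univ, true_and] at hx ⊢
    rw [← hx]; simp
  · simp only [mem_filter, mem_univ, true_and] at hu ⊢
    rw [← hu]; simp

theorem two_trans (hn : 4 ≤ Fintype.card Ω) {u v x y : Ω} (h1 : u ≠ v) (h2 : x ≠ y) :
    ∃ g : Perm Ω, sign g = 1 ∧ g u = x ∧ g v = y := by
  obtain ⟨g, hg, h⟩ := H19.exists_alt_extend (f := ![u, v]) (g := ![x, y])
    (by intro i j; fin_cases i <;> fin_cases j <;> simp [h1, h1.symm])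
    (by intro i j; fin_cases i <;> fin_cases j <;> simp [h2, h2.symm]) (by simpa using hn)
  exact ⟨g, hg, h 0, h 1⟩

theorem T_eq (hn : 4 ≤ Fintype.card Ω) {u v x y p q : Ω} (h1 : u ≠ v) (h2 : x ≠ y) (h3 : p ≠ q) :
    T u v x y = T p q p q := by
  obtain ⟨g, g1, g2, g3⟩ := two_trans hn h3 h1
  obtain ⟨k, k1, k2, k3⟩ := two_trans hn h2 h3
  refine card_bij (fun h _ => k * h * g) (fun h hh => ?_) (fun _ _ _ _ e => by simpa using e)
    fun h hh => ⟨k⁻¹ * h * g⁻¹, ?_, by group⟩
  · simp only [mem_filter, mem_univ, true_and] at hh ⊢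
    simp [hh, g1, g2, g3, k1, k2, k3]
  · simp only [mem_filter, mem_univ, true_and] at hh ⊢
    refine ⟨by simp [hh, g1, k1], ?_, ?_⟩
    · simp [← g2, hh.2.1, symm_apply_eq, k2]
    · simp [← g3, hh.2.2, symm_apply_eq, k3]

theorem T_diag (hn : 4 ≤ Fintype.card Ω) (u x : Ω) {p q : Ω} (h3 : p ≠ q) :
    T u u x x = (Fintype.card Ω - 1) * T p q p q := by
  haveI : Nontrivial Ω := ⟨p, q, h3⟩
  obtain ⟨v, hv⟩ := exists_ne u
  rw [T, card_eq_sum_card_fiberwise (f := fun h : Perm Ω => h v) (t := univ.erase x)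
    (fun h hh => by
      simp only [coe_filter, mem_univ, true_and, Set.mem_ofPred_eq, coe_erase, coe_univ,
        Set.mem_sdiff, Set.mem_univ, Set.mem_singleton_iff] at hh ⊢
      exact fun e => hv (h.injective (e.trans hh.2.1.symm))),
    ← card_univ, ← card_erase_of_mem (mem_univ x), ← smul_eq_mul, ← sum_const]
  refine sum_congr rfl fun y hy => ?_
  rw [← T_eq hn hv.symm (ne_of_mem_erase hy).symm h3, T, filter_filter]
  simp only [and_self, and_assoc]

theorem average (hn : 4 ≤ Fintype.card Ω) {b c : Perm Ω} {k : ℕ}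
    (h : ∀ g : Perm Ω, sign g = 1 → M b c g = k) :
    k * (Fintype.card Ω * (Fintype.card Ω - 1)) =
      (Fintype.card Ω - b.support.card) * (Fintype.card Ω - c.support.card) * (Fintype.card Ω - 1) +
        b.support.card * c.support.card := by
  haveI : Nontrivial Ω := Fintype.one_lt_card_iff_nontrivial.1 (by omega)
  obtain ⟨p, q, h3⟩ := exists_pair_ne Ω
  have hpos : 0 < T p q p q := card_pos.2 ⟨1, by simp⟩
  set A := univ.filter fun g : Perm Ω => sign g = 1 with hA
  have h1 : A.card = Fintype.card Ω * ((Fintype.card Ω - 1) * T p q p q) := by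
    rw [card_eq_sum_card_fiberwise (f := fun h : Perm Ω => h p) (t := univ) (by simp),
      ← card_univ, ← smul_eq_mul, ← sum_const]
    refine sum_congr rfl fun x _ => ?_
    rw [card_univ, ← T_diag hn p x h3, T, filter_filter]
    simp only [and_self]
  have h2 : ∑ g ∈ A, M b c g = ∑ u, ∑ x, T u (b u) x (c x) := by
    simp only [M, card_filter]
    rw [sum_comm]
    refine sum_congr rfl fun u _ => ?_
    rw [← card_filter, card_eq_sum_card_fiberwise (f := fun h : Perm Ω => h u) (t := univ) (by simp)]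
    refine sum_congr rfl fun x _ => ?_
    rw [T, hA, filter_filter, filter_filter]
    congr 1
    ext g
    simp only [mem_filter, mem_univ, true_and]
    constructor
    · rintro ⟨k1, k2, rfl⟩; exact ⟨k1, rfl, k2⟩
    · rintro ⟨k1, rfl, k2⟩; exact ⟨k1, k2, rfl⟩
  have h4 : ∑ u, ∑ x, T u (b u) x (c x) = b.supportᶜ.card * (c.supportᶜ.card *
      ((Fintype.card Ω - 1) * T p q p q)) + b.support.card * (c.support.card * T p q p q) := by
    rw [← sum_add_sum_compl b.support, add_comm, ← smul_eq_mul b.supportᶜ.card,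
      ← smul_eq_mul b.support.card, ← sum_const, ← sum_const]
    congr 1
    · refine sum_congr rfl fun u hu => ?_
      rw [mem_compl, notMem_support] at hu
      rw [← sum_add_sum_compl c.support, sum_eq_zero, zero_add, ← smul_eq_mul c.supportᶜ.card,
        ← sum_const]
      · refine sum_congr rfl fun x hx => ?_
        rw [mem_compl, notMem_support] at hx
        rw [hu, hx, T_diag hn u x h3]
      · intro x hx
        rw [hu, T, card_eq_zero, filter_eq_empty_iff]
        rintro g - ⟨-, k1, k2⟩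
        exact mem_support.1 hx (k2.symm.trans k1)
    · refine sum_congr rfl fun u hu => ?_
      rw [← sum_add_sum_compl c.support, sum_eq_zero (s := c.supportᶜ), add_zero,
        ← smul_eq_mul c.support.card, ← sum_const]
      · exact sum_congr rfl fun x hx => T_eq hn (mem_support.1 hu).symm (mem_support.1 hx).symm h3
      · intro x hx
        rw [mem_compl, notMem_support] at hx
        rw [hx, T, card_eq_zero, filter_eq_empty_iff]
        rintro g - ⟨-, k1, k2⟩
        exact mem_support.1 hu (g.injective (k2.trans k1.symm))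
  rw [sum_congr rfl fun g hg => h g (mem_filter.1 hg).2, sum_const, smul_eq_mul, h1, h4,
    card_compl, card_compl] at h2
  refine Nat.eq_of_mul_eq_mul_right hpos ?_
  linarith

theorem config {b c : Perm Ω} {u x : Ω} (hu : b u ≠ u) (hx : c x ≠ x) {m : ℕ}
    (h1 : m ≤ Fintype.card Ω - b.support.card) (h2 : m ≤ Fintype.card Ω - c.support.card)
    (h3 : m + 4 ≤ Fintype.card Ω) :
    ∃ g : Perm Ω, sign g = 1 ∧ g u = x ∧ g (b u) = c x ∧
      ∃ F : Finset Ω, F.card = m ∧ ∀ w ∈ F, b w = w ∧ g (b w) = c (g w) := by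
  obtain ⟨F, hF, hFc⟩ := exists_subset_card_eq (s := b.supportᶜ) (n := m) (by rwa [card_compl])
  obtain ⟨E, hE, hEc⟩ := exists_subset_card_eq (s := c.supportᶜ) (n := m) (by rwa [card_compl])
  let e : F ≃ E := equivOfCardEq (hFc.trans hEc.symm)
  have inj : ∀ (d : Perm Ω) (v : Ω) (f : F → Ω), d v ≠ v → Function.Injective f →
      (∀ i, d (f i) = f i) → Function.Injective (Sum.elim ![v, d v] f) := by
    intro d v f k1 k2 k3
    refine Function.Injective.sumElim ?_ k2 fun i j e => ?_
    · intro i j; fin_cases i <;> fin_cases j <;> simp [k1, k1.symm]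
    · have := k3 j
      rw [← e] at this
      fin_cases i
      · exact k1 this
      · exact k1 (d.injective this)
  have f1 : ∀ i : F, b i = i := fun i => notMem_support.1 (mem_compl.1 (hF i.2))
  have f2 : ∀ i : F, c (e i) = e i := fun i => notMem_support.1 (mem_compl.1 (hE (e i).2))
  obtain ⟨g, hg, h⟩ := H19.exists_alt_extend (inj b u Subtype.val hu Subtype.val_injective f1)
    (inj c x (fun i => e i) hx (Subtype.val_injective.comp e.injective) f2) (by simp; omega)
  refine ⟨g, hg, h (Sum.inl 0), h (Sum.inl 1), F, hFc, fun w hw => ⟨f1 ⟨w, hw⟩, ?_⟩⟩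
  have k1 : g w = e ⟨w, hw⟩ := h (Sum.inr ⟨w, hw⟩)
  have k2 : b w = w := f1 ⟨w, hw⟩
  rw [k2, k1, f2]

theorem arcs {b : Perm Ω} (h : 4 ≤ b.support.card) :
    ∃ u v, Function.Injective ![u, b u, v, b v] := by
  obtain ⟨u, hu⟩ := card_pos.1 (show 0 < b.support.card by omega)
  obtain ⟨v, hv, hv'⟩ := exists_mem_notMem_of_card_lt_card (s := {u, b u, b⁻¹ u}) (t := b.support)
    (by have := card_le_three (a := u) (b := b u) (c := b⁻¹ u); omega)
  simp only [mem_insert, mem_singleton, not_or] at hv'
  obtain ⟨k1, k2, k3⟩ := hv'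
  have k4 : b v ≠ u := fun e => k3 (by simp [← e])
  rw [mem_support] at hu hv
  refine ⟨u, v, fun i j => ?_⟩
  fin_cases i <;> fin_cases j <;>
    simp [hu, hv, k1, k2, k4, Ne.symm hu, Ne.symm hv, Ne.symm k1, Ne.symm k2, Ne.symm k4]

theorem M_mul {b c g t : Perm Ω} (h : t * b = b * t) : M b c (g * t) = M b c g := by
  refine card_bij (fun x _ => t x) (fun x hx => ?_) (fun _ _ _ _ e => t.injective e)
    fun u hu => ⟨t⁻¹ u, ?_, by simp⟩
  · rw [mem_filter] at hx ⊢
    refine ⟨mem_univ _, ?_⟩
    rw [← Perm.mul_apply b, ← h]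
    exact hx.2
  · rw [mem_filter] at hu ⊢
    refine ⟨mem_univ _, ?_⟩
    rw [Perm.mul_apply, ← Perm.mul_apply t, h]
    simpa using hu

theorem two_le_invol {b c : Perm Ω} (hb : 4 ≤ b.support.card) (hc : 4 ≤ c.support.card)
    (h : ∀ u, b (b u) = u) : ∃ g : Perm Ω, sign g = 1 ∧ 2 ≤ M b c g := by
  obtain ⟨u, v, h1⟩ := arcs hb
  obtain ⟨x, y, h2⟩ := arcs hc
  obtain ⟨g, hg⟩ := exists_extending_pair _ _ h1 h2
  have h3 : 2 ≤ M b c g := by
    refine one_lt_card.2 ⟨u, ?_, v, ?_, fun e => by simpa using h1 (a₁ := 0) (a₂ := 2) e⟩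
    · simp only [mem_filter, mem_univ, true_and]
      exact (hg 1).trans (congrArg c (hg 0).symm)
    · simp only [mem_filter, mem_univ, true_and]
      exact (hg 3).trans (congrArg c (hg 2).symm)
  rcases Int.units_eq_one_or (sign g) with k | k
  · exact ⟨g, k, h3⟩
  · have huv : u ≠ b u := fun e => by simpa using h1 (a₁ := 0) (a₂ := 1) e
    refine ⟨g * swap u (b u), by rw [map_mul, k, sign_swap huv]; rfl, ?_⟩
    rwa [M_mul (by rw [eq_comm, ← mul_inv_eq_iff_eq_mul, ← swap_apply_apply, h, swap_comm])]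

theorem two_le (hn : 5 ≤ Fintype.card Ω) {b c : Perm Ω} (hb : 4 ≤ b.support.card)
    (hc : 4 ≤ c.support.card) : ∃ g : Perm Ω, sign g = 1 ∧ 2 ≤ M b c g := by
  by_cases h1 : ∀ u, b (b u) = u
  · exact two_le_invol hb hc h1
  by_cases h2 : ∀ u, c (c u) = u
  · obtain ⟨g, k1, k2⟩ := two_le_invol hc hb h2
    exact ⟨g⁻¹, by simpa using k1, by rwa [M_symm]⟩
  push Not at h1 h2
  obtain ⟨u, hu⟩ := h1
  obtain ⟨x, hx⟩ := h2
  have inj : ∀ (d : Perm Ω) (v : Ω), d (d v) ≠ v → Function.Injective ![v, d v, d (d v)] := by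
    intro d v k1
    have k2 : d v ≠ v := fun e => k1 (by rw [e, e])
    intro i j
    fin_cases i <;> fin_cases j <;> simp [k1, k2, k1.symm, k2.symm]
  obtain ⟨g, hg, h⟩ := H19.exists_alt_extend (inj b u hu) (inj c x hx) (by simpa using hn)
  refine ⟨g, hg, one_lt_card.2 ⟨u, ?_, b u, ?_, fun e => hu (by rw [← e, ← e])⟩⟩
  · simp only [mem_filter, mem_univ, true_and]
    exact (h 1).trans (congrArg c (h 0).symm)
  · simp only [mem_filter, mem_univ, true_and]
    exact (h 2).trans (congrArg c (h 1).symm)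

theorem not_const (hn : 5 ≤ Fintype.card Ω) {b c : Perm Ω} (hb : b ≠ 1)
    (hle : b.support.card ≤ c.support.card) {k : ℕ}
    (h : ∀ g : Perm Ω, sign g = 1 → M b c g = k) : False := by
  have h1 := average (by omega) h
  have h2 := two_le_card_support_of_ne_one hb
  have h3 := card_le_univ c.support
  obtain ⟨u, hu⟩ := card_pos.1 (show 0 < b.support.card by omega)
  obtain ⟨x, hx⟩ := card_pos.1 (show 0 < c.support.card by omega)
  rw [mem_support] at hu hx
  obtain ⟨g, g1, g2, g3, F, hF, hF'⟩ := config hu hx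
    (m := min (Fintype.card Ω - c.support.card) (Fintype.card Ω - 4)) (by omega) (by omega)
    (by omega)
  have huF : u ∉ F := fun e => hu (hF' u e).1
  have h4 : (insert u F).card ≤ M b c g := card_le_card fun w hw => by
    simp only [mem_filter, mem_univ, true_and]
    rcases mem_insert.1 hw with rfl | hw
    · rw [g2, g3]
    · exact (hF' w hw).2
  rw [card_insert_of_notMem huF, h g g1, hF] at h4
  by_cases h5 : 4 ≤ c.support.card
  · obtain ⟨f, hf⟩ := Nat.exists_eq_add_of_le h3
    obtain ⟨d, hd⟩ := Nat.exists_eq_add_of_le hle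
    obtain ⟨n, hn'⟩ : ∃ n, Fintype.card Ω = n + 1 := ⟨Fintype.card Ω - 1, by omega⟩
    rw [show Fintype.card Ω - b.support.card = d + f by omega,
      show Fintype.card Ω - c.support.card = f by omega, hn', Nat.add_sub_cancel] at h1
    have h6 := Nat.mul_le_mul_right ((n + 1) * n) (show f + 1 ≤ k by omega)
    have h7 : f = 0 := by
      by_contra h7
      obtain ⟨f, rfl⟩ : ∃ f', f = f' + 1 := ⟨f - 1, by omega⟩
      generalize b.support.card = t at *
      generalize c.support.card = s at *
      obtain rfl : n = t + d + f := by omega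
      subst hd
      nlinarith [Nat.zero_le (t * f), Nat.zero_le (t * d * f), Nat.zero_le (t * t * f),
        Nat.zero_le (t * f * f)]
    subst h7
    have h8 : k * n = b.support.card := by
      refine Nat.eq_of_mul_eq_mul_right (show 0 < n + 1 by omega) ?_
      rw [show c.support.card = n + 1 by omega] at h1
      linarith
    have h9 : k = 1 := by
      by_contra h9
      have := Nat.mul_le_mul_right n (show 2 ≤ k by omega)
      omega
    obtain ⟨g', k1, k2⟩ := two_le hn (b := b) (c := c) (by subst h9; omega) h5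
    rw [h g' k1] at k2
    omega
  · obtain ⟨n, hn'⟩ : ∃ n, Fintype.card Ω = n + 5 := ⟨Fintype.card Ω - 5, by omega⟩
    have h6 := Nat.mul_le_mul_right ((n + 5) * (n + 4)) (show n + 2 ≤ k by omega)
    rw [hn', show n + 5 - 1 = n + 4 by omega] at h1
    have h7 : b.support.card = 2 ∧ c.support.card = 2 := by
      by_contra h7
      have h8 : c.support.card = 3 := by omega
      have h9 : b.support.card = 2 ∨ b.support.card = 3 := by omega
      rcases h9 with h9 | h9
      · rw [h8, h9, show n + 5 - 2 = n + 3 by omega, show n + 5 - 3 = n + 2 by omega] at h1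
        nlinarith
      · rw [h8, h9, show n + 5 - 3 = n + 2 by omega] at h1
        nlinarith
    rw [h7.1, h7.2, show n + 5 - 2 = n + 3 by omega] at h1
    have sq : ∀ (d : Perm Ω) (v : Ω), d.support.card = 2 → d (d v) = v := fun d v hd => by
      obtain ⟨p, q, -, rfl⟩ := card_support_eq_two.1 hd
      exact swap_apply_self _ _ _
    have h8 : (insert (b u) (insert u F)).card ≤ M b c g := card_le_card fun w hw => by
      simp only [mem_filter, mem_univ, true_and]
      rcases mem_insert.1 hw with rfl | hw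
      · rw [sq b u h7.1, g3, sq c x h7.2, g2]
      rcases mem_insert.1 hw with rfl | hw
      · rw [g2, g3]
      · exact (hF' w hw).2
    rw [card_insert_of_notMem (by
      rw [mem_insert, not_or]; exact ⟨hu, fun e => hu (b.injective (hF' _ e).1)⟩),
      card_insert_of_notMem huF, h g g1, hF] at h8
    have h9 := Nat.mul_le_mul_right ((n + 5) * (n + 4)) (show n + 3 ≤ k by omega)
    nlinarith

end

/-- Let n ≥ 5 and let a, b be non-identity permutations in the symmetric group S_n. Then the number of fixed points is not constant on the set of products a′b′ with a′ conjugate to a and b′ conjugate to b under the alternating group: there are even permutations g₁, h₁, g₂, h₂ such that (g₁ a g₁⁻¹)(h₁ b h₁⁻¹) and (g₂ a g₂⁻¹)(h₂ b h₂⁻¹) have different numbers of fixed points. -/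
theorem result (n : ℕ) (hn : 5 ≤ n) (a b : Equiv.Perm (Fin n)) (ha : a ≠ 1) (hb : b ≠ 1) :
    ∃ g₁ h₁ g₂ h₂ : Equiv.Perm (Fin n), g₁ ∈ alternatingGroup (Fin n) ∧ h₁ ∈ alternatingGroup (Fin n) ∧ g₂ ∈ alternatingGroup (Fin n) ∧ h₂ ∈ alternatingGroup (Fin n) ∧
      Nat.card (Function.fixedPoints ⇑(g₁ * a * g₁⁻¹ * (h₁ * b * h₁⁻¹))) ≠
        Nat.card (Function.fixedPoints ⇑(g₂ * a * g₂⁻¹ * (h₂ * b * h₂⁻¹))) := by
  by_contra hc
  push Not at hc
  have ha' : a⁻¹ ≠ 1 := inv_ne_one.2 ha
  have key : ∀ g : Perm (Fin n),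
      Nat.card (Function.fixedPoints ⇑(1 * a * 1⁻¹ * (g * b * g⁻¹))) = M b a⁻¹ g := fun g => by
    rw [M, ← Fintype.card_subtype, ← Nat.card_eq_fintype_card]
    refine Nat.card_congr (Equiv.subtypeEquiv g⁻¹ fun x => ?_)
    simp [Function.IsFixedPt, eq_symm_apply]
  have h : ∀ g : Perm (Fin n), sign g = 1 → M b a⁻¹ g = M b a⁻¹ 1 := fun g hg => by
    rw [← key, ← key]
    exact hc 1 g 1 1 (one_mem _) hg (one_mem _) (one_mem _)
  rcases le_total b.support.card a⁻¹.support.card with h1 | h1
  · exact not_const (by simpa using hn) hb h1 h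
  · exact not_const (by simpa using hn) ha' h1 (k := M b a⁻¹ 1) fun g hg => by
      rw [← M_symm]; exact h _ (by simpa using hg)

end Cfsg.Agent.S2271
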