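import Cfsg.Statements.S2272
import Cfsg.Agent.H32.TraceConj

set_option autoImplicit false
open Cfsg

namespace Cfsg.Agent.S2272

/-- Let F be a finite field and d ≥ 3, and let a, b be non-identity elements of PSL_d(F). Then the product of the conjugacy classes of a and b is not a single conjugacy class: there are conjugates a′ of a and b′ of b such that a′b′ is not conjugate to ab. -/
theorem result {F : Type*} [Field F] [Fintype F] (d : ℕ) (hd : 3 ≤ d)
    (a b : Matrix.ProjectiveSpecialLinearGroup (Fin d) F) (ha : a ≠ 1) (hb : b ≠ 1) :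
    ∃ g h : Matrix.ProjectiveSpecialLinearGroup (Fin d) F, ¬ IsConj (a * b) (g * a * g⁻¹ * (h * b * h⁻¹)) := by
  classical
  obtain ⟨A, rfl⟩ := QuotientGroup.mk_surjective a
  obtain ⟨B, rfl⟩ := QuotientGroup.mk_surjective b
  have key : ∀ X : Matrix.SpecialLinearGroup (Fin d) F,
      (X : Matrix.ProjectiveSpecialLinearGroup (Fin d) F) ≠ 1 → ∀ c : F, X.1 ≠ c • 1 := by
    intro X hX c hc
    apply hX
    rw [QuotientGroup.eq_one_iff, Subgroup.mem_center_iff]
    intro g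
    apply Subtype.ext
    rw [H32.SL_coe_mul, H32.SL_coe_mul, hc]
    simp
  have hd' : 3 ≤ Fintype.card (Fin d) := by simpa using hd
  obtain ⟨g₀, h₀⟩ := H32.exists_trace_conj_mul_eq hd' (key A ha) (key B hb) 0
  obtain ⟨g₁, h₁⟩ := H32.exists_trace_conj_mul_eq hd' (key A ha) (key B hb) 1
  by_contra hcon
  push Not at hcon
  have h2 := (hcon g₀ 1).symm.trans (hcon g₁ 1)
  rw [isConj_iff] at h2
  obtain ⟨k, hk⟩ := h2
  obtain ⟨k, rfl⟩ := QuotientGroup.mk_surjective k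
  simp only [one_mul, inv_one, mul_one, ← QuotientGroup.mk_mul, ← QuotientGroup.mk_inv] at hk
  rw [QuotientGroup.eq, Matrix.SpecialLinearGroup.mem_center_iff] at hk
  obtain ⟨r, -, hr⟩ := hk
  have h3 : (g₁ * A * g₁⁻¹ * B).1 = r • (k * (g₀ * A * g₀⁻¹ * B) * k⁻¹).1 := by
    have h4 : g₁ * A * g₁⁻¹ * B = (k * (g₀ * A * g₀⁻¹ * B) * k⁻¹) *
        ((k * (g₀ * A * g₀⁻¹ * B) * k⁻¹)⁻¹ * (g₁ * A * g₁⁻¹ * B)) := by group
    rw [h4, H32.SL_coe_mul, ← hr, Matrix.scalar_apply, ← Matrix.smul_one_eq_diagonal,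
      Matrix.mul_smul, mul_one]
  have h5 : (k * (g₀ * A * g₀⁻¹ * B) * k⁻¹).1.trace = 0 := by
    rw [H32.SL_coe_mul, H32.SL_coe_mul, Matrix.trace_mul_cycle, H32.SL_inv_mul_coe, one_mul]
    exact h₀
  have h6 : (g₁ * A * g₁⁻¹ * B).1.trace = 1 := h₁
  rw [h3, Matrix.trace_smul, h5, smul_zero] at h6
  exact zero_ne_one h6

end Cfsg.Agent.S2272
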