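import Cfsg.Statements.S2276
import Cfsg.Agent.H97.AnQB
-- import your own Cfsg.Agent.* helpers here

set_option autoImplicit false
open Cfsg

namespace Cfsg.Agent.S2276

/-- Let n ≥ 5, p ≥ 3 a prime, and u, w non-identity elements of p-power order in the alternating group A_n. Then there is g ∈ A_n such that u·(g w g⁻¹) does not have p-power order and ⟨u, g w g⁻¹⟩ is not solvable. -/
theorem result (n : ℕ) (hn : 5 ≤ n) (p : ℕ) (hp : p.Prime) (hp3 : 3 ≤ p) (u w : alternatingGroup (Fin n)) (hu : u ≠ 1) (hw : w ≠ 1)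
    (hu' : ∃ k : ℕ, orderOf u = p ^ k) (hw' : ∃ k : ℕ, orderOf w = p ^ k) :
    ∃ g : alternatingGroup (Fin n), (¬ ∃ k : ℕ, orderOf (u * (g * w * g⁻¹)) = p ^ k) ∧
      ¬ Group.IsSolvable ↥(Subgroup.closure ({u, g * w * g⁻¹} : Set (alternatingGroup (Fin n)))) := by
  have k : ∀ {u : alternatingGroup (Fin n)}, u ≠ 1 → (∃ k : ℕ, orderOf u = p ^ k) →
      ∃ k : ℕ, orderOf (u : Equiv.Perm (Fin n)) = p ^ (k + 1) := fun {u} h ⟨k, e⟩ => by
    rcases k with _ | k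
    exacts [absurd (orderOf_eq_one_iff.1 e) h, ⟨k, (Subgroup.orderOf_coe u).trans e⟩]
  obtain ⟨a, ha⟩ := k hu hu'
  obtain ⟨b, hb⟩ := k hw hw'
  obtain ⟨g, hg, ⟨l, h1, h2, h3⟩, h4⟩ := H97.AnQ.main (by simpa using hn) hp hp3 ha hb
  refine ⟨⟨g, hg⟩, fun ⟨c, e⟩ => h2 ?_, fun hs => h4 (Subgroup.map (alternatingGroup (Fin n)).subtype
    (Subgroup.closure {u, ⟨g, hg⟩ * w * ⟨g, hg⟩⁻¹})) ⟨u, Subgroup.subset_closure (Or.inl rfl), rfl⟩
    ⟨⟨g, hg⟩ * w * ⟨g, hg⟩⁻¹, Subgroup.subset_closure (Or.inr rfl), rfl⟩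
    (Group.isSolvable_of_surjective (MonoidHom.subgroupMap_surjective _ _))⟩
  rw [← Subgroup.orderOf_coe] at e
  exact (Nat.prime_dvd_prime_iff_eq h1 hp).1 (h1.dvd_of_dvd_pow (e ▸ h3))

end Cfsg.Agent.S2276
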