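import Cfsg.Statements.S2277
import Cfsg.Agent.H1.Card

set_option autoImplicit false
open Cfsg

namespace Cfsg.Agent.S2277

open scoped Pointwise

/-- fixed points of an automorphism -/
def fixS {M : Type*} [Group M] (a : MulAut M) : Subgroup M :=
  a.toMonoidHom.eqLocus (MonoidHom.id M)

theorem mem_fixS {M : Type*} [Group M] (a : MulAut M) (x : M) : x ∈ fixS a ↔ a x = x := Iff.rfl

theorem card_fixS_conj {M : Type*} [Group M] (a e : MulAut M) :
    Nat.card (fixS (e * a * e⁻¹)) = Nat.card (fixS a) := by
  symm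
  refine Nat.card_congr (e.toEquiv.subtypeEquiv fun x => ?_)
  simp [mem_fixS]

theorem core {A M : Type*} [Group A] [Finite A] [Group M] [Finite M] (p : ℕ) [Fact p.Prime]
    (hp3 : 3 ≤ p) (hA : IsPGroup p A) (hM : (Nat.card M).Coprime p) (φ : A →* MulAut M)
    (hφ : Function.Injective φ) (C D : Set A) (hC : Subgroup.closure C = ⊤)
    (hD : Subgroup.closure D = ⊤)
    (hfac : ∀ c ∈ C, ∀ d ∈ D, ∀ x : M, ∃ u v : M, φ c u = u ∧ φ d v = v ∧ x = u * v)
    (hmin : ∀ H : Subgroup M, H ≠ ⊤ → (∀ a : A, ∀ x ∈ H, φ a x ∈ H) → ∀ a : A, ∀ x ∈ H, φ a x = x) :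
    Subsingleton A := by
  by_contra hne
  have hnt : Nontrivial A := not_subsingleton_iff_nontrivial.1 hne
  have hp : p.Prime := Fact.out
  let C0 : Subgroup M := ⨅ a : A, fixS (φ a)
  have hC0 : ∀ x, x ∈ C0 ↔ ∀ a, φ a x = x := fun x => by simp [C0, Subgroup.mem_iInf, mem_fixS]
  have hle : ∀ a, C0 ≤ fixS (φ a) := fun a => iInf_le _ a
  have hfixne : ∀ a : A, a ≠ 1 → fixS (φ a) ≠ ⊤ := by
    intro a ha h
    apply ha
    apply hφ
    rw [map_one]
    ext x
    exact (mem_fixS _ _).1 (h ▸ Subgroup.mem_top x)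
  have hcen : ∀ w : A, w ≠ 1 → w ∈ Subgroup.center A → fixS (φ w) = C0 := by
    intro w hw hwc
    refine le_antisymm (fun x hx => (hC0 x).2 fun a => hmin _ (hfixne w hw) ?_ a x hx) (hle w)
    intro b y hy
    rw [mem_fixS] at hy ⊢
    have := Subgroup.mem_center_iff.1 hwc b
    calc φ w (φ b y) = φ (w * b) y := by rw [map_mul]; rfl
      _ = φ b (φ w y) := by rw [← this, map_mul]; rfl
      _ = _ := by rw [hy]
  have hC0lt : Nat.card C0 < Nat.card M := by
    obtain ⟨a, ha⟩ := exists_ne (1 : A)
    have : C0 < ⊤ := lt_of_le_of_lt (hle a) (lt_top_iff_ne_top.2 (hfixne a ha))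
    simpa using H1.card_lt_of_lt this
  have hC0pos : 0 < Nat.card C0 := Nat.card_pos
  -- a fixed point lemma: if `w x = x c` with `c` fixed then `c = 1`
  have hcop : ∀ (w : A) (x c : M), c ∈ C0 → φ w x = x * c → c = 1 := by
    intro w x c hc h
    have hpow : ∀ n : ℕ, φ (w ^ n) x = x * c ^ n := by
      intro n
      induction n with
      | zero => simp
      | succ n ih =>
        rw [pow_succ', map_mul, MulAut.mul_apply, ih, map_mul, h, map_pow, (hC0 c).1 hc w,
          mul_assoc, ← pow_succ']
    obtain ⟨k, hk⟩ := hA w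
    have h1 := hpow (p ^ k)
    rw [hk, map_one, MulAut.one_apply, left_eq_mul] at h1
    have h2 : orderOf c ∣ p ^ k := orderOf_dvd_of_pow_eq_one h1
    have h3 : orderOf c ∣ Nat.card M := orderOf_dvd_natCard c
    have h4 : orderOf c = 1 := Nat.eq_one_of_dvd_coprimes (hM.pow_right k) h3 h2
    exact orderOf_eq_one_iff.1 h4
  have star : ∀ S : Set A, Subgroup.closure S = ⊤ →
      ∃ s ∈ S, Nat.card (fixS (φ s)) ^ 2 < Nat.card M * Nat.card C0 := by
    intro S hS
    by_cases hZ : Subgroup.center A = ⊤
    · obtain ⟨s, hs, hs1⟩ : ∃ s ∈ S, s ≠ 1 := by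
        by_contra hcon
        push Not at hcon
        have : Subgroup.closure S ≤ ⊥ := (Subgroup.closure_le _).2 fun s hs => hcon s hs
        rw [hS] at this
        exact top_ne_bot (le_bot_iff.1 this)
      refine ⟨s, hs, ?_⟩
      rw [hcen s hs1 (hZ ▸ Subgroup.mem_top s), sq]
      exact Nat.mul_lt_mul_of_pos_right hC0lt hC0pos
    · have hq : Nontrivial (A ⧸ Subgroup.center A) :=
        QuotientGroup.nontrivial_iff.2 hZ
      have hQ : IsPGroup p (A ⧸ Subgroup.center A) := hA.to_quotient _
      obtain ⟨⟨eb, heb⟩, heb1⟩ := @exists_ne _ hQ.center_nontrivial 1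
      obtain ⟨e, rfl⟩ := QuotientGroup.mk_surjective eb
      have he1 : e ∉ Subgroup.center A := fun h =>
        heb1 (Subtype.ext ((QuotientGroup.eq_one_iff e).2 h))
      obtain ⟨s, hs, hse⟩ : ∃ s ∈ S, s * e ≠ e * s := by
        by_contra hcon
        push Not at hcon
        apply he1
        have : Subgroup.closure S ≤ Subgroup.centralizer {e} :=
          (Subgroup.closure_le _).2 fun s hs => by
            rw [SetLike.mem_coe, Subgroup.mem_centralizer_singleton_iff]; exact hcon s hs
        rw [hS] at this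
        rw [Subgroup.mem_center_iff]
        intro g
        exact Subgroup.mem_centralizer_singleton_iff.1 (this (Subgroup.mem_top g))
      refine ⟨s, hs, ?_⟩
      -- `w = s⁻¹ e s e⁻¹` is central and nontrivial
      set w : A := s⁻¹ * (e * s * e⁻¹) with hw
      have hwc : w ∈ Subgroup.center A := by
        rw [← QuotientGroup.eq_one_iff]
        have := Subgroup.mem_center_iff.1 heb (s : A ⧸ Subgroup.center A)
        simp only [hw, QuotientGroup.mk_mul, QuotientGroup.mk_inv]
        rw [← this]; group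
      have hw1 : w ≠ 1 := by
        intro h
        apply hse
        have : e * s * e⁻¹ = s := by
          rw [hw, inv_mul_eq_one] at h; exact h.symm
        calc s * e = e * s * e⁻¹ * e := by rw [this]
          _ = _ := by group
      have hw2 : w * w ≠ 1 := by
        intro h
        obtain ⟨k, hk⟩ := hA w
        have h2 : orderOf w ∣ p ^ k := orderOf_dvd_of_pow_eq_one hk
        have h3 : orderOf w ∣ 2 := orderOf_dvd_of_pow_eq_one (by rw [sq, h])
        have h4 : Nat.Coprime 2 (p ^ k) :=
          ((Nat.coprime_primes Nat.prime_two hp).2 (by omega)).pow_right k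
        exact hw1 (orderOf_eq_one_iff.1 (Nat.eq_one_of_dvd_coprimes h4 h3 h2))
      have hsw : s * w = e * s * e⁻¹ := by rw [hw]; group
      have hwe : e * w = w * e := Subgroup.mem_center_iff.1 hwc e
      have hws : s * w = w * s := Subgroup.mem_center_iff.1 hwc s
      have hsw2 : s * (w * w) = (e * e) * s * (e * e)⁻¹ := by
        calc s * (w * w) = (s * w) * w := by group
          _ = e * s * e⁻¹ * w := by rw [hsw]
          _ = e * s * (w * e⁻¹) := by
            rw [← Subgroup.mem_center_iff.1 hwc e⁻¹]; group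
          _ = e * (s * w) * e⁻¹ := by group
          _ = _ := by rw [hsw]; group
      have c1 : Nat.card (fixS (φ (s * w))) = Nat.card (fixS (φ s)) := by
        rw [hsw, map_mul, map_mul, map_inv, card_fixS_conj]
      have c2 : Nat.card (fixS (φ (s * (w * w)))) = Nat.card (fixS (φ s)) := by
        rw [hsw2, map_mul, map_mul, map_inv, card_fixS_conj]
      have hinf : fixS (φ s) ⊓ fixS (φ (s * w)) = C0 := by
        refine le_antisymm ?_ (le_inf (hle _) (hle _))
        rintro x ⟨h1, h2⟩
        rw [← hcen w hw1 hwc]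
        have h1' : φ s x = x := h1
        have h2' : φ (s * w) x = x := h2
        rw [hws, map_mul, MulAut.mul_apply, h1'] at h2'
        exact h2'
      have hprod := H1.card_set_mul_mul_card_inf (fixS (φ s)) (fixS (φ (s * w)))
      rw [hinf, c1, ← sq] at hprod
      rw [← hprod]
      by_contra hge
      have hge' : Nat.card M ≤ Nat.card ((fixS (φ s) : Set M) * (fixS (φ (s * w)) : Set M) : Set M) :=
        Nat.le_of_mul_le_mul_right (not_lt.1 hge) hC0pos
      have huniv : ((fixS (φ s) : Set M) * (fixS (φ (s * w)) : Set M) : Set M) = Set.univ := by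
        apply Set.eq_of_subset_of_ncard_le (Set.subset_univ _)
        rw [Set.ncard_univ]; exact hge'
      have hC2 : fixS (φ (s * (w * w))) = C0 := by
        refine le_antisymm (fun x hx => ?_) (hle _)
        obtain ⟨x1, h1, x2, h2, rfl⟩ : x ∈ ((fixS (φ s) : Set M) * (fixS (φ (s * w)) : Set M) : Set M) :=
          huniv ▸ Set.mem_univ x
        have h1' : φ s x1 = x1 := h1
        have h2' : φ (s * w) x2 = x2 := h2
        have hx' : φ (s * (w * w)) (x1 * x2) = x1 * x2 := hx
        have e1 : φ (s * (w * w)) x1 = φ (w * w) x1 := by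
          rw [← Subgroup.mem_center_iff.1 (Subgroup.mul_mem _ hwc hwc) s |>.symm, map_mul,
            MulAut.mul_apply, h1']
        have e2 : φ (s * (w * w)) x2 = φ w x2 := by
          have : s * (w * w) = w * (s * w) := by rw [← mul_assoc, hws, mul_assoc, ← hws]
          rw [this, map_mul, MulAut.mul_apply, h2']
        rw [map_mul, e1, e2] at hx'
        have hmem : x1⁻¹ * φ (w * w) x1 ∈ C0 := by
          rw [← hinf]
          refine ⟨Subgroup.mul_mem _ (Subgroup.inv_mem _ h1) ?_, ?_⟩
          · show φ s (φ (w * w) x1) = φ (w * w) x1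
            rw [← MulAut.mul_apply, ← map_mul, e1]
          · have : x1⁻¹ * φ (w * w) x1 = x2 * (φ w x2)⁻¹ := by
              rw [inv_mul_eq_iff_eq_mul, ← mul_assoc x1, ← hx', mul_inv_cancel_right]
            rw [this]
            refine Subgroup.mul_mem _ h2 (Subgroup.inv_mem _ ?_)
            show φ (s * w) (φ w x2) = φ w x2
            rw [← MulAut.mul_apply, ← map_mul, mul_assoc, e2]
        have hc1 := hcop (w * w) x1 _ hmem (by group)
        have hx1 : x1 ∈ C0 := by
          rw [← hcen (w * w) hw2 (Subgroup.mul_mem _ hwc hwc), mem_fixS]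
          exact (inv_mul_eq_one.1 hc1).symm
        have hx2 : x2 ∈ C0 := by
          rw [← hcen w hw1 hwc, mem_fixS]
          rw [(hC0 x1).1 hx1] at hx'
          exact mul_left_cancel hx'
        exact C0.mul_mem hx1 hx2
      rw [hC2] at c2
      rw [huniv, ← c2, Nat.card_coe_set_eq, Set.ncard_univ, sq] at hprod
      exact hC0lt.ne' (Nat.eq_of_mul_eq_mul_right hC0pos hprod)
  obtain ⟨c, hc, hc2⟩ := star C hC
  obtain ⟨d, hd, hd2⟩ := star D hD
  have hprod := H1.card_set_mul_mul_card_inf (fixS (φ c)) (fixS (φ d))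
  have huniv : ((fixS (φ c) : Set M) * (fixS (φ d) : Set M) : Set M) = Set.univ := by
    refine Set.eq_univ_of_forall fun x => ?_
    obtain ⟨u, v, hu, hv, rfl⟩ := hfac c hc d hd x
    exact ⟨u, hu, v, hv, rfl⟩
  rw [huniv, Nat.card_coe_set_eq, Set.ncard_univ] at hprod
  have h5 : Nat.card C0 ≤ Nat.card ↥(fixS (φ c) ⊓ fixS (φ d)) :=
    Subgroup.card_le_of_le (le_inf (hle _) (hle _))
  have h6 : Nat.card M * Nat.card C0 ≤ Nat.card (fixS (φ c)) * Nat.card (fixS (φ d)) :=
    hprod ▸ Nat.mul_le_mul_left _ h5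
  nlinarith [sq_nonneg ((Nat.card (fixS (φ c)) : ℤ) - Nat.card (fixS (φ d)))]


/-- Let p ≥ 3 be prime and G a finite group with a Sylow p-subgroup P and a normal p-complement N (N normal, of order prime to p, with NP = G). Suppose P is generated by a subset C and also by a subset D, and that ⟨x c x⁻¹, d⟩ is a p-group for all x ∈ N, c ∈ C, d ∈ D. Then P centralizes N, so that G = N × P. -/
theorem result {G : Type*} [Group G] [Finite G] (p : ℕ) [Fact p.Prime] (hp3 : 3 ≤ p) (P : Sylow p G)
    (N : Subgroup G) [N.Normal] (hN : (Nat.card N).Coprime p) (hNP : N ⊔ (P : Subgroup G) = ⊤)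
    (C D : Set G) (hC : Subgroup.closure C = (P : Subgroup G)) (hD : Subgroup.closure D = (P : Subgroup G))
    (h : ∀ x ∈ N, ∀ c ∈ C, ∀ d ∈ D, IsPGroup p ↥(Subgroup.closure ({x * c * x⁻¹, d} : Set G))) :
    ⁅(P : Subgroup G), N⁆ = ⊥ := by
  have hp : p.Prime := Fact.out
  have hPN : ∀ x ∈ N, x ∈ (P : Subgroup G) → x = 1 := by
    intro x hx hxP
    obtain ⟨k, hk⟩ := P.isPGroup' ⟨x, hxP⟩
    have h2 : orderOf x ∣ p ^ k := orderOf_dvd_of_pow_eq_one (congrArg Subtype.val hk)
    have h3 : orderOf x ∣ Nat.card N := N.orderOf_dvd_natCard hx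
    exact orderOf_eq_one_iff.1 (Nat.eq_one_of_dvd_coprimes (hN.pow_right k) h3 h2)
  have main : ∀ (n : ℕ) (M : Subgroup G), Nat.card M = n → M ≤ N →
      (∀ a ∈ (P : Subgroup G), ∀ x ∈ M, a * x * a⁻¹ ∈ M) →
      ∀ a ∈ (P : Subgroup G), ∀ x ∈ M, a * x * a⁻¹ = x := by
    intro n
    induction n using Nat.strong_induction_on with
    | _ n ih =>
      intro M hMn hMN hPM
      have hnorm : (P : Subgroup G) ≤ Subgroup.normalizer (M : Set G) := by
        intro a ha
        rw [Subgroup.mem_normalizer_iff]
        intro x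
        refine ⟨hPM a ha x, fun hx => ?_⟩
        have := hPM a⁻¹ (Subgroup.inv_mem _ ha) _ hx
        simpa [mul_assoc] using this
      let ψ : (P : Subgroup G) →* MulAut M :=
        M.normalizerMonoidHom.comp (Subgroup.inclusion hnorm)
      have hψ : ∀ (a : (P : Subgroup G)) (x : M), ((ψ a x : M) : G) = a * x * (a : G)⁻¹ :=
        fun a x => rfl
      have hgen : ∀ S : Set G, Subgroup.closure S = (P : Subgroup G) →
          Subgroup.closure (ψ.rangeRestrict '' ((P : Subgroup G).subtype ⁻¹' S)) = ⊤ := by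
        intro S hS
        have h0 : ∀ T : Subgroup G, Subgroup.closure S = T →
            Subgroup.closure (T.subtype ⁻¹' S) = ⊤ := by
          rintro T rfl; exact Subgroup.closure_preimage_eq_top S
        rw [← MonoidHom.map_closure, h0 _ hS, ← MonoidHom.range_eq_map,
          MonoidHom.range_eq_top]
        exact ψ.rangeRestrict_surjective
      have hsub : Subsingleton ψ.range := by
        refine core p hp3 (P.isPGroup'.of_surjective _ ψ.rangeRestrict_surjective)
          (Nat.Coprime.coprime_dvd_left (Subgroup.card_dvd_of_le hMN) hN) ψ.range.subtype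
          Subtype.val_injective _ _ (hgen D hD) (hgen C hC) ?_ ?_
        · rintro _ ⟨d, hd, rfl⟩ _ ⟨c, hc, rfl⟩ x
          have hR := h x (hMN x.2) c hc d hd
          let K : Subgroup G := M ⊔ (P : Subgroup G)
          have hRK : Subgroup.closure ({(x : G) * c * (x : G)⁻¹, (d : G)} : Set G) ≤ K := by
            rw [Subgroup.closure_le]
            rintro y (rfl | rfl)
            · exact K.mul_mem (K.mul_mem (Subgroup.mem_sup_left x.2) (Subgroup.mem_sup_right c.2))
                (K.inv_mem (Subgroup.mem_sup_left x.2))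
            · exact Subgroup.mem_sup_right d.2
          obtain ⟨Q, hQ⟩ := (hR.comap_subtype (K := K)).exists_le_sylow
          obtain ⟨k, hk⟩ := MulAction.exists_smul_eq K (P.subtype (le_sup_right : (P : Subgroup G) ≤ K)) Q
          have hkm : (k : G) ∈ (M : Set G) * ((P : Subgroup G) : Set G) := by
            rw [← Subgroup.coe_mul_of_right_le_normalizer_left M _ hnorm]; exact k.2
          obtain ⟨y, hy, u, hu, hyu⟩ := hkm
          have key : ∀ r ∈ Subgroup.closure ({(x : G) * c * (x : G)⁻¹, (d : G)} : Set G),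
              y⁻¹ * r * y ∈ (P : Subgroup G) := by
            intro r hr
            have h1 : (⟨r, hRK hr⟩ : K) ∈ Q := hQ hr
            rw [← hk, ← SetLike.mem_coe, Sylow.coe_smul, Set.mem_smul_set_iff_inv_smul_mem] at h1
            have h2 : (k : G)⁻¹ * r * k ∈ (P : Subgroup G) := by
              have h1' : k⁻¹ * ⟨r, hRK hr⟩ * k ∈ P.subtype (le_sup_right : (P : Subgroup G) ≤ K) := by
                simpa using h1
              exact h1'
            have h3 := (P : Subgroup G).mul_mem ((P : Subgroup G).mul_mem hu h2)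
              ((P : Subgroup G).inv_mem hu)
            rw [← hyu] at h3
            simpa [mul_assoc] using h3
          have k1 := key _ (Subgroup.subset_closure (Or.inl rfl))
          have k2 := key _ (Subgroup.subset_closure (Or.inr rfl))
          have hNn : N.Normal := inferInstance
          have e1 : y⁻¹ * ((x : G) * c * (x : G)⁻¹) * y * (c : G)⁻¹ = 1 := by
            refine hPN _ ?_ ((P : Subgroup G).mul_mem k1 ((P : Subgroup G).inv_mem c.2))
            have := N.mul_mem (N.mul_mem (N.inv_mem (hMN hy)) (hMN x.2))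
              (hNn.conj_mem _ (N.mul_mem (N.inv_mem (hMN x.2)) (hMN hy)) c)
            simpa [mul_assoc] using this
          have e2 : y⁻¹ * (d : G) * y * (d : G)⁻¹ = 1 := by
            refine hPN _ ?_ ((P : Subgroup G).mul_mem k2 ((P : Subgroup G).inv_mem d.2))
            have := N.mul_mem (N.inv_mem (hMN hy)) (hNn.conj_mem _ (hMN hy) d)
            simpa [mul_assoc] using this
          refine ⟨⟨y, hy⟩, ⟨y, hy⟩⁻¹ * x, Subtype.ext ?_, Subtype.ext ?_, by group⟩
          · show (d : G) * y * (d : G)⁻¹ = y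
            calc (d : G) * y * (d : G)⁻¹ = y * (y⁻¹ * (d : G) * y * (d : G)⁻¹) := by group
              _ = y := by rw [e2, mul_one]
          · show (c : G) * (y⁻¹ * x) * (c : G)⁻¹ = y⁻¹ * x
            have e3 : (c : G) = y⁻¹ * ((x : G) * c * (x : G)⁻¹) * y := (mul_inv_eq_one.1 e1).symm
            calc (c : G) * (y⁻¹ * x) * (c : G)⁻¹
                = y⁻¹ * ((x : G) * c * (x : G)⁻¹) * y * (y⁻¹ * x) * (c : G)⁻¹ := by rw [← e3]
              _ = _ := by group
        · rintro H hH hinv ⟨_, a, rfl⟩ x hx
          have hlt : Nat.card (H.map M.subtype) < n := by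
            rw [← hMn]
            apply H1.card_lt_of_lt
            refine lt_of_le_of_ne (Subgroup.map_subtype_le H) fun heq => hH ?_
            apply Subgroup.map_injective M.subtype_injective
            rw [heq, ← MonoidHom.range_eq_map, Subgroup.range_subtype]
          have := ih _ hlt (H.map M.subtype) rfl ((Subgroup.map_subtype_le H).trans hMN)
            (by
              rintro b hb _ ⟨z, hz, rfl⟩
              exact ⟨ψ ⟨b, hb⟩ z, hinv ⟨_, ⟨b, hb⟩, rfl⟩ z hz, rfl⟩) a a.2 x ⟨x, hx, rfl⟩
          exact Subtype.ext this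
      intro a ha x hx
      have h1 : (⟨ψ ⟨a, ha⟩, ⟨a, ha⟩, rfl⟩ : ψ.range) = 1 := Subsingleton.elim _ _
      have h2 : ψ ⟨a, ha⟩ = 1 := congrArg Subtype.val h1
      have := hψ ⟨a, ha⟩ ⟨x, hx⟩
      rw [h2] at this
      exact this.symm
  rw [Subgroup.commutator_eq_bot_iff_le_centralizer]
  intro a ha
  rw [Subgroup.mem_centralizer_iff]
  intro x hx
  have := main _ N rfl le_rfl (fun a _ x hx => (inferInstance : N.Normal).conj_mem x hx a) a ha x hx
  calc x * a = a * x * a⁻¹ * a := by rw [this]
    _ = _ := by group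

end Cfsg.Agent.S2277
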