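import Cfsg.Statements.S2375
import Cfsg.Agent.H34.Tori3

set_option autoImplicit false
open Cfsg

namespace Cfsg.Agent.S2375

open Cfsg.Agent.H34 Cfsg.Lie Cfsg.Agent.H40

/-- Data of the certificate. -/
def dCt : List (List ℤ) := [[2, 0, -1, 0, 0, 0, 0, 0], [0, 2, 0, -1, 0, 0, 0, 0], [-1, 0, 2, -1, 0, 0, 0, 0], [0, -1, -1, 2, -1, 0, 0, 0], [0, 0, 0, -1, 2, -1, 0, 0], [0, 0, 0, 0, -1, 2, -1, 0], [0, 0, 0, 0, 0, -1, 2, -1], [0, 0, 0, 0, 0, 0, -1, 2]]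

/-- Data of the certificate. -/
def dA : List (List ℤ) := [[0, 0, 1, 1, 0, 0, 0, 0], [0, -1, 0, -1, 0, 0, 0, 0], [-1, 0, -1, -1, 0, 0, 0, 0], [1, 1, 1, 2, 1, 1, 1, 1], [0, 0, 0, -1, -1, -1, -1, -1], [0, 0, 0, 1, 1, 0, 0, 0], [0, 0, 0, 0, 0, 1, 0, 0], [0, 0, 0, 0, 0, 0, 1, 0]]

/-- Data of the certificate. -/
def dL : List (List ℤ) := [[0, 0, 0, 0, 0, 0, 0, 1], [0, 0, 0, 1, -1, 0, 0, 0], [1, -1, -1, 1, 0, 0, 0, 0], [0, 0, -1, 1, -1, 1, 0, 0], [0, -1, 0, 1, -1, 0, 1, 0], [1, 0, -1, 1, -1, 0, 0, 1], [0, -1, -1, 2, -1, 0, 0, 0], [1, -1, -1, 1, -1, 1, 0, 0], [0, 0, -1, 1, -1, 0, 1, 0]]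

/-- Data of the certificate. -/
def dp : List (List ℤ) := [[0, 1, 1, 0, 0, 0, -1, 0], [0, 1, 1, 1, 0, 0, -1, -1], [1, 2, 1, 0, 0, -1, -1, 0], [1, 2, 2, 1, 0, -1, -1, -1], [1, 1, 2, 1, 0, -1, -1, -1], [1, 1, 1, 1, 0, -1, -1, 0], [0, 0, 1, 1, 1, 0, -1, -1], [1, 0, 0, 0, 0, 0, 0, 0]]

/-- Data of the certificate. -/
def dchi : List ℤ := [1, 1, 0, -1, -1, -1, 0, 1, 1]

/-- Data of the certificate. -/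
def dF0 : List (List ℤ) := [[-1, 0, 0, 0, 0, 0, 0, 0], [1, 0, -1, -1, -1, 0, 1, 1], [-1, -1, 0, 0, 1, 1, 0, -1], [0, 0, -1, 0, 0, 0, 0, 1], [0, -1, 0, 0, 0, 0, 0, 0], [0, -1, 0, 0, 0, 0, 1, 0], [1, 0, -1, -1, 0, -1, 1, 1], [-1, -1, 0, 1, 0, 1, 0, -1], [0, 0, -1, 0, 0, 0, 0, 0], [0, 0, -1, 0, 0, 0, 1, 0], [0, -1, 0, 0, 0, 0, 1, -1], [1, 0, -1, 0, -1, -1, 1, 1], [-1, -1, 0, 1, 1, 0, 0, -1], [1, -1, -1, 0, 0, 0, 1, 0], [0, 0, 0, -1, 0, 0, 0, 1], [-1, 0, 0, 0, 0, 1, -1, 0], [-1, 0, 0, 0, 0, 1, 0, 0], [-1, -1, 1, 0, 0, 1, 0, -1], [0, 0, 0, 0, -1, 0, 0, 1], [-2, -1, 1, 1, 1, 1, -1, -1], [0, -1, 0, 0, 0, 1, 0, 0], [0, 1, -1, -1, 0, 0, 0, 1], [0, 0, 0, -1, 0, 0, 0, 0], [1, 1, -1, -1, -1, -1, 0, 2]]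

/-- Data of the certificate. -/
def dF1 : List (List ℤ) := [[-1, 0, 0, 0, 1, 0, -1, 0], [1, 0, -1, -1, 0, 0, 0, 1], [0, 0, 0, -1, 0, 0, 1, 0], [1, 1, -1, -1, -1, -1, 1, 2], [-1, 0, 0, 0, 1, 0, 0, 0], [1, 0, -1, -1, 0, 0, 1, 1], [1, 0, 0, -1, -1, -1, 1, 1], [-1, -1, 1, 0, 1, 0, 0, -1], [1, -1, 0, -1, 0, 0, 1, 0], [0, 0, 0, 0, 0, -1, 0, 1], [2, 0, -1, -1, -1, -1, 1, 2], [0, -1, 0, 0, 1, 0, 0, 0], [-1, 0, 0, 0, 0, 1, 0, -1], [0, 1, -1, 0, -1, 0, 0, 1], [-2, 0, 0, 1, 1, 1, -1, -1], [0, 0, -1, 0, 0, 1, 0, 0], [0, 0, 0, 0, -1, 0, 0, 0], [-2, -1, 1, 1, 1, 1, -1, -2], [0, -1, 0, 0, 0, 1, 0, -1], [-1, 0, 0, 1, 0, 0, -1, 0], [1, 0, -1, 0, -1, 0, 0, 1], [-1, -1, 0, 1, 1, 1, -1, -1], [0, 0, 0, 0, -1, 0, 1, 0], [-2, -1, 1, 1, 1, 1, 0, -2]]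

/-- Data of the certificate. -/
def dF2 : List (List ℤ) := [[0, -1, 0, 0, 0, 1, 1, -1], [-1, 0, 0, 1, 0, 0, 0, 0], [1, 0, -1, 0, -1, 0, 1, 1], [-1, -1, 0, 1, 1, 1, 0, -1], [-1, -1, 1, 1, 0, 0, 0, -1], [1, -1, 0, 0, -1, 0, 1, 0], [-1, -2, 1, 1, 1, 1, 0, -2], [0, -1, 0, 1, 0, 0, 0, 0], [1, 1, -1, -1, -1, -1, 1, 1], [-1, 0, 0, 0, 1, 0, 0, -1], [1, 0, -1, -1, 0, 0, 1, 0], [0, 1, -1, 0, 0, -1, 0, 1], [2, 1, -2, -1, -1, -1, 1, 2], [0, 0, -1, 0, 1, 0, 0, 0], [0, 0, 0, 0, 0, -1, 0, 0], [2, 0, -1, -1, -1, -1, 1, 1], [0, -1, 0, 0, 1, 0, 0, -1], [1, 0, -1, 0, 0, -1, 0, 1], [0, 0, 0, 0, 0, -1, 1, 0], [2, 0, -1, -1, -1, -1, 2, 1], [0, -1, 0, 0, 1, 0, 1, -1], [1, 0, -1, 0, 0, -1, 1, 1], [1, -1, 0, 0, 0, -1, 1, 0], [-1, 0, 0, 1, 0, 0, 0, -1]]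

/-- Data of the certificate. -/
def dF3 : List (List ℤ) := [[1, 0, -1, 0, -1, 0, 1, 0], [-1, -1, 0, 1, 1, 1, 0, -2], [0, 0, -1, 1, 0, 0, 0, 0], [0, -1, 0, 1, 0, 0, 0, -1], [0, -1, 0, 1, 0, 0, 1, -1], [1, 0, -1, 0, 0, -1, 1, 0], [0, 1, 0, -1, -1, 0, 0, 1], [-2, 0, 1, 0, 1, 1, -1, -1], [0, 0, 0, -1, 0, 1, 0, 0], [-1, 1, 0, 0, 0, 0, -1, 1], [1, 1, -1, -1, -1, 0, 0, 2], [-1, 0, 0, 0, 1, 1, -1, 0], [-1, 0, 1, 0, 0, 0, -1, 0], [1, 0, 0, -1, -1, 0, 0, 1], [-1, -1, 1, 0, 1, 1, -1, -1], [0, 0, 0, 0, 0, 0, -1, 1], [-1, 0, 1, 0, 0, 0, 0, 0], [1, 0, 0, -1, -1, 0, 1, 1], [-1, -1, 1, 0, 1, 1, 0, -1], [0, 0, 0, 0, 0, 0, 0, 1], [0, -1, 1, 0, 0, 0, 0, 0], [0, 1, 0, -1, 0, -1, 0, 1], [2, 1, -1, -2, -1, -1, 1, 2], [0, 0, 0, -1, 1, 0, 0, 0]]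

/-- Data of the certificate. -/
def dF4 : List (List ℤ) := [[1, 1, -1, -1, 0, -1, 0, 2], [1, 0, 0, -1, 0, -1, 0, 1], [1, 0, 0, -1, 0, -1, 1, 1], [-2, 0, 1, 1, 0, 1, -1, -1], [0, 0, 0, 0, -1, 1, 0, 0], [-2, -1, 1, 1, 1, 2, -1, -2], [-1, 0, 0, 1, 0, 1, -1, 0], [-1, -1, 1, 1, 0, 1, -1, -1], [-1, -1, 1, 1, 0, 1, 0, -1], [-1, 1, 0, 0, 0, 0, -1, 0], [1, 1, -1, -1, -1, 0, 0, 1], [-1, 0, 0, 0, 1, 1, -1, -1], [0, 1, -1, 0, 0, 0, -1, 1], [0, 0, 0, 0, 0, 0, -1, 0], [-1, 1, 0, 0, 0, 0, 0, 0], [1, 1, -1, -1, -1, 0, 1, 1], [-1, 0, 0, 0, 1, 1, 0, -1], [0, 1, -1, 0, 0, 0, 0, 1], [-1, 0, 1, 0, 0, 0, 0, -1], [1, 0, 0, -1, -1, 0, 1, 0], [-1, -1, 1, 0, 1, 1, 0, -2], [0, 1, 0, 0, -1, -1, 0, 1], [2, 1, -1, -1, -2, -1, 1, 2], [-2, 0, 1, 1, 1, 0, -1, -1]]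

/-- Data of the certificate. -/
def dF5 : List (List ℤ) := [[2, 0, -1, -1, -1, 0, 1, 1], [-2, -1, 1, 1, 2, 1, -1, -2], [0, -1, 0, 0, 1, 1, 0, -1], [1, 1, -1, 0, -1, -1, 0, 2], [-1, 0, 0, 1, 1, 0, -1, 0], [1, 0, -1, 0, 0, 0, 0, 1], [0, -1, 1, 0, 0, 0, 0, -1], [1, 0, 0, 0, -1, -1, 0, 1], [-1, -1, 1, 1, 1, 0, -1, -1], [1, -1, 0, 0, 0, 0, 0, 0], [0, 0, 0, 0, 0, 0, 1, 0], [0, -1, 1, 0, 0, 0, 1, -1], [1, 0, 0, 0, -1, -1, 1, 1], [-1, -1, 1, 1, 1, 0, 0, -1], [1, -1, 0, 0, 0, 0, 1, 0], [1, 1, -1, -1, 0, -1, 0, 1], [1, 1, -1, -1, 0, -1, 1, 1], [1, 0, 0, -1, 0, -1, 1, 0], [2, 1, -1, -1, -1, -2, 1, 2], [0, 0, 0, 0, 1, -1, 0, 0], [2, 0, -1, -1, 0, -1, 1, 1], [-1, 0, 0, 1, 0, 1, -1, -1], [-1, 0, 0, 1, 0, 1, 0, -1], [-1, -1, 1, 1, 0, 1, 0, -2]]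

/-- Data of the certificate. -/
def dF6 : List (List ℤ) := [[0, 0, 0, 1, -1, 0, 0, 0], [-2, -1, 1, 2, 1, 1, -1, -2], [0, -1, 0, 1, 0, 1, 0, -1], [0, 1, -1, 0, 0, 0, 0, 0], [0, 0, 0, 0, 0, 0, 0, -1], [1, 1, -1, 0, -1, -1, 0, 1], [-1, 0, 0, 1, 1, 0, -1, -1], [1, 0, -1, 0, 0, 0, 0, 0], [0, 0, 0, 0, 0, 0, 1, -1], [1, 1, -1, 0, -1, -1, 1, 1], [-1, 0, 0, 1, 1, 0, 0, -1], [1, 0, -1, 0, 0, 0, 1, 0], [1, 0, 0, 0, -1, -1, 1, 0], [-1, -1, 1, 1, 1, 0, 0, -2], [1, -1, 0, 0, 0, 0, 1, -1], [0, 0, 0, 1, 0, -1, 0, 0], [2, 0, -1, 0, -1, -1, 1, 1], [0, -1, 0, 1, 1, 0, 0, -1], [-1, 0, 1, 0, 0, 1, -1, 0], [0, 1, 0, -1, 0, 0, -1, 1], [0, 1, 0, -1, 0, 0, 0, 1], [0, 0, 1, -1, 0, 0, 0, 0], [1, 1, 0, -1, -1, -1, 0, 2], [-1, 0, 1, 0, 1, 0, -1, 0]]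

/-- Data of the certificate. -/
def dF7 : List (List ℤ) := [[1, 0, 0, -1, 0, 0, 0, 1], [-1, 1, 0, 0, 0, 1, -1, 0], [-1, 0, 1, 0, 0, 1, -1, -1], [0, 1, 0, 0, -1, 0, -1, 1], [-2, 0, 1, 1, 1, 1, -2, -1], [0, 0, 0, 0, 0, 1, -1, 0], [-1, 0, 1, 0, 0, 1, 0, -1], [0, 1, 0, 0, -1, 0, 0, 1], [-2, 0, 1, 1, 1, 1, -1, -1], [0, 0, 0, 0, 0, 1, 0, 0], [0, 0, 1, 0, -1, 0, 0, 0], [-2, -1, 2, 1, 1, 1, -1, -2], [0, -1, 1, 0, 0, 1, 0, -1], [-1, 0, 1, 1, 0, 0, -1, 0], [1, 0, 0, 0, -1, 0, 0, 1], [-1, -1, 1, 1, 1, 1, -1, -1], [0, 1, 0, -1, 0, 0, 0, 0], [1, 2, -1, -1, -1, -1, 0, 2], [-1, 1, 0, 0, 1, 0, -1, 0], [1, 1, -1, -1, 0, 0, 0, 1], [1, 1, 0, -1, -1, -1, 0, 1], [-1, 0, 1, 0, 1, 0, -1, -1], [1, 0, 0, -1, 0, 0, 0, 0], [0, 1, 0, 0, 0, -1, -1, 1]]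

/-- Data of the certificate. -/
def dF8 : List (List ℤ) := [[2, 1, -1, -1, -1, -1, 0, 2], [0, 0, 0, 0, 1, 0, -1, 0], [1, 1, 0, -1, -1, -1, 1, 1], [-1, 0, 1, 0, 1, 0, 0, -1], [1, 0, 0, -1, 0, 0, 1, 0], [0, 1, 0, 0, 0, -1, 0, 1], [2, 1, -1, -1, -1, -1, 1, 2], [0, 0, 0, 0, 1, 0, 0, 0], [0, 0, 1, 0, 0, -1, 0, 0], [2, 0, 0, -1, -1, -1, 1, 1], [0, -1, 1, 0, 1, 0, 0, -1], [1, 0, 0, 0, 0, -1, 0, 1], [0, 1, 0, 0, -1, 0, 0, 0], [-2, 0, 1, 1, 1, 1, -1, -2], [0, 0, 0, 0, 0, 1, 0, -1], [-1, 1, 0, 1, 0, 0, -1, 0], [1, 1, -1, 0, -1, 0, 0, 1], [-1, 0, 0, 1, 1, 1, -1, -1], [-1, 0, 1, 1, 0, 0, -1, -1], [1, 0, 0, 0, -1, 0, 0, 0], [-1, -1, 1, 1, 1, 1, -1, -2], [0, 0, 0, 1, 0, 0, -1, 0], [-1, 0, 1, 1, 0, 0, 0, -1], [1, 0, 0, 0, -1, 0, 1, 0]]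

/-- Data of the certificate. -/
def dF9 : List (List ℤ) := [[-1, -1, 1, 1, 1, 1, 0, -2], [0, 0, 0, 1, 0, 0, 0, 0], [0, -1, 1, 1, 0, 0, 0, -1], [0, 1, 0, 0, 0, -1, 0, 0], [2, 1, -1, -1, -1, -1, 1, 1], [0, 0, 0, 0, 1, 0, 0, -1], [1, 1, -1, 0, 0, -1, 0, 1], [1, 0, 0, 0, 0, -1, 0, 0], [1, 0, 0, 0, 0, -1, 1, 0], [0, 0, 0, 1, 0, 0, 0, -1], [-1, 1, 1, 0, 0, 0, -1, 0], [1, 1, 0, -1, -1, 0, 0, 1], [-1, 0, 1, 0, 1, 1, -1, -1], [0, 1, 0, 0, 0, 0, -1, 1], [0, 0, 1, 0, 0, 0, -1, 0], [0, 0, 1, 0, 0, 0, 0, 0], [1, 1, 0, -1, 0, -1, 0, 1], [-1, 0, 1, 1, 0, 1, -1, -1], [0, 1, 0, 0, 0, 0, -1, 0], [0, 1, 0, 0, 0, 0, 0, 0], [0, 0, 1, 0, 0, 0, 0, -1], [1, 1, 0, 0, -1, -1, 0, 1], [-1, 0, 1, 1, 1, 0, -1, -1], [1, 0, 0, 0, 0, 0, 0, 0]]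

/-- Data of the certificate. -/
def dF : List (List ℤ) := dF0 ++ dF1 ++ dF2 ++ dF3 ++ dF4 ++ dF5 ++ dF6 ++ dF7 ++ dF8 ++ dF9

/-- Data of the certificate. -/
def dpp : List (List ℤ) := [[-1, 0, 0, 0, 0, 0, 0, 1], [3, 3, -1, -1, -1, -1, -1, -2], [4, 2, -1, -1, -1, -1, -1, -2], [-4, -3, 2, 1, 1, 1, 1, 2], [0, 0, -1, 1, 0, 0, 0, 0], [0, 0, 0, -1, 1, 0, 0, 0], [0, 0, 0, 0, -1, 1, 0, 0], [0, 0, 0, 0, 0, -1, 1, 0]]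

/-- Data of the certificate. -/
def dbeta : List ℕ := [6, 7, 9, 10, 11, 12, 13, 14]

/-- Data of the certificate. -/
def dw : List ℕ := [4, 2, 5, 6, 7, 1, 0, 3]

theorem wm : WordMat chevE8 dCt dw dA := by decide +kernel
theorem cyc : CycCert chevE8.rank dA dL dp dchi := by decide +kernel
theorem reg : RegCert chevE8 dp dF dbeta 1 dpp := by decide +kernel
theorem bnd : BndCond chevE8.rank chevE8.nroots dF dbeta 1 (4 : ℕ) := by decide +kernel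
theorem num : ∀ q < 4, 2 ≤ q → NumCond chevE8.rank chevE8.nroots dF dbeta (fun _ => 0) (q : ℕ)
    (pv (q : ℕ) (chevE8.rank + 1) (dchi.getD · 0)) := by decide +kernel
theorem comb0 : ∀ k < chevE8.rank, ∑ j ∈ Finset.range chevE8.rank,
    ([2, 3, 4, 6, 5, 4, 3, 2] : List ℤ).getD j 0 * gt dF (chevE8.simple j) k = ([1] : List ℤ).getD k 0 := by decide +kernel
theorem pvchi (q : ℤ) : pv q (chevE8.rank + 1) (dchi.getD · 0) = (1) * q ^ 0 + (1) * q ^ 1 + (-1) * q ^ 3 + (-1) * q ^ 4 + (-1) * q ^ 5 + (1) * q ^ 7 + (1) * q ^ 8 := by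
  show pv q (8 + 1) _ = _
  simp [pv, Finset.sum_range_succ, dchi]
  try ring
theorem pvh0 (q : ℤ) : pv q chevE8.rank (([1] : List ℤ).getD · 0) = (1) * q ^ 0 := by
  show pv q 8 _ = _
  simp [pv, Finset.sum_range_succ]


/-- The group E₈(q) contains a cyclic subgroup of order q⁸ + q⁷ − q⁵ − q⁴ − q³ + q + 1 which is its own centralizer. -/
theorem result {F : Type*} [Field F] [Fintype F] (q : ℕ) (hF : Fintype.card F = q) :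
    ∃ H : Subgroup ↥(Cfsg.Lie.chevE8.group F), IsCyclic ↥H ∧ Nat.card ↥H = q ^ 8 + q ^ 7 - q ^ 5 - q ^ 4 - q ^ 3 + q + 1 ∧
      Subgroup.centralizer (H : Set ↥(Cfsg.Lie.chevE8.group F)) = H := by
  let C : Cert chevE8 := cert (by simp)
  let k := AlgebraicClosure F
  have hq2 : 2 ≤ q := hF ▸ Fintype.one_lt_card
  obtain ⟨l, -, hA⟩ := C.rep_of_wordMat wm
  obtain ⟨j, hj, hS⟩ := C.exists_emb_of_inj (algebraMap F k) hF (C.S.word_mem_W l) hA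
    (C.tg_injective_of kerE8)
  have h0 := (exists_frob_ext (algebraMap F k) (q := q) (m := 1)
    (hF ▸ FiniteField.isPrimePow_card F) (by rw [hF, pow_one])).1
  have hz : (2 : ℤ) ≤ q := by exact_mod_cast hq2
  refine C.exists_selfcent_of_cert j hj hS cyc reg (fun _ _ _ _ => rfl)
    (numCond_of bnd one_pos num hq2 ?_) h0 (by decide +kernel) (g := 1) one_pos ?_
    (fun _ _ => by simp) fun a ha => ?_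
  · rw [pvchi]
    show (q : ℤ) ^ 8 ≤ _
    have h1 : (q : ℤ) ^ 3 ≤ q ^ 4 := pow_le_pow_right₀ (by omega) (by omega)
    have h2 : (q : ℤ) ^ 4 ≤ q ^ 5 := pow_le_pow_right₀ (by omega) (by omega)
    have h4 : (0 : ℤ) ≤ q ^ 5 := by positivity
    have h3 : 4 * (q : ℤ) ^ 5 ≤ q ^ 7 := by
      rw [show (q : ℤ) ^ 7 = q * q * q ^ 5 by ring]; exact mul_le_mul_of_nonneg_right (by nlinarith) h4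
    linarith
  · rw [pvchi]
    have h1 : q ^ 3 ≤ q ^ 4 := Nat.pow_le_pow_right (by omega) (by omega)
    have h2 : q ^ 4 ≤ q ^ 5 := Nat.pow_le_pow_right (by omega) (by omega)
    have h3 : 4 * q ^ 5 ≤ q ^ 7 := by
      rw [show q ^ 7 = q * q * q ^ 5 by ring]; exact Nat.mul_le_mul_right _ (by nlinarith)
    rw [Nat.cast_add, Nat.cast_add, Nat.cast_sub (by omega), Nat.cast_sub (by omega),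
      Nat.cast_sub (by omega)]
    push_cast; ring
  · have := dvd_mul_pv_of_comb (F := fun j => gt dF (chevE8.simple j)) comb0 ha
    rwa [pvh0] at this

end Cfsg.Agent.S2375
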