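import Cfsg.Statements.S2463
import Cfsg.Agent.H78.ThF4
import Cfsg.Agent.H78.ThTits

set_option autoImplicit false
open Cfsg

namespace Cfsg.Agent.S2463

/-- A form of Thompson's conjecture for the simple groups of type ²F₄ (covering the non-identity elements) with a semisimple class: if M is a large Ree group ²F₄(2^(2m+1)) with m ≥ 1, or the Tits group, then there is an element x of M of odd order such that every non-identity element of M is a product of two conjugates of x. -/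
theorem result {M : Type*} [Group M] [Finite M] (hM : Cfsg.Lie.Iso2F4 M ∨ Cfsg.Lie.IsoTits M) :
    ∃ x : M, Odd (orderOf x) ∧ ∀ g : M, g ≠ 1 → ∃ u v : M, g = (u * x * u⁻¹) * (v * x * v⁻¹) := by
  have key : ∀ {Γ : Type} [Group Γ] (G : Subgroup Γ), Nonempty (M ≃* G) → (∃ x : G, Odd (orderOf x) ∧
      ∀ g, ∃ u v, g = (u * x * u⁻¹) * (v * x * v⁻¹)) → ∃ x : M, Odd (orderOf x) ∧
      ∀ g : M, g ≠ 1 → ∃ u v : M, g = (u * x * u⁻¹) * (v * x * v⁻¹) := by
    rintro Γ _ G ⟨φ⟩ ⟨x, h1, h2⟩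
    refine ⟨φ.symm x, by rwa [MulEquiv.orderOf_eq], fun g _ => ?_⟩
    obtain ⟨u, v, e⟩ := h2 (φ g)
    exact ⟨φ.symm u, φ.symm v, by simpa using congrArg φ.symm e⟩
  rcases hM with ⟨K, _, _, m, hm, hK, h⟩ | h
  · exact key (Cfsg.Lie.twistedF4 K (2 ^ m)) h (H78.ThG.ree_cover hm hK)
  · exact key (commutator (Cfsg.Lie.twistedF4 (ZMod 2) 1)) h H78.ThT.tits_cover

end Cfsg.Agent.S2463
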