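import Cfsg.Statements.S2470
import Cfsg.Agent.H76.SpecLin3

set_option autoImplicit false
open Cfsg

namespace Cfsg.Agent.S2470

/-- Adjacency of an odd prime and the characteristic in the prime graph of PSL(n,q): let F be a finite field of characteristic p with q elements, n ≥ 2 with PSL(n,F) simple, and let r ≠ p be an odd prime dividing the order of PSL(n,F), with k the multiplicative order of q modulo r. Then PSL(n,F) has NO element of order r·p if and only if either k > n − 2, or n = 3, r = 3 and 3 divides q − 1 exactly once. -/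
theorem result {F : Type*} [Field F] [Fintype F] (p : ℕ) [Fact p.Prime] [CharP F p] (n : ℕ) (hn : 2 ≤ n) (hsmall : n = 2 → 4 ≤ Fintype.card F)
    (r : ℕ) (hr : r.Prime) (hr2 : r ≠ 2) (hrp : r ≠ p) (hrG : r ∣ Nat.card (Matrix.ProjectiveSpecialLinearGroup (Fin n) F))
    (k : ℕ) (hk : k = orderOf ((Fintype.card F : ℕ) : ZMod r)) :
    (r * p ∉ Set.range (orderOf : Matrix.ProjectiveSpecialLinearGroup (Fin n) F → ℕ)) ↔
      (n - 2 < k ∨ (n = 3 ∧ r = 3 ∧ 3 ∣ Fintype.card F - 1 ∧ ¬ 9 ∣ Fintype.card F - 1)) := by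
  have : CharP (AlgebraicClosure F) p := charP_of_injective_algebraMap (algebraMap F _).injective p
  have hG := H76.models_psl (F := F) (AlgebraicClosure F) (n := Fin n) p
  rw [Fintype.card_fin] at hG
  have := Fact.mk hr
  have hk0 : 0 < k := by
    obtain ⟨e, -, he⟩ := FiniteField.card F p
    have h1 : ((Fintype.card F : ℕ) : ZMod r) ≠ 0 := by
      rw [Ne, ZMod.natCast_eq_zero_iff, he]
      exact fun h => hrp ((Nat.prime_dvd_prime_iff_eq hr Fact.out).1 (hr.dvd_of_dvd_pow h))
    rw [hk]
    exact (isOfFinOrder_iff_pow_eq_one.2 ⟨r - 1, by have := hr.two_le; omega,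
      ZMod.pow_card_sub_one_eq_one h1⟩).orderOf_pos
  rw [hG.not_adj_char_iff (H76.char_dvd_card F p) hr hrp (by simpa using hk) hk0,
    H76.natAbs_sub_one Fintype.card_pos]

end Cfsg.Agent.S2470
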