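import Cfsg.Statements.S2488
import Cfsg.Agent.H19.PermSmall
import Cfsg.Agent.H3.Fitting
import Cfsg.Agent.H67.Pi

set_option autoImplicit false
open scoped Pointwise
open Cfsg

namespace Cfsg.Agent.S2488

open Equiv in
theorem cnt1 : (Finset.univ.filter fun y : Perm (Fin 6) =>
    y * y = 1 ∧ y.support.card = 4 ∧ (swap 0 1 * swap 2 3 * y) ^ 3 = 1).card = 17 := by
  decide +kernel

open Equiv in
theorem cnt2 : (Finset.univ.filter fun y : Perm (Fin 6) =>
    y * y = 1 ∧ y.support.card = 4 ∧ (swap 0 1 * swap 2 3 * y) ^ 3 ≠ 1).card = 28 := by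
  decide +kernel

open Equiv in
theorem cent4 : ∀ g : Perm (Fin 6), g * (swap 0 1 * swap 2 3) = swap 0 1 * swap 2 3 * g →
    g ^ 4 = 1 := by
  decide +kernel


/-- Let G be a finite group with a normal subgroup N of index 4 isomorphic to the alternating group of degree 6 and with trivial centralizer in G (so G is the full automorphism group of A₆). Then any two Sylow 2-subgroups of G have a non-trivial intersection: for a Sylow 2-subgroup H and every x ∈ G, H ∩ H^x ≠ 1. -/
theorem result {G : Type*} [Group G] [Finite G] (N : Subgroup G) [N.Normal]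
    (e : N ≃* alternatingGroup (Fin 6)) (hidx : N.index = 4)
    (hC : Subgroup.centralizer (N : Set G) = ⊥)
    (H : Sylow 2 G) (x : G) :
    (H : Subgroup G) ⊓ MulAut.conj x • (H : Subgroup G) ≠ ⊥ := by
  classical
  intro hbot
  haveI : Fact (Nat.Prime 2) := ⟨Nat.prime_two⟩
  have hN : Nat.card N = 360 := by
    rw [Nat.card_congr e.toEquiv]
    have := two_mul_nat_card_alternatingGroup (α := Fin 6)
    rw [Nat.card_perm, Nat.card_eq_fintype_card (α := Fin 6), Fintype.card_fin] at this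
    simp only [Nat.factorial] at this
    omega
  have hG : Nat.card G = 1440 := by rw [← N.card_mul_index, hN, hidx]
  have hH : Nat.card (H : Subgroup G) = 32 := by
    rw [H.card_eq_multiplicity, hG]
    have : Nat.factorization 1440 2 = 5 := by
      rw [show (1440 : ℕ) = 2 ^ 5 * 45 by norm_num, Nat.factorization_mul (by norm_num) (by norm_num),
        Nat.Prime.factorization_pow Nat.prime_two]
      simp [Nat.factorization_eq_zero_of_not_dvd (show ¬ 2 ∣ 45 by norm_num)]
    rw [this]; norm_num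
  -- a central involution of `H` inside `N`
  have hne : (N.subgroupOf (H : Subgroup G)) ≠ ⊥ := by
    intro h
    have h1 := (N.subgroupOf (H : Subgroup G)).card_mul_index
    have h2 : (N.subgroupOf (H : Subgroup G)).index ∣ 4 := by
      rw [← hidx]; exact Subgroup.relIndex_dvd_index_of_normal N _
    rw [h, Subgroup.card_bot, one_mul, hH] at h1
    rw [h, h1] at h2
    norm_num at h2
  obtain ⟨z0, hz0N, hz01, hz0c⟩ : ∃ z : (H : Subgroup G), z ∈ N.subgroupOf (H : Subgroup G) ∧
      orderOf z = 2 ∧ z ∈ Subgroup.center (H : Subgroup G) := by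
    haveI := H.isPGroup'.isNilpotent
    have h1 : N.subgroupOf (H : Subgroup G) ⊓ Subgroup.center (H : Subgroup G) ≠ ⊥ :=
      H3.inf_center_ne_bot _ hne
    obtain ⟨z, hz, hz2⟩ := H67.exists_orderOf_eq_prime Nat.prime_two
      (H67.dvd_card_of_isPGroup Nat.prime_two (H.isPGroup'.to_subgroup _) h1)
    exact ⟨z, hz.1, hz2, hz.2⟩
  set z : G := (z0 : G) with hz
  have hzN : z ∈ N := hz0N
  have hz2 : orderOf z = 2 := by rw [hz, Subgroup.orderOf_coe, hz01]
  have hzc : ∀ h ∈ (H : Subgroup G), h * z = z * h := fun h hh =>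
    congrArg Subtype.val (Subgroup.mem_center_iff.1 hz0c ⟨h, hh⟩)
  let t : alternatingGroup (Fin 6) := ⟨Equiv.swap 0 1 * Equiv.swap 2 3, by
    rw [Equiv.Perm.mem_alternatingGroup]; decide⟩
  have key : ∀ y : N, orderOf y = 2 → e y ^ 2 = 1 ∧ e y ≠ 1 := by
    intro y hy
    refine ⟨by rw [← map_pow, ← hy, pow_orderOf_eq_one, map_one], fun h => ?_⟩
    rw [(map_eq_one_iff e e.injective).1 h] at hy
    simp at hy
  have hzN2 : orderOf (⟨z, hzN⟩ : N) = 2 := by rw [← hz2, ← Subgroup.orderOf_coe]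
  obtain ⟨c, hc⟩ := H19.alt_conj_invol (by simp) (key _ hzN2).1 (key _ hzN2).2 (y := t)
    (Subtype.ext (by decide)) (fun h => absurd (congrArg Subtype.val h) (by decide))
  let φ : N →* Equiv.Perm (Fin 6) :=
    (alternatingGroup (Fin 6)).subtype.comp ((MulAut.conj c).toMonoidHom.comp e.toMonoidHom)
  have hφ : Function.Injective φ :=
    Subtype.val_injective.comp ((MulAut.conj c).injective.comp e.injective)
  have hφz : φ ⟨z, hzN⟩ = Equiv.swap 0 1 * Equiv.swap 2 3 := congrArg Subtype.val hc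
  -- the centralizer of `z` is `H`
  have hCz : Subgroup.centralizer {z} = (H : Subgroup G) := by
    refine H.is_maximal' (fun g => ⟨4, Subtype.ext ?_⟩) fun h hh =>
      Subgroup.mem_centralizer_singleton_iff.2 (hzc h hh)
    have h1 : (g : G) ^ 4 ∈ N := by rw [← hidx]; exact N.pow_index_mem _
    have h2 : (g : G) ^ 4 * z = z * (g : G) ^ 4 :=
      Subgroup.mem_centralizer_singleton_iff.1 (pow_mem g.2 4)
    have h3 := cent4 (φ ⟨_, h1⟩) (by
      rw [← hφz, ← map_mul, ← map_mul]; congr 1; exact Subtype.ext h2)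
    rw [← map_pow, map_eq_one_iff φ hφ] at h3
    have h4 : ((g : G) ^ 4) ^ 4 = 1 := congrArg Subtype.val h3
    rw [← pow_mul] at h4
    exact h4
  have hmem : ∀ g : G, g * z * g⁻¹ ∈ N := fun g => ‹N.Normal›.conj_mem z hzN g
  let f : ↥(H : Subgroup G) → Equiv.Perm (Fin 6) := fun h => φ ⟨_, hmem ((h : G) * x)⟩
  have hf : Function.Injective f := by
    intro h h' hh
    have h1 : (h : G) * x * z * (h * x)⁻¹ = h' * x * z * (h' * x)⁻¹ := congrArg Subtype.val (hφ hh)
    have h2 : x⁻¹ * ((h' : G)⁻¹ * h) * x ∈ Subgroup.centralizer {z} := by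
      rw [Subgroup.mem_centralizer_singleton_iff]
      calc x⁻¹ * ((h' : G)⁻¹ * h) * x * z
          = x⁻¹ * (h' : G)⁻¹ * (h * x * z * (h * x)⁻¹) * (h * x) := by group
        _ = z * (x⁻¹ * ((h' : G)⁻¹ * h) * x) := by rw [h1]; group
    rw [hCz] at h2
    have h3 : (h' : G)⁻¹ * h ∈ (H : Subgroup G) ⊓ MulAut.conj x • (H : Subgroup G) := by
      refine Subgroup.mem_inf.2 ⟨mul_mem (inv_mem h'.2) h.2, ?_⟩
      rw [Subgroup.mem_pointwise_smul_iff_inv_smul_mem]
      simpa [mul_assoc] using h2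
    rw [hbot, Subgroup.mem_bot, inv_mul_eq_one] at h3
    exact Subtype.ext h3.symm
  have hinv : ∀ h, f h * f h = 1 ∧ (f h).support.card = 4 := by
    intro h
    have h1 : orderOf (⟨_, hmem ((h : G) * x)⟩ : N) = 2 := by
      rw [← Subgroup.orderOf_coe]; exact (H67.orderOf_conj' _ _).trans hz2
    have h2 : f h ^ 2 = 1 := by
      have := pow_orderOf_eq_one (⟨_, hmem ((h : G) * x)⟩ : N)
      rw [h1] at this
      rw [← map_pow, this, map_one]
    refine ⟨by rw [← pow_two, h2], H19.support_even_invol (by simp) h2 (fun h3 => ?_)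
      ((MulAut.conj c).toMonoidHom.comp e.toMonoidHom _).2⟩
    rw [(map_eq_one_iff φ hφ).1 h3] at h1
    simp at h1
  have hcube : ∀ h, (Equiv.swap 0 1 * Equiv.swap 2 3 * f h) ^ 3 = 1 ↔
      (z * (x * z * x⁻¹)) ^ 3 = 1 := by
    intro h
    rw [← hφz, ← map_mul, ← map_pow, map_eq_one_iff φ hφ, Subtype.ext_iff]
    have e1 : z * ((h : G) * x * z * (h * x)⁻¹) = h * (z * (x * z * x⁻¹)) * (h : G)⁻¹ := by
      calc z * ((h : G) * x * z * (h * x)⁻¹) = (z * h) * (x * z * x⁻¹) * (h : G)⁻¹ := by group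
        _ = _ := by rw [← hzc h h.2]; group
    change (z * ((h : G) * x * z * (h * x)⁻¹)) ^ 3 = 1 ↔ _
    rw [e1, conj_pow]
    constructor
    · intro h1
      calc (z * (x * z * x⁻¹)) ^ 3
          = (h : G)⁻¹ * (h * (z * (x * z * x⁻¹)) ^ 3 * (h : G)⁻¹) * h := by group
        _ = 1 := by rw [h1]; simp
    · intro h1; rw [h1]; simp
  letI : Fintype (H : Subgroup G) := Fintype.ofFinite _
  rw [Nat.card_eq_fintype_card, ← Finset.card_univ] at hH
  by_cases h3 : (z * (x * z * x⁻¹)) ^ 3 = 1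
  · have := Finset.card_le_card_of_injOn (s := Finset.univ) f (t := Finset.univ.filter
      fun y : Equiv.Perm (Fin 6) => y * y = 1 ∧ y.support.card = 4 ∧
        (Equiv.swap 0 1 * Equiv.swap 2 3 * y) ^ 3 = 1)
      (fun h _ => by
        simp only [Finset.coe_filter, Finset.mem_univ, true_and, Set.mem_setOf_eq]
        exact ⟨(hinv h).1, (hinv h).2, (hcube h).2 h3⟩) hf.injOn
    rw [cnt1, hH] at this
    omega
  · have := Finset.card_le_card_of_injOn (s := Finset.univ) f (t := Finset.univ.filter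
      fun y : Equiv.Perm (Fin 6) => y * y = 1 ∧ y.support.card = 4 ∧
        (Equiv.swap 0 1 * Equiv.swap 2 3 * y) ^ 3 ≠ 1)
      (fun h _ => by
        simp only [Finset.coe_filter, Finset.mem_univ, true_and, Set.mem_setOf_eq]
        exact ⟨(hinv h).1, (hinv h).2, fun h4 => h3 ((hcube h).1 h4)⟩) hf.injOn
    rw [cnt2, hH] at this
    omega

end Cfsg.Agent.S2488
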