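import Cfsg.Statements.S2506
import Cfsg.Agent.H98.AbSym

set_option autoImplicit false
open scoped Pointwise
open Cfsg

namespace Cfsg.Agent.S2506

open H98 H98.AbS

/-- In the alternating group of any degree, any two abelian subgroups of the largest possible order (among abelian subgroups) are conjugate. -/
theorem result (n : ℕ)
    (A B : Subgroup (alternatingGroup (Fin n))) (hA : IsMulCommutative A) (hB : IsMulCommutative B)
    (hAmax : ∀ C : Subgroup (alternatingGroup (Fin n)), IsMulCommutative C → Nat.card C ≤ Nat.card A)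
    (hBmax : ∀ C : Subgroup (alternatingGroup (Fin n)), IsMulCommutative C → Nat.card C ≤ Nat.card B) :
    ∃ g : alternatingGroup (Fin n), B = MulAut.conj g • A := by
  by_cases h2 : n ≤ 2
  · haveI : Subsingleton (alternatingGroup (Fin n)) := ⟨fun x y => by
      have h : ∀ x : alternatingGroup (Fin n), x = 1 := fun x => Subtype.ext
        (eq_one_of_support x.2 ((Finset.card_le_univ _).trans (by simpa using h2)))
      rw [h x, h y]⟩
    exact ⟨1, Subsingleton.elim _ _⟩
  by_cases h5 : n = 5
  · subst h5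
    haveI : Fact (Nat.Prime 5) := ⟨by decide⟩
    obtain ⟨C, h1, h3⟩ := ex_five.alt
    have key : ∀ A : Subgroup (alternatingGroup (Fin 5)), IsMulCommutative A → 5 ≤ Nat.card A →
        SylIn 5 A ⊤ := fun A hA h4 => by
      obtain ⟨_, _, _, h⟩ := exists_orb (A := A.map (Subgroup.subtype _)) inferInstance
      have h6 := h.five (by simp) (Subgroup.map_subtype_le _)
      rw [Subgroup.card_subtype] at h6
      obtain ⟨S, hS⟩ := exists_sylIn 5 (⊤ : Subgroup (alternatingGroup (Fin 5)))
      refine hS.of_card_le le_top (IsPGroup.of_card (n := 1) (by omega)) ?_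
      rw [hS.card_eq_pow_factorization, Subgroup.card_top, nat_card_alternatingGroup, Nat.card_fin,
        Nat.factorization_def _ Fact.out]
      exact le_trans (by decide +kernel) h4
    obtain ⟨g, -, hg⟩ := (key A hA (h3.ge.trans (hAmax C h1))).exists_conj
      (key B hB (h3.ge.trans (hBmax C h1)))
    exact ⟨g, hg.symm⟩
  obtain ⟨v, d, hn, hv⟩ : ∃ v d, n = 2 * v + 3 * d ∧ (v = 0 ∨ v = 2 ∨ v = 4) :=
    ⟨2 * (n % 3), n / 3 - n % 3, by omega⟩
  obtain ⟨⟨C, h1, h3⟩, h4⟩ := isGreatest_alt hn hv
  obtain ⟨g, hg, e⟩ := exists_conj (A := A.map (Subgroup.subtype _)) (B := B.map (Subgroup.subtype _))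
    inferInstance inferInstance (Subgroup.map_subtype_le _) (Subgroup.map_subtype_le _)
    (by simpa using hn) (by omega)
    (by rw [Subgroup.card_subtype]; exact le_antisymm (h4 ⟨A, hA, rfl⟩) (h3 ▸ hAmax C h1))
    (by rw [Subgroup.card_subtype]; exact le_antisymm (h4 ⟨B, hB, rfl⟩) (h3 ▸ hBmax C h1))
  refine ⟨⟨g, hg⟩, Subgroup.map_injective (alternatingGroup _).subtype_injective ?_⟩
  show _ = (A.map (MulAut.conj (⟨g, hg⟩ : alternatingGroup (Fin n))).toMonoidHom).map _
  rw [e, Subgroup.map_map, Subgroup.map_map]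
  rfl

end Cfsg.Agent.S2506
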