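import Cfsg.Statements.S2536
import Cfsg.Agent.H98.HallSym3

set_option autoImplicit false
open Cfsg

namespace Cfsg.Agent.S2536

/-- Let `π` be a set of primes and `n` a natural number such that at least two primes of `π` divide `n!` but not every prime dividing `n!` lies in `π`. Then the symmetric group of degree `n` has a Hall `π`-subgroup if and only if either `n` is prime and the primes of `π` dividing `n!` are exactly the primes smaller than `n` (a point stabilizer is then such a subgroup), or `n ∈ {7, 8}` and the primes of `π` dividing `n!` are exactly 2 and 3. -/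
theorem result (n : ℕ) (π : Set ℕ)
    (h2 : ∃ r s : ℕ, r.Prime ∧ s.Prime ∧ r ≠ s ∧ r ∈ π ∧ s ∈ π ∧ r ≤ n ∧ s ≤ n)
    (hns : ∃ r : ℕ, r.Prime ∧ r ≤ n ∧ r ∉ π) :
    Cfsg.IsEPiGroup π (Equiv.Perm (Fin n)) ↔
      ((n.Prime ∧ ∀ r : ℕ, r.Prime → r ≤ n → (r ∈ π ↔ r < n)) ∨
       ((n = 7 ∨ n = 8) ∧ ∀ r : ℕ, r.Prime → r ≤ n → (r ∈ π ↔ (r = 2 ∨ r = 3)))) := by
  obtain ⟨r, s, hr, hs, hrs, hrπ, hsπ, h1, h2⟩ := h2
  obtain ⟨t, ht, h3, htπ⟩ := hns
  have hc : Fintype.card (Fin n) = n := Fintype.card_fin n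
  have hn := H98.HallS.five_le hr hs ht hrs hrπ hsπ htπ h1 h2 h3
  constructor
  · rintro ⟨M, hM⟩
    obtain ⟨K, hK, -⟩ := H98.HallS.classify (H98.HallS.good_of_hall hM) hr hs ht hrs hrπ hsπ htπ
      (hc.symm ▸ h1) (hc.symm ▸ h2) (hc.symm ▸ h3)
    unfold H98.HallS.Std at hK
    rw [hc] at hK
    rcases hK with ⟨k1, k2, -⟩ | ⟨k1, k2, -⟩ | ⟨k1, k2, -⟩
    · exact Or.inl ⟨k1, k2⟩
    · exact Or.inr ⟨Or.inl k1, k2⟩
    · exact Or.inr ⟨Or.inr k1, k2⟩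
  · intro h
    have hB : ∀ k ≤ n, ∃ B : Finset (Fin n), B.card = k := fun k hk => by
      obtain ⟨B, -, hB⟩ := Finset.exists_subset_card_eq (s := (Finset.univ : Finset (Fin n))) (n := k)
        (by simpa using hk)
      exact ⟨B, hB⟩
    suffices ∃ K : Subgroup (Equiv.Perm (Fin n)), H98.HallS.Std π K from
      this.imp fun K hK => hK.hall
    unfold H98.HallS.Std
    rw [hc]
    obtain ⟨B4, hB4⟩ := hB 4 (by omega)
    rcases h with ⟨k1, k2⟩ | ⟨k1 | k1, k2⟩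
    · obtain ⟨B, hB⟩ := hB (n - 1) (by omega)
      exact ⟨_, Or.inl ⟨k1, k2, B, by omega, rfl⟩⟩
    · exact ⟨_, Or.inr (Or.inl ⟨k1, k2, B4, hB4, rfl⟩)⟩
    · exact ⟨_, Or.inr (Or.inr ⟨k1, k2, B4, hB4, rfl⟩)⟩

end Cfsg.Agent.S2536
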