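import Cfsg.Statements.S2551
import Mathlib
import Cfsg.Agent.H93.SubA8
import Cfsg.Agent.S0256

set_option autoImplicit false
open Cfsg

namespace Cfsg.Agent.S2551

open MulAction in
theorem fix_card {H V : Type*} [Group H] [AddCommGroup V] [DistribMulAction H V]
    [FaithfulSMul H V] (hV : Nat.card V = 16) {p : ℕ} (hp : p.Prime) {g : H}
    (hg : orderOf g = p) :
    (fixedBy V g).ncard ∣ 8 ∧ 16 ≡ (fixedBy V g).ncard [MOD p] := by
  haveI : Finite V := Nat.finite_of_card_ne_zero (by omega)
  let W : AddSubgroup V :=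
    { carrier := fixedBy V g
      add_mem' := fun {a b} ha hb => by
        simp only [mem_fixedBy] at *
        rw [smul_add, ha, hb]
      zero_mem' := smul_zero g
      neg_mem' := fun {a} ha => by
        simp only [mem_fixedBy] at *
        rw [smul_neg, ha] }
  have h1 : W.index * (fixedBy V g).ncard = 16 := hV ▸ W.index_mul_card
  have h2 : W.index ≠ 1 := by
    rw [Ne, AddSubgroup.index_eq_one]
    intro h
    have : g = 1 := eq_of_smul_eq_smul (α := V) (fun x => by
      have : x ∈ W := h ▸ AddSubgroup.mem_top x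
      rw [one_smul]; exact this)
    rw [this, orderOf_one] at hg
    exact hp.one_lt.ne hg
  refine ⟨?_, ?_⟩
  · generalize (fixedBy V g).ncard = n at h1
    have h5 : n ∣ 16 := Dvd.intro_left _ h1
    have h6 := Nat.le_of_dvd (by norm_num) h5
    interval_cases n <;> omega
  · have := H60.ncard_modEq_fixedBy (α := V) hp (g := g) (by rw [← hg, pow_orderOf_eq_one])
      Set.univ (fun _ _ => Set.mem_univ _)
    rwa [Set.ncard_univ, hV, Set.univ_inter] at this

open MulAction in
theorem two_trans {H V : Type*} [Group H] [AddCommGroup V] [DistribMulAction H V]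
    [FaithfulSMul H V] (hV : Nat.card V = 16) (e : H ≃* alternatingGroup (Fin 7))
    (v w v' w' : V) (hv : v ≠ 0) (hw : w ≠ 0) (hvw : v ≠ w) (hv' : v' ≠ 0) (hw' : w' ≠ 0)
    (hvw' : v' ≠ w') : ∃ g : H, g • v = v' ∧ g • w = w' := by
  classical
  haveI : Finite V := Nat.finite_of_card_ne_zero (by omega)
  haveI : Finite H := Finite.of_equiv _ e.symm.toEquiv
  have hH : Nat.card H = 2520 := by
    rw [Nat.card_congr e.toEquiv, nat_card_alternatingGroup, Nat.card_fin]; decide
  haveI := alternatingGroup.isSimpleGroup (α := Fin 7) (by simp)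
  haveI : IsSimpleGroup H := e.isSimpleGroup
  have hnc : ¬ IsMulCommutative H := H58.not_comm_of_not_prime (by rw [hH]; norm_num)
  have key : ∀ (K : Subgroup H) (p : ℕ), p.Prime → p ∣ 2520 → ¬ p ∣ K.index →
      ∃ g ∈ K, orderOf g = p := by
    intro K p hp h1 h2
    haveI := Fact.mk hp
    rw [← hH, ← K.index_mul_card] at h1
    obtain ⟨g, hg⟩ := exists_prime_orderOf_dvd_card' p ((hp.dvd_mul.1 h1).resolve_left h2)
    exact ⟨g, g.2, by rw [Subgroup.orderOf_coe, hg]⟩
  have h10 : ∀ u : V, u ≠ 0 → 10 ≤ (orbit H u).ncard := by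
    intro u hu
    have h5 : 5 ∣ (stabilizer H u).index := by
      by_contra h
      obtain ⟨g, hg, hg5⟩ := key _ 5 (by norm_num) (by norm_num) h
      obtain ⟨h1, h2⟩ := fix_card hV (by norm_num) hg5
      have h3 : 1 < (fixedBy V g).ncard :=
        (Set.one_lt_ncard_iff (Set.toFinite _)).2 ⟨u, 0, hg, smul_zero g, hu⟩
      have h4 := Nat.le_of_dvd (by norm_num) h1
      unfold Nat.ModEq at h2
      generalize (fixedBy V g).ncard = n at *
      interval_cases n <;> omega
    have h6 : stabilizer H u ≠ ⊤ := fun h => by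
      rw [h, Subgroup.index_top] at h5; omega
    have h7 := H58.two_mul_card_dvd_index_factorial hnc h6
    rw [hH] at h7
    rw [← index_stabilizer]
    by_contra h
    have h8 : (stabilizer H u).index ≠ 0 := Subgroup.index_ne_zero_of_finite
    have h9 : (stabilizer H u).index = 5 := by omega
    rw [h9] at h7
    exact absurd h7 (by decide)
  have hsub : ∀ u : V, u ≠ 0 → orbit H u ⊆ ({0} : Set V)ᶜ := by
    rintro u hu _ ⟨g, rfl⟩ h
    exact hu ((smul_eq_zero_iff_eq g).1 h)
  have h15 : (({0} : Set V)ᶜ).ncard = 15 := by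
    have := Set.ncard_add_ncard_compl ({0} : Set V)
    rw [Set.ncard_singleton, hV] at this
    omega
  have htr : ∀ a b : V, a ≠ 0 → b ≠ 0 → b ∈ orbit H a := by
    intro a b ha hb
    have h1 := Set.ncard_le_ncard (Set.union_subset (hsub a ha) (hsub b hb))
    obtain ⟨c, hc1, hc2⟩ := H60.inter_nonempty_of_ncard_union_lt (Γ := orbit H a)
      (Γ' := orbit H b) (by have := h10 a ha; have := h10 b hb; omega)
    rw [← orbit_eq_iff.2 hc1, orbit_eq_iff.2 hc2]
    exact mem_orbit_self b
  haveI : Fact (Nat.Prime 2) := ⟨Nat.prime_two⟩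
  obtain ⟨t, -, ht⟩ := key ⊤ 2 (by norm_num) (by norm_num) (by simp)
  have ht2 : t * t = 1 := by rw [← pow_two, ← ht, pow_orderOf_eq_one]
  obtain ⟨u, hu⟩ : ∃ u : V, t • u ≠ u := by
    by_contra h
    push Not at h
    have : t = 1 := eq_of_smul_eq_smul (α := V) (fun x => by rw [one_smul, h])
    rw [this, orderOf_one] at ht
    omega
  have hu0 : u ≠ 0 := by rintro rfl; exact hu (smul_zero t)
  have hu1 : t • u ≠ 0 := fun h => hu0 ((smul_eq_zero_iff_eq t).1 h)
  haveI := Fintype.ofFinite V
  let O : Finset (V × V) := (orbit H (u, t • u)).toFinite.toFinset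
  have hO : ∀ x, x ∈ O ↔ x ∈ orbit H (u, t • u) := fun x => Set.Finite.mem_toFinset _
  have hOc : O.card = (stabilizer H (u, t • u)).index := by
    rw [index_stabilizer, Set.ncard_eq_toFinset_card _ (Set.toFinite _)]
  let D : Finset (V × V) := (Finset.univ.erase (0 : V)).offDiag
  have hD : D.card = 210 := by
    rw [Finset.offDiag_card, Finset.card_erase_of_mem (Finset.mem_univ _), Finset.card_univ,
      ← Nat.card_eq_fintype_card, hV]
  have hOD : O ⊆ D := by
    intro x hx
    obtain ⟨g, rfl⟩ := (hO x).1 hx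
    simp only [D, Finset.mem_offDiag, Finset.mem_erase, Finset.mem_univ, and_true, Prod.smul_fst,
      Prod.smul_snd]
    exact ⟨fun h => hu0 ((smul_eq_zero_iff_eq g).1 h), fun h => hu1 ((smul_eq_zero_iff_eq g).1 h),
      fun h => hu (smul_left_cancel g h).symm⟩
  have h2 : 2 ∣ O.card := by
    have hsw : ∀ x ∈ O, x.swap ∈ O := by
      intro x hx
      obtain ⟨g, rfl⟩ := (hO x).1 hx
      refine (hO _).2 ⟨g * t, ?_⟩
      simp only [Prod.smul_mk, Prod.swap_prod_mk, smul_smul, mul_assoc, ht2, mul_one]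
    refine H59.dvd_card_of_invariant (n := 1) (σ := Equiv.prodComm V V) (by ext x <;> rfl) O
      (fun x => ⟨fun h => hsw _ h, hsw x⟩) (fun x hx h => ?_)
    have h1 := (Finset.mem_offDiag.1 (hOD hx)).2.2
    exact h1 (congrArg Prod.snd h)
  have h3 : 15 ∣ O.card := by
    have h1 : (stabilizer H u).index = 15 := by
      rw [index_stabilizer, ← h15]
      congr 1
      exact Set.Subset.antisymm (hsub u hu0) (fun b hb => htr u b hu0 hb)
    rw [hOc, ← h1]
    exact Subgroup.index_dvd_of_le (fun g hg => congrArg Prod.fst (mem_stabilizer_iff.1 hg))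
  have h7 : 7 ∣ O.card := by
    rw [hOc]
    by_contra h
    obtain ⟨g, hg, hg7⟩ := key _ 7 (by norm_num) (by norm_num) h
    obtain ⟨h1, h2⟩ := fix_card hV (by norm_num) hg7
    have h3 : 2 < (fixedBy V g).ncard :=
      (Set.two_lt_ncard_iff (Set.toFinite _)).2 ⟨u, 0, t • u,
        congrArg Prod.fst (mem_stabilizer_iff.1 hg), smul_zero g,
        congrArg Prod.snd (mem_stabilizer_iff.1 hg), hu0, hu.symm, hu1.symm⟩
    have h4 := Nat.le_of_dvd (by norm_num) h1
    unfold Nat.ModEq at h2
    generalize (fixedBy V g).ncard = n at *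
    interval_cases n <;> omega
  have h0 : 0 < O.card := Finset.card_pos.2 ⟨_, (hO _).2 (mem_orbit_self _)⟩
  have hOD' : O = D := Finset.eq_of_subset_of_card_le hOD (by omega)
  have h8 : (v, w) ∈ O := by rw [hOD']; simp [D, hv, hw, hvw]
  have h9 : (v', w') ∈ O := by rw [hOD']; simp [D, hv', hw', hvw']
  rw [hO] at h8 h9
  rw [← orbit_eq_iff.2 h8] at h9
  obtain ⟨g, hg⟩ := h9
  exact ⟨g, congrArg Prod.fst hg, congrArg Prod.snd hg⟩

/-- Let F be the field with 2 elements. GL_4(F) (≅ A_8) has a subgroup isomorphic to the alternating group A_7, and every such subgroup acts 2-transitively on the 15 non-zero vectors of F⁴: any ordered pair of distinct non-zero vectors is carried to any other by some element of the subgroup. -/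
theorem result {F : Type*} [Field F] [Fintype F] (hF : Fintype.card F = 2) : (∃ H : Subgroup (Matrix.GeneralLinearGroup (Fin 4) F), Nonempty (H ≃* alternatingGroup (Fin 7))) ∧ ∀ H : Subgroup (Matrix.GeneralLinearGroup (Fin 4) F), Nonempty (H ≃* alternatingGroup (Fin 7)) → ∀ v w v' w' : Fin 4 → F, v ≠ 0 → w ≠ 0 → v ≠ w → v' ≠ 0 → w' ≠ 0 → v' ≠ w' → ∃ g ∈ H, (g : Matrix (Fin 4) (Fin 4) F).mulVec v = v' ∧ (g : Matrix (Fin 4) (Fin 4) F).mulVec w = w' := by
  classical
  constructor
  · obtain ⟨e1⟩ := H93.gl_equiv_psl_of_card_two hF (Fin 4)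
    obtain ⟨e2⟩ := S0256.result hF
    let f : alternatingGroup (Fin 7) →* alternatingGroup (Fin 8) :=
      ((Equiv.Perm.extendDomainHom (Fin.castSuccEmb (n := 7)).toEquivRange).comp
        (alternatingGroup (Fin 7)).subtype).codRestrict _ (fun x => by
          rw [Equiv.Perm.mem_alternatingGroup]
          exact (Equiv.Perm.sign_extendDomain _ _).trans x.2)
    have hf : Function.Injective f := fun a b h => Subtype.ext
      (Equiv.Perm.extendDomainHom_injective _ (congrArg Subtype.val h))
    let φ := (e1.trans e2).symm.toMonoidHom.comp f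
    exact ⟨φ.range, ⟨(MonoidHom.ofInjective ((e1.trans e2).symm.injective.comp hf)).symm⟩⟩
  · rintro H ⟨e⟩ v w v' w' hv hw hvw hv' hw' hvw'
    letI : DistribMulAction H (Fin 4 → F) :=
      { smul := fun g x => ((g : GL (Fin 4) F) : Matrix (Fin 4) (Fin 4) F).mulVec x
        one_smul := fun x => Matrix.one_mulVec x
        mul_smul := fun g h x => (Matrix.mulVec_mulVec _ _ _).symm
        smul_zero := fun g => Matrix.mulVec_zero _
        smul_add := fun g x y => Matrix.mulVec_add _ _ _ }
    haveI : FaithfulSMul H (Fin 4 → F) := ⟨fun {g h} hgh =>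
      Subtype.ext (Units.ext (Matrix.toLin'.injective (LinearMap.ext hgh)))⟩
    obtain ⟨g, h1, h2⟩ := two_trans (by simp [hF]) e v w v' w' hv hw hvw hv' hw' hvw'
    exact ⟨g, g.2, h1, h2⟩

end Cfsg.Agent.S2551
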