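import Cfsg.Statements.S2650
import Cfsg.Agent.H42.Ext23b

set_option autoImplicit false
set_option maxRecDepth 1000000
open Cfsg

namespace Cfsg.Agent.S2650

open Cfsg.Agent.H42

open Cfsg Cfsg.Agent.H42.Ext Cfsg.Agent.H42.Pk

/-- Automorphisms of the Parker loop over the Mathieu group of degree 23 fixing the lift of the
all-ones word. -/
@[ext] structure El where
  /-- the permutation -/
  s : Spor.M23
  /-- the sign function -/
  q : Cd → ZMod 2
  om : q Om = 0
  add : ∀ d e, q (d + e) = q d + q e + (parker.θ d e + parker.θ ((toG s).1 • d) ((toG s).1 • e))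

theorem mul_act (s t : Spor.M23) (d : Cd) :
    (toG (s * t)).1 • d = (toG s).1 • (toG t).1 • d := rfl

theorem inv_act (s : Spor.M23) (d : Cd) : (toG s).1 • (toG s⁻¹).1 • d = d := by
  rw [← mul_act, mul_inv_cancel]
  rfl

noncomputable instance : Group El where
  mul a b := ⟨a.s * b.s, fun d => a.q ((toG b.s).1 • d) + b.q d, by rw [smul_Om, a.om, b.om, add_zero],
    fun d e => by
      rw [smul_add, a.add, b.add, mul_act, mul_act]
      generalize parker.θ ((toG b.s).1 • d) ((toG b.s).1 • e) = x
      linear_combination two_self x⟩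
  one := ⟨1, 0, rfl, fun d e => by
    show (0 : ZMod 2) = 0 + 0 + (parker.θ d e + parker.θ d e)
    rw [two_self (parker.θ d e), add_zero, add_zero]⟩
  inv a := ⟨a.s⁻¹, fun d => a.q ((toG a.s⁻¹).1 • d), by rw [smul_Om, a.om], fun d e => by
    rw [smul_add, a.add, inv_act, inv_act, add_comm (parker.θ d e)]⟩
  mul_assoc a b c := El.ext (mul_assoc a.s b.s c.s) (funext fun d => add_assoc _ _ _)
  one_mul a := El.ext (one_mul a.s) (funext fun d => zero_add _)
  mul_one a := El.ext (mul_one a.s) (funext fun d => add_zero _)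
  inv_mul_cancel a := El.ext (inv_mul_cancel a.s) (funext fun d => by
    show a.q ((toG a.s⁻¹).1 • (toG a.s).1 • d) + a.q d = 0
    rw [← mul_act, inv_mul_cancel]
    exact two_self _)

theorem mul_q (a b : El) (d : Cd) : (a * b).q d = a.q ((toG b.s).1 • d) + b.q d := rfl

instance : Finite El :=
  Finite.of_injective (fun a => (a.s, a.q)) fun _ _ h =>
    El.ext (congrArg Prod.fst h) (congrArg Prod.snd h)

/-- The projection. -/
noncomputable def pr : El →* Spor.M23 where
  toFun := El.s
  map_one' := rfl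
  map_mul' _ _ := rfl

theorem pr_surj : Function.Surjective pr := fun s => by
  obtain ⟨q, h1, h2⟩ := parker.exists_lift (toG s).1
  exact ⟨⟨s, q, h1, h2⟩, rfl⟩

/-- The even word congruent to a word modulo the extra point. -/
def evn (w : W) : W := w + Pi.single none (ip 1 w)

theorem ip_evn (d w : W) : ip d (evn w) = ip d w + d none * ip 1 w := by
  rw [evn, ip_add_right]
  simp [ip, Pi.single_apply]

/-- The diagonal automorphisms. -/
noncomputable def dg (w : W) : El :=
  ⟨1, fun d => ip d.1 (evn w), by rw [ip_evn, Om_val, Pi.one_apply, one_mul, two_self],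
    fun d e => by
      rw [Submodule.coe_add, ip_add_left, map_one, OneMemClass.coe_one, one_smul, one_smul,
        two_self, add_zero]⟩

theorem dg_s (w : W) : (dg w).s = 1 := rfl

theorem dg_q (w : W) (d : Cd) : (dg w).q d = ip d.1 (evn w) := rfl

theorem mul_s (a b : El) : (a * b).s = a.s * b.s := rfl

theorem inv_s (a : El) : a⁻¹.s = a.s⁻¹ := rfl

theorem inv_q (a : El) (d : Cd) : a⁻¹.q d = a.q ((toG a.s⁻¹).1 • d) := rfl

theorem one_q (d : Cd) : (1 : El).q d = 0 := rfl

theorem dg_add (v w : W) : dg (v + w) = dg v * dg w :=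
  El.ext (mul_one _).symm (funext fun d => by
    rw [mul_q, dg_s, map_one, OneMemClass.coe_one, one_smul, dg_q, dg_q, dg_q, ip_evn, ip_evn,
      ip_evn, ip_add_right, ip_add_right]
    ring)

/-- The diagonal automorphisms. -/
noncomputable def th : W →+ Additive pr.ker :=
  AddMonoidHom.mk' (fun w => Additive.ofMul ⟨dg w, dg_s w⟩) fun v w =>
    congrArg Additive.ofMul (Subtype.ext (dg_add v w))

theorem th_val (w : W) : ((th w).toMul : El) = dg w := rfl

theorem exists_dg {n : El} (h1 : n.s = 1) : ∃ w, dg w = n := by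
  have h2 : ∀ d e, n.q (d + e) = n.q d + n.q e := fun d e => by
    rw [n.add, h1, map_one, OneMemClass.coe_one, one_smul, one_smul, two_self, add_zero]
  obtain ⟨g, hg⟩ := (linOf _ h2).exists_extend
  have h3 : ∀ d : W, ip d (fun i => g (Pi.single i 1)) = g d := fun d => by
    conv_rhs => rw [pi_eq_sum_univ' d, map_sum]
    simp only [ip, map_smul, smul_eq_mul]
  have h4 : ∀ d : Cd, g d.1 = n.q d := fun d => LinearMap.congr_fun hg d
  refine ⟨fun i => g (Pi.single i 1), El.ext h1.symm (funext fun d => ?_)⟩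
  rw [dg_q, ip_evn, h3, h3, h4, ← Om_val, h4, n.om, mul_zero, add_zero]

theorem th_surj : Function.Surjective th := fun n => by
  obtain ⟨w, hw⟩ := exists_dg (n := n.toMul.1) n.toMul.2
  exact ⟨w, Additive.toMul.injective (Subtype.ext hw)⟩

theorem th_eq_zero (w : W) : th w = 0 ↔ w ∈ golayCode ∨ w + Pi.single none 1 ∈ golayCode := by
  have h0 : th w = 0 ↔ dg w = 1 :=
    ⟨fun h => by rw [← th_val, h]; rfl, fun h => Additive.toMul.injective (Subtype.ext h)⟩
  have h1 : dg w = 1 ↔ evn w ∈ golayCode :=
    ⟨fun h => mem_of_ip _ fun d => by rw [← dg_q, h, one_q],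
      fun h => El.ext (dg_s w) (funext fun d => by rw [dg_q, one_q]; exact ip_code d ⟨_, h⟩)⟩
  rw [h0, h1, evn]
  rcases z2 (ip 1 w) with h | h <;> rw [h]
  · rw [Pi.single_zero, add_zero]
    refine ⟨Or.inl, fun k => k.resolve_right fun k => ?_⟩
    have : ip 1 (w + Pi.single none 1) = 0 := ip_code Om ⟨_, k⟩
    rw [ip_add_right, h, ip_single_right] at this
    exact absurd this (by decide)
  · refine ⟨Or.inr, fun k => k.resolve_left fun k => ?_⟩
    exact absurd (h.symm.trans (ip_code Om ⟨_, k⟩)) (by decide)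

theorem dg_conj (g : El) (w : W) : dg (pw g.s.1 w) = g * dg w * g⁻¹ := by
  refine El.ext (by rw [mul_s, mul_s, inv_s, dg_s, dg_s, mul_one, mul_inv_cancel])
    (funext fun d => ?_)
  have h1 : ip d.1 (pw g.s.1 w) = ip ((toG g.s⁻¹).1 • d).1 w := by
    have h : pw g.s.1 ((toG g.s⁻¹).1 • d).1 = d.1 := congrArg Subtype.val (inv_act g.s d)
    rw [← ip_pw g.s.1 ((toG g.s⁻¹).1 • d).1, h]
  have h2 : ((toG g.s⁻¹).1 • d).1 none = d.1 none := congrArg d.1 g.s.2.2
  have h3 : ip 1 (pw g.s.1 w) = ip 1 w := ip_pw g.s.1 1 w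
  rw [mul_q, mul_q, inv_q, inv_s, dg_s, map_one, OneMemClass.coe_one, one_smul, add_right_comm,
    two_self, zero_add, dg_q, dg_q, ip_evn, ip_evn, h1, h2, h3]

/-- The code word with a given mask. -/
def cw (a : ℕ) (ha : isCode a = true) : Cd :=
  ⟨toWord a, (toWord_mem_golayCode_iff (isCode_lt ha)).mpr ha⟩

open scoped Pointwise in
theorem smul_word {g a b : ℕ} (hg : inM g = true) (ha : isCode a = true) (hb : isCode b = true)
    (h : img g a = b) : toM g • cw a ha = cw b hb := by
  refine Subtype.ext (funext fun p => ?_)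
  show toWord a ((toM g).1⁻¹ p) = toWord b p
  rw [← h, ← indWord_toSet, ← indWord_toSet, ← toM_smul_toSet hg]
  exact if_congr (Finset.inv_smul_mem_iff (a := toM g)) rfl rfl

theorem exists_lift {H : Subgroup El} (h : H ⊔ pr.ker = ⊤) {g : ℕ} (hg : inM g = true)
    (h23 : app g 23 = 23) : ∃ x ∈ H, (toG x.s).1 = toM g := by
  obtain ⟨y, hy⟩ := pr_surj ⟨(toM g).1, (toM g).2,
    (toM_mem_stabilizer_pt hg (i := 23) (by norm_num)).mpr h23⟩
  have h3 : y ∈ H ⊔ pr.ker := h ▸ Subgroup.mem_top y
  rw [← SetLike.mem_coe, Subgroup.mul_normal] at h3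
  obtain ⟨a, ha, n, hn, rfl⟩ := h3
  rw [map_mul, show pr n = 1 from hn, mul_one] at hy
  exact ⟨a, ha, congrArg (fun x => (toG x).1) hy⟩

/-- An element of order eight. -/
def tt : ℕ := 959604117607079146138534446010649995

/-- A square root of its fourth power. -/
def rr : ℕ := 978309965535537318001671285512470563

theorem no_compl (H : Subgroup El) (h1 : H ⊓ pr.ker = ⊥) : H ⊔ pr.ker ≠ ⊤ := fun h2 => by
  have ht : inM tt = true := by decide +kernel
  have hr : inM rr = true := by decide +kernel
  have ht2 := inM_pmul ht ht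
  obtain ⟨x, hx, e1⟩ := exists_lift h2 ht (by decide +kernel)
  obtain ⟨y, hy, e3⟩ := exists_lift h2 hr (by decide +kernel)
  have e2 : (toG (x * x).s).1 = toM (pmul tt tt) := by rw [toM_pmul ht ht, ← e1]; rfl
  have h4 : x * x * (x * x) = y * y := by
    refine mul_inv_eq_one.mp (Subgroup.mem_bot.mp (h1 ▸ Subgroup.mem_inf.mpr ⟨H.mul_mem (H.mul_mem
      (H.mul_mem hx hx) (H.mul_mem hx hx)) (H.inv_mem (H.mul_mem hy hy)), ?_⟩))
    have : (toG (x * x).s).1 * (toG (x * x).s).1 = (toG y.s).1 * (toG y.s).1 := by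
      rw [e2, e3, ← toM_pmul ht2 ht2, ← toM_pmul hr hr]
      exact congrArg toM (by decide +kernel)
    rw [MonoidHom.mem_ker, map_mul, map_inv, mul_inv_eq_one]
    exact Subtype.ext (congrArg (fun z : M24 => z.1) this)
  have ca : isCode 11055264 = true := by decide +kernel
  have cb : isCode 13631886 = true := by decide +kernel
  have cc : isCode (11055264 ^^^ 13631886) = true := by decide +kernel
  have k0 := smul_word hr ca ca (by decide +kernel)
  have k1 := smul_word ht2 ca cb (by decide +kernel)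
  have k2 := smul_word ht2 cb ca (by decide +kernel)
  have k3 := smul_word ht cc cc (by decide +kernel)
  have k4 : cw _ cc = cw _ ca + cw _ cb := Subtype.ext (toWord_xor _ _)
  have k5 : half (cw _ ca).1 (cw _ cb).1 = 1 :=
    (by decide +kernel : half (toWord 11055264) (toWord 13631886) = 1)
  rw [k4] at k3
  generalize cw _ ca = d at *
  generalize cw _ cb = e at *
  have k6 := (x * x).add d e
  have k7 := mul_q (x * x) (x * x) d
  rw [mul_q, e1, k3, two_self, e2, k1, k2, parker.comm, k5] at k6
  rw [h4, e2, k1, mul_q, e3, k0, two_self, add_comm] at k7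
  rw [← k7] at k6
  exact absurd k6 (by decide)

/-- A non-split extension of the Mathieu group M₂₃ by its cocode module exists. There is a finite group E with a normal subgroup N, an isomorphism φ from E/N onto M₂₃ = `Spor.M23` (the stabiliser of the extra point `none` in M₂₄ acting on the 24 points `GolayPt`), and a surjective additive homomorphism θ from the binary words on `GolayPt` onto N whose kernel consists of the words of the Golay code `golayCode` and their translates by the unit vector at `none` (so N is elementary abelian of order 2¹¹), such that θ carries the coordinate permutation w ↦ w ∘ σ⁻¹, σ = φ(gN), to conjugation by g on N — and such that N has no complement in E. -/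
theorem result :
    ∃ (E : Type) (_ : Group E) (_ : Finite E) (N : Subgroup E) (_ : N.Normal)
      (φ : E ⧸ N ≃* ↥Cfsg.Spor.M23) (θ : (Cfsg.GolayPt → ZMod 2) →+ Additive ↥N),
      Function.Surjective θ ∧
      (∀ w : Cfsg.GolayPt → ZMod 2, θ w = 0 ↔ (w ∈ Cfsg.golayCode ∨ w + Pi.single none 1 ∈ Cfsg.golayCode)) ∧
      (∀ (g : E) (w : Cfsg.GolayPt → ZMod 2),
        ((θ (w ∘ ⇑(((φ (QuotientGroup.mk g) : ↥Cfsg.Spor.M23) : Equiv.Perm Cfsg.GolayPt)⁻¹))).toMul : E)
          = g * ((θ w).toMul : E) * g⁻¹) ∧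
      ∀ H : Subgroup E, H ⊓ N = ⊥ → H ⊔ N ≠ ⊤ := by
  exact ⟨El, inferInstance, inferInstance, pr.ker, inferInstance,
    QuotientGroup.quotientKerEquivOfSurjective pr pr_surj, th, th_surj, th_eq_zero, dg_conj,
    no_compl⟩

end Cfsg.Agent.S2650
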