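import Cfsg.Statements.S2652
import Cfsg.Agent.H41.RecS
import Cfsg.Agent.H41.RecK
import Cfsg.Agent.H44.Fi23M
-- import your own Cfsg.Agent.* helpers here

set_option autoImplicit false
open Cfsg

namespace Cfsg.Agent.S2652

/-- Let T be a Sylow 2-subgroup of the Fischer group Fi₂₃ (the finitely presented group `Spor.Fi23`; T has order 2¹⁸). Then every elementary abelian subgroup of Fi₂₃ contained in T and normal in T has order at most 2¹¹, and there is exactly one such subgroup of order 2¹¹. -/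
theorem result
    (T : Sylow 2 Cfsg.Spor.Fi23) :
    (∀ A : Subgroup Cfsg.Spor.Fi23, A ≤ T → (A.subgroupOf T).Normal → Cfsg.IsElementaryAbelian 2 A →
        Nat.card A ≤ 2 ^ 11) ∧
    ∃! A : Subgroup Cfsg.Spor.Fi23, A ≤ T ∧ (A.subgroupOf T).Normal ∧ Cfsg.IsElementaryAbelian 2 A ∧
        Nat.card A = 2 ^ 11 := by
  let e : Cfsg.Agent.H41.L23.F.grp ≃* Cfsg.Spor.Fi23 :=
    (MulEquiv.subgroupCongr Cfsg.Agent.H41.L23.grp_eq).trans Cfsg.Agent.H44.Fi23M.iso.symm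
  have : Finite Cfsg.Spor.Fi23 := Finite.of_equiv _ e.toEquiv
  obtain ⟨R⟩ := Cfsg.Agent.H60.rep_of (G := Cfsg.Spor.Fi23) ⟨e, rfl⟩
  obtain ⟨c, hc⟩ := Cfsg.Agent.H41.Rec.J23.cq.rep_js Cfsg.Agent.H41.Rec.J23.sy R T
  have h1 := (Cfsg.Agent.H41.Rec.card_cjS c _).trans (Cfsg.Agent.H41.Rec.J23.cq.rep_card R)
  exact ⟨fun A hA _ h => h1 ▸ hc.card_le hA (Cfsg.Agent.H41.Rec.ea_iff.mp h),
    _, ⟨hc.1, hc.normal, Cfsg.Agent.H41.Rec.ea_iff.mpr hc.2.1, h1⟩,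
    fun A h => hc.eq h.1 (Cfsg.Agent.H41.Rec.ea_iff.mp h.2.2.1) (h1.trans h.2.2.2.symm).le⟩

end Cfsg.Agent.S2652
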