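import Cfsg.Statements.S2787
import Cfsg.Agent.H51.QdInv
import Cfsg.Agent.H99.Involves
import Cfsg.Agent.H82.Involves
import Cfsg.Agent.H71.Rank2
import Cfsg.Agent.H51.Thompson
import Cfsg.Agent.S0261
import Cfsg.Agent.S1157

set_option autoImplicit false
open Cfsg

namespace Cfsg.Agent.S2787

open Subgroup Matrix MatrixGroups
open scoped commutatorElement

theorem involves_SL2_quot {G : Type*} [Group G] {p : ℕ} [Fact p.Prime] [Finite G] (hp : p ≠ 2)
    {Q H : Subgroup G} (hQ : IsPGroup p Q) (hH : H ≤ normalizer (Q : Set G)) {a : G} (ha : a ∈ H)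
    (hq : ⁅⁅Q, zpowers a⁆, zpowers a⁆ = ⊥)
    (hna : a ∉ H51.opMod p H (centralizer (Q : Set G)))
    [hn : ((centralizer (Q : Set G)).subgroupOf H).Normal] :
    Involves SL(2, ZMod p) (H ⧸ (centralizer (Q : Set G)).subgroupOf H) := by
  obtain ⟨R, N, hRQ, hNR, hc, hpow, u, hu, v, hv, -, -, huN, hvN, h⟩ :=
    H51.exists_qpair_of_not_mem_opMod hp hQ hH ha hq hna
  set M := normalizer (N : Set G) with hM
  have hRM : R ≤ M := by
    intro r hr
    have h1 : ∀ r ∈ R, ∀ n ∈ N, r * n * r⁻¹ ∈ N := by
      intro r hr n hn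
      have := mul_mem (hc (commutator_mem_commutator hr (hNR hn))) hn
      simpa [commutatorElement_def, mul_assoc] using this
    rw [hM, mem_normalizer_iff]
    intro n
    refine ⟨h1 r hr n, fun hn => ?_⟩
    have := h1 r⁻¹ (inv_mem hr) _ hn
    simpa [mul_assoc] using this
  have h1 : H51.QPair (R.subgroupOf M) (N.subgroupOf M) ⟨u, huN⟩ ⟨v, hvN⟩ :=
    H51.QPair.of_map M.subtype (by rwa [map_subgroupOf_eq_of_le hRM])
  have h2 := h1.map (QuotientGroup.mk' (N.subgroupOf M)) (QuotientGroup.ker_mk' _).le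
  rw [(Subgroup.map_eq_bot_iff _).mpr (QuotientGroup.ker_mk' _).ge] at h2
  obtain ⟨e, he, f, hf, h3⟩ := h2.exists_natPair (p := p) (by
      rw [← Subgroup.map_commutator, le_bot_iff, Subgroup.map_eq_bot_iff, QuotientGroup.ker_mk',
        commutator_le]
      intro x hx y hy
      exact hc (commutator_mem_commutator hx hy))
    (by
      rintro _ ⟨x, hx, rfl⟩
      rw [← map_pow]
      exact (QuotientGroup.eq_one_iff _).mpr (hpow _ hx))
  let φ : ↥(H ⊓ M) →* M ⧸ N.subgroupOf M :=
    (QuotientGroup.mk' _).comp (inclusion inf_le_right)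
  have hs := H51.NatPair.snd_surjective (X := ↥(H ⊓ M)) φ (u := ⟨u, hu, huN⟩) (v := ⟨v, hv, hvN⟩) h3
  let π : H51.actGraph φ p e f →* H ⧸ (centralizer (Q : Set G)).subgroupOf H :=
    (QuotientGroup.mk' _).comp ((inclusion inf_le_left).comp
      ((MonoidHom.fst _ _).comp (H51.actGraph φ p e f).subtype))
  refine H82.involves_of_ker_le π _ hs ?_
  rintro ⟨⟨x, A⟩, hz⟩ hx
  have hx1 : (x : G) ∈ centralizer (Q : Set G) := by
    have : (QuotientGroup.mk (inclusion inf_le_left x) :
        H ⧸ (centralizer (Q : Set G)).subgroupOf H) = 1 := hx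
    rw [QuotientGroup.eq_one_iff] at this
    exact this
  have hcm : ∀ y ∈ (R.subgroupOf M).map (QuotientGroup.mk' (N.subgroupOf M)), Commute (φ x) y := by
    rintro _ ⟨y, hy, rfl⟩
    have : Commute (inclusion inf_le_right x : M) y :=
      Subtype.ext (hx1 y (hRQ hy)).symm
    exact this.map (QuotientGroup.mk' (N.subgroupOf M))
  have hA : A = 1 := by
    apply Subtype.ext
    refine Matrix.ext_of_mulVec_single fun i => ?_
    have h4 := hz (Pi.single i 1)
    have h5 : Commute (φ x) (H51.crd e f (Pi.single i (1 : ZMod p))) :=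
      ((hcm e he).pow_right _).mul_right ((hcm f hf).pow_right _)
    simp only [h5.eq, mul_inv_cancel_right] at h4
    rw [← h3.crd_injective h4]
    exact (one_mulVec _).symm
  exact hA

/-- elements of order at least four commute -/
def NoQ (T : Type*) [Group T] : Prop := ∀ x y : T, x * x ≠ 1 → y * y ≠ 1 → x * y = y * x

theorem not_involves_quat {T : Type*} [Group T] (h : NoQ T) {k : ℕ} (hk : 1 ≤ k) :
    ¬ Involves (QuaternionGroup (2 ^ k)) T := by
  intro hi
  obtain ⟨K, f, hf⟩ := H99.involves_iff.1 hi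
  obtain ⟨x, hx⟩ := hf (QuaternionGroup.xa 0)
  obtain ⟨y, hy⟩ := hf (QuaternionGroup.a 1)
  have h4 : 4 ≤ 2 * 2 ^ k := by
    have : 2 ^ 1 ≤ 2 ^ k := Nat.pow_le_pow_right two_pos hk
    omega
  have h2 : (2 : ZMod (2 * 2 ^ k)) ≠ 0 := by
    intro h0
    have : ((2 : ℕ) : ZMod (2 * 2 ^ k)) = 0 := by exact_mod_cast h0
    rw [ZMod.natCast_eq_zero_iff] at this
    have := Nat.le_of_dvd two_pos this
    omega
  have hn : ((2 ^ k : ℕ) : ZMod (2 * 2 ^ k)) ≠ 0 := by
    intro h0
    rw [ZMod.natCast_eq_zero_iff] at h0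
    have := Nat.le_of_dvd (by positivity) h0
    omega
  have hx2 : (x : T) * x ≠ 1 := by
    intro h0
    have : f x * f x = 1 := by rw [← map_mul, show x * x = 1 from Subtype.ext h0, map_one]
    rw [hx, QuaternionGroup.xa_mul_xa, QuaternionGroup.one_def] at this
    apply hn
    simpa using QuaternionGroup.a.inj this
  have hy2 : (y : T) * y ≠ 1 := by
    intro h0
    have : f y * f y = 1 := by rw [← map_mul, show y * y = 1 from Subtype.ext h0, map_one]
    rw [hy, QuaternionGroup.a_mul_a, QuaternionGroup.one_def] at this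
    apply h2
    rw [← QuaternionGroup.a.inj this]; norm_num
  have h5 : f x * f y = f y * f x := by
    rw [← map_mul, ← map_mul, show x * y = y * x from Subtype.ext (h _ _ hx2 hy2)]
  rw [hx, hy, QuaternionGroup.xa_mul_a, QuaternionGroup.a_mul_xa] at h5
  apply h2
  have := QuaternionGroup.xa.inj h5
  linear_combination this

theorem not_involves_SL2 {X : Type*} [Group X] [Finite X] (T : Sylow 2 X) (h : NoQ T)
    {p : ℕ} [Fact p.Prime] (hp : p ≠ 2) : ¬ Involves SL(2, ZMod p) X := by
  intro hi
  obtain ⟨P⟩ : Nonempty (Sylow 2 SL(2, ZMod p)) := inferInstance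
  obtain ⟨k, hk, ⟨e⟩⟩ := S0261.result (F := ZMod p)
    (by rw [ZMod.card]; exact (Fact.out : p.Prime).odd_of_ne_two hp) P
  have h1 : Involves (P : Subgroup SL(2, ZMod p)) X :=
    H99.involves_trans (H99.involves_subgroup _) hi
  have h2 := H99.involves_sylow_of_isPGroup P.isPGroup' h1 T
  exact not_involves_quat h hk ((H99.involves_congr_left e).1 h2)

theorem noQ_psl {F : Type*} [Field F] [Fintype F] (hF : Odd (Fintype.card F)) :
    ∃ T : Sylow 2 (ProjectiveSpecialLinearGroup (Fin 2) F), NoQ T := by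
  obtain ⟨P⟩ : Nonempty (Sylow 2 SL(2, F)) := inferInstance
  obtain ⟨k, hk, ⟨e⟩⟩ := S0261.result hF P
  have hs : Function.Surjective (QuotientGroup.mk' (center SL(2, F))) :=
    QuotientGroup.mk'_surjective _
  refine ⟨P.mapSurjective hs, ?_⟩
  have key : ∀ x : P, (QuotientGroup.mk' (center SL(2, F))) (x * x : SL(2, F)) ≠ 1 →
      ∃ i, e x = QuaternionGroup.a i := by
    intro x hx
    rcases hex : e x with i | i
    · exact ⟨i, rfl⟩
    · exfalso
      apply hx
      have h4 : ((x * x : P) : SL(2, F)) * ((x * x : P) : SL(2, F)) = 1 := by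
        have : (x * x) * (x * x) = 1 := by
          apply e.injective
          simp only [map_mul, hex, QuaternionGroup.xa_mul_xa, QuaternionGroup.a_mul_a, map_one,
            QuaternionGroup.one_def]
          congr 1
          have : ((2 * 2 ^ k : ℕ) : ZMod (2 * 2 ^ k)) = 0 := ZMod.natCast_self _
          push_cast at this ⊢
          linear_combination this
        exact congrArg Subtype.val this
      rw [QuotientGroup.mk'_apply, QuotientGroup.eq_one_iff]
      set A : SL(2, F) := ((x * x : P) : SL(2, F)) with hA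
      change A ∈ _
      have hd := A.det_coe
      rw [Matrix.det_fin_two] at hd
      have h5 : A.1 * A.1 = 1 := congrArg Subtype.val h4
      have e00 : A.1 0 0 * A.1 0 0 + A.1 0 1 * A.1 1 0 = 1 := by
        simpa [Matrix.mul_apply, Fin.sum_univ_two] using congrFun (congrFun h5 0) 0
      have e01 : A.1 0 0 * A.1 0 1 + A.1 0 1 * A.1 1 1 = 0 := by
        simpa [Matrix.mul_apply, Fin.sum_univ_two] using congrFun (congrFun h5 0) 1
      have e10 : A.1 1 0 * A.1 0 0 + A.1 1 1 * A.1 1 0 = 0 := by
        simpa [Matrix.mul_apply, Fin.sum_univ_two] using congrFun (congrFun h5 1) 0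
      have e11 : A.1 1 0 * A.1 0 1 + A.1 1 1 * A.1 1 1 = 1 := by
        simpa [Matrix.mul_apply, Fin.sum_univ_two] using congrFun (congrFun h5 1) 1
      have h2 : (2 : F) ≠ 0 := by
        intro h0
        have : CharP F 2 := by
          have := (CharP.charP_iff_prime_eq_zero (R := F) Nat.prime_two).2 (by exact_mod_cast h0)
          exact this
        obtain ⟨n, -, hn⟩ := FiniteField.card F 2
        rw [hn] at hF
        exact (Nat.not_even_iff_odd.2 hF) ((Nat.even_pow' n.ne_zero).2 even_two)
      have ht : A.1 0 0 + A.1 1 1 ≠ 0 := by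
        intro h0
        apply h2
        linear_combination (-1 : F) * e00 - hd + A.1 0 0 * h0
      have hb : A.1 0 1 = 0 := by
        apply mul_left_cancel₀ ht
        linear_combination e01
      have hc : A.1 1 0 = 0 := by
        apply mul_left_cancel₀ ht
        linear_combination e10
      have hd' : A.1 0 0 = A.1 1 1 := by
        apply mul_left_cancel₀ ht
        linear_combination e00 - e11
      rw [mem_center_iff]
      intro B
      ext i j
      fin_cases i <;> fin_cases j <;>
        simp [Matrix.mul_apply, Fin.sum_univ_two, hb, hc, hd', mul_comm]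
  rintro ⟨_, x, hx, rfl⟩ ⟨_, y, hy, rfl⟩ h1 h2
  obtain ⟨i, hi⟩ := key ⟨x, hx⟩ fun h => h1 (Subtype.ext (by rw [map_mul] at h; exact h))
  obtain ⟨j, hj⟩ := key ⟨y, hy⟩ fun h => h2 (Subtype.ext (by rw [map_mul] at h; exact h))
  have : (⟨x, hx⟩ : P) * ⟨y, hy⟩ = ⟨y, hy⟩ * ⟨x, hx⟩ := by
    apply e.injective
    rw [map_mul, map_mul, hi, hj, QuaternionGroup.a_mul_a, QuaternionGroup.a_mul_a, add_comm]
  have h3 : x * y = y * x := congrArg Subtype.val this
  apply Subtype.ext
  change QuotientGroup.mk' _ x * QuotientGroup.mk' _ y = QuotientGroup.mk' _ y * QuotientGroup.mk' _ x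
  rw [← map_mul, ← map_mul, h3]

/-- Let p be a prime and let H act by conjugation on the elementary abelian p-subgroup V of a finite group, irreducibly (no H-invariant subgroups of V other than 1 and V) and nontrivially, and suppose H/C_H(V) is isomorphic to PSL₂(F) for a field F with p^n elements, p^n odd, or p = 3 and H/C_H(V) is isomorphic to a Ree group ²G₂(3^(2m+1)), m ≥ 1. Then no subgroup A of H acting nontrivially on V acts quadratically: [V, A, A] = 1 forces [V, A] = 1. -/
theorem result {G : Type*} [Group G] [Finite G] {p : ℕ} [Fact p.Prime] (V H : Subgroup G) (hV : Cfsg.IsElementaryAbelian p V) (hHV : H ≤ Subgroup.normalizer (V : Set G)) (hirr : ∀ U : Subgroup G, U ≤ V → H ≤ Subgroup.normalizer (U : Set G) → U = ⊥ ∨ U = V) (hnt : ¬ H ≤ Subgroup.centralizer (V : Set G)) [hn : ((Subgroup.centralizer (V : Set G)).subgroupOf H).Normal] (hq : (∃ (F : Type) (_ : Field F) (_ : Fintype F) (n : ℕ), Fintype.card F = p ^ n ∧ Odd (Fintype.card F) ∧ Nonempty (↥H ⧸ (Subgroup.centralizer (V : Set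 G)).subgroupOf H ≃* Matrix.ProjectiveSpecialLinearGroup (Fin 2) F)) ∨ (p = 3 ∧ Cfsg.Lie.IsoRee (↥H ⧸ (Subgroup.centralizer (V : Set G)).subgroupOf H))) (A : Subgroup G) (hA : A ≤ H) (hquad : ⁅⁅V, A⁆, A⁆ = ⊥) : ⁅V, A⁆ = ⊥ := by
  have hp : p ≠ 2 := by
    rcases hq with ⟨F, _, _, n, hn, ho, -⟩ | ⟨rfl, -⟩
    · rintro rfl
      rcases n with _ | n
      · exact Fintype.one_lt_card.ne' hn
      · rw [hn] at ho
        exact (Nat.not_even_iff_odd.2 ho) ((Nat.even_pow' (Nat.succ_ne_zero n)).2 even_two)
    · decide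
  have hfree : ¬ Involves SL(2, ZMod p) (H ⧸ (centralizer (V : Set G)).subgroupOf H) := by
    rcases hq with ⟨F, _, _, n, hn, ho, ⟨e⟩⟩ | ⟨-, K, _, _, m, hm, hK, ⟨e⟩⟩
    · rw [H99.involves_congr_right e]
      obtain ⟨T, hT⟩ := noQ_psl ho
      exact not_involves_SL2 T hT hp
    · rw [H99.involves_congr_right e]
      obtain ⟨T⟩ : Nonempty (Sylow 2 (Lie.twistedG2 K (3 ^ m))) := inferInstance
      refine not_involves_SL2 T (fun x y _ _ => Subtype.ext ?_) hp
      have := (S1157.result hm hK T).1
      have hx : (x : Lie.twistedG2 K (3 ^ m)) ∈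
          centralizer ((T : Subgroup (Lie.twistedG2 K (3 ^ m))) : Set (Lie.twistedG2 K (3 ^ m))) := by
        rw [this]; exact x.2
      exact (hx y y.2).symm
  have hVp := H51.isEA_isPGroup hV
  have hV1 : V ≠ ⊥ := by
    rintro rfl
    exact hnt fun x _ => by simp [mem_centralizer_iff]
  have hHC : H ≤ normalizer (centralizer (V : Set G) : Set G) :=
    hHV.trans (H51.normalizer_le_normalizer_centralizer' V)
  have hop : H51.opMod p H (centralizer (V : Set G)) ≤ centralizer (V : Set G) := by
    set D := H51.opMod p H (centralizer (V : Set G)) with hD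
    have h1 : V ⊓ centralizer (D : Set G) ≠ ⊥ :=
      H71.inf_cent_ne_bot_of_pow hVp ((H51.opMod_le _ _ _).trans hHV)
        (fun x hx => H51.exists_pow_mem_of_mem_opMod hHC hx) hV1
    have h2 : H ≤ normalizer ((V ⊓ centralizer (D : Set G) : Subgroup G) : Set G) := by
      have h3 : H ≤ normalizer (centralizer (D : Set G) : Set G) :=
        (H51.le_normalizer_opMod p H _).trans (H51.normalizer_le_normalizer_centralizer' D)
      intro h hh
      rw [mem_normalizer_iff]
      intro x
      rw [mem_inf, mem_inf, ← mem_normalizer_iff.1 (hHV hh) x, ← mem_normalizer_iff.1 (h3 hh) x]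
    have h4 := (hirr _ inf_le_left h2).resolve_left h1
    exact le_centralizer_iff.1 (h4.ge.trans inf_le_right)
  rw [commutator_eq_bot_iff_le_centralizer, le_centralizer_iff]
  intro a ha
  by_contra hc
  have hza : zpowers a ≤ A := (zpowers_le_of_mem ha)
  refine hfree (involves_SL2_quot hp hVp hHV (hA ha) ?_ fun h => hc (hop h))
  exact le_bot_iff.1 (hquad ▸ commutator_mono (commutator_mono le_rfl hza) hza)

end Cfsg.Agent.S2787
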