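import Cfsg.Statements.S2803
import Cfsg.Agent.H83.PRed

set_option autoImplicit false
open Cfsg

namespace Cfsg.Agent.S2803

open Subgroup Cfsg.Agent.H83

/-- Let L be a finite group and p a prime with C_L(O_p(L)) ≤ O_p(L), T a Sylow p-subgroup, and Y the largest p-reduced normal subgroup of L. Put T_L = C_T(Y) and L_T = N_L(T_L). Then L = L_T · C_L(Y) (elementwise), T_L = O_p(L_T), and Y = Ω₁(Z(T_L)). -/
theorem result {L : Type*} [Group L] [Finite L] {p : ℕ} [Fact p.Prime] (hchar : Subgroup.centralizer (Cfsg.pCore p L : Set L) ≤ Cfsg.pCore p L) (T : Sylow p L) (Y : Subgroup L) (hY : (Cfsg.IsPReducedNormal p Y ∧ ∀ V : Subgroup L, Cfsg.IsPReducedNormal p V → V ≤ Y)) (TL : Subgroup L) (hTL : TL = (T : Subgroup L) ⊓ Subgroup.centralizer (Y : Set L)) : (∀ g : L, ∃ a ∈ Subgroup.normalizer (TL : Set L), ∃ c ∈ Subgroup.centralizer (Y : Set L), g = a * c) ∧ (Cfsg.pCore p ↥(Subgroup.normalizer (TL : Set L))).map (Subgroup.normalizer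 (TL : Set L)).subtype = TL ∧ Y = Cfsg.omegaOne p (TL ⊓ Subgroup.centralizer (TL : Set L)) := by
  have hYY : Y = YY p ⊤ :=
    le_antisymm (pRed_top.mpr hY.1).le_YY (hY.2 _ (pRed_top.mp (pRed_YY ⊤)))
  subst hYY
  have hT := isSylowIn_top T
  have hS := hT.inf_cent (le_norm_YY (p := p) (⊤ : Subgroup L))
  rw [← hTL, top_inf_eq] at hS
  have e := norm_sup_cent_eq hT (le_norm_YY (p := p) (⊤ : Subgroup L))
  rw [← hTL, top_inf_eq] at e
  refine ⟨fun g => hS.frattini' ((pRed_YY ⊤).norm_cent (mem_top g)), ?_, ?_⟩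
  · refine pCoreOf_eq_of_red ((pRed_YY ⊤).red.of_sup_eq (pRed_YY ⊤).norm_cent e) ?_ le_rfl
    exact hS.mono (le_inf le_normalizer hS.le) inf_le_right
  · rw [hTL]; exact YY_eq_OZ (charP_top.mpr hchar) hT

end Cfsg.Agent.S2803
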