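import Cfsg.Statements.S3028
import Cfsg.Agent.H1.Zipper
import Cfsg.Agent.H52.FStar
import Cfsg.Agent.H53.Basic
import Cfsg.Agent.H4.CoprimeAction

set_option autoImplicit false
open Cfsg

namespace Cfsg.Agent.S3028

open Subgroup

universe u

/-- The case where `B` normalizes `A` and meets it trivially. -/
theorem normal_case {G : Type*} [Group G] [Finite G] {p : ℕ} [Fact p.Prime] (S : Sylow p G)
    {A B : Subgroup G} (hA : A.IsSubnormal) (hB : B.IsSubnormal) (hn : B ≤ normalizer (A : Set G))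
    (hd : A ⊓ B = ⊥) : (A ⊔ B) ⊓ (S : Subgroup G) ≤ (A ⊓ S) ⊔ (B ⊓ S) := by
  have hp : p.Prime := Fact.out
  have hrel : ∀ C : Subgroup G, C.IsSubnormal → ¬ p ∣ (S : Subgroup G).relIndex C := fun C hC => by
    obtain ⟨Q, hQ⟩ := H1.exists_sylow_eq_subgroupOf_of_isSubnormal hC S
    rw [relIndex, ← hQ]; exact Q.not_dvd_index
  have hdisj : Disjoint A B := disjoint_iff.mpr hd
  have h1 : Nat.card (A ⊔ B : Subgroup G) = Nat.card ((A ⊓ S) ⊔ (B ⊓ S) : Subgroup G) *
      ((S : Subgroup G).relIndex A * (S : Subgroup G).relIndex B) := by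
    rw [H4.card_sup_of_le_normalizer hn hdisj, H4.card_sup_of_le_normalizer
      (H4.le_normalizer_inf (inf_le_left.trans hn) (inf_le_right.trans le_normalizer))
      (hdisj.mono inf_le_left inf_le_left), ← H53.card_inf_mul_relIndex S A,
      ← H53.card_inf_mul_relIndex S B, inf_comm A, inf_comm B]
    ring
  have hle : (A ⊓ S) ⊔ (B ⊓ S) ≤ (A ⊔ B) ⊓ (S : Subgroup G) :=
    sup_le (inf_le_inf_right _ le_sup_left) (inf_le_inf_right _ le_sup_right)
  refine (eq_of_le_of_card_ge hle (Nat.le_of_dvd Nat.card_pos ?_)).ge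
  obtain ⟨k, hk⟩ := (S.isPGroup'.to_le (inf_le_right : (A ⊔ B) ⊓ (S : Subgroup G) ≤ S)).exists_card_eq
  have h2 : Nat.card ((A ⊔ B) ⊓ (S : Subgroup G) : Subgroup G) ∣ Nat.card (A ⊔ B : Subgroup G) :=
    card_dvd_of_le inf_le_left
  rw [h1] at h2
  refine Nat.Coprime.dvd_of_dvd_mul_right ?_ h2
  rw [hk]
  exact Nat.Coprime.pow_left _ (hp.coprime_iff_not_dvd.mpr fun h =>
    (hp.dvd_mul.mp h).elim (hrel A hA) (hrel B hB))

/-- One half of the analysis of an extremal counterexample. -/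
theorem half {G : Type*} [Group G] [Finite G] {p : ℕ} [Fact p.Prime] (S : Sylow p G)
    (hsub : ∀ M A B : Subgroup G, M.IsSubnormal → M ≠ ⊤ → A.IsSubnormal → B.IsSubnormal → A ≤ M →
      B ≤ M → (A ⊔ B) ⊓ (S : Subgroup G) ≤ (A ⊓ S) ⊔ (B ⊓ S))
    {A B : Subgroup G} (hA : A.IsSubnormal) (hB : B.IsSubnormal) (hAt : A ≠ ⊤)
    (hmax : ∀ A' : Subgroup G, A'.IsSubnormal → A ≤ A' → A' ⊓ S ≤ (A ⊓ S) ⊔ (B ⊓ S) → A' = A) :
    (∀ M : Subgroup G, M.Normal → M ≠ ⊤ → A ≤ M → B ⊓ M ≤ A) ∧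
      B ≤ normalizer ((A ⊓ B : Subgroup G) : Set G) ∧ B ⊓ S ≤ normalizer (A : Set G) := by
  have h1 : ∀ M : Subgroup G, M.Normal → M ≠ ⊤ → A ≤ M → B ⊓ M ≤ A := fun M hM hMt hAM => by
    have hBM : (B ⊓ M).IsSubnormal := hB.inf hM.isSubnormal
    refine le_sup_right.trans (hmax (A ⊔ (B ⊓ M))
      ((H1.SnIn.of_isSubnormal hA).sup (H1.SnIn.of_isSubnormal hBM)).isSubnormal le_sup_left ?_).le
    exact (hsub M A _ hM.isSubnormal hMt hA hBM hAM inf_le_right).trans
      (sup_le_sup_left (inf_le_inf_right _ inf_le_left) _)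
  obtain ⟨M, hAM, hMt, hM⟩ := (H1.SnIn.of_isSubnormal hA).exists_normal_lt hAt
  have hMn : M.Normal := H52.normal_of_top_le_normalizer hM
  refine ⟨h1, ?_, ?_⟩
  · have : A ⊓ B = B ⊓ M := le_antisymm (le_inf inf_le_right (inf_le_left.trans hAM.le))
      (le_inf (h1 M hMn hMt.ne hAM.le) inf_le_left)
    rw [this]
    exact H4.le_normalizer_inf le_normalizer (le_top.trans hM)
  · refine H52.le_normalizer_of_forall_map_conj_le fun t ht => ?_
    have hA' : (A.map (MulAut.conj t).toMonoidHom).IsSubnormal := hA.map (MulAut.conj t).surjective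
    refine le_sup_right.trans (hmax _
      ((H1.SnIn.of_isSubnormal hA).sup (H1.SnIn.of_isSubnormal hA')).isSubnormal le_sup_left ?_).le
    refine (hsub M A _ hMn.isSubnormal hMt.ne hA hA' hAM.le ?_).trans (sup_le le_sup_left ?_)
    · rintro _ ⟨a, ha, rfl⟩
      exact hMn.conj_mem _ (hAM.le ha) t
    · rintro _ ⟨⟨a, ha, rfl⟩, h2⟩
      change t * a * t⁻¹ ∈ (S : Subgroup G) at h2
      have htS : t ∈ (S : Subgroup G) := ht.2
      have h3 : a ∈ (S : Subgroup G) :=
        (mul_mem_cancel_left htS).mp ((mul_mem_cancel_right (inv_mem htS)).mp h2)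
      exact mul_mem (mul_mem (mem_sup_right ht) (mem_sup_left ⟨ha, h3⟩)) (inv_mem (mem_sup_right ht))

theorem half2 {G : Type*} [Group G] [Finite G] {p : ℕ} [Fact p.Prime] (S : Sylow p G)
    {A B : Subgroup G} (hA : A.IsSubnormal) (hB : B.IsSubnormal) (hAt : A ≠ ⊤) (hd : A ⊓ B = ⊥)
    (h1 : ∀ M : Subgroup G, M.Normal → M ≠ ⊤ → A ≤ M → B ⊓ M ≤ A)
    (h2 : B ⊓ S ≤ normalizer (A : Set G)) :
    B ≤ normalizer (A : Set G) ∨ B ≤ pPrimeCore p G := by
  by_cases hB1 : B = ⊥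
  · left; rw [hB1]; exact bot_le
  have h0 : ∀ M : Subgroup G, M.Normal → M ≠ ⊤ → A ≤ M → B ⊓ M = ⊥ := fun M hM hMt hAM =>
    le_bot_iff.mp (hd ▸ le_inf (h1 M hM hMt hAM) inf_le_left)
  obtain ⟨M, hAM, hMt, hM⟩ := (H1.SnIn.of_isSubnormal hA).exists_normal_lt hAt
  have hMn : M.Normal := H52.normal_of_top_le_normalizer hM
  have hs : IsSimpleGroup B := by
    have : Nontrivial B := (nontrivial_iff_ne_bot B).mpr hB1
    refine ⟨fun K hK => ?_⟩
    have hKs : (K.map B.subtype).IsSubnormal :=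
      H52.isSubnormal_of_le_normalizer hB (map_subtype_le K) (H52.le_normalizer_map_subtype K)
    by_cases htop : A ⊔ K.map B.subtype = ⊤
    · right
      rw [eq_top_iff]
      intro b _
      have : (b : G) ∈ M ⊔ K.map B.subtype := sup_le_sup_right hAM.le _ (htop ▸ mem_top _)
      obtain ⟨m, hm, _, ⟨k, hk, rfl⟩, e⟩ := (H4.mem_sup_iff_of_le_normalizer (le_top.trans hM)).mp this
      have hm1 : m ∈ B ⊓ M := ⟨(mul_mem_cancel_right k.2).mp (by
        change m * (k : G) = b at e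
        rw [e]; exact b.2), hm⟩
      rw [h0 M hMn hMt.ne hAM.le, mem_bot] at hm1
      rw [hm1, one_mul] at e
      rwa [← Subtype.ext e]
    · left
      obtain ⟨M₁, h3, h4, h5⟩ :=
        ((H1.SnIn.of_isSubnormal hA).sup (H1.SnIn.of_isSubnormal hKs)).exists_normal_lt htop
      have := h0 M₁ (H52.normal_of_top_le_normalizer h5) h4.ne (le_sup_left.trans h3.le)
      rw [← map_eq_bot_iff_of_injective _ (subtype_injective B), eq_bot_iff, ← this]
      exact le_inf (map_subtype_le K) (le_sup_right.trans h3.le)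
  by_cases hab : IsMulCommutative B
  · have hq : (Nat.card B).Prime := by
      let _ : CommGroup B := { mul_comm := hab.is_comm.comm }
      exact IsSimpleGroup.prime_card
    by_cases hqp : Nat.card B = p
    · left
      refine le_trans (le_inf le_rfl ?_) h2
      exact (H52.le_pCore_of_subnormal hB (IsPGroup.of_card (n := 1) (by rw [hqp, pow_one]))).trans
        (H52.pCore_le_sylow S)
    · exact Or.inr (H52.le_pPrimeCore_of_subnormal hB ((Nat.coprime_primes hq Fact.out).mpr hqp))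
  · left
    have hc : IsComponent B := ⟨hB, H52.isQuasisimple_of_isSimpleGroup hab⟩
    rcases H52.IsComponent.le_or_commutator_eq_bot hc hA with h | h
    · exact h.trans le_normalizer
    · exact H52.le_normalizer_of_commutator_eq_bot h

theorem aux {p : ℕ} [Fact p.Prime] (n : ℕ) : ∀ {G : Type u} [Group G] [Finite G],
    Nat.card G = n → ∀ (S : Sylow p G) (A B : Subgroup G), A.IsSubnormal → B.IsSubnormal →
    (A ⊔ B) ⊓ (S : Subgroup G) ≤ (A ⊓ S) ⊔ (B ⊓ S) := by
  induction n using Nat.strong_induction_on with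
  | _ n ih =>
  intro G _ _ hn S
  have hsub : ∀ M A B : Subgroup G, M.IsSubnormal → M ≠ ⊤ → A.IsSubnormal → B.IsSubnormal → A ≤ M →
      B ≤ M → (A ⊔ B) ⊓ (S : Subgroup G) ≤ (A ⊓ S) ⊔ (B ⊓ S) := by
    intro M A B hM hMt hA hB hAM hBM
    obtain ⟨Q, hQ⟩ := H1.exists_sylow_eq_subgroupOf_of_isSubnormal hM S
    have := ih _ (hn ▸ H52.card_lt_card_of_ne_top hMt) (G := M) rfl Q (A.subgroupOf M)
      (B.subgroupOf M) hA.subgroupOf hB.subgroupOf
    intro x hx
    have hxM : x ∈ M := sup_le hAM hBM hx.1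
    have h1 := this (x := ⟨x, hxM⟩) ⟨by
      rw [← subgroupOf_sup hAM hBM]; exact hx.1, by rw [hQ]; exact hx.2⟩
    rw [hQ] at h1
    have h2 := mem_map_of_mem M.subtype h1
    rw [Subgroup.map_sup] at h2
    refine (sup_le_sup ?_ ?_ : _ ≤ (A ⊓ S) ⊔ (B ⊓ S)) h2 <;>
    · rintro _ ⟨y, hy, rfl⟩; exact hy
  suffices key : ∀ (m : ℕ) (A B : Subgroup G), A.index + B.index = m → A.IsSubnormal →
      B.IsSubnormal → (A ⊔ B) ⊓ (S : Subgroup G) ≤ (A ⊓ S) ⊔ (B ⊓ S) from
    fun A B => key _ A B rfl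
  intro m
  induction m using Nat.strong_induction_on with
  | _ m ihm =>
  intro A B hm hA hB
  by_contra hcon
  have hJ : A ⊔ B = ⊤ := by
    by_contra hJ
    exact hcon (hsub _ A B ((H1.SnIn.of_isSubnormal hA).sup (H1.SnIn.of_isSubnormal hB)).isSubnormal
      hJ hA hB le_sup_left le_sup_right)
  have hAt : A ≠ ⊤ := by
    rintro rfl
    exact hcon (le_sup_of_le_left (inf_le_inf_right _ le_top))
  have hBt : B ≠ ⊤ := by
    rintro rfl
    exact hcon (le_sup_of_le_right (inf_le_inf_right _ le_top))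
  obtain ⟨a1, a2, a3⟩ := half S hsub hA hB hAt (fun A' hA' hle h => by
    by_contra hne
    have hlt : A'.index < A.index := index_strictAnti (lt_of_le_of_ne hle (Ne.symm hne))
    exact hcon ((inf_le_inf_right _ (sup_le_sup_right hle _)).trans
      ((ihm _ (by omega) A' B rfl hA' hB).trans (sup_le h le_sup_right))))
  obtain ⟨b1, b2, b3⟩ := half S hsub hB hA hBt (fun B' hB' hle h => by
    by_contra hne
    have hlt : B'.index < B.index := index_strictAnti (lt_of_le_of_ne hle (Ne.symm hne))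
    exact hcon ((inf_le_inf_right _ (sup_le_sup_left hle _)).trans
      ((ihm _ (by omega) A B' rfl hA hB').trans (sup_le le_sup_left (h.trans (sup_comm _ _).le)))))
  rw [inf_comm] at b2
  have hD : (A ⊓ B).Normal := H52.normal_of_top_le_normalizer (hJ ▸ sup_le b2 a2)
  have hd : A ⊓ B = ⊥ := by
    by_contra hd
    let π := QuotientGroup.mk' (A ⊓ B)
    have hπ : Function.Surjective π := QuotientGroup.mk'_surjective _
    have := ih _ (hn ▸ H52.card_quotient_lt hd) (G := G ⧸ (A ⊓ B)) rfl (S.mapSurjective hπ)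
      (A.map π) (B.map π) (hA.map hπ) (hB.map hπ)
    have h2 : ∀ C : Subgroup G, A ⊓ B ≤ C → C.map π ⊓ (S : Subgroup G).map π ≤ (C ⊓ S).map π := by
      rintro C hC _ ⟨⟨c, hc, rfl⟩, s, hs, e⟩
      refine ⟨s, ⟨?_, hs⟩, e⟩
      have hc' : c ∈ C := hc
      have h0 : s⁻¹ * c ∈ C := hC (QuotientGroup.eq.mp e)
      exact C.inv_mem_iff.mp ((C.mul_mem_cancel_right hc').mp h0)
    refine hcon fun x hx => ?_
    have h3 := this (x := π x) ⟨by rw [← Subgroup.map_sup]; exact mem_map_of_mem _ hx.1,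
      mem_map_of_mem _ hx.2⟩
    have h4 := (sup_le_sup (h2 A inf_le_left) (h2 B inf_le_right) : _ ≤ (_ : Subgroup _)) h3
    rw [← Subgroup.map_sup] at h4
    obtain ⟨t, ht, e⟩ := h4
    have h5 : t⁻¹ * x ∈ A ⊓ B := QuotientGroup.eq.mp e
    have h6 : t⁻¹ * x ∈ (S : Subgroup G) :=
      mul_mem (inv_mem ((sup_le inf_le_right inf_le_right : _ ≤ (S : Subgroup G)) ht)) hx.2
    rw [← mul_inv_cancel_left t x]
    exact mul_mem ht (mem_sup_left ⟨h5.1, h6⟩)
  have hd' : B ⊓ A = ⊥ := by rw [inf_comm, hd]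
  rcases half2 S hA hB hAt hd a1 a3 with h | h
  · exact hcon (normal_case S hA hB h hd)
  rcases half2 S hB hA hBt hd' b1 b3 with h' | h'
  · have := normal_case S hB hA h' hd'
    rw [sup_comm, sup_comm (B ⊓ S)] at this
    exact hcon this
  · refine hcon fun x hx => ?_
    have : x ∈ (S : Subgroup G) ⊓ pPrimeCore p G := ⟨hx.2, sup_le h' h hx.1⟩
    rw [H52.inf_eq_bot_of_isPGroup_of_coprime S.isPGroup' H52.coprime_card_pPrimeCore, mem_bot] at this
    rw [this]; exact one_mem _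

/-- Let G be a finite group, p a prime, S a Sylow p-subgroup of G and A₁, A₂ subnormal subgroups of G. Then the join of S ∩ A₁ and S ∩ A₂ is a Sylow p-subgroup of the join of A₁ and A₂; equivalently ⟨A₁, A₂⟩ ∩ S = ⟨A₁ ∩ S, A₂ ∩ S⟩. -/
theorem result {G : Type*} [Group G] [Finite G] {p : ℕ} [Fact p.Prime] (S : Sylow p G) (A₁ A₂ : Subgroup G)
    (h₁ : A₁.IsSubnormal) (h₂ : A₂.IsSubnormal) :
    (A₁ ⊔ A₂) ⊓ (S : Subgroup G) = (A₁ ⊓ (S : Subgroup G)) ⊔ (A₂ ⊓ (S : Subgroup G)) := by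
  exact le_antisymm (aux _ rfl S A₁ A₂ h₁ h₂)
    (sup_le (inf_le_inf_right _ le_sup_left) (inf_le_inf_right _ le_sup_right))

end Cfsg.Agent.S3028
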