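import Cfsg.Statements.S2806
import Cfsg.Agent.H83.Parab
import Cfsg.Agent.S3028

set_option autoImplicit false
open Cfsg

namespace Cfsg.Agent.S2806

open Subgroup Cfsg.Agent.H83

section
variable {G : Type*} [Group G] [Finite G] {p : ℕ} [Fact p.Prime]

theorem step (hG : IsOfLocalCharacteristic p G) {T A B R : Subgroup G} (hT : IsSylowIn p T B)
    (hB : B.IsSubnormal) (h1 : A ≤ B) (h2 : B ≤ normalizer (A : Set G)) (hR : IsPGroup p R)
    (h0 : R ≠ ⊥) (hn : T ≤ normalizer (R : Set G)) :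
    A ⊓ normalizer (R : Set G) ⊓ centralizer (OZ p T : Set G) =
      A ⊓ normalizer (R : Set G) ⊓ centralizer (OZ p (T ⊓ A) : Set G) := by
  have h := kieler_normal (L := A ⊓ normalizer (R : Set G)) (locChar_inf hG hB hR h0)
    (hT.mono (le_inf hT.le hn) inf_le_left) (inf_le_inf_right _ h1)
    (le_norm_inf (inf_le_left.trans h2) (le_norm_of_le inf_le_right))
  rwa [← inf_assoc, inf_eq_left.mpr (inf_le_left.trans hn)] at h

theorem lkieler (hG : IsOfLocalCharacteristic p G) {T L : Subgroup G} (hT : IsSylowIn p T ⊤)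
    (hL : L.IsSubnormal) (h0 : T ⊓ L ≠ ⊥) :
    L ⊓ centralizer (OZ p T : Set G) = L ⊓ centralizer (OZ p (T ⊓ L) : Set G) := by
  refine SubnIn.induction (P := fun X => T ⊓ X ≠ ⊥ →
    X ⊓ centralizer (OZ p T : Set G) = X ⊓ centralizer (OZ p (T ⊓ X) : Set G)) ?_ ?_
    (subnIn_top.mpr hL) h0
  · intro _
    rw [inf_top_eq T]
  · intro A B h1 h2 h3 h4 h5
    have h6 : T ⊓ B ≠ ⊥ := fun e => h5 (eq_bot_iff.mpr ((inf_le_inf_left T h1).trans e.le))
    have hS := hT.inf_subnIn h3
    have e : T ⊓ B ⊓ A = T ⊓ A := by rw [inf_assoc, inf_of_le_right h1]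
    have h7 : A ⊓ centralizer (OZ p (T ⊓ B) : Set G) = A ⊓ centralizer (OZ p (T ⊓ A) : Set G) := by
      refine le_antisymm (le_inf inf_le_left ?_) (le_inf inf_le_left ?_)
      · have := step hG hS (subnIn_top.mp h3) h1 h2 (EA_isPGroup (EA_OZ (T ⊓ B)))
          (OZ_ne_bot hS.isPGroup h6) (norm_OZ le_normalizer)
        rw [e] at this
        exact ((le_inf (inf_le_inf_left A (centralizer_le_normalizer _)) inf_le_right).trans
          this.le).trans inf_le_right
      · have := step hG hS (subnIn_top.mp h3) h1 h2 (EA_isPGroup (EA_OZ (T ⊓ A)))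
          (OZ_ne_bot hT.isPGroup.to_inf_left h5)
          (norm_OZ (le_norm_inf (le_norm_of_le inf_le_left) (inf_le_right.trans h2)))
        rw [e] at this
        exact ((le_inf (inf_le_inf_left A (centralizer_le_normalizer _)) inf_le_right).trans
          this.ge).trans inf_le_right
    rw [← h7, ← inf_of_le_left h1, inf_assoc, inf_assoc, h4 h6]

theorem ps_eq (hG : IsOfLocalCharacteristic p G) {T L : Subgroup G} (hT : IsSylowIn p T ⊤)
    (hL : L.IsSubnormal) :
    pointStabilizer p L (T ⊓ L) = pElementClosure p (L ⊓ centralizer (OZ p T : Set G)) := by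
  by_cases h0 : T ⊓ L = ⊥
  · have hS := hT.inf_subnIn (subnIn_top.mpr hL)
    have key : ∀ C : Subgroup G, pElementClosure p (L ⊓ C) = ⊥ := fun C => by
      rw [pElementClosure, closure_eq_bot_iff]
      rintro x ⟨hx, k, hk⟩
      have := hS.mem_of_norm hx.1 (k := k) (hk ▸ pow_orderOf_eq_one x)
        (by rw [h0]; exact le_normalizer_of_normal (mem_top x))
      rwa [h0] at this
    exact (key _).trans (key _).symm
  · rw [lkieler hG hT hL h0]
    rfl

end

/-- Let H be a finite group of local characteristic p, T a Sylow p-subgroup, and L₁, L₂ subnormal subgroups of H generating the subgroup L. Then the point stabilizer of L with respect to T ∩ L is generated by the point stabilizers of L₁ and L₂ with respect to T ∩ L₁ and T ∩ L₂ (point stabilizer of X w.r.t. R: the subgroup generated by the p-elements of X centralizing Ω₁(Z(R))). -/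
theorem result {H : Type*} [Group H] [Finite H] {p : ℕ} [Fact p.Prime] (hH : Cfsg.IsOfLocalCharacteristic p H) (T : Sylow p H) (L₁ L₂ : Subgroup H) (h₁ : L₁.IsSubnormal) (h₂ : L₂.IsSubnormal) : Cfsg.pointStabilizer p (L₁ ⊔ L₂) ((T : Subgroup H) ⊓ (L₁ ⊔ L₂)) = Cfsg.pointStabilizer p L₁ ((T : Subgroup H) ⊓ L₁) ⊔ Cfsg.pointStabilizer p L₂ ((T : Subgroup H) ⊓ L₂) := by
  have hT := isSylowIn_top T
  have h₃ : (L₁ ⊔ L₂).IsSubnormal :=
    subnIn_top.mp ((subnIn_top.mpr h₁).join (subnIn_top.mpr h₂))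
  rw [ps_eq hH hT h₁, ps_eq hH hT h₂, ps_eq hH hT h₃]
  refine le_antisymm ((closure_le _).mpr ?_) (sup_le
    (closure_mono fun x hx => ⟨⟨mem_sup_left hx.1.1, hx.1.2⟩, hx.2⟩)
    (closure_mono fun x hx => ⟨⟨mem_sup_right hx.1.1, hx.1.2⟩, hx.2⟩))
  rintro x ⟨hx, k, hk⟩
  obtain ⟨S, hS, hxS⟩ := exists_isSylowIn_ge (zpowers_le.mpr hx.2)
    (isPGroup_zpowers (k := k) (hk ▸ pow_orderOf_eq_one x))
  obtain ⟨S', e⟩ := (hS.of_parabolic le_top hT (le_cent_OZ _)).exists_sylow_top
  have h := S3028.result S' L₁ L₂ h₁ h₂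
  rw [e] at h
  have key : ∀ L : Subgroup H, L ⊓ S ≤ pElementClosure p (L ⊓ centralizer ((OZ p (T : Subgroup H) : Subgroup H) : Set H)) := by
    intro L y hy
    obtain ⟨n, hn⟩ := isPGroup_iff.mp hS.isPGroup y hy.2
    obtain ⟨m, -, hm⟩ := (Nat.dvd_prime_pow Fact.out).mp (orderOf_dvd_of_pow_eq_one hn)
    exact subset_closure ⟨⟨hy.1, hS.le hy.2⟩, m, hm⟩
  exact sup_le_sup (key L₁) (key L₂) (h.le ⟨hx.1, hxS (mem_zpowers x)⟩)

end Cfsg.Agent.S2806
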