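import Cfsg.Statements.S2809
import Cfsg.Agent.H83.CharP

set_option autoImplicit false
open Cfsg

namespace Cfsg.Agent.S2809

open Subgroup Cfsg.Agent.H83

/-- Let H be a finite group, p a prime, R a p-subgroup of H with C_H(R) ≤ R, and L a subgroup of N_H(R) acting nilpotently on R (some iterated commutator [R, L, …, L] is trivial). Then L is a p-group. -/
theorem result {H : Type*} [Group H] [Finite H] {p : ℕ} [Fact p.Prime] (R : Subgroup H) (hR : IsPGroup p ↥R) (hC : Subgroup.centralizer (R : Set H) ≤ R) (L : Subgroup H) (hL : L ≤ Subgroup.normalizer (R : Set H)) (hnil : ∃ n : ℕ, Cfsg.iterCommutator R L n = ⊥) : IsPGroup p ↥L := by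
  obtain ⟨n, hn⟩ := hnil
  have hle : ∀ i, iterCommutator R L i ≤ R ∧ L ≤ normalizer (iterCommutator R L i : Set H) := by
    intro i
    induction i with
    | zero => exact ⟨le_rfl, hL⟩
    | succ i ih => exact ⟨(comm_le_left ih.2).trans ih.1, le_norm_comm ih.2 le_normalizer⟩
  refine isPGroup_of_coprime_eq_one fun x hx hc => eq_one_of_mem_pgroup hR (hC ?_) hc
  have key : ∀ j i, i + j = n → x ∈ centralizer (iterCommutator R L i : Set H) := by
    intro j
    induction j with
    | zero => intro i hi; rw [add_zero] at hi; rw [hi, hn, mem_cent_iff_le]; exact bot_le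
    | succ j ih =>
      intro i hi
      exact mem_cent_of_stable hc (hR.to_le (hle (i + 1)).1) (ih (i + 1) (by omega))
        fun r hr => commutator_mem_commutator hr hx
  exact key n 0 (by simp)

end Cfsg.Agent.S2809
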