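import Cfsg.Statements.S2810
import Cfsg.Agent.H83.CharP

set_option autoImplicit false
open Cfsg

namespace Cfsg.Agent.S2810

open Subgroup Cfsg.Agent.H83

/-- Let H be a finite group of characteristic p and L a subgroup of H centralizing every factor of some H-invariant chain 1 = A₀ ≤ A₁ ≤ … ≤ Aₙ = O_p(H) of normal subgroups (that is, [A_{i+1}, L] ≤ Aᵢ for each i). Then L ≤ O_p(H). -/
theorem result {H : Type*} [Group H] [Finite H] {p : ℕ} [Fact p.Prime] (hchar : Subgroup.centralizer (Cfsg.pCore p H : Set H) ≤ Cfsg.pCore p H) (L : Subgroup H) (n : ℕ) (A : Fin (n + 1) → Subgroup H) (h0 : A 0 = ⊥) (hn : A (Fin.last n) = Cfsg.pCore p H) (hmono : Monotone A) (hnorm : ∀ i, (A i).Normal) (hcent : ∀ i : Fin n, ⁅A i.succ, L⁆ ≤ A i.castSucc) : L ≤ Cfsg.pCore p H := by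
  let K : Subgroup H := ⨅ i : Fin n, centMod ⊤ (A i.succ) (A i.castSucc)
    (haveI := hnorm i.castSucc; le_normalizer_of_normal)
  have hLK : L ≤ K := le_iInf fun i => le_centMod.mpr ⟨le_top, hcent i⟩
  have hKn : K.Normal := by
    refine normal_iInf_normal fun i => ?_
    haveI := hnorm i.castSucc
    haveI := hnorm i.succ
    rw [← normalizer_eq_top_iff, eq_top_iff]
    exact le_norm_centMod le_normalizer le_normalizer_of_normal le_normalizer_of_normal
  refine hLK.trans (le_pCore hKn (isPGroup_of_coprime_eq_one fun x hx hc => ?_))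
  refine eq_one_of_mem_pgroup pCore_isPGroup (hchar ?_) hc
  have hAp : ∀ i, IsPGroup p (A i) := fun i =>
    (hn ▸ pCore_isPGroup : IsPGroup p (A (Fin.last n))).to_le (hmono (Fin.le_last i))
  have key : ∀ i : Fin (n + 1), x ∈ centralizer (A i : Set H) := by
    intro i
    induction i using Fin.induction with
    | zero => rw [h0, mem_cent_iff_le]; exact bot_le
    | succ i ih => exact mem_cent_of_stable hc (hAp _) ih fun r hr => (mem_iInf.mp hx i).2 r hr
  exact hn ▸ key (Fin.last n)

end Cfsg.Agent.S2810
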