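import Cfsg.Statements.S2813
import Cfsg.Agent.H83.CharP

set_option autoImplicit false
open Cfsg

namespace Cfsg.Agent.S2813

open Subgroup Cfsg.Agent.H83
open scoped commutatorElement

/-- Let K be a subgroup of the finite group H with O_p(K) = 1 and Y a p-subgroup of N_H(K) with [K, Y, Y] = 1. Then [K, Y] = 1. -/
theorem result {H : Type*} [Group H] [Finite H] {p : ℕ} [Fact p.Prime] (K : Subgroup H) (hO : Cfsg.pCore p ↥K = ⊥) (Y : Subgroup H) (hY : IsPGroup p ↥Y) (hYK : Y ≤ Subgroup.normalizer (K : Set H)) (hq : ⁅⁅K, Y⁆, Y⁆ = ⊥) : ⁅K, Y⁆ = ⊥ := by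
  have h1 : Y ≤ centralizer ((⁅K, Y⁆ : Subgroup H) : Set H) := comm_eq_bot_iff.mp hq
  have hKn : K ≤ normalizer ((⁅K, Y⁆ : Subgroup H) : Set H) := normalizer_commutator_ge_left K Y
  have h2 : ⁅K, Y⁆ ≤ centralizer ((⁅K, Y⁆ : Subgroup H) : Set H) := by
    refine commutator_le.mpr fun k hk y hy => ?_
    exact mul_mem (conj_mem (le_norm_cent hKn) hk (h1 hy)) (inv_mem (h1 hy))
  obtain ⟨n, hn⟩ := hY.exists_card_eq
  have h3 : ⁅K, Y⁆ ≤ torsionIn _ h2 (p ^ n) := by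
    refine commutator_le.mpr fun k hk y hy => ⟨commutator_mem_commutator hk hy, ?_⟩
    have hc : Commute ⁅k, y⁆ y := h1 hy _ (commutator_mem_commutator hk hy)
    have hy1 : y ^ p ^ n = 1 := hn ▸ H4.pow_card_eq_one_of_mem hy
    have e : ⁅k, y⁆ * y = k * y * k⁻¹ := by rw [commutatorElement_def]; group
    have := hc.mul_pow (p ^ n)
    rw [e, conj_pow', hy1] at this
    simpa using this.symm
  have h4 : IsPGroup p (⁅K, Y⁆ : Subgroup H) := isPGroup_iff.mpr fun x hx => ⟨n, (h3 hx).2⟩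
  have := le_pCoreOf (comm_le_left hYK) hKn h4
  rwa [pCoreOf_eq_bot_iff.mpr hO, le_bot_iff] at this

end Cfsg.Agent.S2813
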