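import Cfsg.Statements.S2815
import Cfsg.Agent.H83.FStarP
import Cfsg.Agent.H85.Basic

set_option autoImplicit false
open Cfsg

namespace Cfsg.Agent.S2815

open Subgroup Cfsg.Agent.H83

/-- Let H be a finite group and p a prime dividing its order with O_p(H) = 1, and suppose K = O^p(H) (generated by the elements of order prime to p) is quasisimple. Then K = F*(H); for every nontrivial p-subgroup Y of H, K = [K, Y] and K lies in the subgroup generated by the K-conjugates of Y; every normal subgroup of H not containing K has order prime to p; and H is p-irreducible. -/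
theorem result {H : Type*} [Group H] [Finite H] {p : ℕ} [Fact p.Prime] (hp : p ∣ Nat.card H) (hO : Cfsg.pCore p H = ⊥) (hq : Cfsg.IsQuasisimple ↥(Cfsg.pResidual p H)) : Cfsg.pResidual p H = Cfsg.generalizedFittingSubgroup H ∧ (∀ Y : Subgroup H, IsPGroup p ↥Y → Y ≠ ⊥ → ⁅Cfsg.pResidual p H, Y⁆ = Cfsg.pResidual p H ∧ Cfsg.pResidual p H ≤ ⨆ k : ↥(Cfsg.pResidual p H), Y.map (MulAut.conj (k : H)).toMonoidHom) ∧ (∀ C : Subgroup H, C.Normal → ¬ Cfsg.pResidual p H ≤ C → (Nat.card ↥C).Coprime p) ∧ Cfsg.IsPIrreducible p H := by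
  haveI := pResidual_normal (p := p) (G := H)
  have hK : IsComponent (pResidual p H) := ⟨Subgroup.Normal.isSubnormal this, hq⟩
  have h1 : pResidual p H = generalizedFittingSubgroup H := by
    refine le_antisymm (H52.IsComponent.le_fstar hK) (sup_le ?_ ?_)
    · refine H52.isGenCoprime_of_perfect (p := p) H52.commutator_layer_self _ fun x _ hc => ?_
      rw [← resOf_top]
      exact mem_resOf (mem_top x) hc
    · intro x hx
      rw [← resOf_top]
      exact mem_resOf (mem_top x) (coprime_orderOf_of_mem (coprime_fitting hO) hx)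
  have h3 : ∀ C : Subgroup H, C.Normal → ¬ pResidual p H ≤ C → (Nat.card C).Coprime p := by
    intro C hC h
    rcases H52.IsComponent.le_or_commutator_eq_bot_of_normal hK C with h' | h'
    · exact absurd h' h
    · rw [h1, comm_eq_bot_iff] at h'
      exact H52.coprime_card_of_le (h'.trans H52.centralizer_fstar_le_fitting) (coprime_fitting hO)
  refine ⟨h1, fun Y hY hY1 => ?_, h3, fun h => ?_, fun N hN h => ?_⟩
  · have h2 : ⁅pResidual p H, Y⁆ = pResidual p H := by
      refine le_antisymm (commutator_le_left _ _) ?_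
      rcases H52.IsComponent.le_commutator_or_eq_bot hK Y with h' | h'
      · exact h'
      · rw [h1, comm_eq_bot_iff] at h'
        exact absurd (eq_bot_of_le_cent_fstar hO hY h') hY1
    refine ⟨h2, ?_⟩
    rw [iSup_cj_eq_comm_sup, h2]
    exact le_sup_left
  · obtain ⟨T, hT⟩ := exists_isSylowIn p (⊤ : Subgroup H)
    have := H85.isPClosed_iff_le_pCore.mp h T hT.isPGroup
    rw [hO, le_bot_iff] at this
    exact hT.ne_bot (by simpa using hp) this
  · by_contra h'
    refine h (H85.isPClosed_normal_iff.mpr fun Q hQ hQp => ?_)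
    rw [H52.eq_bot_of_isPGroup_of_coprime hQp (H52.coprime_card_of_le hQ (h3 N hN h'))]
    exact bot_le

end Cfsg.Agent.S2815
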