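import Cfsg.Statements.S2816
import Cfsg.Agent.H83.FStarP

set_option autoImplicit false
open Cfsg

namespace Cfsg.Agent.S2816

open Subgroup Cfsg.Agent.H83

/-- Let H be a finite group and p a prime with O_p(H) = 1, and Y a p-subgroup of H. Then for every subnormal subgroup K of H containing Y, [F*(H), Y] = [F*(K), Y] = [F*(K), Y, Y]; and if Y₀ ≤ Y with [F*(H), Y, Y₀] = 1 then Y₀ = 1 (in particular [F*(H), Y] = 1 forces Y = 1). -/
theorem result {H : Type*} [Group H] [Finite H] {p : ℕ} [Fact p.Prime] (hO : Cfsg.pCore p H = ⊥) (Y : Subgroup H) (hY : IsPGroup p ↥Y) : (∀ K : Subgroup H, K.IsSubnormal → Y ≤ K → ⁅Cfsg.generalizedFittingSubgroup H, Y⁆ = ⁅(Cfsg.generalizedFittingSubgroup ↥K).map K.subtype, Y⁆ ∧ ⁅(Cfsg.generalizedFittingSubgroup ↥K).map K.subtype, Y⁆ = ⁅⁅(Cfsg.generalizedFittingSubgroup ↥K).map K.subtype, Y⁆, Y⁆) ∧ (∀ Y₀ : Subgroup H, Y₀ ≤ Y → ⁅⁅Cfsg.generalizedFittingSubgroup H, Y⁆, Y₀⁆ = ⊥ → Y₀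 = ⊥) := by
  haveI := H52.fstar_normal (G := H)
  have h1 := comm_comm_fstar hO hY
  refine ⟨fun K hK hYK => ?_, fun Y₀ hY₀ h => ?_⟩
  · rw [H52.map_fstar_subtype_of_subnormal hK]
    have h2 := comm_le_of_subnIn h1 le_top hYK (subnIn_top.mpr hK)
    have h3 : ⁅generalizedFittingSubgroup H, Y⁆ = ⁅generalizedFittingSubgroup H ⊓ K, Y⁆ := by
      refine le_antisymm ?_ (commutator_mono inf_le_left le_rfl)
      exact h1.ge.trans (commutator_mono (le_inf (commutator_le_left _ _) h2) le_rfl)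
    exact ⟨h3, by rw [← h3, h1]⟩
  · refine eq_bot_of_le_cent_fstar hO (hY.to_le hY₀) ?_
    rw [← comm_sup_cent_fstar hO hY, centralizer_sup]
    exact le_inf (comm_eq_bot_iff.mp h) (hY₀.trans (le_centralizer_iff.mp inf_le_right))

end Cfsg.Agent.S2816
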