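import Cfsg.Statements.S2817
import Cfsg.Agent.H83.FStarP

set_option autoImplicit false
open Cfsg

namespace Cfsg.Agent.S2817

open Subgroup Cfsg.Agent.H83
open scoped commutatorElement

/-- Let H be a finite group and p a prime with O_p(H) = 1, Q a p-subgroup of H, L = [F*(H), Q], and F the largest normal subgroup of F*(H) centralized by Q (a normal subgroup of F*(H) centralized by Q and containing every such). Then F = C_{F*(H)}(LQ); L = [L, Q]; L ∩ F ≤ Φ(L); every p-subgroup B of N_H(Q) with [L, B] ≤ F satisfies [L, B] = 1; and C_H(FL) has order prime to p. -/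
theorem result {H : Type*} [Group H] [Finite H] {p : ℕ} [Fact p.Prime] (hO : Cfsg.pCore p H = ⊥) (Q : Subgroup H) (hQ : IsPGroup p ↥Q) (L : Subgroup H) (hL : L = ⁅Cfsg.generalizedFittingSubgroup H, Q⁆) (F : Subgroup H) (hF : F ≤ Cfsg.generalizedFittingSubgroup H ∧ Cfsg.generalizedFittingSubgroup H ≤ Subgroup.normalizer (F : Set H) ∧ Q ≤ Subgroup.centralizer (F : Set H) ∧ ∀ N : Subgroup H, N ≤ Cfsg.generalizedFittingSubgroup H → Cfsg.generalizedFittingSubgroup H ≤ Subgroup.normalizer (N : Set H) → Q ≤ Subgroup.centralizer (N : Set H) → N ≤ F) : F = Cfsg.generalizedFittingSubgroup H ⊓ Subgroup.centralizer ((L ⊔ Q : Subgroup H) : Set H) ∧ ⁅L, Q⁆ = L ∧ L ⊓ F ≤ (frattini ↥L).map L.subtype ∧ (∀ B : Subgroup H, IsPGroup p ↥B → B ≤ Subgroup.normalizer (Q : Set H) → ⁅L, B⁆ ≤ F → ⁅L, B⁆ = ⊥) ∧ (Nat.card ↥(Subgroup.centralizer ((F ⊔ L : Subgroup H) : Set H))).Coprime p := by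
  set E := generalizedFittingSubgroup H with hE
  haveI hEn : E.Normal := H52.fstar_normal
  obtain ⟨hFE, hEF, hQF, hmax⟩ := hF
  have hA := comm_sup_cent_fstar hO hQ
  have hB := comm_comm_fstar hO hQ
  rw [← hE, ← hL] at hA hB
  have hLE : L ≤ E := hL ▸ commutator_le_left _ _
  have hEL : E ≤ normalizer (L : Set H) := hL ▸ normalizer_commutator_ge_left _ _
  have hQL : Q ≤ normalizer (L : Set H) := hL ▸ normalizer_commutator_ge_right _ _
  have hNL : normalizer (Q : Set H) ≤ normalizer (L : Set H) :=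
    hL ▸ le_norm_comm le_normalizer_of_normal le_rfl
  have hLs : L.IsSubnormal := subnIn_top.mp ((SubnIn.of_norm hLE hEL).trans
    (SubnIn.of_norm le_top le_normalizer_of_normal))
  have hFL : F ≤ centralizer (L : Set H) := by
    rw [← comm_eq_bot_iff, hL, eq_bot_iff]
    refine three_subgroups le_normalizer_of_normal le_normalizer_of_normal le_normalizer_of_normal
      ?_ ?_
    · rw [commutator_eq_bot_iff_le_centralizer.mpr hQF, commutator_bot_left]
    · exact (commutator_mono (comm_le_left hEF) le_rfl).trans (comm_eq_bot_iff.mpr hQF).le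
  have ha : F = E ⊓ centralizer ((L ⊔ Q : Subgroup H) : Set H) := by
    refine le_antisymm (le_inf hFE ?_) (hmax _ inf_le_left ?_ ?_)
    · rw [centralizer_sup]; exact le_inf hFL (le_centralizer_iff.mp hQF)
    · refine hA.ge.trans (sup_le (le_norm_of_le_cent ?_) ?_)
      · exact le_centralizer_iff.mp (inf_le_right.trans (cent_anti le_sup_left))
      · exact le_norm_inf le_normalizer_of_normal (le_norm_cent (le_norm_sup
          (inf_le_left.trans hEL) (le_norm_of_le_cent inf_le_right)))
    · exact le_centralizer_iff.mp (inf_le_right.trans (cent_anti le_sup_right))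
  have hOL := pCoreOf_eq_bot_of_subnormal hO hLs
  have hFs := Fs_eq_self_of_subnormal hLs hLE
  have hc : L ⊓ F ≤ (frattini L).map L.subtype := by
    have h1 : L ⊓ F ≤ ⁅L, L⁆ := by
      intro x hx
      refine mem_of_comm_of_fixed hQ hQL (comm_le_left le_normalizer)
        (le_norm_comm le_normalizer le_normalizer) (le_norm_comm hQL hQL) le_rfl (coprime_Ft hOL)
        (H52.Ft_le L) ?_ (hB.ge hx.1) fun q hq => ?_
      · refine hFs.ge.trans ((H52.map_fstar_subtype L).le.trans (sup_le_sup_right ?_ _))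
        exact (H52.commutator_Ly_self L).ge.trans (commutator_mono (H52.Ly_le L) (H52.Ly_le L))
      · rw [commutatorElement_eq_one_iff_mul_comm.mpr (hQF hq x hx.2).symm]
        exact one_mem _
    intro x hx
    refine ⟨⟨x, hx.1⟩, H3.mem_frattini_iff.mpr fun M hM => ?_, rfl⟩
    by_contra hxM
    have hxc : (⟨x, hx.1⟩ : L) ∈ center L :=
      mem_center_iff.mpr fun y => Subtype.ext (hFL hx.2 y y.2)
    have h2 : M ⊔ center L = ⊤ := hM.2 _ (lt_of_le_of_ne le_sup_left fun e =>
      hxM (e ▸ mem_sup_right hxc))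
    have h3 := H52.commutator_eq_of_sup_center_eq_top h2
    have h4 : (⟨x, hx.1⟩ : L) ∈ _root_.commutator L := by
      rw [← coe_mem_map_subtype, map_subtype_commutator]
      exact h1 hx
    rw [h3] at h4
    exact hxM (comm_le_left le_normalizer h4)
  refine ⟨ha, hB, hc, fun B hBp hBQ h => ?_, ?_⟩
  · have h1 := comm_sup_cent_of_Fs hFs hOL hBp (hBQ.trans hNL)
    have h2 : L ⊓ centralizer (B : Set H) = L := by
      apply H3.eq_of_sup_map_frattini_eq
      refine le_antisymm (sup_le inf_le_left (map_subtype_le _)) (h1.ge.trans ?_)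
      rw [sup_comm]
      exact sup_le_sup_left ((le_inf (comm_le_left (hBQ.trans hNL)) h).trans hc) _
    exact commutator_eq_bot_iff_le_centralizer.mpr (h2.ge.trans inf_le_right)
  · set C := centralizer ((F ⊔ L : Subgroup H) : Set H)
    have hQC : Q ≤ normalizer (C : Set H) :=
      le_norm_cent (le_norm_sup (le_norm_of_le_cent hQF) hQL)
    obtain ⟨T, hT, hQT⟩ := exists_isSylowIn_ge (le_sup_left : Q ≤ Q ⊔ C) hQ
    have hS := hT.inf_normal (le_sup_right : C ≤ Q ⊔ C) (sup_le hQC le_normalizer)
    by_contra hd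
    have hd' : p ∣ Nat.card C := by
      by_contra h'
      exact hd (((Fact.out : p.Prime).coprime_iff_not_dvd.mpr h').symm)
    refine inf_centralizer_ne_bot hS.isPGroup hQ (le_norm_inf (le_norm_of_le hQT) hQC)
      (hS.ne_bot hd') ?_
    set B := T ⊓ C ⊓ centralizer (Q : Set H)
    have hBp : IsPGroup p B := hS.isPGroup.to_le inf_le_left
    have hBC : B ≤ C := inf_le_left.trans inf_le_right
    refine eq_bot_of_le_cent_fstar hO hBp ?_
    have h1 : ⁅E, B⁆ ≤ ⁅E ⊓ centralizer (Q : Set H), B⁆ := by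
      refine H4.commutator_le_of_mul_centralizer fun k hk => ?_
      rw [← hA] at hk
      obtain ⟨a, ha, n, hn, rfl⟩ := (mem_sup_left_norm' (inf_le_left.trans hEL)).mp hk
      exact ⟨a, ha, n, le_centralizer_iff.mp (hBC.trans (cent_anti le_sup_right)) hn, rfl⟩
    have h2 : ⁅E, B⁆ ≤ F := by
      refine hmax _ (commutator_le_left _ _) (normalizer_commutator_ge_left _ _)
        (le_centralizer_iff.mp (h1.trans ?_))
      exact (commutator_mono inf_le_right inf_le_right).trans (comm_le_left le_normalizer)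
    rw [← comm_eq_bot_iff, ← comm_comm_fstar hO hBp, eq_bot_iff]
    exact (commutator_mono h2 le_rfl).trans
      (comm_eq_bot_iff.mpr (hBC.trans (cent_anti le_sup_left))).le

end Cfsg.Agent.S2817
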