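import Cfsg.Statements.S2818
import Cfsg.Agent.H83.SubCl
import Cfsg.Agent.H3.Frattini

set_option autoImplicit false
open Cfsg

namespace Cfsg.Agent.S2818

open Subgroup Cfsg.Agent.H83
open scoped commutatorElement

/-- Let P be a finite p-subgroup of a group G and H a subgroup of N_G(P) with [P, H] ≤ Ω₁(Z(P)) (the elements of order dividing p in the centre of P). Then H centralizes the Frattini subgroup of P. -/
theorem result {G : Type*} [Group G] [Finite G] {p : ℕ} [Fact p.Prime] (P : Subgroup G) (hP : IsPGroup p ↥P) (H : Subgroup G) (hH : H ≤ Subgroup.normalizer (P : Set G)) (h : ⁅P, H⁆ ≤ Cfsg.omegaOne p (P ⊓ Subgroup.centralizer (P : Set G))) : ⁅(frattini ↥P).map P.subtype, H⁆ = ⊥ := by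
  have hc : ⁅P, H⁆ ≤ centralizer (P : Set G) := h.trans (OZ_le_cent P)
  have h0 : ⁅⁅P, H⁆, P⁆ ≤ ⊥ := (commutator_eq_bot_iff_le_centralizer.mpr hc).le
  rw [commutator_eq_bot_iff_le_centralizer, H3.map_frattini_le_iff hP]
  refine ⟨?_, fun x hx => ?_⟩
  · rw [← commutator_eq_bot_iff_le_centralizer, eq_bot_iff]
    exact three_subgroups le_normalizer_of_normal le_normalizer_of_normal le_normalizer_of_normal
      h0 (commutator_comm P H ▸ h0)
  · intro y hy
    have hm : ⁅x, y⁆ ∈ OZ p P := h (commutator_mem_commutator hx hy)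
    obtain ⟨d, hd, e⟩ := comm_pow_left_eq (D := ⊥) (x := x) (h := y)
      (le_normalizer_of_normal (mem_top x)) (fun n => by
        rw [mem_bot, commutatorElement_eq_one_iff_mul_comm]
        exact (centralizer (P : Set G)).pow_mem (OZ_le_cent P hm) n x hx) p
    rw [mem_bot.mp hd, (mem_OZ.mp hm).2.2, mul_one, commutatorElement_eq_one_iff_mul_comm] at e
    exact e.symm

end Cfsg.Agent.S2818
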