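import Cfsg.Statements.S2819
import Cfsg.Agent.H83.SubCl
import Cfsg.Agent.H3.Frattini

set_option autoImplicit false
open Cfsg

namespace Cfsg.Agent.S2819

open Subgroup Cfsg.Agent.H83
open scoped commutatorElement

/-- Let P be a finite p-subgroup of a group G, H a subgroup of N_G(P), and Y a subgroup of H centralizing the derived subgroup P' such that [P, Y] is elementary abelian. Then O^p(⟨Y^H⟩), the subgroup of the normal closure of Y in H generated by its elements of order prime to p, centralizes the Frattini subgroup of P. -/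
theorem result {G : Type*} [Group G] [Finite G] {p : ℕ} [Fact p.Prime] (P : Subgroup G) (hP : IsPGroup p ↥P) (H : Subgroup G) (hH : H ≤ Subgroup.normalizer (P : Set G)) (Y : Subgroup G) (hYH : Y ≤ H) (hYc : Y ≤ Subgroup.centralizer ((⁅P, P⁆ : Subgroup G) : Set G)) (hel : Cfsg.IsElementaryAbelian p ⁅P, Y⁆) (NY : Subgroup G) (hNY : NY = (Subgroup.normalClosure ((Y.subgroupOf H : Subgroup ↥H) : Set ↥H)).map H.subtype) : (Cfsg.pResidual p ↥NY).map NY.subtype ≤ Subgroup.centralizer (((frattini ↥P).map P.subtype : Subgroup G) : Set G) := by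
  have hD : H ≤ normalizer ((⁅P, P⁆ : Subgroup G) : Set G) := le_norm_comm hH hH
  have hF : H ≤ normalizer (((frattini P).map P.subtype : Subgroup G) : Set G) :=
    hH.trans (H3.normalizer_le_normalizer_map_frattini P)
  have h1 : ⁅(frattini P).map P.subtype, Y⁆ ≤ ⁅P, P⁆ := by
    have hPD : P ≤ normalizer ((⁅P, P⁆ : Subgroup G) : Set G) :=
      le_norm_comm le_normalizer le_normalizer
    have : (frattini P).map P.subtype ≤ centMod P Y ⁅P, P⁆ hPD := by
      rw [H3.map_frattini_le_iff hP]
      refine ⟨le_centMod.mpr ⟨comm_le_left le_normalizer, comm_le_right (hYH.trans hD)⟩,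
        fun x hx => mem_centMod.mpr ⟨P.pow_mem hx p, fun y hy => ?_⟩⟩
      have hm : ⁅x, y⁆ ∈ ⁅P, Y⁆ := commutator_mem_commutator hx hy
      obtain ⟨d, hd, e⟩ := comm_pow_left_eq (D := ⁅P, P⁆) (x := x) (h := y) (hPD hx)
        (fun n => commutator_mem_commutator hx
          (P.pow_mem (comm_le_left (hYH.trans hH) hm) n)) p
      rw [(isEA_iff.mp hel).2 _ hm, mul_one] at e
      rw [← commutatorElement_inv, e]
      exact inv_mem hd
    rw [commutator_comm]
    exact (le_centMod.mp this).2
  have h2 : NY ≤ centMod H ((frattini P).map P.subtype) ⁅P, P⁆ hD := by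
    rw [hNY]
    exact ncl_le_of_norm (le_centMod.mpr ⟨hYH, h1⟩) (le_norm_centMod le_normalizer hF hD)
  have h3 : NY ≤ centralizer ((⁅P, P⁆ : Subgroup G) : Set G) := by
    rw [hNY]
    exact ncl_le_of_norm hYc (le_norm_cent hD)
  exact resOf_le_cent_of_stable (hP.to_le (comm_le_left le_normalizer)) ((resOf_le _).trans h3)
    ((commutator_mono le_rfl (resOf_le _)).trans (le_centMod.mp h2).2)

end Cfsg.Agent.S2819
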