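import Cfsg.Statements.S2820
import Cfsg.Agent.H83.CharP

set_option autoImplicit false
open Cfsg

namespace Cfsg.Agent.S2820

open Subgroup Cfsg.Agent.H83

/-- Let A and B be subnormal subgroups of the finite group H with A a p-group and B = O^p(B) (B generated by its elements of order prime to p). Then A normalizes B and B = O^p(AB), the subgroup of ⟨A, B⟩ generated by its elements of order prime to p. -/
theorem result {H : Type*} [Group H] [Finite H] {p : ℕ} [Fact p.Prime] (A B : Subgroup H) (hA : A.IsSubnormal) (hB : B.IsSubnormal) (hAp : IsPGroup p ↥A) (hBres : (Cfsg.pResidual p ↥B).map B.subtype = B) : A ≤ Subgroup.normalizer (B : Set H) ∧ (Cfsg.pResidual p ↥(A ⊔ B)).map (A ⊔ B).subtype = B := by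
  have h1 : A ≤ pCoreOf p ⊤ := (subnIn_top.mpr hA).le_pCoreOf hAp
  have h2 := (subnIn_top.mpr hB).resOf_sup_pCoreOf (p := p)
  have h3 := (subnIn_top.mpr hB).pCoreOf_le_norm_resOf (p := p)
  change resOf p B = B at hBres
  rw [hBres] at h2 h3
  refine ⟨h1.trans h3, ?_⟩
  exact (resOf_sup_of_norm hAp (h1.trans h3)).trans hBres

end Cfsg.Agent.S2820
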