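import Cfsg.Statements.S2823
import Cfsg.Agent.H83.PRed

set_option autoImplicit false
open Cfsg

namespace Cfsg.Agent.S2823

open Subgroup Cfsg.Agent.H83

/-- Let H be a finite group, p a prime, T a Sylow p-subgroup and L a subgroup of characteristic p containing T; let Z_L be the subgroup generated by the Ω₁(Z(S)) over the Sylow p-subgroups S of L and O^p(L) the subgroup generated by the elements of L of order prime to p. Then Z_L = Ω₁(Z(L))·[Z_L, O^p(L)] and [Z_L, L] = [Z_L, O^p(L)]. -/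
theorem result {H : Type*} [Group H] [Finite H] {p : ℕ} [Fact p.Prime] (T : Sylow p H) (L : Subgroup H) (hTL : (T : Subgroup H) ≤ L) (hL : Subgroup.centralizer (Cfsg.pCore p ↥L : Set ↥L) ≤ Cfsg.pCore p ↥L) : Cfsg.sylowCenterClosure p L = (Cfsg.omegaOne p (L ⊓ Subgroup.centralizer ((L : Subgroup H) : Set H))) ⊔ ⁅Cfsg.sylowCenterClosure p L, (Cfsg.pResidual p ↥L).map L.subtype⁆ ∧ ⁅Cfsg.sylowCenterClosure p L, L⁆ = ⁅Cfsg.sylowCenterClosure p L, (Cfsg.pResidual p ↥L).map L.subtype⁆ := by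
  have hL' := charP_iff.mpr hL
  have hT := isSylowIn_of_sylow T hTL
  rw [sylowCenterClosure_eq hT]
  set Z := ncl (OZ p (T : Subgroup H)) L with hZ
  have hred : PRed p L Z := (pRed_OZ_self _).ncl hL' hT le_rfl hTL
  have hn : L ≤ normalizer ((⁅Z, resOf p L⁆ : Subgroup H) : Set H) :=
    le_norm_comm hred.norm (le_norm_resOf L)
  have h1 : Z = OZ p L ⊔ ⁅Z, resOf p L⁆ := by
    refine le_antisymm (ncl_le_of_norm ?_ (le_norm_sup (norm_OZ le_normalizer) hn)) (sup_le ?_ ?_)
    · refine (le_inf (le_ncl ((OZ_le _).trans hTL)) (OZ_le_cent _)).trans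
        ((cent_sylow_le (EA_le_cent hred.ea) hred.isPGroup hred.norm hT).trans (sup_le_sup_right ?_ _))
      exact le_OZ (inf_le_left.trans hred.le) inf_le_right fun a ha => hred.ea.2 a ha.1
    · refine le_trans ?_ (le_ncl ((OZ_le _).trans hTL))
      exact le_OZ (hT.le_of_norm (OZ_le L) (EA_isPGroup (EA_OZ L)) (hTL.trans (norm_OZ le_normalizer)))
        ((OZ_le_cent L).trans (cent_anti hTL)) (EA_OZ L).2
    · exact comm_le_left ((resOf_le L).trans hred.norm)
  refine ⟨h1, le_antisymm ?_ (commutator_mono le_rfl (resOf_le L))⟩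
  conv_lhs => rw [h1]
  refine comm_sup_left_le ((comm_eq_bot_iff.mpr (le_cent_OZ L)).le.trans bot_le) (comm_le_left hn) ?_
  exact sup_le ((OZ_le L).trans hn) le_normalizer

end Cfsg.Agent.S2823
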