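import Cfsg.Statements.S2824
import Cfsg.Agent.H83.PRed

set_option autoImplicit false
open Cfsg

namespace Cfsg.Agent.S2824

open Subgroup Cfsg.Agent.H83

/-- Let H be a finite group, p a prime, T a Sylow p-subgroup, L and M subgroups of characteristic p containing T, Y_L the largest p-reduced normal subgroup of L and T₀ = C_T(Y_L). If M·C_H(Y_L) = L·C_H(Y_L), then L* := N_M(T₀) has Y_{L*} = Y_L and L·C_H(Y_L) = L*·C_H(Y_L). -/
theorem result {H : Type*} [Group H] [Finite H] {p : ℕ} [Fact p.Prime] (T : Sylow p H) (L M : Subgroup H) (hTL : (T : Subgroup H) ≤ L) (hTM : (T : Subgroup H) ≤ M) (hL : Subgroup.centralizer (Cfsg.pCore p ↥L : Set ↥L) ≤ Cfsg.pCore p ↥L) (hM : Subgroup.centralizer (Cfsg.pCore p ↥M : Set ↥M) ≤ Cfsg.pCore p ↥M) (T₀ : Subgroup H) (hT₀ : T₀ = (T : Subgroup H) ⊓ Subgroup.centralizer (((Cfsg.largestPReducedOf p L) : Subgroup H) : Set H)) (hfac : M ⊔ Subgroup.centralizer (((Cfsg.largestPReducedOf p L) : Subgroup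 H) : Set H) = L ⊔ Subgroup.centralizer (((Cfsg.largestPReducedOf p L) : Subgroup H) : Set H)) (Ls : Subgroup H) (hLs : Ls = M ⊓ Subgroup.normalizer ((T₀ : Subgroup H) : Set H)) : (Cfsg.largestPReducedOf p Ls) = (Cfsg.largestPReducedOf p L) ∧ L ⊔ Subgroup.centralizer (((Cfsg.largestPReducedOf p L) : Subgroup H) : Set H) = Ls ⊔ Subgroup.centralizer (((Cfsg.largestPReducedOf p L) : Subgroup H) : Set H) := by
  have hL' := charP_iff.mpr hL
  have hT := isSylowIn_of_sylow T hTL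
  have hYT : YY p L ≤ T := (YY_le_pCoreOf L).trans hT.pCoreOf_le
  have hM1 : PRed p M (YY p L) := (pRed_YY L).of_sup_eq (hYT.trans hTM) hfac
  have e := norm_sup_cent_eq (isSylowIn_of_sylow T hTM) hM1.norm
  rw [← hT₀, ← hLs, hfac] at e
  have hTLs : (T : Subgroup H) ≤ Ls := by
    rw [hLs, hT₀]
    exact le_inf hTM (le_norm_inf le_normalizer (hTL.trans (pRed_YY L).norm_cent))
  have h1 : PRed p Ls (YY p L) := (pRed_YY L).of_sup_eq (hYT.trans hTLs) e
  refine ⟨le_antisymm ?_ h1.le_YY, e.symm⟩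
  have h2 := pCoreOf_eq_of_red h1.red ((isSylowIn_of_sylow T hTLs).inf_cent h1.norm)
    (by rw [← hT₀, hLs]; exact inf_le_right)
  have h3 := YY_le_OZ (p := p) Ls
  rwa [h2, ← YY_eq_OZ hL' hT] at h3

end Cfsg.Agent.S2824
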