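import Cfsg.Statements.S2825
import Cfsg.Agent.H83.PRed

set_option autoImplicit false
open Cfsg

namespace Cfsg.Agent.S2825

open Subgroup Cfsg.Agent.H83

/-- Let L be a subnormal subgroup of the finite group H, p a prime, Y_H and Y_L the largest p-reduced normal subgroups. Then Y_H ∩ L = Y_H ∩ Y_L and this subgroup is a p-reduced normal subgroup of L; C_L(Y_L) = C_L(Y_H) = C_L(Y_H ∩ L); and if O^p(H) ≤ L, then [Y_L, L] = 1 if and only if [Y_H, H] = 1. -/
theorem result {H : Type*} [Group H] [Finite H] {p : ℕ} [Fact p.Prime] (L : Subgroup H) (hL : L.IsSubnormal) : Cfsg.largestPReduced p H ⊓ L = Cfsg.largestPReduced p H ⊓ (Cfsg.largestPReducedOf p L) ∧ Cfsg.IsPReducedNormal p ((Cfsg.largestPReduced p H ⊓ L).subgroupOf L) ∧ L ⊓ Subgroup.centralizer ((Cfsg.largestPReducedOf p L : Subgroup H) : Set H) = L ⊓ Subgroup.centralizer (Cfsg.largestPReduced p H : Set H) ∧ L ⊓ Subgroup.centralizer (Cfsg.largestPReduced p H : Set H) = L ⊓ Subgroup.centralizer ((Cfsg.largestPReduced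 p H ⊓ L : Subgroup H) : Set H) ∧ (Cfsg.pResidual p H ≤ L → (⁅(Cfsg.largestPReducedOf p L), L⁆ = ⊥ ↔ ⁅Cfsg.largestPReduced p H, (⊤ : Subgroup H)⁆ = ⊥)) := by
  have hs := subnIn_top.mpr hL
  rw [← YY_top]
  have h1 := (pRed_YY (p := p) ⊤).inf_subnIn hs
  have h2 := hs.cent_YY (p := p)
  refine ⟨le_antisymm (le_inf inf_le_left h1.le_YY) (inf_le_inf_left _ (YY_le L)),
    (pRed_iff h1.le).mp h1, h2, le_antisymm (inf_le_inf_left _ (cent_anti inf_le_left))
      (le_inf inf_le_left ?_), fun h => ?_⟩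
  · exact (pRed_YY ⊤).cent_le_of_subnIn hs ((pRed_YY ⊤).comm_resOf_le_inf hs)
      (SubnIn.of_norm inf_le_left (le_norm_inf le_normalizer h1.norm_cent)) (PMod.of_le inf_le_right)
  · rw [comm_eq_bot_iff, comm_eq_bot_iff]
    constructor
    · intro h3
      refine (pRed_YY ⊤).le_cent_of_res (SubnIn.refl ⊤) ?_
      rw [resOf_top]
      exact h.trans ((le_inf le_rfl h3).trans (h2.le.trans inf_le_right))
    · intro h3
      exact (le_inf le_rfl (le_top.trans h3)).trans (h2.ge.trans inf_le_right)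

end Cfsg.Agent.S2825
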