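import Cfsg.Statements.S2826
import Cfsg.Agent.H83.PRed

set_option autoImplicit false
open Cfsg

namespace Cfsg.Agent.S2826

open Subgroup Cfsg.Agent.H83

/-- Let H be a finite group of characteristic p, T a Sylow p-subgroup, and V a normal elementary abelian p-subgroup of H containing Ω₁(Z(T)). Then C_H(Ω₁(Z(T))) = C_H([V, O^p(H)] ∩ Ω₁(Z(T))), O^p(H) being generated by the elements of order prime to p. -/
theorem result {H : Type*} [Group H] [Finite H] {p : ℕ} [Fact p.Prime] (hH : Subgroup.centralizer (Cfsg.pCore p H : Set H) ≤ Cfsg.pCore p H) (T : Sylow p H) (V : Subgroup H) [V.Normal] (hV : Cfsg.IsElementaryAbelian p V) (hZV : (Cfsg.omegaOne p ((T : Subgroup H) ⊓ Subgroup.centralizer (((T : Subgroup H) : Subgroup H) : Set H))) ≤ V) : Subgroup.centralizer ((Cfsg.omegaOne p ((T : Subgroup H) ⊓ Subgroup.centralizer (((T : Subgroup H) : Subgroup H) : Set H))) : Set H) = Subgroup.centralizer (((⁅V, Cfsg.pResidual p H⁆ ⊓ (Cfsg.omegaOne p ((T : Subgroup H) ⊓ Subgroup.centralizer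 (((T : Subgroup H) : Subgroup H) : Set H)))) : Subgroup H) : Set H) := by
  refine le_antisymm (cent_anti inf_le_right) ?_
  have hT := isSylowIn_top T
  have h1 := cent_sylow_le (EA_le_cent hV) (EA_isPGroup hV) (le_normalizer_of_normal (K := ⊤)) hT
  rw [resOf_top] at h1
  have hVT : V ≤ T := (le_pCore inferInstance (EA_isPGroup hV)).trans (pCore_le_sylow T)
  haveI := pResidual_normal (p := p) (G := H)
  rw [le_centralizer_iff]
  intro z hz
  obtain ⟨c, hc, w, hw, rfl⟩ := (mem_sup_right_norm le_normalizer_of_normal).mp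
    (h1 ⟨hZV hz, OZ_le_cent _ hz⟩)
  refine mul_mem (cent_anti le_top hc.2) (le_centralizer_iff.mp le_rfl ⟨hw, ?_⟩)
  have hwV : w ∈ V := commutator_le_left _ _ hw
  refine mem_OZ.mpr ⟨hVT hwV, ?_, hV.2 w hwV⟩
  simpa using mul_mem (inv_mem (cent_anti le_top hc.2)) (OZ_le_cent _ hz)

end Cfsg.Agent.S2826
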