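import Cfsg.Statements.S2827
import Cfsg.Agent.H85.Basic

set_option autoImplicit false
open Cfsg

namespace Cfsg.Agent.S2827

open Cfsg.Agent.H85 Subgroup
open scoped commutatorElement

/-- Let H be a finite p-irreducible group (not p-closed, and O^p(H) lies in every normal subgroup that is not p-closed) and T a Sylow p-subgroup. Then H is generated by the conjugates of T and H = H'·T; O^p(H) ≤ H'; and for every normal subgroup Y of T not contained in O_p(H), O^p(H) = [O^p(H), Y] and O^p(H) is contained in the normal closure of Y in H. -/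
theorem result {H : Type*} [Group H] [Finite H] {p : ℕ} [Fact p.Prime] (hH : Cfsg.IsPIrreducible p H) (T : Sylow p H) : Subgroup.normalClosure ((T : Subgroup H) : Set H) = ⊤ ∧ commutator H ⊔ (T : Subgroup H) = ⊤ ∧ Cfsg.pResidual p H ≤ commutator H ∧ ∀ Y : Subgroup H, Y ≤ (T : Subgroup H) → (T : Subgroup H) ≤ Subgroup.normalizer (Y : Set H) → ¬ Y ≤ Cfsg.pCore p H → ⁅Cfsg.pResidual p H, Y⁆ = Cfsg.pResidual p H ∧ Cfsg.pResidual p H ≤ Subgroup.normalClosure (Y : Set H) := by
  have hR := pResidual_normal p H
  have hT : ¬ (T : Subgroup H) ≤ pCore p H := fun h => hH.1 (isPClosed_of_sylow_normal T (by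
    rw [le_antisymm h (pCore_le_sylow T)]; infer_instance))
  have key : ∀ Y : Subgroup H, IsPGroup p Y → ¬ Y ≤ pCore p H → ∀ N : Subgroup H, N.Normal → Y ≤ N →
      pResidual p H ≤ N := fun Y hY hY' N hN hYN =>
    hH.2 N hN fun hc => hY' (isPClosed_normal_iff.1 hc Y hYN hY)
  have h1 : normalClosure ((T : Subgroup H) : Set H) = ⊤ := by
    rw [eq_top_iff, ← pResidual_sup_sylow T]
    exact sup_le (key T T.isPGroup' hT _ inferInstance le_normalClosure) le_normalClosure
  have h2 : commutator H ⊔ (T : Subgroup H) = ⊤ := by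
    have : (commutator H ⊔ (T : Subgroup H)).Normal := Normal.of_commutator_le _ le_sup_left
    rw [eq_top_iff, ← h1]
    exact normalClosure_le_normal (fun x hx => (le_sup_right : (T : Subgroup H) ≤ _) hx)
  have h3 : pResidual p H ≤ commutator H := by
    rw [← resOf_top]
    exact resOf_le_of_pquot (h2 ▸ pquot_sup T.isPGroup' le_normalizer_of_normal)
  refine ⟨h1, h2, h3, fun Y hYT hTY hY => ?_⟩
  have hYp : IsPGroup p Y := T.isPGroup'.to_le hYT
  have hn : (⁅pResidual p H, Y⁆).Normal := by
    apply normal_of_top_le_normalizer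
    rw [← pResidual_sup_sylow T]
    exact sup_le (normalizer_commutator_ge_left _ _)
      (le_normalizer_commutator le_normalizer_of_normal hTY)
  have hn2 : (⁅pResidual p H, Y⁆ ⊔ Y).Normal := by
    apply normal_of_top_le_normalizer
    rw [← pResidual_sup_sylow T]
    refine sup_le ?_ (le_normalizer_sup le_normalizer_of_normal hTY)
    rw [le_normalizer_iff]
    intro r hr x hx
    obtain ⟨a, ha, y, hy, rfl⟩ := (mem_sup_of_le_normalizer le_normalizer_of_normal).1 hx
    have : r * (a * y) * r⁻¹ = (r * a * r⁻¹) * ⁅r, y⁆ * y := by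
      rw [commutatorElement_def]; group
    rw [this]
    exact mul_mem_sup (mul_mem (hn.conj_mem _ ha _) (commutator_mem_commutator hr hy)) hy
  have h4 : pResidual p H ≤ ⁅pResidual p H, Y⁆ := by
    have := key Y hYp hY _ hn2 le_sup_right
    rw [← resOf_top] at this ⊢
    rw [resOf_top] 
    rw [← resOf_top]
    refine resOf_le_of_le_of_pquot this ?_
    exact pquot_sup hYp (by rw [resOf_top]; exact le_normalizer_of_normal)
  exact ⟨le_antisymm (commutator_le_left _ _) h4, key Y hYp hY _ inferInstance le_normalClosure⟩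

end Cfsg.Agent.S2827
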