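import Cfsg.Statements.S2828
import Cfsg.Agent.H85.Basic

set_option autoImplicit false
open Cfsg

namespace Cfsg.Agent.S2828

open Cfsg.Agent.H85 Subgroup

/-- Let H be a finite group, p a prime and D a normal p-subgroup of H. Then H is p-irreducible if and only if H/D is p-irreducible, and H is strongly p-irreducible if and only if H/D is strongly p-irreducible. -/
theorem result {H : Type*} [Group H] [Finite H] {p : ℕ} [Fact p.Prime] (D : Subgroup H) [D.Normal] (hD : IsPGroup p ↥D) : (Cfsg.IsPIrreducible p H ↔ Cfsg.IsPIrreducible p (H ⧸ D)) ∧ (Cfsg.IsStronglyPIrreducible p H ↔ Cfsg.IsStronglyPIrreducible p (H ⧸ D)) := by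
  have hs := QuotientGroup.mk'_surjective D
  have hk : IsPGroup p (QuotientGroup.mk' D).ker := by rwa [QuotientGroup.ker_mk']
  have hc : ∀ N : Subgroup H, IsPClosed p (N.map (QuotientGroup.mk' D)) ↔ IsPClosed p N := by
    intro N
    refine ⟨fun h => isPClosed_of_le (isPClosed_comap _ hk h) (le_comap_map _ _), isPClosed_map _⟩
  have hc' : IsPClosed p (H ⧸ D) ↔ IsPClosed p H := by
    rw [← isPClosed_top_iff, ← isPClosed_top_iff (G := H), ← hc, map_top_of_surjective _ hs]
  have hr : ∀ N : Subgroup H, N.Normal →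
      (pResidual p (H ⧸ D) ≤ N.map (QuotientGroup.mk' D) ↔ pResidual p H ≤ N) := by
    intro N hN
    rw [← map_pResidual _ hs]
    refine ⟨fun h => ?_, map_mono⟩
    rw [map_le_iff_le_comap, comap_map_eq, QuotientGroup.ker_mk'] at h
    rw [← resOf_top] at h ⊢
    exact resOf_le_of_le_of_pquot h (pquot_sup hD le_normalizer_of_normal)
  have hs' : ∀ N : Subgroup H, ⁅N.map (QuotientGroup.mk' D), (⊤ : Subgroup (H ⧸ D))⁆ ≤ pCore p (H ⧸ D) ↔
      ⁅N, (⊤ : Subgroup H)⁆ ≤ pCore p H := by
    intro N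
    rw [← map_top_of_surjective _ hs, ← map_commutator, map_le_iff_le_comap, comap_pCore _ hs hk]
  refine ⟨?_, ?_⟩
  · unfold IsPIrreducible
    rw [hc']
    refine and_congr_right fun _ => ⟨fun h N hN hN' => ?_, fun h N hN hN' => ?_⟩
    · rw [← map_comap_eq_self_of_surjective hs N] at hN' ⊢
      rw [hr _ (hN.comap _)]
      exact h _ (hN.comap _) (by rwa [← hc])
    · rw [← hr N hN]
      exact h _ (hN.map _ hs) (by rwa [hc])
  · unfold IsStronglyPIrreducible
    rw [hc']
    refine and_congr_right fun _ => ⟨fun h N hN hN' => ?_, fun h N hN hN' => ?_⟩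
    · rw [← map_comap_eq_self_of_surjective hs N] at hN' ⊢
      rw [hr _ (hN.comap _)]
      exact h _ (hN.comap _) (by rwa [← hs'])
    · rw [← hr N hN]
      exact h _ (hN.map _ hs) (by rwa [hs'])

end Cfsg.Agent.S2828
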