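import Cfsg.Statements.S2829
import Cfsg.Agent.H85.Basic

set_option autoImplicit false
open Cfsg

namespace Cfsg.Agent.S2829

open Cfsg.Agent.H85 Subgroup

/-- Every strongly p-irreducible finite group is p-irreducible. -/
theorem result {H : Type*} [Group H] [Finite H] {p : ℕ} [Fact p.Prime] (hH : Cfsg.IsStronglyPIrreducible p H) : Cfsg.IsPIrreducible p H := by
  refine ⟨hH.1, fun N hN hc => hH.2 N hN fun hle => hc ?_⟩
  obtain ⟨T, hT⟩ := exists_isSyl p N
  refine isPClosed_of_isSyl_normal hT ?_
  rw [le_normalizer_iff_commutator_le_right]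
  have h1 : ⁅N, T⁆ ≤ N ⊓ pCore p H :=
    le_inf (commutator_le_left _ _) ((commutator_mono le_rfl le_top).trans hle)
  exact h1.trans ((inf_pCore_le N).trans hT.pCoreOf_le)

end Cfsg.Agent.S2829
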