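import Cfsg.Statements.S2830
import Cfsg.Agent.H85.Basic

set_option autoImplicit false
open Cfsg

namespace Cfsg.Agent.S2830

open Cfsg.Agent.H85 Subgroup

/-- Let H act by conjugation on the elementary abelian p-subgroup V of a finite group G (H ≤ N(V)), with H p-irreducible and O^p(H) not centralizing V. Then C_H(V) is p-closed and C_T(V) ≤ O_p(H) for every p-subgroup T of H. If in addition O_p(H) centralizes V, then C_T(V) = T ∩ O_p(H) for every p-subgroup T of H, and V is p-reduced for H: O_p(H/C_H(V)) = 1. -/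
theorem result {G : Type*} [Group G] [Finite G] {p : ℕ} [Fact p.Prime] (V H : Subgroup G) (hV : Cfsg.IsElementaryAbelian p V) (hHV : H ≤ Subgroup.normalizer (V : Set G)) (hH : Cfsg.IsPIrreducible p ↥H) (hnc : ¬ (Cfsg.pResidual p ↥H).map H.subtype ≤ Subgroup.centralizer (V : Set G)) [hn : ((Subgroup.centralizer (V : Set G)).subgroupOf H).Normal] : Cfsg.IsPClosed p ↥(H ⊓ Subgroup.centralizer (V : Set G)) ∧ (∀ T : Subgroup G, T ≤ H → IsPGroup p ↥T → T ⊓ Subgroup.centralizer (V : Set G) ≤ Cfsg.pCoreOf p H) ∧ (Cfsg.pCoreOf p H ≤ Subgroup.centralizer (V : Set G) → (∀ T : Subgroup G, T ≤ H → IsPGroup p ↥T → T ⊓ Subgroup.centralizer (V : Set G) = T ⊓ Cfsg.pCoreOf p H) ∧ Cfsg.pCore p (↥H ⧸ (Subgroup.centralizer (V : Set G)).subgroupOf H) = ⊥) := by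
  set C := centralizer (V : Set G) with hC
  have hnc' : ¬ pResidual p H ≤ C.subgroupOf H := fun h => hnc (map_le_iff_le_comap.2 h)
  have h1 : IsPClosed p (C.subgroupOf H) := by
    by_contra h
    exact hnc' (hH.2 _ hn h)
  have h2 : IsPClosed p ↥(H ⊓ C) := by
    rw [← isPClosed_subgroupOf_iff (inf_le_left : H ⊓ C ≤ H), inf_subgroupOf_left]
    exact h1
  have hnn : H ≤ normalizer ((H ⊓ C : Subgroup G) : Set G) :=
    le_normalizer_inf le_normalizer (hHV.trans (normalizer_le_normalizer_centralizer V))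
  have h3 : ∀ T : Subgroup G, T ≤ H → IsPGroup p ↥T → T ⊓ C ≤ pCoreOf p H := by
    intro T hTH hT
    exact (isPClosed_coe_iff.1 h2 _ (inf_le_inf_right _ hTH) hT.to_inf_left).trans
      (pCoreOf_le_pCoreOf inf_le_left hnn)
  refine ⟨h2, h3, fun hO => ⟨fun T hTH hT =>
    le_antisymm (le_inf inf_le_left (h3 T hTH hT)) (inf_le_inf_left _ hO), ?_⟩⟩
  set D := (pCore p (H ⧸ C.subgroupOf H)).comap (QuotientGroup.mk' (C.subgroupOf H)) with hD
  have hs := QuotientGroup.mk'_surjective (C.subgroupOf H)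
  have hCD : C.subgroupOf H ≤ D := by
    conv_lhs => rw [← QuotientGroup.ker_mk' (C.subgroupOf H)]
    exact ker_le_comap _ _
  have hq : PQuot p (C.subgroupOf H) D := by
    rw [pquot_iff_isPGroup_map_mk', hD, map_comap_eq_self_of_surjective hs]
    exact pCore_isPGroup _ _
  have hDc : IsPClosed p D := by
    by_contra h
    have := hH.2 D inferInstance h
    rw [← resOf_top] at this hnc'
    exact hnc' (resOf_le_of_le_of_pquot this hq)
  obtain ⟨P, hP⟩ := exists_isSyl p D
  have hP' : P ≤ C.subgroupOf H := by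
    refine (isPClosed_normal_iff.1 hDc P hP.le hP.isPGroup).trans ?_
    rw [← pCoreOf_subgroupOf]
    exact fun x hx => hO hx
  have := hP.sup_eq_of_pquot hCD le_normalizer_of_normal hq
  rw [sup_eq_left.2 hP'] at this
  rw [← map_comap_eq_self_of_surjective hs (pCore p _), ← hD, ← this, Subgroup.map_eq_bot_iff,
    QuotientGroup.ker_mk']

end Cfsg.Agent.S2830
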