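import Cfsg.Statements.S2831
import Cfsg.Agent.H85.Basic

set_option autoImplicit false
open Cfsg

namespace Cfsg.Agent.S2831

open Cfsg.Agent.H85 Subgroup

/-- Let H be a finite group with Sylow p-subgroup T such that H is T-minimal (H is generated by the conjugates of T and T lies in exactly one maximal subgroup of H). Then H is p-irreducible: H is not p-closed and O^p(H) lies in every normal subgroup of H that is not p-closed. -/
theorem result {H : Type*} [Group H] [Finite H] {p : ℕ} [Fact p.Prime] (T : Sylow p H) (hmin : Cfsg.IsMinimalOver (T : Subgroup H)) : Cfsg.IsPIrreducible p H := by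
  obtain ⟨hcl, M, ⟨hM, hTM⟩, huniq⟩ := hmin
  have hle : ∀ K : Subgroup H, (T : Subgroup H) ≤ K → K ≠ ⊤ → K ≤ M := by
    intro K hTK hK
    obtain ⟨M', hM', hKM'⟩ := (eq_top_or_exists_le_coatom K).resolve_left hK
    rw [← huniq M' ⟨hM', hTK.trans hKM'⟩]; exact hKM'
  refine ⟨fun h => hM.1 ?_, fun N hN hc => ?_⟩
  · have := h T
    rw [normalClosure_eq_self] at hcl
    exact top_le_iff.1 (hcl ▸ hTM)
  · by_cases h1 : N ⊔ (T : Subgroup H) = ⊤
    · rw [← resOf_top]
      exact resOf_le_of_pquot (h1 ▸ pquot_sup T.isPGroup' le_normalizer_of_normal)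
    · exfalso
      have hNM : N ≤ M := le_sup_left.trans (hle _ le_sup_right h1)
      have hS := (isSyl_top T).inf_of_le_normalizer (N := N) le_top le_normalizer_of_normal
      have hF := hS.frattini le_top le_normalizer_of_normal
      rw [top_inf_eq] at hF
      by_cases h2 : normalizer (((T : Subgroup H) ⊓ N : Subgroup H) : Set H) = ⊤
      · exact hc (isPClosed_of_isSyl_normal hS (h2 ▸ le_top))
      · have := hle _ (le_normalizer_inf le_normalizer le_normalizer_of_normal) h2
        exact hM.1 (top_le_iff.1 (hF ▸ sup_le hNM this))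

end Cfsg.Agent.S2831
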