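import Cfsg.Statements.S2832
import Cfsg.Agent.H85.Basic

set_option autoImplicit false
open Cfsg

namespace Cfsg.Agent.S2832

open Cfsg.Agent.H85 Subgroup

/-- Let H be a finite group with Sylow p-subgroup T such that H is T-minimal (generated by the conjugates of T, with T in exactly one maximal subgroup), and let N be a normal subgroup of H. Then either H/N is a p-group or H/N is minimal over the image of T in the same sense. -/
theorem result {H : Type*} [Group H] [Finite H] {p : ℕ} [Fact p.Prime] (T : Sylow p H) (hmin : Cfsg.IsMinimalOver (T : Subgroup H)) (N : Subgroup H) [N.Normal] : IsPGroup p (H ⧸ N) ∨ Cfsg.IsMinimalOver ((T : Subgroup H).map (QuotientGroup.mk' N)) := by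
  obtain ⟨hcl, M, ⟨hM, hTM⟩, huniq⟩ := hmin
  have hle : ∀ K : Subgroup H, (T : Subgroup H) ≤ K → K ≠ ⊤ → K ≤ M := by
    intro K hTK hK
    obtain ⟨M', hM', hKM'⟩ := (eq_top_or_exists_le_coatom K).resolve_left hK
    rw [← huniq M' ⟨hM', hTK.trans hKM'⟩]; exact hKM'
  have hs := QuotientGroup.mk'_surjective N
  by_cases h1 : N ⊔ (T : Subgroup H) = ⊤
  · left
    rw [← pquot_top_iff]
    exact h1 ▸ pquot_sup T.isPGroup' le_normalizer_of_normal
  · right
    have hNM : N ≤ M := le_sup_left.trans (hle _ le_sup_right h1)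
    have hMM : (M.map (QuotientGroup.mk' N)).comap (QuotientGroup.mk' N) = M :=
      comap_map_eq_self (by rwa [QuotientGroup.ker_mk'])
    have hMt : M.map (QuotientGroup.mk' N) ≠ ⊤ := fun h => hM.1 (by rw [← hMM, h, comap_top])
    have hle' : ∀ K : Subgroup (H ⧸ N), (T : Subgroup H).map (QuotientGroup.mk' N) ≤ K → K ≠ ⊤ →
        K ≤ M.map (QuotientGroup.mk' N) := by
      intro K hTK hK
      rw [← map_comap_eq_self_of_surjective hs K]
      refine map_mono (hle _ (map_le_iff_le_comap.1 hTK) fun h => hK ?_)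
      rw [← map_comap_eq_self_of_surjective hs K, h, map_top_of_surjective _ hs]
    refine ⟨?_, M.map (QuotientGroup.mk' N), ⟨⟨hMt, fun K hK => ?_⟩, map_mono hTM⟩, ?_⟩
    · rw [coe_map, ← map_normalClosure _ _ hs, hcl, map_top_of_surjective _ hs]
    · by_contra h
      exact hK.not_ge (hle' K ((map_mono hTM).trans hK.le) h)
    · rintro K ⟨hK, hTK⟩
      exact (hK.le_iff_eq hMt).1 (hle' K hTK hK.1) |>.symm

end Cfsg.Agent.S2832
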