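import Cfsg.Statements.S2835
import Cfsg.Agent.H85.Minimal

set_option autoImplicit false
open Cfsg

namespace Cfsg.Agent.S2835

open Cfsg.Agent.H85 Subgroup

/-- Let L be a finite group, L₀ a maximal subgroup, T a Sylow p-subgroup of L₀ and Y ≤ T, and suppose L is Y-minimal (generated by the conjugates of Y, with Y in exactly one maximal subgroup, necessarily L₀). Then N_L(T) ≤ L₀, O_p(L) ≤ L₀ and T is a Sylow p-subgroup of L; N_L(L₀) = L₀; L = ⟨Y, gYg⁻¹⟩ for each g ∈ L outside L₀; and if Y is abelian then Y ∩ gYg⁻¹ = C_Y(L) for each such g. -/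
theorem result {L : Type*} [Group L] [Finite L] {p : ℕ} [Fact p.Prime] (L₀ : Subgroup L) (hL₀ : IsCoatom L₀) (T : Sylow p ↥L₀) (Y : Subgroup L) (hYT : Y ≤ (T : Subgroup ↥L₀).map L₀.subtype) (hmin : Cfsg.IsMinimalOver Y) : Subgroup.normalizer (((T : Subgroup ↥L₀).map L₀.subtype : Subgroup L) : Set L) ≤ L₀ ∧ Cfsg.pCore p L ≤ L₀ ∧ (∃ P : Sylow p L, (P : Subgroup L) = (T : Subgroup ↥L₀).map L₀.subtype) ∧ Subgroup.normalizer (L₀ : Set L) = L₀ ∧ (∀ g : L, g ∉ L₀ → Y ⊔ Y.map (MulAut.conj g).toMonoidHom = ⊤) ∧ (IsMulCommutative ↥Y → ∀ g : L, g ∉ L₀ → Y ⊓ Y.map (MulAut.conj g).toMonoidHom = Y ⊓ Subgroup.center L) := by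
  set T' := (T : Subgroup L₀).map L₀.subtype with hT'
  have hS : IsSyl p T' L₀ := isSyl_map_subtype T
  have hYL : Y ≤ L₀ := hYT.trans hS.le
  have hU : UniqMax Y L₀ ⊤ := uniqMax_top_iff.2 ⟨⟨hL₀, hYL⟩, hmin.2⟩
  have hnn := not_normal_of_normalClosure_eq_top hmin.1 hYL hL₀.1
  have h1 : normalizer (T' : Set L) ≤ L₀ := by
    refine hU.le_of_ne (hYT.trans le_normalizer) le_top fun h => ?_
    exact not_normal_of_normalClosure_eq_top hmin.1 hYT
      (fun h' => hL₀.1 (top_le_iff.1 (h' ▸ hS.le))) h.ge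
  have h2 : IsSyl p T' ⊤ := hS.of_normalizer_le le_top (inf_le_right.trans h1)
  have h3 : ∀ g : L, g ∉ L₀ → Y ⊔ cj g Y = ⊤ := fun g hg => hU.sup_cj_eq hnn (mem_top g) hg
  refine ⟨h1, ((pCoreOf_top p).ge.trans h2.pCoreOf_le).trans hS.le, ⟨h2.toSylowTop, rfl⟩,
    le_antisymm (fun g hg => hU.mem_of_mem_normalizer hnn (mem_top g) hg) le_normalizer, h3,
    fun hY g hg => le_antisymm (le_inf inf_le_left ?_) (le_inf inf_le_left ?_)⟩
  · rw [← centralizer_univ, ← coe_top, le_centralizer_iff, ← h3 g hg]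
    refine sup_le ((le_centralizer Y).trans (centralizer_le inf_le_left)) ?_
    refine le_trans ?_ (centralizer_le (inf_le_right : Y ⊓ cj g Y ≤ cj g Y))
    rw [← cj_centralizer]
    exact cj_mono g (le_centralizer Y)
  · rintro y ⟨hy, hz⟩
    rw [mem_cj]
    have := mem_center_iff.1 hz g⁻¹
    rwa [this, inv_mul_cancel_right]

end Cfsg.Agent.S2835
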