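import Cfsg.Statements.S2840
import Cfsg.Agent.H85.WeakClosed

set_option autoImplicit false
open Cfsg

namespace Cfsg.Agent.S2840

open Cfsg.Agent.H85 Subgroup

/-- Let Q be a nontrivial p-subgroup of the finite group H that is a weakly closed subgroup and K a subgroup containing Q; let K° be the weak closure of Q in K (generated by the H-conjugates of Q inside K). Then K° is generated by the K-conjugates of Q, and K° is the subnormal closure of Q in K. -/
theorem result {H : Type*} [Group H] [Finite H] {p : ℕ} [Fact p.Prime] (Q : Subgroup H) (hQp : IsPGroup p ↥Q) (hQ1 : Q ≠ ⊥) (hwc : Cfsg.IsWeaklyClosedSubgroup p Q) (K : Subgroup H) (hQK : Q ≤ K) (Kc : Subgroup H) (hKc : Kc = Cfsg.weakClosure Q K) : Kc = ⨆ k : ↥K, ((Q : Subgroup H).map (MulAut.conj ((k : H) : H)).toMonoidHom) ∧ Kc = (Cfsg.subnormalClosure (Q.subgroupOf K)).map K.subtype := by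
  have h := wc_of_isWeaklyClosedSubgroup hwc
  subst hKc
  refine ⟨h.weakClosure_eq hQp hQK, le_antisymm ?_ ?_⟩
  · rw [h.weakClosure_le_iff hQp hQK]
    intro k hk
    rw [← map_subgroupOf_eq_of_le (cj_le_of_mem hQK hk)]
    refine map_mono (le_sInf fun S hS => ?_)
    have := (h.subgroupOf hQK).cj_le_of_isSubnormal hQp.comap_subtype hS.2 hS.1 ⟨k, hk⟩
    rwa [cj_subgroupOf] at this
  · rw [map_le_iff_le_comap]
    refine sInf_le ⟨fun x hx => le_weakClosure hQK hx, Normal.isSubnormal ?_⟩
    exact (normal_subgroupOf_iff_le_normalizer (weakClosure_le Q K)).2 (le_normalizer_weakClosure Q K)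

end Cfsg.Agent.S2840
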