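import Cfsg.Statements.S2841
import Cfsg.Agent.H85.Comm
import Cfsg.Agent.H85.WeakClosed

set_option autoImplicit false
open Cfsg

namespace Cfsg.Agent.S2841

open Cfsg.Agent.H85 Subgroup
open scoped commutatorElement

/-- Let Q be a nontrivial p-subgroup of the finite group H that is a weakly closed subgroup and N a normal subgroup of H. Then N = N_N(Q)·[N, Q] and [N, Q] = (Q ∩ [N, Q])·[N, Q, Q]. -/
theorem result {H : Type*} [Group H] [Finite H] {p : ℕ} [Fact p.Prime] (Q : Subgroup H) (hQp : IsPGroup p ↥Q) (hQ1 : Q ≠ ⊥) (hwc : Cfsg.IsWeaklyClosedSubgroup p Q) (N' : Subgroup H) [N'.Normal] : (∀ n : H, n ∈ N' → ∃ a ∈ N' ⊓ Subgroup.normalizer ((Q : Subgroup H) : Set H), ∃ b ∈ ⁅N', Q⁆, n = a * b) ∧ (∀ c : H, c ∈ ⁅N', Q⁆ → ∃ a ∈ Q ⊓ ⁅N', Q⁆, ∃ b ∈ ⁅⁅N', Q⁆, Q⁆, c = a * b) := by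
  have h := wc_of_isWeaklyClosedSubgroup hwc
  set C := ⁅N', Q⁆ with hC
  have hCN : C ≤ N' := commutator_le_left _ _
  have hNC : N' ≤ normalizer (C : Set H) := normalizer_commutator_ge_left _ _
  have hQC : Q ≤ normalizer (C : Set H) := normalizer_commutator_ge_right _ _
  have h1 : ∀ n ∈ N', ∃ a ∈ N' ⊓ normalizer (Q : Set H), ∃ b ∈ C, n = a * b := by
    have hF := h.frattini hQp (le_sup_right : Q ≤ C ⊔ Q) (K := N' ⊔ Q) (sup_le_sup_right hCN Q)
      (sup_le (le_normalizer_commutator_sup N' Q) (le_sup_right.trans le_normalizer))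
    have h2 : N' = C ⊔ (N' ⊓ normalizer (Q : Set H)) := by
      have h3 : (N' ⊔ Q) ⊓ normalizer (Q : Set H) ≤ normalizer (C : Set H) :=
        inf_le_left.trans (sup_le hNC hQC)
      rw [sup_assoc, sup_eq_right.2 (le_inf le_sup_right le_normalizer)] at hF
      have h4 := sup_inf_of_le_normalizer h3 hCN
      rw [hF, inf_eq_right.2 le_sup_left] at h4
      refine h4.trans (le_antisymm (sup_le_sup_left ?_ _) (sup_le_sup_left ?_ _))
      · exact le_inf inf_le_right (inf_le_left.trans inf_le_right)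
      · exact le_inf (inf_le_inf_right _ le_sup_left) inf_le_left
    intro n hn
    rw [h2, sup_comm] at hn
    obtain ⟨a, ha, b, hb, rfl⟩ := (mem_sup_of_le_normalizer' (inf_le_left.trans hNC)).1 hn
    exact ⟨a, ha, b, hb, rfl⟩
  refine ⟨h1, fun c hc => ?_⟩
  have h2 : C ≤ (Q ⊓ C) ⊔ ⁅C, Q⁆ := by
    conv_lhs => rw [hC]
    rw [commutator_le]
    intro n hn q hq
    obtain ⟨a, ha, b, hb, rfl⟩ := h1 n hn
    have : ⁅a * b, q⁆ = (a * ⁅b, q⁆ * a⁻¹) * ⁅a, q⁆ := by
      simp only [commutatorElement_def]; group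
    rw [this, sup_comm]
    refine mul_mem_sup ?_ ⟨?_, commutator_mem_commutator ha.1 hq⟩
    · have : a ∈ normalizer ((⁅C, Q⁆ : Subgroup H) : Set H) :=
        le_normalizer_commutator (inf_le_left.trans hNC) inf_le_right ha
      exact (mem_normalizer_iff.1 this _).1 (commutator_mem_commutator hb hq)
    · exact Q.mul_mem ((mem_normalizer_iff.1 ha.2 q).1 hq) (Q.inv_mem hq)
  obtain ⟨a, ha, b, hb, rfl⟩ := (mem_sup_of_le_normalizer'
    (inf_le_right.trans (normalizer_commutator_ge_left C Q))).1 (h2 hc)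
  exact ⟨a, ha, b, hb, rfl⟩

end Cfsg.Agent.S2841
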