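import Cfsg.Statements.S2843
import Cfsg.Agent.H83.Large
import Cfsg.Agent.H85.WeakClosed2

set_option autoImplicit false
open Cfsg

namespace Cfsg.Agent.S2843

open Subgroup Cfsg.Agent.H83
open scoped commutatorElement

/-- Let Q be a nontrivial large p-subgroup of the finite group H, Q ≤ L ≤ H, and Y a nontrivial p-subgroup of H normalized by L. Let L° be the weak closure of Q in L (generated by the conjugates of Q inside L). Then L° equals the weak closure of Q in L·C_H(Y), and [L°, C_H(Y)] ≤ O_p(L°); in particular C_H(Y) normalizes L°. -/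
theorem result {H : Type*} [Group H] [Finite H] {p : ℕ} [Fact p.Prime] (Q : Subgroup H) (hQp : IsPGroup p ↥Q) (hQ1 : Q ≠ ⊥) (hL : Cfsg.IsLarge Q) (L : Subgroup H) (hQL : Q ≤ L) (Y : Subgroup H) (hYp : IsPGroup p ↥Y) (hY1 : Y ≠ ⊥) (hLY : L ≤ Subgroup.normalizer ((Y : Subgroup H) : Set H)) : Cfsg.weakClosure Q L = Cfsg.weakClosure Q (L ⊔ Subgroup.centralizer ((Y : Subgroup H) : Set H)) ∧ ⁅Cfsg.weakClosure Q L, Subgroup.centralizer ((Y : Subgroup H) : Set H)⁆ ≤ (Cfsg.pCoreOf p (Cfsg.weakClosure Q L)) ∧ Subgroup.centralizer ((Y : Subgroup H) : Set H) ≤ Subgroup.normalizer (((Cfsg.weakClosure Q L) : Subgroup H) : Set H) := by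
  have e := large_weakClosure_sup hL hQp hQ1 hQL hYp hY1 hLY
  have hn : centralizer (Y : Set H) ≤ normalizer (weakClosure Q L : Set H) := by
    rw [← e]
    exact le_sup_right.trans (H85.le_normalizer_weakClosure Q _)
  refine ⟨e.symm, ?_, hn⟩
  have h1 := (H85.wc_of_isLarge hL hQ1).commutator_weakClosure_le hQp hQL (le_norm_cent hLY)
    (large_cent_le_norm hL hQp hYp hY1 (hQL.trans hLY))
  rw [commutator_comm] at h1
  have hW : weakClosure Q L ≤ L := H85.weakClosure_le Q L
  refine (le_inf h1 (comm_le_left hn)).trans (le_pCoreOf inf_le_right (le_norm_inf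
    (norm_pCoreOf (le_norm_cent (hW.trans hLY))) le_normalizer)
    ((pCoreOf_isPGroup _).to_inf_left))

end Cfsg.Agent.S2843
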