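import Cfsg.Statements.S2848
import Cfsg.Agent.H83.Large

set_option autoImplicit false
open Cfsg

namespace Cfsg.Agent.S2848

open Subgroup Cfsg.Agent.H83

/-- Standing hypotheses: G a finite group, S a Sylow p-subgroup, Q a nontrivial large p-subgroup of G contained in S (C_G(Q) ≤ Q and N_G(U) ≤ N_G(Q) for all nontrivial U ≤ C_G(Q)), and M a subgroup containing S with the basic property (M ∈ 𝔐_G(S)); Y_M denotes the largest p-reduced normal subgroup of M and M† = M·C_G(Y_M). Then O_p(M) is a weakly closed subgroup of M† (for p): it is the only M†-conjugate of itself inside some Sylow p-subgroup of M† containing it. -/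
theorem result {G : Type*} [Group G] [Finite G] {p : ℕ} [Fact p.Prime] (S : Sylow p G) (Q : Subgroup G) (hQp : IsPGroup p ↥Q) (hQ1 : Q ≠ ⊥) (hQS : Q ≤ (S : Subgroup G)) (hQ : Cfsg.IsLarge Q) (M : Subgroup G) (hSM : (S : Subgroup G) ≤ M) (hM : Cfsg.IsInFrakM p M) : Cfsg.IsWeaklyClosedSubgroup p (((Cfsg.pCoreOf p M)).subgroupOf (M ⊔ Subgroup.centralizer (((Cfsg.largestPReducedOf p M) : Subgroup G) : Set G))) := by
  have h := BP.of_large hQp hQ hSM hM
  have hO : pCoreOf p M ≤ dag p M := (pCoreOf_le M).trans le_sup_left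
  refine H85.WC.isWeaklyClosedSubgroup (fun g R hR h1 h2 => ?_)
    ((isPGroup_subgroupOf_iff hO).mpr (pCoreOf_isPGroup M))
  rw [H85.cj_subgroupOf] at h2 ⊢
  congr 1
  refine eq_of_le_of_card_ge ?_ (card_cj _ _).ge
  have e := h.inf_cent (R := R.map (dag p M).subtype) (isPGroup_map_subtype_iff.mpr hR)
    (by rw [← subgroupOf_map_of_le hO]; exact map_mono h1)
  refine le_trans (le_inf ?_ (cj_le_of_norm (pCoreOf_le_cent_YY M)
    (le_norm_cent (dag_le_norm M) g.2))) e.le
  exact (subgroupOf_map_of_le (cj_le_of_mem hO g.2)).ge.trans (map_mono h2)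

end Cfsg.Agent.S2848
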