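import Cfsg.Statements.S2850
import Cfsg.Agent.H83.Large

set_option autoImplicit false
open Cfsg

namespace Cfsg.Agent.S2850

open Subgroup Cfsg.Agent.H83

/-- Standing hypotheses: G a finite group, S a Sylow p-subgroup, Q a nontrivial large p-subgroup of G contained in S (C_G(Q) ≤ Q and N_G(U) ≤ N_G(Q) for all nontrivial U ≤ C_G(Q)), and M a subgroup containing S with the basic property (M ∈ 𝔐_G(S)); Y_M denotes the largest p-reduced normal subgroup of M and M† = M·C_G(Y_M). Suppose Y_M is asymmetric in G. Then N_G(L) ≤ N_G(O_p(M)) ≤ M† for every p-subgroup L containing O_p(M); O_p(M) is a weakly closed subgroup of G; for every subgroup L containing O_p(M), L ∩ M† contains a Sylow p-subgroup of L; and two elements of Y_M conjugate in G are conjugate in M. -/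
theorem result {G : Type*} [Group G] [Finite G] {p : ℕ} [Fact p.Prime] (S : Sylow p G) (Q : Subgroup G) (hQp : IsPGroup p ↥Q) (hQ1 : Q ≠ ⊥) (hQS : Q ≤ (S : Subgroup G)) (hQ : Cfsg.IsLarge Q) (M : Subgroup G) (hSM : (S : Subgroup G) ≤ M) (hM : Cfsg.IsInFrakM p M) (hasym : ¬ Cfsg.IsSymmetricIn (Cfsg.largestPReducedOf p M)) : (∀ L : Subgroup G, IsPGroup p ↥L → (Cfsg.pCoreOf p M) ≤ L → Subgroup.normalizer ((L : Subgroup G) : Set G) ≤ Subgroup.normalizer (((Cfsg.pCoreOf p M) : Subgroup G) : Set G) ∧ Subgroup.normalizer (((Cfsg.pCoreOf p M) : Subgroup G) : Set G) ≤ (M ⊔ Subgroup.centralizer (((Cfsg.largestPReducedOf p M) : Subgroup G) : Set G))) ∧ Cfsg.IsWeaklyClosedSubgroup p (Cfsg.pCoreOf p M) ∧ (∀ L : Subgroup G, (Cfsg.pCoreOf p M) ≤ L → Cfsg.IsParabolic p ((L ⊓ (M ⊔ Subgroup.centralizer (((Cfsg.largestPReducedOf p M) : Subgroup G) : Set G))).subgroupOf L)) ∧ (∀ x ∈ (Cfsg.largestPReducedOf p M), ∀ g : G, g * x * g⁻¹ ∈ (Cfsg.largestPReducedOf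 p M) → ∃ m ∈ M, m * x * m⁻¹ = g * x * g⁻¹) := by
  have h := BP.of_large hQp hQ hSM hM
  have hw := h.wc hasym
  have hO := pCoreOf_isPGroup (p := p) M
  have hN : normalizer (pCoreOf p M : Set G) ≤ dag p M := h.norm_O_le.trans h.norm_Y.le
  refine ⟨fun L hL hOL => ⟨hw.normalizer_le hL hOL, hN⟩, hw.isWeaklyClosedSubgroup hO,
    fun L hL => ?_, fun x hx g hg => ?_⟩
  · obtain ⟨T, hT, -, h2⟩ := wc_exists_sylow hw hO hL
    exact (isParabolic_subgroupOf_iff inf_le_left).mpr ⟨T, hT, le_inf hT.le (h2.trans hN)⟩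
  · have h1 : pCoreOf p M ≤ centralizer {x} :=
      (pCoreOf_le_cent_YY M).trans (cent_le_cent_singleton hx)
    obtain ⟨k, hk, e⟩ := hw.exists_cj_eq (K := centralizer {g * x * g⁻¹}) hO
      ((pCoreOf_le_cent_YY M).trans (cent_le_cent_singleton hg)) (g := g)
      (by rw [← cj_cent_singleton]; exact cj_mono g h1)
    have h2 : k⁻¹ * g ∈ normalizer (pCoreOf p M : Set G) := by
      rw [← cj_eq_self_iff, cj_mul]
      exact (congrArg (cj k⁻¹) e).trans (cj_inv_cj k _)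
    obtain ⟨m, hm, c, hc, e2⟩ := (mem_sup_cent (le_norm_YY M)).mp (hN h2)
    refine ⟨m, hm, ?_⟩
    have h3 : x * c = c * x := hc x hx
    have h4 := mem_cent_singleton.mp hk
    have h5 : m = k⁻¹ * g * c⁻¹ := by rw [← e2]; group
    calc m * x * m⁻¹ = k⁻¹ * g * c⁻¹ * (x * c) * g⁻¹ * k := by rw [h5]; group
      _ = k⁻¹ * (g * x * g⁻¹ * k) := by rw [h3]; group
      _ = g * x * g⁻¹ := by rw [h4]; group

end Cfsg.Agent.S2850
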