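import Cfsg.Statements.S2851
import Cfsg.Agent.H83.Large
import Cfsg.Agent.H83.FStarP

set_option autoImplicit false
open Cfsg

namespace Cfsg.Agent.S2851

open Subgroup Cfsg.Agent.H83
open scoped commutatorElement

theorem aux {X : Type*} [Group X] [Finite X] {p : ℕ} [Fact p.Prime] (hO : pCore p X = ⊥)
    {P : Subgroup X} (hP : IsPGroup p P)
    (hn : generalizedFittingSubgroup X ≤ normalizer (P : Set X)) : P = ⊥ := by
  haveI := H52.fstar_normal (G := X)
  refine eq_bot_of_le_cent_fstar hO hP (comm_eq_bot_iff.mp ?_)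
  have h1 : ⁅generalizedFittingSubgroup X, P⁆ ≤ generalizedFittingSubgroup X ⊓ P :=
    le_inf (commutator_le_left _ _) (comm_le_right hn)
  rw [eq_bot_iff]
  refine h1.trans ((le_pCoreOf inf_le_left (le_norm_inf le_normalizer hn)
    hP.to_inf_right).trans ?_)
  rw [pCoreOf_eq_bot_of_subnormal hO (Normal.isSubnormal inferInstance)]

/-- Standing hypotheses: G a finite group, S a Sylow p-subgroup, Q a nontrivial large p-subgroup of G contained in S, M a subgroup containing S with the basic property (M ∈ 𝔐_G(S)); Y_M the largest p-reduced normal subgroup of M and M† = M·C_G(Y_M). Let F be the preimage in M† of the generalized Fitting subgroup of M†/C_{M†}(Y_M). If Y_M is asymmetric in G and H is a subgroup of characteristic p containing F, then Y_M ≤ Y_H. -/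
theorem result {G : Type*} [Group G] [Finite G] {p : ℕ} [Fact p.Prime] (S : Sylow p G) (Q : Subgroup G) (hQp : IsPGroup p ↥Q) (hQ1 : Q ≠ ⊥) (hQS : Q ≤ (S : Subgroup G)) (hQ : Cfsg.IsLarge Q) (M : Subgroup G) (hSM : (S : Subgroup G) ≤ M) (hM : Cfsg.IsInFrakM p M) (hasym : ¬ Cfsg.IsSymmetricIn (Cfsg.largestPReducedOf p M)) [hn : ((Subgroup.centralizer (((Cfsg.largestPReducedOf p M) : Subgroup G) : Set G)).subgroupOf (M ⊔ Subgroup.centralizer (((Cfsg.largestPReducedOf p M) : Subgroup G) : Set G))).Normal] (F : Subgroup G) (hF : F = ((Cfsg.generalizedFittingSubgroup (↥(M ⊔ Subgroup.centralizer (((Cfsg.largestPReducedOf p M) : Subgroup G) : Set G)) ⧸ (Subgroup.centralizer (((Cfsg.largestPReducedOf p M) : Subgroup G) : Set G)).subgroupOf (M ⊔ Subgroup.centralizer (((Cfsg.largestPReducedOf p M) : Subgroup G) : Set G)))).comap (QuotientGroup.mk' ((Subgroup.centralizer (((Cfsg.largestPReducedOf p M) : Subgroup G) : Set G)).subgroupOf (M ⊔ Subgroup.centralizer (((Cfsg.largestPReducedOf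 p M) : Subgroup G) : Set G))))).map ((M ⊔ Subgroup.centralizer (((Cfsg.largestPReducedOf p M) : Subgroup G) : Set G))).subtype) (H : Subgroup G) (hFH : F ≤ H) (hH : Subgroup.centralizer (Cfsg.pCore p ↥H : Set ↥H) ≤ Cfsg.pCore p ↥H) : (Cfsg.largestPReducedOf p M) ≤ Cfsg.largestPReducedOf p H := by
  have h := BP.of_large hQp hQ hSM hM
  have hw := h.wc hasym
  have hO := pCoreOf_isPGroup (p := p) M
  have hN : normalizer (pCoreOf p M : Set G) ≤ dag p M := h.norm_O_le.trans h.norm_Y.le
  set C := centralizer (YY p M : Set G) with hC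
  set f := QuotientGroup.mk' (C.subgroupOf (dag p M)) with hf
  have hCF : C ≤ F := by
    rw [hF, ← subgroupOf_map_of_le (le_sup_right : C ≤ dag p M)]
    refine map_mono ?_
    have := ker_le_comap f (generalizedFittingSubgroup _)
    rwa [QuotientGroup.ker_mk'] at this
  have hOH : pCoreOf p M ≤ H := (pCoreOf_le_cent_YY M).trans (hCF.trans hFH)
  obtain ⟨T, hT, -, h2⟩ := wc_exists_sylow hw hO hOH
  refine le_trans (PRed.le_YY (L := H ⊓ dag p M) ⟨le_inf ((YY_le_pCoreOf M).trans hOH)
    ((YY_le M).trans le_sup_left), inf_le_right.trans (dag_le_norm M), EA_YY M, ?_⟩)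
    (YY_mono (charP_iff.mpr hH) hT (le_inf hT.le (h2.trans hN)) inf_le_left)
  intro D hD hDn hm
  have hq : pCore p (dag p M ⧸ C.subgroupOf (dag p M)) = ⊥ :=
    redMod_iff_quotient.mp h.pRed_dag.red
  have hDd : D ≤ dag p M := hD.trans inf_le_right
  have h3 : (D.subgroupOf (dag p M)).map f = ⊥ := by
    refine aux hq (pMod_iff_quotient.mp ((pMod_subgroupOf hDd).mpr hm)) fun x hx => ?_
    obtain ⟨y, rfl⟩ := QuotientGroup.mk'_surjective _ x
    have hy : (y : G) ∈ F := by
      rw [hF]; exact ⟨y, hx, rfl⟩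
    have h4 : y ∈ normalizer ((D.subgroupOf (dag p M) : Subgroup (dag p M)) : Set (dag p M)) := by
      rw [← cj_eq_self_iff]
      exact (H85.cj_subgroupOf y D).trans (congrArg (·.subgroupOf (dag p M))
        (cj_eq_self (hDn ⟨hFH hy, y.2⟩)))
    exact le_normalizer_map f ⟨y, h4, rfl⟩
  rw [Subgroup.map_eq_bot_iff, QuotientGroup.ker_mk'] at h3
  intro d hd
  exact h3 (show (⟨d, hDd hd⟩ : dag p M) ∈ D.subgroupOf _ from hd)

end Cfsg.Agent.S2851
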