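import Cfsg.Statements.S2852
import Cfsg.Agent.H83.Large
import Cfsg.Agent.H81.Basic

set_option autoImplicit false
open Cfsg

namespace Cfsg.Agent.S2852

open Subgroup Cfsg.Agent.H83

/-- Standing hypotheses: G a finite group, S a Sylow p-subgroup, Q a nontrivial large p-subgroup of G contained in S, M a subgroup containing S with the basic property (M ∈ 𝔐_G(S)); Y_M the largest p-reduced normal subgroup of M. If Y_M is char-p-tall and asymmetric in G, then some subgroup H of G lies in ℌ_G(O_p(M)): H has characteristic p, O_p(M) ≤ H, Y_M ≰ O_p(H), and Y_M ≤ O_p(P) for every proper subgroup P of H containing O_p(M). -/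
theorem result {G : Type*} [Group G] [Finite G] {p : ℕ} [Fact p.Prime] (S : Sylow p G) (Q : Subgroup G) (hQp : IsPGroup p ↥Q) (hQ1 : Q ≠ ⊥) (hQS : Q ≤ (S : Subgroup G)) (hQ : Cfsg.IsLarge Q) (M : Subgroup G) (hSM : (S : Subgroup G) ≤ M) (hM : Cfsg.IsInFrakM p M) (htall : Cfsg.IsCharPTall p (Cfsg.largestPReducedOf p M)) (hasym : ¬ Cfsg.IsSymmetricIn (Cfsg.largestPReducedOf p M)) : ∃ H : Subgroup G, Cfsg.IsInFrakH p M H := by
  have h := BP.of_large hQp hQ hSM hM
  have hw := h.wc hasym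
  have hO := pCoreOf_isPGroup (p := p) M
  obtain ⟨T, L, h1, h2, h3⟩ := htall
  obtain ⟨c, hc, e⟩ := (isSylowIn_map T).exists_conj h.sylO
  have hL : CharP p (cj c L) := (charP_iff.mpr h2).cj c
  have hOL : pCoreOf p M ≤ cj c L := e ▸ cj_mono c h1
  have hY : ¬ YY p M ≤ pCoreOf p (cj c L) := by
    rw [← cj_pCoreOf]
    exact fun h4 => h3 (cj_le_cj_iff.mp ((cj_eq_self (centralizer_le_normalizer _ hc)).le.trans h4))
  obtain ⟨H, hHL, ⟨hOH, hYH⟩, hmin⟩ := H81.exists_minimal_subgroup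
    (fun K => pCoreOf p M ≤ K ∧ ¬ YY p M ≤ pCoreOf p K) (H := cj c L) ⟨hOL, hY⟩
  refine ⟨H, charP_iff.mp (hL.of_self_cent hO hOH hHL (wc_pCoreOf_le_norm hw hO hOL)
    (inf_le_right.trans h.cent_O_le)), hOH, hYH, fun P h4 h5 => ?_⟩
  by_contra h6
  exact h5.ne (hmin P ⟨h4, h6⟩ h5.le)

end Cfsg.Agent.S2852
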