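import Cfsg.Statements.S2854
import Cfsg.Agent.H83.FrakH

set_option autoImplicit false
open Cfsg

namespace Cfsg.Agent.S2854

open Subgroup Cfsg.Agent.H83
open scoped commutatorElement

/-- Standing hypotheses: G a finite group, S a Sylow p-subgroup, Q a nontrivial large p-subgroup of G contained in S, M a subgroup containing S with the basic property (M ∈ 𝔐_G(S)); Y_M the largest p-reduced normal subgroup of M and M† = M·C_G(Y_M). Suppose Y_M is asymmetric in G, H ∈ ℌ_G(O_p(M)), and H ≤ N_G(gQg⁻¹) for some g ∈ G. Then gQg⁻¹ ≤ O_p(H·gQg⁻¹) ≤ N_G(O_p(M)) ≤ N_G(Y_M) = M†; H is normal in H·gQg⁻¹ with O^p(H) = O^p(H·gQg⁻¹); and H·gQg⁻¹ is p-irreducible. -/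
theorem result {G : Type*} [Group G] [Finite G] {p : ℕ} [Fact p.Prime] (S : Sylow p G) (Q : Subgroup G) (hQp : IsPGroup p ↥Q) (hQ1 : Q ≠ ⊥) (hQS : Q ≤ (S : Subgroup G)) (hQ : Cfsg.IsLarge Q) (M : Subgroup G) (hSM : (S : Subgroup G) ≤ M) (hM : Cfsg.IsInFrakM p M) (hasym : ¬ Cfsg.IsSymmetricIn (Cfsg.largestPReducedOf p M)) (H : Subgroup G) (hH : Cfsg.IsInFrakH p M H) (g : G) (hHQ : H ≤ Subgroup.normalizer ((((Q : Subgroup G).map (MulAut.conj (g : G)).toMonoidHom) : Subgroup G) : Set G)) : ((Q : Subgroup G).map (MulAut.conj (g : G)).toMonoidHom) ≤ Cfsg.pCoreOf p (H ⊔ ((Q : Subgroup G).map (MulAut.conj (g : G)).toMonoidHom)) ∧ Cfsg.pCoreOf p (H ⊔ ((Q : Subgroup G).map (MulAut.conj (g : G)).toMonoidHom)) ≤ Subgroup.normalizer (((Cfsg.pCoreOf p M) : Subgroup G) : Set G) ∧ Subgroup.normalizer (((Cfsg.pCoreOf p M) : Subgroup G) : Set G) ≤ Subgroup.normalizer (((Cfsg.largestPReducedOf p M) : Subgroup G) : Set G) ∧ Subgroup.normalizer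 (((Cfsg.largestPReducedOf p M) : Subgroup G) : Set G) = (M ⊔ Subgroup.centralizer (((Cfsg.largestPReducedOf p M) : Subgroup G) : Set G)) ∧ (H.subgroupOf (H ⊔ ((Q : Subgroup G).map (MulAut.conj (g : G)).toMonoidHom))).Normal ∧ (Cfsg.pResidual p ↥H).map H.subtype = (Cfsg.pResidual p ↥(H ⊔ ((Q : Subgroup G).map (MulAut.conj (g : G)).toMonoidHom))).map (H ⊔ ((Q : Subgroup G).map (MulAut.conj (g : G)).toMonoidHom)).subtype ∧ Cfsg.IsPIrreducible p ↥(H ⊔ ((Q : Subgroup G).map (MulAut.conj (g : G)).toMonoidHom)) := by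
  have h : FH p (S : Subgroup G) M H := ⟨BP.of_large hQp hQ hSM hM, hasym, hH⟩
  change H ≤ normalizer (cj g Q : Set G) at hHQ
  change cj g Q ≤ pCoreOf p (H ⊔ cj g Q) ∧ pCoreOf p (H ⊔ cj g Q) ≤ _ ∧ _ ∧ _ ∧
    (H.subgroupOf (H ⊔ cj g Q)).Normal ∧ resOf p H = resOf p (H ⊔ cj g Q) ∧
    IsPIrreducible p (H ⊔ cj g Q : Subgroup G)
  have hP := isPGroup_cj hQp g
  generalize cj g Q = P at hHQ hP ⊢
  have hXP : H ⊔ P ≤ normalizer (P : Set G) := sup_le hHQ le_normalizer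
  have h1 : P ≤ pCoreOf p (H ⊔ P) := le_pCoreOf le_sup_right hXP hP
  have h2 : pCoreOf p (H ⊔ P) ≤ normalizer (pCoreOf p M : Set G) :=
    wc_pCoreOf_le_norm h.wc (pCoreOf_isPGroup M) (h.O_le.trans le_sup_left)
  have h3 : P ≤ normalizer (H : Set G) := h.le_norm_of_cj hHQ (h1.trans h2)
  have h4 : H ⊔ P ≤ normalizer (H : Set G) := sup_le le_normalizer h3
  have h5 : resOf p H = resOf p (H ⊔ P) := by rw [sup_comm, resOf_sup_of_norm hP h3]
  refine ⟨h1, h2, h.bp.norm_O_le, h.bp.norm_Y, (normal_subgroupOf_iff_le_normalizer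
    le_sup_left).mpr h4, h5, fun hc => h.not_le (H85.isPClosed_coe_iff.mp
      (H85.isPClosed_of_le hc le_sup_left) _ h.Y_le (YY_isPGroup M)), fun N₁ hN₁ hc => ?_⟩
  set N := N₁.map (H ⊔ P).subtype with hN
  have hNX : N ≤ H ⊔ P := map_subtype_le _
  have hXN : H ⊔ P ≤ normalizer (N : Set G) := le_norm_map_subtype
  have hA := le_norm_pCoreOf (p := p) (H ⊔ P)
  by_contra hr
  have hr' : ¬ resOf p H ≤ N := fun e => hr (by
    rw [← resOf_subgroupOf, ← h5, ← map_subtype_subgroupOf N₁]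
    exact comap_mono e)
  apply hc
  rw [← map_subtype_subgroupOf N₁, ← hN, H85.isPClosed_subgroupOf_iff hNX]
  refine isPClosed_of_comm hNX hXN ?_
  have h6 : ⁅(P ⊔ N) ⊓ H, YY p M⁆ ≤ pCoreOf p H := by
    refine h.comm_Y_le inf_le_right (le_norm_inf (le_norm_sup hHQ (le_sup_left.trans hXN))
      le_normalizer) fun e => hr' ?_
    have := resOf_mono (p := p) (e.trans inf_le_left)
    rw [resOf_resOf, resOf_sup_of_norm hP (le_sup_right.trans hXN)] at this
    exact this.trans (resOf_le N)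
  have h7 : ⁅N, YY p M⁆ ≤ pCoreOf p (H ⊔ P) := by
    have e : N ≤ P ⊔ (H ⊓ (P ⊔ N)) := by
      rw [← dedekind h3 le_sup_left]
      exact le_inf (hNX.trans (sup_comm _ _).le) le_sup_right
    refine (commutator_mono e le_rfl).trans (comm_sup_left_le
      ((comm_le_left (h.Y_le.trans hHQ)).trans h1) ?_
      (sup_le (le_sup_right.trans hA) ((inf_le_left.trans le_sup_left).trans hA)))
    rw [inf_comm]
    exact h6.trans (pCoreOf_mono_normal le_sup_left h4)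
  have h8 : ncl (YY p M) H ≤ centMod (H ⊔ P) N _ hA :=
    ncl_le_of_norm (le_centMod.mpr ⟨h.Y_le.trans le_sup_left, h7⟩)
      (le_sup_left.trans (le_norm_centMod le_normalizer hXN hA))
  rw [← h.res_sup_Y] at h8
  rw [← h5]
  exact (le_centMod.mp (le_sup_left.trans h8)).2

end Cfsg.Agent.S2854
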