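import Cfsg.Statements.S2855
import Cfsg.Agent.H85.PMin2

set_option autoImplicit false
open Cfsg

namespace Cfsg.Agent.S2855

open Cfsg.Agent.H85 Subgroup

/-- Let H be a finite group, p a prime, and 𝒦 a nonempty set of subgroups of H permuted transitively by conjugation, with R the subgroup generated by the members of 𝒦. Suppose O^p(H) ≤ R, each E ∈ 𝒦 has E·O_p(H) normal in R·O_p(H), and each E ∈ 𝒦 is p-minimal (generated by the conjugates of a Sylow p-subgroup T_E of E, with T_E in exactly one maximal subgroup of E). Then H is p-minimal in the same sense. If instead each E ∈ 𝒦 is strongly p-irreducible, then H is p-irreducible and, for E, K ∈ 𝒦, either O^p(E·O_p(H)) = O^p(K·O_p(H)) or [E, K] ≤ O_p(H). -/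
theorem result {H : Type*} [Group H] [Finite H] {p : ℕ} [Fact p.Prime] (𝒦 : Set (Subgroup H)) (hne : 𝒦.Nonempty) (hinv : ∀ h : H, ∀ E ∈ 𝒦, E.map (MulAut.conj h).toMonoidHom ∈ 𝒦) (htr : ∀ E ∈ 𝒦, ∀ K ∈ 𝒦, ∃ h : H, K = E.map (MulAut.conj h).toMonoidHom) (hres : Cfsg.pResidual p H ≤ sSup 𝒦) (hnorm : ∀ E ∈ 𝒦, sSup 𝒦 ⊔ Cfsg.pCore p H ≤ Subgroup.normalizer ((E ⊔ Cfsg.pCore p H : Subgroup H) : Set H)) : ((∀ E ∈ 𝒦, ∀ T : Sylow p ↥E, Cfsg.IsMinimalOver (T : Subgroup ↥E)) → ∀ T : Sylow p H, Cfsg.IsMinimalOver (T : Subgroup H)) ∧ ((∀ E ∈ 𝒦, Cfsg.IsStronglyPIrreducible p ↥E) → Cfsg.IsPIrreducible p H ∧ ∀ E ∈ 𝒦, ∀ K ∈ 𝒦, (Cfsg.pResidual p ↥(E ⊔ Cfsg.pCore p H)).map (E ⊔ Cfsg.pCore p H).subtype = (Cfsg.pResidual p ↥(K ⊔ Cfsg.pCore p H)).map (K ⊔ Cfsg.pCore p H).subtype ∨ ⁅E, K⁆ ≤ Cfsg.pCore p H) := by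
  set O := pCore p H with hO
  set R := sSup 𝒦 with hR
  have hOp : IsPGroup p O := pCore_isPGroup p H
  have hRn : R.Normal := by
    rw [normal_iff_map_conj_eq]
    have key : ∀ g : H, cj g R ≤ R := fun g => by
      rw [cj_le_iff_le_cj_inv]
      exact sSup_le fun E hE => (cj_le_iff_le_cj_inv g).1 (le_sSup (hinv g E hE))
    exact fun g => cj_eq_of_mem_normalizer (mem_normalizer_of_cj_le (key g))
  have hcjX : ∀ (g : H) (E : Subgroup H), cj g (E ⊔ O) = cj g E ⊔ O := fun g E => by
    rw [cj_sup, cj_normal g O]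
  have hXW : ∀ E ∈ 𝒦, E ⊔ O ≤ R ⊔ O := fun E hE => sup_le_sup_right (le_sSup hE) O
  have hWT : ∀ T : Sylow p H, (R ⊔ O) ⊔ (T : Subgroup H) = ⊤ := fun T => by
    rw [eq_top_iff, ← pResidual_sup_sylow T]
    exact sup_le_sup_right (hres.trans le_sup_left) _
  have hsyl : ∀ T : Sylow p H, ∀ E ∈ 𝒦, IsSyl p ((T : Subgroup H) ⊓ (E ⊔ O)) (E ⊔ O) := by
    intro T E hE
    have h1 := ((isSyl_top T).inf_of_le_normalizer (N := R ⊔ O) le_top
      le_normalizer_of_normal).inf_of_le_normalizer (hXW E hE) (hnorm E hE)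
    rwa [inf_assoc, inf_eq_right.2 (hXW E hE)] at h1
  have hOX : ∀ E ∈ 𝒦, pCoreOf p (E ⊔ O) ≤ O := fun E hE =>
    (pCoreOf_le_pCoreOf (hXW E hE) (hnorm E hE)).trans (pCoreOf_le_pCore _)
  refine ⟨fun hmin T => ?_, fun hsi => ?_⟩
  · have hex : ∀ E ∈ 𝒦, ∃ M, PMin p ((T : Subgroup H) ⊓ (E ⊔ O)) M (E ⊔ O) := by
      intro E hE
      obtain ⟨S, hS⟩ := exists_isSyl p E
      have hPE : IsPMinimal p E := by
        obtain ⟨M, hM, -⟩ := (hmin E hE hS.toSylow).2
        exact (isPMinimal_iff_top _).2 ⟨M, pmin_top_of_isMinimalOver (hmin E hE _) hM.1 hM.2⟩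
      obtain ⟨M, hM⟩ := (isPMinimal_coe_iff hS).1 hPE
      have h1 := hM.sup_of_le_normalizer hOp le_normalizer_of_normal
      rw [sup_comm O E] at h1
      exact (isPMinimal_coe_iff (hsyl T E hE)).1 ((isPMinimal_coe_iff h1.syl).2 ⟨_, h1⟩)
    choose! m hm using hex
    have key : ∀ (g : H), ∀ E ∈ 𝒦, cj g ((T : Subgroup H) ⊓ (E ⊔ O)) ≤ m (cj g E) →
        cj g (m E) = m (cj g E) := by
      intro g E hE h1
      have h2 := ((hm E hE).cj g).uniq
      have h3 := (hm _ (hinv g E hE)).uniq
      rw [hcjX] at h2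
      have h4 := h2.le_of_lt h1 h3.lt
      exact le_antisymm (h3.le_of_lt (h3.le.trans h4) h2.lt) h4
    let M : Subgroup H :=
      { carrier := {g | ∀ E ∈ 𝒦, cj g (m E) = m (cj g E)}
        one_mem' := fun E _ => by rw [cj_one, cj_one]
        mul_mem' := fun {a b} ha hb E hE => by
          rw [cj_mul, cj_mul, hb E hE, ha _ (hinv b E hE)]
        inv_mem' := fun {a} ha E hE => by
          have := ha _ (hinv a⁻¹ E hE)
          rw [cj_cj_inv] at this
          rw [← this, cj_inv_cj] }
    have hle : ∀ K : Subgroup H, (∀ E ∈ 𝒦, K ⊓ (E ⊔ O) ≤ m E) → (T : Subgroup H) ≤ K → K ≤ M := by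
      intro K hK hTK g hg E hE
      refine key g E hE (le_trans ?_ (hK _ (hinv g E hE)))
      rw [cj_inf, hcjX]
      exact inf_le_inf_right _ (cj_le_of_mem hTK hg)
    obtain ⟨E₀, hE₀⟩ := hne
    refine PMin.isMinimalOver (p := p) (M := M) ⟨isSyl_top T, fun h => (hm E₀ hE₀).not_norm
      (le_normalizer_inf (le_top.trans h) le_normalizer), hle _ (fun E hE => (hm E hE).uniq.le) le_rfl,
      ?_, fun K hTK hK => hle K (fun E hE => ?_) hTK⟩
    · rw [lt_top_iff_ne_top]
      intro hM
      refine (hm E₀ hE₀).not_le_normalizer fun x hx => ?_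
      have h1 : x ∈ M := hM ▸ mem_top x
      have h2 := (hm _ (hinv x E₀ hE₀)).uniq
      change UniqMax (_ ⊓ (cj x E₀ ⊔ O)) _ (cj x E₀ ⊔ O) at h2
      rw [← hcjX, cj_eq_of_mem hx] at h2
      rw [← cj_eq_iff_mem_normalizer, h1 E₀ hE₀]
      exact h2.unique (hm E₀ hE₀).uniq
    · refine (hm E hE).uniq.le_of_ne (inf_le_inf_right _ hTK) inf_le_right fun h1 => hK.ne ?_
      rw [inf_eq_right] at h1
      rw [eq_top_iff, ← hWT T]
      refine sup_le (sup_le (sSup_le fun E' hE' => ?_) (le_sup_right.trans h1)) hTK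
      obtain ⟨g, hg⟩ := htr E hE E' hE'
      obtain ⟨t, ht, w, hw, rfl⟩ := (mem_sup_of_le_normalizer' (A := (T : Subgroup H)) (B := R ⊔ O)
        le_normalizer_of_normal).1 (by rw [sup_comm, hWT T]; exact mem_top g)
      refine le_sup_left.trans (?_ : E' ⊔ O ≤ K)
      rw [hg, ← hcjX, cj_mul, cj_eq_of_mem_normalizer (hnorm E hE hw)]
      exact cj_le_of_mem h1 (hTK ht)
  · obtain ⟨T⟩ : Nonempty (Sylow p H) := inferInstance
    have hOT : O ≤ T := pCore_le_sylow T
    have hnc : ∀ E ∈ 𝒦, ¬ IsPClosed p (E ⊔ O : Subgroup H) := fun E hE h =>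
      (hsi E hE).1 (isPClosed_of_le h le_sup_left)
    have hsp : ∀ E ∈ 𝒦, ∀ N : Subgroup H, N ≤ E ⊔ O → E ⊔ O ≤ normalizer (N : Set H) →
        ¬ ⁅N, E ⊔ O⁆ ≤ O → resOf p (E ⊔ O) ≤ N := by
      intro E hE N hN hn hc
      have h1 : E ≤ normalizer (((N ⊔ O) ⊓ E : Subgroup H) : Set H) :=
        le_normalizer_inf (le_normalizer_sup (le_sup_left.trans hn) le_normalizer_of_normal)
          le_normalizer
      have h2 : O ⊔ (E ⊓ (N ⊔ O)) = N ⊔ O := by
        rw [← sup_inf_of_le_normalizer le_normalizer_of_normal le_sup_right, inf_eq_right,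
          sup_comm O E]
        exact sup_le hN le_sup_right
      have h3 : pCoreOf p E ≤ O := le_sup_left.trans (le_trans (le_pCoreOf
        (sup_le_sup_right (pCoreOf_le p E) O) ((pCoreOf_isPGroup p E).to_sup_of_normal_right hOp)
        (sup_le (le_normalizer_sup (le_normalizer_pCoreOf p E) le_normalizer_of_normal)
          (le_sup_right.trans le_normalizer))) (hOX E hE))
      have h4 := (hsi E hE).2 _ ((normal_subgroupOf_iff_le_normalizer inf_le_right).2 h1) fun h => by
        apply hc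
        have h5 := map_mono (f := E.subtype) h
        rw [map_commutator, map_subgroupOf_eq_of_le inf_le_right, ← MonoidHom.range_eq_map,
          range_subtype] at h5
        have h6 : ⁅E ⊓ (N ⊔ O), E⁆ ≤ O := by rw [inf_comm]; exact h5.trans h3
        refine (commutator_mono (le_sup_left.trans h2.ge) le_rfl).trans ?_
        refine sup_commutator_le le_normalizer_of_normal le_normalizer_of_normal
          (commutator_le_left _ _) (commutator_sup_le le_normalizer_of_normal
            le_normalizer_of_normal h6 (commutator_le_right _ _))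
      have h5 : resOf p E ≤ N ⊔ O :=
        (map_le_iff_le_comap.2 h4).trans inf_le_left
      have h6 : resOf p (E ⊔ O) ≤ N ⊔ O := by
        refine resOf_le_of_pquot (PQuot.mono (N := resOf p E ⊔ O) ?_ (sup_le h5 le_sup_right) le_rfl)
        intro x hx
        obtain ⟨e, he, o, ho, rfl⟩ := (mem_sup_of_le_normalizer' le_normalizer_of_normal).1 hx
        obtain ⟨k, hk⟩ := pquot_resOf (p := p) E e he
        refine ⟨k, ?_⟩
        have : (QuotientGroup.mk' O) ((e * o) ^ p ^ k) = QuotientGroup.mk' O (e ^ p ^ k) := by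
          rw [map_pow, map_mul, map_pow,
            show QuotientGroup.mk' O o = 1 from (QuotientGroup.eq_one_iff o).2 ho, mul_one]
        obtain ⟨z, hz, hz'⟩ := (QuotientGroup.mk'_eq_mk' O).1 this.symm
        rw [← hz']
        exact mul_mem_sup hk hz
      exact resOf_le_of_le_of_pquot h6 (pquot_sup hOp (le_sup_right.trans hn))
    have hgen : ∀ E ∈ 𝒦, E ⊔ O ≤ pElementClosure p (E ⊔ O) := by
      intro E hE
      have hS := hsyl T E hE
      have h1 := le_pElementClosure hS.isPGroup hS.le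
      refine le_trans hS.resOf_sup.ge (sup_le (hsp E hE _ (pElementClosure_le p _)
        (le_normalizer.trans (normalizer_le_normalizer_pElementClosure _)) fun h => ?_) h1)
      refine hnc E hE (isPClosed_of_isSyl_normal hS (le_normalizer_of_commutator_le
        (le_inf hOT le_sup_right) ((commutator_mono h1 le_rfl).trans h)))
    refine ⟨⟨fun h => ?_, fun N hN hNc => ?_⟩, fun E hE K hK => ?_⟩
    · obtain ⟨E, hE⟩ := hne
      exact hnc E hE (isPClosed_of_le (isPClosed_top_iff.2 h) le_top)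
    · by_cases hc : ∀ E ∈ 𝒦, ⁅N ⊓ (E ⊔ O), E ⊔ O⁆ ≤ O
      · exfalso
        have h1 : ⁅N ⊓ (R ⊔ O), R ⊔ O⁆ ≤ O := by
          refine commutator_sup_le le_normalizer_of_normal le_normalizer_of_normal
            (commutator_sSup_le (fun _ _ => le_normalizer_of_normal) fun E hE => ?_)
            (commutator_le_right _ _)
          have h2 : ⁅N ⊓ (R ⊔ O), E ⊔ O⁆ ≤ E ⊔ O :=
            commutator_le_right_of_le_normalizer (inf_le_right.trans (hnorm E hE))
          refine (commutator_mono le_rfl le_sup_left).trans (commutator_le_of_central hOp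
            (hgen E hE) (hOX E hE) h2 (le_trans (commutator_mono (le_inf ?_ h2) le_rfl) (hc E hE)))
          exact (commutator_mono inf_le_left le_rfl).trans (commutator_le_left _ _)
        have h2 : ⁅N, R ⊔ O⁆ ≤ O := by
          refine commutator_le_of_central hOp (sup_le (sSup_le fun E hE => ?_)
            (le_pElementClosure hOp le_sup_right)) (pCoreOf_le_pCore _) (commutator_le_right _ _)
            (le_trans (commutator_mono (commutator_le_inf _ _) le_rfl) h1)
          exact le_sup_left.trans ((hgen E hE).trans (pElementClosure_mono (hXW E hE)))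
        have hS := (isSyl_top T).inf_of_le_normalizer (N := N) le_top le_normalizer_of_normal
        have h3 : (((T : Subgroup H) ⊓ N) ⊔ O).Normal := by
          apply normal_of_top_le_normalizer
          rw [← hWT T]
          refine sup_le (le_normalizer_of_commutator_le le_sup_right (sup_commutator_le
            le_normalizer_of_normal le_normalizer_of_normal
            ((commutator_mono inf_le_right le_rfl).trans h2) (commutator_le_left _ _)))
            (le_normalizer_sup (le_normalizer_inf le_normalizer le_normalizer_of_normal)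
              le_normalizer_of_normal)
        have h4 : (T : Subgroup H) ⊓ N = O ⊓ N := le_antisymm (le_inf (le_sup_left.trans
          (le_pCore (hS.isPGroup.to_sup_of_normal_right hOp))) inf_le_right)
          (inf_le_inf_right _ hOT)
        exact hNc (isPClosed_of_isSyl_normal hS (h4 ▸ le_normalizer_of_normal))
      · push Not at hc
        obtain ⟨E, hE, hc⟩ := hc
        have h1 : resOf p (E ⊔ O) ≤ N := (hsp E hE _ inf_le_right
          (le_normalizer_inf le_normalizer_of_normal le_normalizer) hc).trans inf_le_left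
        rw [← resOf_top] at hres ⊢
        refine resOf_le_of_le_of_pquot (hres.trans (sSup_le fun K hK => ?_))
          (pquot_sup T.isPGroup' le_normalizer_of_normal)
        refine le_sup_left.trans ((hsyl T K hK).resOf_sup.ge.trans (sup_le_sup ?_ inf_le_left))
        obtain ⟨g, rfl⟩ := htr E hE K hK
        change resOf p (cj g E ⊔ O) ≤ N
        rw [← hcjX, ← cj_resOf, ← cj_normal g N]
        exact cj_mono g h1
    · have hD : ∀ E ∈ 𝒦, ∀ K ∈ 𝒦, resOf p (E ⊔ O) ≤ resOf p (K ⊔ O) ∨ ⁅K ⊔ O, E ⊔ O⁆ ≤ O := by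
        intro E hE K hK
        have h1 : ⁅K ⊔ O, E ⊔ O⁆ ≤ E ⊔ O :=
          commutator_le_right_of_le_normalizer ((hXW K hK).trans (hnorm E hE))
        have h2 : ⁅K ⊔ O, E ⊔ O⁆ ≤ K ⊔ O :=
          commutator_le_left_of_le_normalizer ((hXW E hE).trans (hnorm K hK))
        by_cases hc : ⁅⁅K ⊔ O, E ⊔ O⁆, E ⊔ O⁆ ≤ O
        · exact Or.inr (commutator_le_of_central hOp (hgen E hE) (hOX E hE) h1 hc)
        · left
          rw [← resOf_resOf]
          exact resOf_mono ((hsp E hE _ h1 (normalizer_commutator_ge_right _ _) hc).trans h2)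
      rcases hD E hE K hK with h1 | h1
      · rcases hD K hK E hE with h2 | h2
        · exact Or.inl (le_antisymm h1 h2)
        · exact Or.inr ((commutator_mono le_sup_left le_sup_left).trans h2)
      · right
        rw [commutator_comm]
        exact (commutator_mono le_sup_left le_sup_left).trans h1

end Cfsg.Agent.S2855
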