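import Cfsg.Statements.S2859
import Cfsg.Agent.H85.WeakClosed2

set_option autoImplicit false
open Cfsg

namespace Cfsg.Agent.S2859

open Cfsg.Agent.H85 Subgroup

theorem aux {G : Type*} [Group G] [Finite G] {p : ℕ} [Fact p.Prime] {Q : Subgroup G}
    (hQp : IsPGroup p Q) (h : WC p Q) {H₁ H₂ : Subgroup G}
    (hn₁ : weakClosure Q ⊤ ≤ normalizer (H₁ : Set G)) (hn₂ : weakClosure Q ⊤ ≤ normalizer (H₂ : Set G))
    (hprod : H₁ ⊔ H₂ = weakClosure Q ⊤) (hcomm : ⁅H₁, H₂⁆ ≤ normalizer (Q : Set G))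
    (K₁ : Subgroup G) (hK₁ : K₁ = resOf p (weakClosure Q (H₁ ⊔ Q))) :
    (⁅K₁, Q⁆ = K₁ ∧ ⁅K₁, H₁⁆ = K₁ ∧ K₁ ≤ ⁅H₁, H₁⁆ ∧ weakClosure Q ⊤ ≤ normalizer (K₁ : Set G)) ∧
      K₁ ≤ H₁ ∧ ⁅K₁, H₂⁆ ≤ pCoreOf p (weakClosure Q ⊤) := by
  set W := weakClosure Q ⊤ with hW
  have hQW : Q ≤ W := le_weakClosure le_top
  have h1W : H₁ ≤ W := hprod ▸ le_sup_left
  have h2W : H₂ ≤ W := hprod ▸ le_sup_right
  have hWn : W.Normal := normal_of_top_le_normalizer (le_normalizer_weakClosure Q ⊤)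
  set O := pCoreOf p W with hO
  have hOn : O.Normal := normal_of_top_le_normalizer
    (le_normalizer_of_normal.trans (normalizer_le_normalizer_pCoreOf p W))
  have hOp : IsPGroup p O := pCoreOf_isPGroup p W
  have hD : ⁅⁅H₁, H₂⁆, W⁆ ≤ O := by
    have hn := le_normalizer_commutator hn₁ hn₂
    have := h.commutator_weakClosure_le hQp hQW hn hcomm
    rw [hW, weakClosure_weakClosure] at this
    exact this.trans (pCoreOf_le_pCoreOf ((commutator_mono h1W h2W).trans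
      (commutator_le_left _ _)) hn)
  have h11 : ⁅⁅H₁, H₁⁆, H₂⁆ ≤ O := commutator_commutator_le_of_rotate
    ((commutator_mono le_rfl h1W).trans hD)
    (by rw [commutator_comm H₂]; exact (commutator_mono le_rfl h1W).trans hD)
  have hQ2 : ⁅⁅H₁, Q⁆, H₂⁆ ≤ O := by
    have h3 : ⁅H₁, Q⁆ ≤ ⁅H₁, H₁⁆ ⊔ ⁅H₁, H₂⁆ := by
      have hn := le_normalizer_sup (le_normalizer_commutator hn₁ hn₁) (le_normalizer_commutator hn₁ hn₂)
      refine (commutator_mono le_rfl (hQW.trans hprod.ge)).trans ?_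
      exact commutator_sup_le (h1W.trans hn) (h2W.trans hn) le_sup_left le_sup_right
    refine (commutator_mono h3 le_rfl).trans (sup_commutator_le le_normalizer_of_normal
      le_normalizer_of_normal h11 ((commutator_mono le_rfl h2W).trans hD))
  have hK : K₁ = resOf p (⁅H₁, Q⁆ : Subgroup G) := by
    rw [hK₁, h.res_weakClosure_sup hQp (hQW.trans hn₁)]
  have hKle : K₁ ≤ ⁅H₁, Q⁆ := hK ▸ resOf_le p _
  have hKH : K₁ ≤ H₁ := hKle.trans (commutator_le_left_of_le_normalizer (hQW.trans hn₁))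
  have hK2 : ⁅K₁, H₂⁆ ≤ O := (commutator_mono hKle le_rfl).trans hQ2
  have hOQ : O ≤ normalizer (Q : Set G) :=
    le_sup_left.trans (h.le_normalizer (hOp.to_sup_of_normal_left hQp) le_sup_right)
  have hKn : W ≤ normalizer (K₁ : Set G) := by
    rw [hK, ← resOf_sup_of_isPGroup hOp (le_normalizer_commutator
      ((pCoreOf_le p W).trans hn₁) hOQ)]
    refine le_trans ?_ (normalizer_le_normalizer_resOf p _)
    rw [← hprod]
    refine sup_le (le_normalizer_sup (normalizer_commutator_ge_left _ _) le_normalizer_of_normal)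
      (le_normalizer_of_commutator_le le_sup_right (sup_commutator_le le_normalizer_of_normal
        le_normalizer_of_normal hQ2 (commutator_le_left _ _)))
  have hKQ : ⁅K₁, Q⁆ = K₁ := hK₁ ▸ h.commutator_res hQp le_sup_right
  have hKH1 : ⁅K₁, H₁⁆ = K₁ := by
    refine le_antisymm (commutator_le_left_of_le_normalizer (h1W.trans hKn)) ?_
    have hn := le_normalizer_commutator hKn hn₁
    have h3 : K₁ ≤ ⁅K₁, H₁⁆ ⊔ O := by
      have hn' := le_normalizer_sup hn (le_normalizer_of_normal (H := O))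
      conv_lhs => rw [← hKQ]
      refine (commutator_mono le_rfl (hQW.trans hprod.ge)).trans ?_
      exact commutator_sup_le (h1W.trans hn') (h2W.trans hn') le_sup_left (hK2.trans le_sup_right)
    conv_lhs => rw [hK]
    exact resOf_le_of_le_of_pquot (hK ▸ h3) (pquot_sup hOp ((pCoreOf_le p W).trans hn))
  exact ⟨⟨hKQ, hKH1, hKH1.ge.trans (commutator_mono hKH le_rfl), hKn⟩, hKH, hK2⟩

/-- Let Q be a nontrivial p-subgroup of the finite group H that is a weakly closed subgroup, H° the weak closure of Q in H (generated by the conjugates of Q) and H_∘ = O^p(H°). Suppose H₁, H₂ are normal subgroups of H° with H° = H₁H₂ and [H₁, H₂] ≤ N_H(Q), and put Kᵢ = O^p of the weak closure of Q in HᵢQ. Then for i = 1, 2: Kᵢ = [Kᵢ, Q] = [Kᵢ, Hᵢ] ≤ Hᵢ′ and Kᵢ is normal in H°; H_∘ = K₁K₂; and [K₁, K₂] ≤ O_p(H°). -/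
theorem result {G : Type*} [Group G] [Finite G] {p : ℕ} [Fact p.Prime] (Q : Subgroup G) (hQp : IsPGroup p ↥Q) (hQ1 : Q ≠ ⊥) (hwc : Cfsg.IsWeaklyClosedSubgroup p Q) (Hc : Subgroup G) (hHc : Hc = Cfsg.weakClosure Q ⊤) (H₁ H₂ : Subgroup G) (hn₁ : H₁ ≤ Hc ∧ Hc ≤ Subgroup.normalizer ((H₁ : Subgroup G) : Set G)) (hn₂ : H₂ ≤ Hc ∧ Hc ≤ Subgroup.normalizer ((H₂ : Subgroup G) : Set G)) (hprod : H₁ ⊔ H₂ = Hc) (hcomm : ⁅H₁, H₂⁆ ≤ Subgroup.normalizer ((Q : Subgroup G) : Set G)) (K₁ K₂ : Subgroup G) (hK₁ : K₁ = ((Cfsg.pResidual p ↥(Cfsg.weakClosure Q (H₁ ⊔ Q))).map ((Cfsg.weakClosure Q (H₁ ⊔ Q))).subtype)) (hK₂ : K₂ = ((Cfsg.pResidual p ↥(Cfsg.weakClosure Q (H₂ ⊔ Q))).map ((Cfsg.weakClosure Q (H₂ ⊔ Q))).subtype)) : (⁅K₁, Q⁆ = K₁ ∧ ⁅K₁, H₁⁆ = K₁ ∧ K₁ ≤ ⁅H₁, H₁⁆ ∧ Hc ≤ Subgroup.normalizer ((K₁ : Subgroup G) : Set G)) ∧ (⁅K₂, Q⁆ = K₂ ∧ ⁅K₂, H₂⁆ = K₂ ∧ K₂ ≤ ⁅H₂, H₂⁆ ∧ Hc ≤ Subgroup.normalizer ((K₂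 : Subgroup G) : Set G)) ∧ K₁ ⊔ K₂ = ((Cfsg.pResidual p ↥Hc).map (Hc).subtype) ∧ ⁅K₁, K₂⁆ ≤ (Cfsg.pCoreOf p Hc) := by
  have h := wc_of_isWeaklyClosedSubgroup hwc
  subst hHc
  obtain ⟨a1, a2, a3⟩ := aux hQp h hn₁.2 hn₂.2 hprod hcomm K₁ hK₁
  obtain ⟨b1, b2, b3⟩ := aux hQp h hn₂.2 hn₁.2 (by rwa [sup_comm]) (by rwa [commutator_comm]) K₂ hK₂
  have hQW : Q ≤ weakClosure Q ⊤ := le_weakClosure le_top
  refine ⟨a1, b1, le_antisymm (sup_le ?_ ?_) ?_, (commutator_mono le_rfl b2).trans a3⟩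
  · rw [hK₁]; exact resOf_mono (weakClosure_mono le_top)
  · rw [hK₂]; exact resOf_mono (weakClosure_mono le_top)
  · have hn := le_normalizer_sup a1.2.2.2 b1.2.2.2
    refine resOf_le_of_pquot ((pquot_sup hQp (hQW.trans hn)).mono le_rfl ?_)
    have h1 : H₁ ≤ normalizer ((K₁ ⊔ K₂ ⊔ Q : Subgroup G) : Set G) := by
      rw [sup_right_comm]
      refine le_normalizer_sup ?_ (hn₁.1.trans b1.2.2.2)
      rw [hK₁, h.res_sup hQp le_sup_right]
      exact le_sup_left.trans (le_normalizer_weakClosure _ _)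
    have h2 : H₂ ≤ normalizer ((K₁ ⊔ K₂ ⊔ Q : Subgroup G) : Set G) := by
      rw [sup_assoc]
      refine le_normalizer_sup (hn₂.1.trans a1.2.2.2) ?_
      rw [hK₂, h.res_sup hQp le_sup_right]
      exact le_sup_left.trans (le_normalizer_weakClosure _ _)
    rw [← weakClosure_weakClosure, h.weakClosure_le_iff hQp hQW]
    intro k hk
    exact cj_le_of_mem_normalizer le_sup_right (sup_le h1 h2 (hprod ▸ hk))

end Cfsg.Agent.S2859
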