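import Cfsg.Statements.S2860
import Cfsg.Agent.H85.WeakClosed2
import Cfsg.Agent.H52.Quasisimple
import Cfsg.Agent.H1.Nilp

set_option autoImplicit false
open Cfsg

namespace Cfsg.Agent.S2860

open Cfsg.Agent.H85 Subgroup

/-- a `p`-subgroup centralizing the quasisimple `O^p` is trivial when `O_p = 1` -/
theorem eq_bot_of_commutator {H : Type*} [Group H] [Finite H] {p : ℕ} [Fact p.Prime]
    (hred : pCore p H = ⊥) {Y : Subgroup H} (hY : IsPGroup p Y)
    (h : ⁅pResidual p H, Y⁆ = ⊥) : Y = ⊥ := by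
  have hR := pResidual_normal p H
  set D := centralizer (pResidual p H : Set H) with hD
  have hDn : D.Normal := inferInstance
  obtain ⟨P, hP, hYP⟩ := exists_isSyl_ge hY (commutator_eq_bot_iff_le_centralizer'.1 h : Y ≤ D)
  have h1 : D ≤ normalizer (P : Set H) := by
    refine hP.resOf_sup.ge.trans (sup_le ?_ le_normalizer)
    refine (resOf_le_pResidual D).trans (le_trans ?_ (centralizer_le_normalizer _))
    exact le_centralizer_iff.1 hP.le
  rw [eq_bot_iff, ← hred]
  exact hYP.trans ((le_pCoreOf hP.le hP.isPGroup h1).trans (pCoreOf_le_pCore D))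

theorem aux {H : Type*} [Group H] [Finite H] {p : ℕ} [Fact p.Prime] {Q C : Subgroup H}
    (hQp : IsPGroup p Q) (h : WC p Q) [C.Normal] (hCQ : C ≤ normalizer (Q : Set H))
    (hQn : ¬ Q.Normal) (hred : pCore p (H ⧸ C) = ⊥)
    (hqs : IsQuasisimple ((pResidual p H ⊔ C).map (QuotientGroup.mk' C))) (Er : Subgroup H)
    (hEr : Er = resOf p (weakClosure Q ⊤)) :
    Er.map (QuotientGroup.mk' C) = (pResidual p H ⊔ C).map (QuotientGroup.mk' C) ∧ ⁅Er, Er⁆ = Er ∧
      ⁅Er ⊓ C, Er⁆ ≤ pCoreOf p Er ∧ pCoreOf p Er ≤ C ∧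
      ∀ Y : Subgroup H, IsPGroup p Y → ¬ Y ≤ C → ⁅Er, Y⁆ = Er := by
  set π := QuotientGroup.mk' C with hπ
  have hs : Function.Surjective π := QuotientGroup.mk'_surjective C
  have hker : π.ker = C := QuotientGroup.ker_mk' C
  have hbot : ∀ X : Subgroup H, X.map π = ⊥ ↔ X ≤ C := fun X => by
    rw [Subgroup.map_eq_bot_iff, hker]
  set W := weakClosure Q ⊤ with hW
  have hQW : Q ≤ W := le_weakClosure le_top
  have hWn : W.Normal := normal_of_top_le_normalizer (le_normalizer_weakClosure Q ⊤)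
  have hEn : Er.Normal := hEr ▸ resOf_normal p W
  have hEW : Er ≤ W := hEr ▸ resOf_le p W
  have hEE : resOf p Er = Er := by rw [hEr, resOf_resOf]
  have hR : (pResidual p H ⊔ C).map π = pResidual p (H ⧸ C) := by
    rw [Subgroup.map_sup, (hbot C).2 le_rfl, sup_bot_eq, map_pResidual π hs]
  rw [hR] at hqs ⊢
  have hRn := pResidual_normal p (H ⧸ C)
  have hperf := H52.IsQuasisimple.commutator_self hqs
  have hkey : ∀ X : Subgroup (H ⧸ C), ⁅pResidual p (H ⧸ C), X⁆ ≤ pResidual p (H ⧸ C) →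
      ⁅pResidual p (H ⧸ C), X⁆ = pResidual p (H ⧸ C) ∨ ⁅pResidual p (H ⧸ C), X⁆ = ⊥ := by
    intro X hX
    refine (H52.IsQuasisimple.eq_or_commutator_eq_bot hqs hX
      (normalizer_commutator_ge_left _ _)).imp_right fun h1 => ?_
    rw [commutator_comm] at h1 ⊢
    rw [commutator_comm _ X] at h1
    rw [commutator_comm] at h1
    exact H52.commutator_eq_bot_of_perfect hperf h1
  have hkey' : ∀ Y : Subgroup H, IsPGroup p Y → ¬ Y ≤ C →
      ⁅pResidual p (H ⧸ C), Y.map π⁆ = pResidual p (H ⧸ C) := fun Y hY hYC =>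
    (hkey _ (commutator_le_left _ _)).resolve_right fun h1 =>
      hYC ((hbot Y).1 (eq_bot_of_commutator hred (hY.map π) h1))
  have hQC : ¬ Q ≤ C := fun hQC => hQn (normal_of_top_le_normalizer (le_trans
    le_normalizer_of_normal (h.normalizer_le (pCore_isPGroup p H)
      ((le_pCoreOf hQC hQp hCQ).trans (pCoreOf_le_pCore C)))))
  have ha : Er.map π = pResidual p (H ⧸ C) := by
    have : (W.map π).Normal := hWn.map π hs
    rw [hEr, map_resOf]
    refine le_antisymm (resOf_le_pResidual _) ?_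
    rw [← resOf_top, ← resOf_resOf, resOf_top]
    refine resOf_mono ?_
    rw [← hkey' Q hQp hQC]
    exact (commutator_mono le_rfl (map_mono hQW)).trans (commutator_le_right _ _)
  have hC : ⁅C, W⁆ ≤ pCoreOf p C :=
    h.commutator_weakClosure_le hQp le_top le_normalizer_of_normal hCQ
  have hc : ⁅Er ⊓ C, W⁆ ≤ pCoreOf p Er := by
    rw [pCoreOf_eq_inf le_top le_normalizer_of_normal, pCoreOf_top]
    exact le_inf ((commutator_mono inf_le_left le_rfl).trans (commutator_le_left _ _))
      ((commutator_mono inf_le_right le_rfl).trans (hC.trans (pCoreOf_le_pCore C)))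
  have hlift : ∀ X : Subgroup H, X ≤ Er → Er ≤ normalizer (X : Set H) →
      X.map π = pResidual p (H ⧸ C) → ∀ Z, Z ≤ W → Z ≤ normalizer (X : Set H) → ⁅Er, Z⁆ = Er →
      X = Er := by
    intro X hX hn hπX Z hZ hZn hEZ
    have h1 : Er = X ⊔ (C ⊓ Er) := by
      rw [← sup_inf_of_le_normalizer' le_normalizer_of_normal hX, ← hker, ← comap_map_eq, hπX,
        ← ha, comap_map_eq]
      exact (inf_eq_right.2 le_sup_left).symm
    have hn' : Er ≤ normalizer ((X ⊔ pCoreOf p Er : Subgroup H) : Set H) :=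
      le_normalizer_sup hn (le_normalizer_pCoreOf p Er)
    refine le_antisymm hX ?_
    rw [← hEE]
    refine resOf_le_of_pquot ((pquot_sup (pCoreOf_isPGroup p Er)
      ((pCoreOf_le p Er).trans hn)).mono le_rfl ?_)
    conv_lhs => rw [← hEZ]
    refine (commutator_mono h1.le le_rfl).trans (sup_commutator_le (hX.trans hn')
      (inf_le_right.trans hn') ?_ ?_)
    · exact le_sup_of_le_left (commutator_le_left_of_le_normalizer hZn)
    · rw [inf_comm]
      exact le_sup_of_le_right ((commutator_mono le_rfl hZ).trans hc)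
  have hb : ⁅Er, Er⁆ = Er := by
    refine hlift _ (commutator_le_left _ _) le_normalizer_of_normal
      (by rw [map_commutator, ha, hperf]) Q hQW le_normalizer_of_normal ?_
    rw [hEr]; exact h.commutator_res hQp le_top
  refine ⟨ha, hb, (commutator_mono le_rfl hEW).trans hc, ?_, fun Y hY hYC => ?_⟩
  · rw [← hbot, eq_bot_iff, ← hred]
    exact (map_mono (pCoreOf_le_pCore Er)).trans (map_pCore_le π hs)
  · exact hlift _ (commutator_le_left _ _) (normalizer_commutator_ge_left _ _)
      (by rw [map_commutator, ha, hkey' Y hY hYC]) Er hEW (normalizer_commutator_ge_left _ _) hb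

/-- Let Q be a nontrivial large p-subgroup of the finite group H, U a nontrivial elementary abelian p-subgroup of H, and Q ≤ E ≤ N_H(U) with Q not normal in E. Suppose O_p(E/C_E(U)) = 1 and O^p(E)·C_E(U)/C_E(U) is quasisimple. Let E° be the weak closure of Q in E (generated by the conjugates of Q inside E) and E_∘ = O^p(E°). Then O^p(E)·C_E(U) = E_∘·C_E(U); E_∘ is perfect and equals O^p(E_∘); E_∘/C_{E_∘}(U) and E_∘/O_p(E_∘) are quasisimple; and E_∘ = [E_∘, Y] for every p-subgroup Y of E not centralizing U. -/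
theorem result {G : Type*} [Group G] [Finite G] {p : ℕ} [Fact p.Prime] (Q : Subgroup G) (hQp : IsPGroup p ↥Q) (hQ1 : Q ≠ ⊥) (hQ : Cfsg.IsLarge Q) (U : Subgroup G) (hU : Cfsg.IsElementaryAbelian p U) (hU1 : U ≠ ⊥) (E : Subgroup G) (hQE : Q ≤ E) (hEU : E ≤ Subgroup.normalizer ((U : Subgroup G) : Set G)) (hQn : ¬ E ≤ Subgroup.normalizer ((Q : Subgroup G) : Set G)) [hn : ((Subgroup.centralizer ((U : Subgroup G) : Set G)).subgroupOf E).Normal] (hred : Cfsg.pCore p (↥E ⧸ (Subgroup.centralizer ((U : Subgroup G) : Set G)).subgroupOf E) = ⊥) (hqs : Cfsg.IsQuasisimple ↥(((Cfsg.pResidual p ↥E) ⊔ (Subgroup.centralizer ((U : Subgroup G) : Set G)).subgroupOf E).map (QuotientGroup.mk' ((Subgroup.centralizer ((U : Subgroup G) : Set G)).subgroupOf E)))) (Er : Subgroup G) (hEr : Er = ((Cfsg.pResidual p ↥(Cfsg.weakClosure Q E)).map ((Cfsg.weakClosure Q E)).subtype)) [hn2 : ((Subgroup.centralizer ((U : Subgroup G) : Set G)).subgroupOf Er).Normal] : ((Cfsg.pResidual p ↥E).map (E).subtype)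 ⊔ (E ⊓ Subgroup.centralizer ((U : Subgroup G) : Set G)) = Er ⊔ (E ⊓ Subgroup.centralizer ((U : Subgroup G) : Set G)) ∧ ⁅Er, Er⁆ = Er ∧ ((Cfsg.pResidual p ↥Er).map (Er).subtype) = Er ∧ Cfsg.IsQuasisimple (↥Er ⧸ (Subgroup.centralizer ((U : Subgroup G) : Set G)).subgroupOf Er) ∧ Cfsg.IsQuasisimple (↥Er ⧸ Cfsg.pCore p ↥Er) ∧ ∀ Y : Subgroup G, Y ≤ E → IsPGroup p ↥Y → ¬ Y ≤ Subgroup.centralizer ((U : Subgroup G) : Set G) → ⁅Er, Y⁆ = Er := by
  have hwc : WC p Q := wc_of_isLarge hQ hQ1
  set C := centralizer (U : Set G) with hC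
  have hUp : IsPGroup p U := fun x => ⟨1, Subtype.ext (by simpa using hU.2 x x.2)⟩
  have hCQ : C ≤ normalizer (Q : Set G) := by
    refine le_trans ?_ (hQ.2 (U ⊓ centralizer (Q : Set G)) inf_le_right
      (H1.inf_centralizer_ne_bot_of_isPGroup hUp hQp (hQE.trans hEU) hU1))
    exact (centralizer_anti inf_le_left).trans (centralizer_le_normalizer _)
  have hmap : (weakClosure (Q.subgroupOf E) ⊤).map E.subtype = weakClosure Q E := by
    rw [(hwc.subgroupOf hQE).weakClosure_eq_commutator_sup hQp.comap_subtype le_top,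
      hwc.weakClosure_eq_commutator_sup hQp hQE, Subgroup.map_sup, map_commutator,
      map_subgroupOf_eq_of_le hQE, ← MonoidHom.range_eq_map, range_subtype]
  have hErE : Er ≤ E := hEr ▸ (resOf_le p _).trans (weakClosure_le Q E)
  have hEr' : Er.subgroupOf E = resOf p (weakClosure (Q.subgroupOf E) ⊤) := by
    apply map_injective E.subtype_injective
    rw [map_subgroupOf_eq_of_le hErE, map_resOf, hmap, hEr]
  obtain ⟨ha, hb, hc, hd, he⟩ := aux (Q := Q.subgroupOf E) (C := C.subgroupOf E) hQp.comap_subtype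
    (hwc.subgroupOf hQE) (fun x hx => by
      rw [← subgroupOf_normalizer_eq hQE]; exact hCQ hx)
    (fun h => hQn ((normal_subgroupOf_iff_le_normalizer hQE).1 h)) hred hqs _ hEr'
  have hb' : ⁅Er, Er⁆ = Er := by
    have := congrArg (Subgroup.map E.subtype) hb
    rwa [map_commutator, map_subgroupOf_eq_of_le hErE] at this
  let φ : Er →* E ⧸ C.subgroupOf E := (QuotientGroup.mk' _).comp (inclusion hErE)
  have hφr : (⊤ : Subgroup Er).map φ =
      (pResidual p E ⊔ C.subgroupOf E).map (QuotientGroup.mk' (C.subgroupOf E)) := by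
    rw [← ha, ← map_map, ← MonoidHom.range_eq_map, inclusion_range]
  have hφk : φ.ker = C.subgroupOf Er := by
    ext x
    rw [MonoidHom.mem_ker]
    exact QuotientGroup.eq_one_iff _
  have hperf : ⁅(⊤ : Subgroup Er), (⊤ : Subgroup Er)⁆ = ⊤ := by
    apply map_injective Er.subtype_injective
    rw [map_commutator, ← MonoidHom.range_eq_map, range_subtype, hb']
  have hquot : ∀ (N : Subgroup Er) [N.Normal], N ≤ φ.ker → ⁅φ.ker, (⊤ : Subgroup Er)⁆ ≤ N →
      IsQuasisimple (Er ⧸ N) := by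
    intro N _ h1 h2
    have hs := QuotientGroup.mk'_surjective N
    rw [← H52.isQuasisimple_top_iff]
    refine H52.isQuasisimple_of_map (QuotientGroup.lift N φ h1) ?_ ?_ ?_
    · rw [← map_top_of_surjective _ hs, ← map_commutator, hperf]
    · rw [top_inf_eq, QuotientGroup.ker_lift, ← map_top_of_surjective _ hs, ← map_commutator,
        Subgroup.map_eq_bot_iff, QuotientGroup.ker_mk']
      exact h2
    · rw [← map_top_of_surjective _ hs, map_map]
      have : (QuotientGroup.lift N φ h1).comp (QuotientGroup.mk' N) = φ := by ext; rfl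
      rw [this, hφr]
      exact hqs
  have hO : (pCoreOf p (Er.subgroupOf E)).map E.subtype = pCoreOf p Er := pCoreOf_subgroupOf_map hErE
  refine ⟨?_, hb', by rw [hEr]; exact resOf_resOf p _, hquot _ hφk.ge (hφk ▸ commutator_le_left _ _),
    hquot _ ?_ ?_, fun Y hYE hY hYC => ?_⟩
  · have h1 := congrArg (fun X => (X.comap (QuotientGroup.mk' (C.subgroupOf E))).map E.subtype) ha
    simp only [comap_map_eq] at h1
    simp only [QuotientGroup.ker_mk', sup_assoc, sup_idem, Subgroup.map_sup,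
      subgroupOf_map_subtype] at h1
    rw [inf_eq_left.2 hErE, inf_comm C E] at h1
    exact h1.symm
  · rw [hφk, ← pCoreOf_subgroupOf, ← hO]
    exact comap_mono ((map_mono hd).trans ((subgroupOf_map_subtype _ _).le.trans inf_le_left))
  · rw [hφk, ← pCoreOf_subgroupOf, ← hO]
    refine map_le_iff_le_comap.1 (le_trans ?_ (map_mono hc))
    rw [map_commutator, map_commutator, ← MonoidHom.range_eq_map, range_subtype,
      map_subgroupOf_eq_of_le hErE, subgroupOf_map_subtype]
    refine commutator_mono ?_ le_rfl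
    rintro x ⟨h1, h2⟩
    exact ⟨⟨x, hErE h2⟩, ⟨h2, h1⟩, rfl⟩
  · have := congrArg (Subgroup.map E.subtype) (he (Y.subgroupOf E) hY.comap_subtype
      fun h => hYC fun y hy => h (show (⟨y, hYE hy⟩ : E) ∈ Y.subgroupOf E from hy))
    rwa [map_commutator, map_subgroupOf_eq_of_le hErE, map_subgroupOf_eq_of_le hYE] at this

end Cfsg.Agent.S2860
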