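import Cfsg.Statements.S2861
import Cfsg.Agent.H83.FrakL

set_option autoImplicit false
open Cfsg

namespace Cfsg.Agent.S2861

open Subgroup Cfsg.Agent.H83
open scoped commutatorElement

/-- Standing hypotheses: G a finite group, S a Sylow p-subgroup, Q a nontrivial large p-subgroup of G contained in S, M a subgroup containing S with the basic property (M ∈ 𝔐_G(S)); Y_M the largest p-reduced normal subgroup of M and M† = M·C_G(Y_M). Let L ∈ 𝔏_G(Y_M) (L ∈ 𝔏_G(Y_M): Y_M ≤ L; O_p(L) is the normal closure in L of Y_M ∩ O_p(L) and normalizes Y_M; L is Y_M-minimal of characteristic p with N_L(Y_M) its unique maximal subgroup over Y_M; and L/O_p(L) ≅ SL₂(q) with q = |Y_M : Y_M ∩ O_p(L)|, or p = 2 and L/O_p(L) is a Suzuki group Sz(q) or dihedral of order 2r, r an odd prime) and A = O_p(L). Then Y_M·A/A is the unique nontrivial elementary abelian normal p-subgroup of N_L(Y_M)/A. -/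
theorem result {G : Type*} [Group G] [Finite G] {p : ℕ} [Fact p.Prime] (S : Sylow p G) (Q : Subgroup G) (hQp : IsPGroup p ↥Q) (hQ1 : Q ≠ ⊥) (hQS : Q ≤ (S : Subgroup G)) (hQ : Cfsg.IsLarge Q) (M : Subgroup G) (hSM : (S : Subgroup G) ≤ M) (hM : Cfsg.IsInFrakM p M) (L : Subgroup G) (hL : Cfsg.IsInFrakL p M L) (NL : Subgroup G) (hNL : NL = L ⊓ Subgroup.normalizer (((Cfsg.largestPReducedOf p M) : Subgroup G) : Set G)) [hn : (((Cfsg.pCoreOf p L)).subgroupOf NL).Normal] : let Ybar : Subgroup (↥NL ⧸ ((Cfsg.pCoreOf p L)).subgroupOf NL) := (((Cfsg.largestPReducedOf p M)).subgroupOf NL).map (QuotientGroup.mk' (((Cfsg.pCoreOf p L)).subgroupOf NL)); Ybar ≠ ⊥ ∧ Ybar.Normal ∧ Cfsg.IsElementaryAbelian p Ybar ∧ ∀ (V : Subgroup (↥NL ⧸ ((Cfsg.pCoreOf p L)).subgroupOf NL)), V.Normal → Cfsg.IsElementaryAbelian p V → V ≠ ⊥ → V = Ybar := by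
  have hS := LS.of_frakL hL
  intro Ybar
  set f := QuotientGroup.mk' ((pCoreOf p L).subgroupOf NL) with hf
  have hfs : Function.Surjective f := QuotientGroup.mk'_surjective _
  have hYN : YY p M ≤ NL := hNL ▸ le_inf hL.1 le_normalizer
  have hNLL : NL ≤ L := hNL ▸ inf_le_left
  have hAN : pCoreOf p L ≤ NL := hNL ▸ le_inf (pCoreOf_le L) hL.2.2.1
  have hN : normalizer (((YY p M).subgroupOf L : Subgroup L) : Set L) = NL.subgroupOf L := by
    rw [← map_subtype_subgroupOf (normalizer _), map_normalizer_subtype,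
      subgroupOf_map_of_le hL.1, hNL]
  have h0 : ¬ YY p M ≤ pCoreOf p L := fun e =>
    hS.not_le (by rw [← pCoreOf_subgroupOf]; exact comap_mono e)
  refine ⟨fun e => h0 ?_, Normal.map ((normal_subgroupOf_iff_le_normalizer hYN).mpr
    (hNL ▸ inf_le_right)) _ hfs, EA_map _ (EA_subgroupOf (EA_YY M) NL), fun V hV h1 h2 => ?_⟩
  · rw [Subgroup.map_eq_bot_iff, QuotientGroup.ker_mk'] at e
    exact fun y hy => e (show (⟨y, hYN hy⟩ : NL) ∈ (YY p M).subgroupOf NL from hy)
  set V' := (V.comap f).map NL.subtype with hV'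
  have hV'N : V' ≤ NL := map_subtype_le _
  have hAV : pCoreOf p L ≤ V' := by
    rw [← subgroupOf_map_of_le hAN]
    refine map_mono ?_
    have := ker_le_comap f V
    rwa [QuotientGroup.ker_mk'] at this
  haveI := hV.comap f
  have hmem : ∀ z : L, z ∈ pCore p L ↔ (z : G) ∈ pCoreOf p L := fun z =>
    coe_mem_map_subtype.symm
  have h3 := hS.uniq (V := V'.subgroupOf L) (hN ▸ comap_mono hV'N) (by
    rw [hN, ← map_subtype_subgroupOf (normalizer _), map_normalizer_subtype,
      subgroupOf_map_of_le (hV'N.trans hNLL)]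
    exact comap_mono (le_inf hNLL le_norm_map_subtype)) (isEA_iff.mpr ⟨?_, ?_⟩) ?_
  · have h4 := congrArg (map L.subtype) h3
    rw [Subgroup.map_sup, Subgroup.map_sup, subgroupOf_map_of_le (hV'N.trans hNLL),
      subgroupOf_map_of_le hL.1] at h4
    have h5 : V' = YY p M ⊔ pCoreOf p L := (sup_eq_left.mpr hAV).symm.trans h4
    rw [← map_comap_eq_self_of_surjective hfs V, ← map_subtype_subgroupOf (V.comap f), ← hV', h5,
      subgroupOf_sup hYN hAN, Subgroup.map_sup, sup_eq_left]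
    rw [map_le_iff_le_comap]
    have := ker_le_comap f Ybar
    rwa [QuotientGroup.ker_mk'] at this
  · rintro _ ⟨a, ⟨a', ha, ea⟩, rfl⟩ _ ⟨b, ⟨b', hb, eb⟩, rfl⟩
    refine (comm_mem_iff.mp ((hmem _).mpr ?_)).eq
    have := (comm_mem_iff (Z := (pCoreOf p L).subgroupOf NL)).mpr (EA_le_cent h1 ha _ hb)
    rw [mem_subgroupOf] at this
    have e : ((⁅b, a⁆ : L) : G) = ((⁅b', a'⁆ : NL) : G) := by
      simp only [commutatorElement_def, coe_mul, InvMemClass.coe_inv]
      rw [show (a' : G) = a from ea, show (b' : G) = b from eb]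
    rwa [e]
  · rintro _ ⟨a, ⟨a', ha, ea⟩, rfl⟩
    rw [← map_pow]
    refine (QuotientGroup.eq_one_iff _).mpr ((hmem _).mpr ?_)
    have := h1.2 _ ha
    rw [← map_pow] at this
    have h6 := mem_subgroupOf.mp ((QuotientGroup.eq_one_iff _).mp this)
    rwa [SubmonoidClass.coe_pow, show (a' : G) = a from ea, ← SubmonoidClass.coe_pow] at h6
  · intro e
    apply h2
    rw [← map_comap_eq_self_of_surjective hfs V, Subgroup.map_eq_bot_iff, QuotientGroup.ker_mk']
    intro x hx
    exact (hmem ⟨x, hNLL x.2⟩).mp (e ⟨x, hx, rfl⟩)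

end Cfsg.Agent.S2861
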