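import Cfsg.Statements.S2864
import Cfsg.Agent.H83.FrakH

set_option autoImplicit false
open Cfsg

namespace Cfsg.Agent.S2864

open Subgroup Cfsg.Agent.H83
open scoped commutatorElement

theorem aux {G : Type*} [Group G] [Finite G] {p : ℕ} [Fact p.Prime] {A I W : Subgroup G}
    (hA : IsPGroup p A) (hI : A ≤ normalizer (I : Set G)) (hIA : I ≤ A) (hW : W ≤ A)
    (h : W ≤ I ⊔ ⁅W, A⁆) : W ≤ I := by
  have key : ∀ X : Subgroup G, X ≤ A → A ≤ normalizer (X : Set G) → W ≤ I ⊔ X → W ≤ I := by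
    intro X
    induction X using WellFoundedLT.induction with
    | _ X ih =>
      intro h1 h2 h3
      by_cases h0 : X = ⊥
      · rwa [h0, sup_bot_eq] at h3
      have hn : A ≤ normalizer ((⁅X, A⁆ : Subgroup G) : Set G) := le_norm_comm h2 le_normalizer
      refine ih _ (comm_lt_of_pMod (hA.to_le h1) h2 (PMod.of_isPGroup hA _) h0)
        ((comm_le_left h2).trans h1) hn (h.trans (sup_le le_sup_left ?_))
      exact (commutator_mono h3 le_rfl).trans (comm_sup_left_le ((comm_le_left hI).trans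
        le_sup_left) le_sup_right ((sup_le hIA h1).trans (le_norm_sup hI hn)))
  exact key A le_rfl le_normalizer (hW.trans le_sup_right)

/-- Standing hypotheses: G a finite group, S a Sylow p-subgroup, Q a nontrivial large p-subgroup of G contained in S, M a subgroup containing S with the basic property (M ∈ 𝔐_G(S)); Y_M the largest p-reduced normal subgroup of M and M† = M·C_G(Y_M). Let I be a nontrivial normal p-subgroup of M and Y ≤ O_p(M†); let L be a subgroup of G containing Y and A a normal p-subgroup of L with I ≤ A ≤ M. If [Y, A] ≤ [I, A], then Y ≤ O_p(L). -/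
theorem result {G : Type*} [Group G] [Finite G] {p : ℕ} [Fact p.Prime] (S : Sylow p G) (Q : Subgroup G) (hQp : IsPGroup p ↥Q) (hQ1 : Q ≠ ⊥) (hQS : Q ≤ (S : Subgroup G)) (hQ : Cfsg.IsLarge Q) (M : Subgroup G) (hSM : (S : Subgroup G) ≤ M) (hM : Cfsg.IsInFrakM p M) (I : Subgroup G) (hI1 : I ≠ ⊥) (hIp : IsPGroup p ↥I) (hIM : I ≤ M ∧ M ≤ Subgroup.normalizer ((I : Subgroup G) : Set G)) (Y : Subgroup G) (hY : Y ≤ (Cfsg.pCoreOf p (M ⊔ Subgroup.centralizer (((Cfsg.largestPReducedOf p M) : Subgroup G) : Set G)))) (L : Subgroup G) (hYL : Y ≤ L) (A : Subgroup G) (hAp : IsPGroup p ↥A) (hAL : A ≤ L ∧ L ≤ Subgroup.normalizer ((A : Subgroup G) : Set G)) (hIA : I ≤ A) (hAM : A ≤ M) (hc : ⁅Y, A⁆ ≤ ⁅I, A⁆) : Y ≤ (Cfsg.pCoreOf p L) := by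
  have h := BP.of_large hQp hQ hSM hM
  set K := scl Y L with hK
  have hKL : K ≤ L := scl_le _ _
  have hKA : K ≤ normalizer (A : Set G) := hKL.trans hAL.2
  set W : Subgroup G := ⁅K, I⁆ ⊔ I with hW
  have hKW : K ≤ normalizer (W : Set G) := le_sup_left.trans (le_norm_comm_sup K I)
  have hn : K ≤ normalizer ((⁅W, A⁆ : Subgroup G) : Set G) := le_norm_comm hKW hKA
  have h1 : ncl Y K ≤ centMod K A _ hn := by
    refine ncl_le_of_norm (le_centMod.mpr ⟨le_scl hYL, ?_⟩)
      (le_norm_centMod le_normalizer hKA hn)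
    rw [commutator_comm]
    exact hc.trans (commutator_mono le_sup_right le_rfl)
  replace h1 := (ncl_scl hYL).ge.trans h1
  have h2 : W ≤ I := by
    refine aux hAp (hAM.trans hIM.2) hIA (sup_le ((commutator_mono le_rfl hIA).trans
      (comm_le_right hKA)) hIA) (sup_le ?_ le_sup_left)
    rw [commutator_comm]
    exact ((commutator_mono hIA le_rfl).trans (le_centMod.mp h1).2).trans le_sup_right
  have h3 : K ≤ dag p M := by
    rw [le_antisymm h2 le_sup_right] at hKW
    exact hKW.trans (h.norm_le hIp hI1 hIM.2)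
  exact ((le_inf hY (le_scl hYL)).trans (pCoreOf_inf_le h3)).trans (subnIn_scl Y L).pCoreOf_le

end Cfsg.Agent.S2864
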