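import Cfsg.Statements.S2872
import Cfsg.Agent.H82.Extremal

set_option autoImplicit false
open Cfsg

namespace Cfsg.Agent.S2872

open Cfsg.Agent.H82 Subgroup

/-- Let S be a Sylow 2-subgroup of the finite group G. Then G has a proper normal subgroup of 2-power index (O²(G) ≠ G), or Ω₁(Z(S)) is contained in the Frattini subgroup of S, or N_G(S) acts nontrivially on Ω₁(Z(S)) by conjugation. -/
theorem result {G : Type*} [Group G] [Finite G] (S : Sylow 2 G) : Cfsg.pResidual 2 G ≠ ⊤ ∨ Cfsg.omegaOne 2 ((S : Subgroup G) ⊓ Subgroup.centralizer ((S : Subgroup G) : Set G)) ≤ (frattini ↥(S : Subgroup G)).map (S : Subgroup G).subtype ∨ ∃ g ∈ Subgroup.normalizer ((S : Subgroup G) : Set G), ∃ z ∈ Cfsg.omegaOne 2 ((S : Subgroup G) ⊓ Subgroup.centralizer ((S : Subgroup G) : Set G)), g * z * g⁻¹ ≠ z := by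
  by_contra hn
  push Not at hn
  obtain ⟨h1, h2, h3⟩ := hn
  apply h2
  rw [omegaOne, closure_le]
  rintro z ⟨⟨hzS, hzC⟩, hz2⟩
  by_contra hz
  have hz' : (⟨z, hzS⟩ : (S : Subgroup G)) ∉ frattini (S : Subgroup G) := fun h => hz ⟨_, h, rfl⟩
  obtain ⟨M, hM, hzM⟩ : ∃ M : Subgroup (S : Subgroup G), IsCoatom M ∧ ⟨z, hzS⟩ ∉ M := by
    by_contra hc
    push Not at hc
    apply hz'
    simp only [frattini, Order.radical, mem_iInf]
    exact hc
  have hnil := S.isPGroup'.isNilpotent
  have hMn : M.Normal := NormalizerCondition.normal_of_coatom M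
    Group.normalizerCondition_of_isNilpotent hM
  have he : (M.map (S : Subgroup G).subtype).subgroupOf (S : Subgroup G) = M :=
    comap_map_eq_self_of_injective (Subgroup.subtype_injective _) _
  have hn' : ((M.map (S : Subgroup G).subtype).subgroupOf (S : Subgroup G)).Normal := by
    rw [he]; exact hMn
  have hcyc : IsCyclic (↥(S : Subgroup G) ⧸ (M.map (S : Subgroup G).subtype).subgroupOf (S : Subgroup G)) := by
    refine ⟨⟨QuotientGroup.mk ⟨z, hzS⟩, ?_⟩⟩
    have h4 : (zpowers (QuotientGroup.mk' ((M.map (S : Subgroup G).subtype).subgroupOf (S : Subgroup G))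
        ⟨z, hzS⟩)).comap (QuotientGroup.mk' _) = ⊤ := by
      apply hM.2
      refine lt_of_le_of_ne ?_ ?_
      · intro m hm
        have : QuotientGroup.mk' ((M.map (S : Subgroup G).subtype).subgroupOf (S : Subgroup G)) m = 1 :=
          (QuotientGroup.eq_one_iff m).2 (by rw [he]; exact hm)
        rw [mem_comap, this]
        exact one_mem _
      · intro h
        apply hzM
        rw [h]
        exact mem_zpowers _
    intro x
    obtain ⟨s, rfl⟩ := QuotientGroup.mk'_surjective _ x
    have : s ∈ (⊤ : Subgroup (S : Subgroup G)) := mem_top s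
    rw [← h4] at this
    exact this
  obtain ⟨g, a1, a2, a3, a4⟩ := exists_extremal_conj_of_cyclic S (M.map (S : Subgroup G).subtype) hcyc
    (y := z) (by rw [← sq]; exact hz2) hzS (by
      intro h
      apply hzM
      rw [← he]
      exact h) (h1 ▸ mem_top z)
  have h5 : (S : Subgroup G) ⊓ centralizer {z} = S := by
    rw [inf_eq_left]
    intro s hs
    exact mem_centralizer_singleton_iff.2 (mem_centralizer_iff.1 hzC s hs)
  rw [h5] at a4
  have h6 : g ∈ normalizer ((S : Subgroup G) : Set G) := by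
    rw [← H98.map_conj_eq_iff_mem_normalizer]
    exact eq_of_le_of_card_ge (a4.trans inf_le_left) (H98.card_map_conj g _).ge
  rw [h3 g h6 z (subset_closure ⟨⟨hzS, hzC⟩, hz2⟩)] at a1
  apply hzM
  rw [← he]
  exact a1

end Cfsg.Agent.S2872
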