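import Cfsg.Statements.S2873
import Cfsg.Agent.H39.TI
import Cfsg.Agent.H84.CoreOf
import Cfsg.Agent.H3.Cores
import Cfsg.Agent.H51.Thompson

set_option autoImplicit false
open Cfsg

namespace Cfsg.Agent.S2873

open DihedralGroup

theorem eq_sr {r : ℕ} [Fact r.Prime] (hr : r ≠ 2) {d : DihedralGroup r} (h1 : d * d = 1)
    (h2 : d ≠ 1) : ∃ i, d = sr i := by
  have two : (2 : ZMod r) ≠ 0 := fun h => hr ((Nat.prime_dvd_prime_iff_eq Fact.out
    Nat.prime_two).mp ((ZMod.natCast_eq_zero_iff 2 r).mp h))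
  rcases d with i | i
  · exfalso
    rw [r_mul_r, one_def, DihedralGroup.r.injEq, ← two_mul] at h1
    rw [(mul_eq_zero.mp h1).resolve_left two] at h2
    exact h2 rfl
  · exact ⟨i, rfl⟩

theorem eq_r {r : ℕ} [Fact r.Prime] (hr : r ≠ 2) {d : DihedralGroup r} {k : ℕ}
    (h1 : d ^ r ^ k = 1) : ∃ i, d = DihedralGroup.r i := by
  rcases d with i | i
  · exact ⟨i, rfl⟩
  · have := orderOf_dvd_of_pow_eq_one h1
    rw [orderOf_sr] at this
    exact absurd ((Nat.prime_dvd_prime_iff_eq Nat.prime_two Fact.out).mp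
      (Nat.prime_two.dvd_of_dvd_pow this)).symm hr

theorem exists_pow {r : ℕ} [Fact r.Prime] {j : ZMod r} (hj : j ≠ 0) (i : ZMod r) :
    ∃ l : ℕ, (DihedralGroup.r j) ^ l = DihedralGroup.r i :=
  ⟨(j⁻¹ * i).val, by rw [r_pow, ZMod.natCast_zmod_val, mul_inv_cancel_left₀ hj]⟩

/-- Let G be a finite group and r an odd prime such that G ⧸ O₂(G) is dihedral of order 2r, and let R be a Sylow r-subgroup of G with C_{O₂(G)}(R) = 1. Then N_G(R) is dihedral of order 2r; for any involution a of N_G(R), every involution of G outside O₂(G) is conjugate to a; and |C_{O₂(G)}(a)|² = |O₂(G)|. -/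
theorem result {G : Type*} [Group G] [Finite G] {r : ℕ} [Fact r.Prime] (hr : r ≠ 2) [hN : (Cfsg.pCore 2 G).Normal] (hquot : Nonempty (G ⧸ Cfsg.pCore 2 G ≃* DihedralGroup r)) (R : Sylow r G) (hC : Cfsg.pCore 2 G ⊓ Subgroup.centralizer ((R : Subgroup G) : Set G) = ⊥) : Nonempty (↥(Subgroup.normalizer ((R : Subgroup G) : Set G)) ≃* DihedralGroup r) ∧ ∀ a : G, a ∈ Subgroup.normalizer ((R : Subgroup G) : Set G) → orderOf a = 2 → (∀ b : G, orderOf b = 2 → b ∉ Cfsg.pCore 2 G → ∃ g : G, g * a * g⁻¹ = b) ∧ Nat.card ↥(Cfsg.pCore 2 G ⊓ Subgroup.centralizer ({a} : Set G)) ^ 2 = Nat.card ↥(Cfsg.pCore 2 G) := by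
  obtain ⟨e⟩ := hquot
  let φ : G →* DihedralGroup r := e.toMonoidHom.comp (QuotientGroup.mk' _)
  have hφ : ∀ g : G, φ g = 1 ↔ g ∈ pCore 2 G := fun g => by
    rw [← QuotientGroup.eq_one_iff]
    exact e.map_eq_one_iff
  have hs : Function.Surjective φ := e.surjective.comp (QuotientGroup.mk'_surjective _)
  clear_value φ
  set Q := pCore 2 G with hQ
  have hQ2 : IsPGroup 2 Q := H84.isPGroup_pCore 2 G
  have two : (2 : ZMod r) ≠ 0 := fun h => hr ((Nat.prime_dvd_prime_iff_eq Fact.out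
    Nat.prime_two).mp ((ZMod.natCast_eq_zero_iff 2 r).mp h))
  have hRQ : ∀ x ∈ (R : Subgroup G), φ x = 1 → x = 1 := fun x hx h =>
    Subgroup.disjoint_def.mp (IsPGroup.disjoint_of_ne r 2 hr _ _ R.isPGroup' hQ2) hx ((hφ x).mp h)
  have hRr : ∀ x ∈ (R : Subgroup G), ∃ i, φ x = DihedralGroup.r i := by
    intro x hx
    obtain ⟨k, hk⟩ := R.isPGroup' ⟨x, hx⟩
    have hk' : x ^ r ^ k = 1 := congrArg Subtype.val hk
    exact eq_r hr (k := k) (by rw [← map_pow, hk', map_one])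
  have gen : ∀ x ∈ (R : Subgroup G), x ≠ 1 → ∀ ρ ∈ (R : Subgroup G), ∃ l : ℕ, ρ = x ^ l := by
    intro x hx hx1 ρ hρ
    obtain ⟨j, hj⟩ := hRr x hx
    obtain ⟨i, hi⟩ := hRr ρ hρ
    obtain ⟨l, hl⟩ := exists_pow (j := j) (fun h => hx1 (hRQ x hx (by rw [hj, h]; rfl))) i
    refine ⟨l, inv_mul_eq_one.mp (hRQ _ (Subgroup.mul_mem _ (Subgroup.inv_mem _ hρ)
      (Subgroup.pow_mem _ hx l)) ?_)⟩
    rw [map_mul, map_inv, map_pow, hj, hl, hi, inv_mul_cancel]
  have lemA : ∀ (y : G) (j : ZMod r), j ≠ 0 → φ y = DihedralGroup.r j →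
      ∃ (g : G) (m : ℕ), g * y ^ m * g⁻¹ ∈ (R : Subgroup G) ∧ g * y ^ m * g⁻¹ ≠ 1 := by
    intro y j hj hy
    obtain ⟨m, hm⟩ := hQ2 ⟨y ^ r, by rw [← hφ, map_pow, hy, r_pow]; simp⟩
    have hm' : (y ^ 2 ^ m) ^ r = 1 := by
      rw [← pow_mul, mul_comm, pow_mul]
      exact congrArg Subtype.val hm
    obtain ⟨g, -, hg⟩ := (H98.sylIn_top R).exists_conj_le le_top
      (H51.isEA_isPGroup (H51.isEA_zpowers hm'))
    refine ⟨g, 2 ^ m, hg (H98.conj_mem_map_conj (Subgroup.mem_zpowers _)), fun h => ?_⟩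
    have h1 : φ (y ^ 2 ^ m) = 1 := by rw [conj_eq_one_iff.mp h, map_one]
    rw [map_pow, hy, r_pow, one_def, DihedralGroup.r.injEq] at h1
    simp [two, hj] at h1
  have fpf : ∀ (y : G) (j : ZMod r), j ≠ 0 → φ y = DihedralGroup.r j → ∀ q ∈ Q,
      q * y = y * q → q = 1 := by
    intro y j hj hy q hq hc
    obtain ⟨g, m, h1, h2⟩ := lemA y j hj hy
    have : g * q * g⁻¹ ∈ Q ⊓ Subgroup.centralizer ((R : Subgroup G) : Set G) := by
      refine Subgroup.mem_inf.mpr ⟨hN.conj_mem q hq g, Subgroup.mem_centralizer_iff.mpr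
        fun ρ hρ => ?_⟩
      obtain ⟨l, rfl⟩ := gen _ h1 h2 ρ hρ
      have : Commute (g * y ^ m * g⁻¹) (g * q * g⁻¹) := by
        have := (Commute.pow_right hc m).eq
        change _ * _ = _ * _
        calc g * y ^ m * g⁻¹ * (g * q * g⁻¹) = g * (y ^ m * q) * g⁻¹ := by group
          _ = _ := by rw [← this]; group
      exact this.pow_left l
    rw [hC, Subgroup.mem_bot] at this
    exact conj_eq_one_iff.mp this
  set N := Subgroup.normalizer ((R : Subgroup G) : Set G) with hNdef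
  have inj : ∀ n ∈ N, φ n = 1 → n = 1 := by
    intro n hn h
    rw [← Subgroup.mem_bot, ← hC]
    refine Subgroup.mem_inf.mpr ⟨(hφ n).mp h, Subgroup.mem_centralizer_iff.mpr fun ρ hρ => ?_⟩
    have := hRQ (n * ρ * n⁻¹ * ρ⁻¹) (Subgroup.mul_mem _ (H84.conj_mem_of_mem_normalizer hn hρ)
      (Subgroup.inv_mem _ hρ)) (by simp [h])
    rw [mul_inv_eq_one, mul_inv_eq_iff_eq_mul] at this
    exact this.symm
  obtain ⟨x₀, hx₀⟩ := hs (DihedralGroup.r 1)
  have surj : ∀ d, ∃ n ∈ N, φ n = d := by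
    intro d
    obtain ⟨g, rfl⟩ := hs d
    have hz : ∀ d : DihedralGroup r, d ∈ Subgroup.zpowers (DihedralGroup.r (1 : ZMod r)) ↔
        ∃ i, d = DihedralGroup.r i := by
      intro d
      constructor
      · rintro ⟨k, rfl⟩
        exact ⟨k, r_one_zpow k⟩
      · rintro ⟨i, rfl⟩
        obtain ⟨l, hl⟩ := exists_pow (j := (1 : ZMod r)) one_ne_zero i
        exact hl ▸ Subgroup.npow_mem_zpowers _ l
    have : (Subgroup.zpowers (DihedralGroup.r (1 : ZMod r))).Normal := ⟨fun d hd c => by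
      obtain ⟨i, rfl⟩ := (hz d).mp hd
      rcases c with c | c <;> exact (hz _).mpr ⟨_, rfl⟩⟩
    have h1 := R.normalizer_sup_eq_top'
      (N := (Subgroup.zpowers (DihedralGroup.r (1 : ZMod r))).comap φ)
      fun x hx => (hz _).mpr (hRr x hx)
    obtain ⟨n, hn, k, hk, rfl⟩ := Subgroup.mem_sup_of_normal_right.mp (h1.ge (Subgroup.mem_top g))
    obtain ⟨i, hi⟩ := (hz _).mp hk
    obtain ⟨g, m, h2, h3⟩ := lemA x₀ 1 one_ne_zero hx₀
    obtain ⟨j, hj⟩ := hRr _ h2
    obtain ⟨l, hl⟩ := exists_pow (j := j) (fun h => h3 (hRQ _ h2 (by rw [hj, h]; rfl))) i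
    exact ⟨n * (g * x₀ ^ m * g⁻¹) ^ l, N.mul_mem hn (Subgroup.le_normalizer (Subgroup.pow_mem _ h2 l)),
      by rw [map_mul, map_pow, hj, hl, map_mul, hi]⟩
  refine ⟨⟨MulEquiv.ofBijective (φ.comp N.subtype) ⟨(injective_iff_map_eq_one _).mpr fun n h =>
    Subtype.ext (inj n n.2 h), fun d => ?_⟩⟩, fun a haN ha => ?_⟩
  · obtain ⟨n, hn, h⟩ := surj d
    exact ⟨⟨n, hn⟩, h⟩
  have sq1 : ∀ {b : G}, orderOf b = 2 → b * b = 1 := fun {b} hb => by
    rw [← sq, ← hb, pow_orderOf_eq_one]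
  have haa := sq1 ha
  obtain ⟨i, hi⟩ := eq_sr hr (d := φ a) (by rw [← map_mul, haa, map_one]) fun h => by
    rw [inj a haN h, orderOf_one] at ha
    exact absurd ha (by decide)
  have hrot : ∀ {b : G} {j : ZMod r}, φ b = sr j →
      φ (b * (x₀ * b * x₀⁻¹)) = DihedralGroup.r (-2) := by
    intro b j hj
    simp only [map_mul, map_inv, hx₀, hj, r_mul_sr, inv_r, sr_mul_r, sr_mul_sr]
    congr 1
    ring
  constructor
  · intro b hb hbQ
    have hbb := sq1 hb
    have hb' := inv_eq_of_mul_eq_one_right hbb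
    obtain ⟨j, hj⟩ := eq_sr hr (d := φ b) (by rw [← map_mul, hbb, map_one])
      fun h => hbQ ((hφ b).mp h)
    obtain ⟨g, m, h1, h2⟩ := lemA _ _ (neg_ne_zero.mpr two) (hrot hj)
    have hinv : b * (b * (x₀ * b * x₀⁻¹)) * b⁻¹ = (b * (x₀ * b * x₀⁻¹))⁻¹ := by
      simp only [mul_inv_rev, inv_inv, hb', ← mul_assoc, hbb, one_mul]
    generalize b * (x₀ * b * x₀⁻¹) = y at h1 h2 hinv
    have hbN : g * b * g⁻¹ ∈ N := by
      refine Subgroup.mem_normalizer_fintype fun ρ hρ => ?_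
      obtain ⟨l, rfl⟩ := gen _ h1 h2 ρ hρ
      have : g * b * g⁻¹ * (g * y ^ m * g⁻¹) ^ l * (g * b * g⁻¹)⁻¹ = ((g * y ^ m * g⁻¹) ^ l)⁻¹ := by
        rw [← conj_pow, ← inv_pow]
        congr 1
        calc g * b * g⁻¹ * (g * y ^ m * g⁻¹) * (g * b * g⁻¹)⁻¹ = g * (b * y ^ m * b⁻¹) * g⁻¹ := by
              group
          _ = _ := by rw [← conj_pow, hinv]; group
      rw [this]
      exact Subgroup.inv_mem _ hρ
    obtain ⟨j', hj'⟩ := eq_sr hr (d := φ (g * b * g⁻¹))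
      (by rw [← map_mul, conj_mul, hbb, mul_one, mul_inv_cancel, map_one])
      fun h => hbQ (by simpa [mul_assoc] using hN.conj_mem _ ((hφ _).mp h) g⁻¹)
    obtain ⟨n, hn, hn'⟩ := surj (DihedralGroup.r ((i - j') / 2))
    have := inj (n * a * n⁻¹ * (g * b * g⁻¹)⁻¹) (N.mul_mem (N.mul_mem (N.mul_mem hn haN)
      (N.inv_mem hn)) (N.inv_mem hbN)) (by
        rw [map_mul, map_inv, hj', map_mul, map_mul, map_inv, hn', hi]
        simp only [r_mul_sr, inv_r, sr_mul_r, inv_sr, sr_mul_sr, one_def]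
        congr 1
        field_simp
        ring)
    rw [mul_inv_eq_one] at this
    exact ⟨g⁻¹ * n, by rw [show g⁻¹ * n * a * (g⁻¹ * n)⁻¹ = g⁻¹ * (n * a * n⁻¹) * g by group, this]; group⟩
  · set a' := x₀ * a * x₀⁻¹ with ha'
    have hy := hrot hi
    have hcj : Subgroup.centralizer {a'} = H84.cj x₀ (Subgroup.centralizer {a}) := by
      ext g
      rw [H98.mem_map_conj, Subgroup.mem_centralizer_singleton_iff,
        Subgroup.mem_centralizer_singleton_iff, ha']
      constructor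
      · intro h
        calc x₀⁻¹ * g * x₀ * a = x₀⁻¹ * (g * (x₀ * a * x₀⁻¹)) * x₀ := by group
          _ = _ := by rw [h]; group
      · intro h
        calc g * (x₀ * a * x₀⁻¹) = x₀ * (x₀⁻¹ * g * x₀ * a) * x₀⁻¹ := by group
          _ = _ := by rw [h]; group
    have hk : (Subgroup.centralizer {a'}).relIndex Q = (Subgroup.centralizer {a}).relIndex Q := by
      rw [hcj]
      conv_lhs => rw [← H84.cj_eq_of_mem_normalizer (K := Q) (g := x₀)
        (Subgroup.le_normalizer_of_normal (Subgroup.mem_top x₀))]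
      exact Subgroup.relIndex_map_map_of_injective _ _ (MulAut.conj _).injective
    have e1 := H3.card_inf_mul_relIndex (Subgroup.centralizer {a}) Q
    have e2 := H3.card_inf_mul_relIndex (Subgroup.centralizer {a'}) Q
    rw [inf_comm] at e1 e2
    rw [hk] at e2
    have p1 : 0 < (Subgroup.centralizer {a}).relIndex Q :=
      Nat.pos_of_ne_zero Subgroup.FiniteIndex.index_ne_zero
    have e3 := Nat.eq_of_mul_eq_mul_right p1 (e2.trans e1.symm)
    have b1 : Nat.card (Q ⊓ Subgroup.centralizer {a} : Subgroup G) *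
        Nat.card (Q ⊓ Subgroup.centralizer {a'} : Subgroup G) ≤ Nat.card Q := by
      rw [← Nat.card_prod]
      refine Nat.card_le_card_of_injective (fun p => ⟨p.1 * p.2, Q.mul_mem p.1.2.1 p.2.2.1⟩) ?_
      rintro ⟨⟨u, hu⟩, v, hv⟩ ⟨⟨u', hu'⟩, v', hv'⟩ h
      have h : u * v = u' * v' := congrArg Subtype.val h
      have h1 : u'⁻¹ * u = v' * v⁻¹ := by
        rw [inv_mul_eq_iff_eq_mul, ← mul_assoc, ← h, mul_inv_cancel_right]
      have c1 := Subgroup.mem_centralizer_singleton_iff.mp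
        (Subgroup.mul_mem _ (Subgroup.inv_mem _ hu'.2) hu.2)
      have c2 := Subgroup.mem_centralizer_singleton_iff.mp
        (Subgroup.mul_mem _ hv'.2 (Subgroup.inv_mem _ hv.2))
      rw [← h1] at c2
      have := fpf _ _ (neg_ne_zero.mpr two) hy _ (Q.mul_mem (Q.inv_mem hu'.1) hu.1)
        (by rw [← mul_assoc, c1, mul_assoc, c2, ← mul_assoc])
      obtain rfl := inv_mul_eq_one.mp this
      obtain rfl := mul_left_cancel h
      rfl
    have b2 : (Subgroup.centralizer {a}).relIndex Q * (Subgroup.centralizer {a'}).relIndex Q ≤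
        Nat.card Q := by
      rw [H39.relIndex_centralizer_eq_ncard, H39.relIndex_centralizer_eq_ncard,
        ← Nat.card_coe_set_eq, ← Nat.card_coe_set_eq, ← Nat.card_prod]
      have hφ' : ∀ {c b : G}, b ∈ {y | ∃ n ∈ Q, n * c * n⁻¹ = y} → φ b = φ c := by
        rintro c _ ⟨n, hn, rfl⟩
        simp [(hφ n).mpr hn]
      have hsq : ∀ {c b : G}, c * c = 1 → b ∈ {y | ∃ n ∈ Q, n * c * n⁻¹ = y} → b * b = 1 := by
        rintro c _ hc ⟨n, hn, rfl⟩
        rw [conj_mul, hc, mul_one, mul_inv_cancel]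
      have haa' : a' * a' = 1 := by rw [ha', conj_mul, haa, mul_one, mul_inv_cancel]
      refine Nat.card_le_card_of_injective (fun p => ⟨(a * a')⁻¹ * (p.1 * p.2), (hφ _).mp (by
        rw [map_mul, map_inv, map_mul φ (p.1 : G), hφ' p.1.2, hφ' p.2.2, ← map_mul φ a, inv_mul_cancel])⟩) ?_
      rintro ⟨⟨u, hu⟩, v, hv⟩ ⟨⟨u', hu'⟩, v', hv'⟩ h
      have h : u * v = u' * v' := mul_left_cancel (congrArg Subtype.val h)
      have i1 := inv_eq_of_mul_eq_one_right (hsq haa hu)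
      have i2 := inv_eq_of_mul_eq_one_right (hsq haa hu')
      have i3 := inv_eq_of_mul_eq_one_right (hsq haa' hv)
      have i4 := inv_eq_of_mul_eq_one_right (hsq haa' hv')
      have h' : v * u = v' * u' := by
        rw [← i1, ← i3, ← mul_inv_rev, h, mul_inv_rev, i2, i4]
      have := fpf (u * v) _ (neg_ne_zero.mpr two) (by rw [map_mul, hφ' hu, hφ' hv, ← map_mul, hy])
        (u' * u) ((hφ _).mp (by rw [map_mul, hφ' hu, hφ' hu', ← map_mul, haa, map_one])) (by
          calc u' * u * (u * v) = u' * (u * u) * v := by group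
            _ = u' * (v * u) * u⁻¹ := by rw [hsq haa hu]; group
            _ = u' * v' * (u' * u) := by rw [h', i1]; group
            _ = _ := by rw [h])
      obtain rfl : u = u' := by rw [← i2, eq_inv_of_mul_eq_one_right this]
      obtain rfl := mul_left_cancel h
      rfl
    rw [e3] at b1
    rw [hk] at b2
    generalize Nat.card (Q ⊓ Subgroup.centralizer {a} : Subgroup G) = c at *
    generalize (Subgroup.centralizer {a}).relIndex Q = k at *
    rw [← e1] at b1 b2 ⊢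
    have := Nat.le_of_mul_le_mul_right b2 p1
    have := Nat.le_of_mul_le_mul_left b1 (by omega)
    rw [sq, show c = k by omega]

end Cfsg.Agent.S2873
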