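import Mathlib
import Cfsg.Statements.S2874


set_option autoImplicit false
open Cfsg

namespace Cfsg.Agent.S2874
open Matrix

theorem inj2 {R : Type*} {a b c d a' b' c' d' : R} (h : !![a, b; c, d] = !![a', b'; c', d']) :
    a = a' ∧ b = b' ∧ c = c' ∧ d = d' :=
  ⟨congrFun (congrFun h 0) 0, congrFun (congrFun h 0) 1, congrFun (congrFun h 1) 0,
    congrFun (congrFun h 1) 1⟩

theorem mk2 {R : Type*} {a b c d a' b' c' d' : R} (h1 : a = a') (h2 : b = b') (h3 : c = c') (h4 : d = d') :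
    !![a, b; c, d] = !![a', b'; c', d'] := by rw [h1, h2, h3, h4]

section
variable {R : Type*} [CommRing R]

/-- The companion matrix. -/
def CC : Matrix (Fin 2) (Fin 2) R := !![0, -1; 1, -1]

/-- Its inverse. -/
def CI : Matrix (Fin 2) (Fin 2) R := !![-1, 1; -1, 0]

/-- The involutions. -/
def TT (p r : R) : Matrix (Fin 2) (Fin 2) R := !![1 + p, r - p; r, 1 - p]

theorem CC_CI : (CC : Matrix (Fin 2) (Fin 2) R) * CI = 1 := by
  rw [CC, CI, mul_fin_two, one_fin_two]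
  apply mk2 <;> ring

theorem conj_TT (p r : R) : CC * TT p r * CI = TT (r - p) (-p) := by
  rw [CC, CI, TT, TT, mul_fin_two, mul_fin_two]
  apply mk2 <;> ring

theorem shape (t : Matrix (Fin 2) (Fin 2) R) (h1 : t * t = 1)
    (h2 : t * (CC * t * CI) = CC * (CC * t * CI) * CI) (h3 : (CC * t * CI) * t = CC * (CC * t * CI) * CI) :
    ∃ p r, t = TT p r ∧ 2 * p = 0 ∧ 2 * r = 0 := by
  obtain ⟨P, Q, R, S, rfl⟩ : ∃ P Q R S, t = !![P, Q; R, S] := ⟨_, _, _, _, eta_fin_two t⟩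
  simp only [CC, CI, mul_fin_two, one_fin_two] at h1 h2 h3
  obtain ⟨e1, e2, e3, e4⟩ := inj2 h1
  obtain ⟨f1, f2, f3, f4⟩ := inj2 h2
  obtain ⟨g1, g2, g3, g4⟩ := inj2 h3
  have a : P + S = 2 := by linear_combination e1 + e4 + f2 - f3 - f4 - g1 - g2 + g3
  have b : R - Q = P - 1 := by linear_combination -e1 - e2 + e3 + g1 + g2 - g3
  have c : 2 * R = 0 := by linear_combination e3 - R * a
  have d : 2 * Q = 0 := by linear_combination e2 - Q * a
  exact ⟨P - 1, R, mk2 (by ring) (by linear_combination -b) rfl (by linear_combination a),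
    by linear_combination c - d - 2 * b, c⟩

theorem compan (par : ∀ r : R, ∃ v, r = 2 * v ∨ r = 2 * v + 1) (un : ∀ v : R, IsUnit (2 * v + 1))
    (x : Matrix (Fin 2) (Fin 2) R) (h : x * x * x = 1) (h1 : x ≠ 1) :
    ∃ P : Matrix (Fin 2) (Fin 2) R, IsUnit P.det ∧ x * P = P * CC := by
  have hd : x.det * x.det * x.det = 1 := by rw [← det_mul, ← det_mul, h, det_one]
  obtain ⟨a, b, c, d, rfl⟩ : ∃ P Q R S, x = !![P, Q; R, S] := ⟨_, _, _, _, eta_fin_two x⟩
  rw [det_fin_two_of] at hd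
  simp only [mul_fin_two, one_fin_two] at h h1
  obtain ⟨e1, e2, e3, e4⟩ := inj2 h
  have ev : ∀ r : R, ∃ v, r * (r + 1) = 2 * v := fun r => by
    obtain ⟨v, rfl | rfl⟩ := par r
    exacts [⟨v * (2 * v + 1), by ring⟩, ⟨(2 * v + 1) * (v + 1), by ring⟩]
  have k1 : a * d - b * c = 1 := by
    obtain ⟨v, hv⟩ := ev (a * d - b * c)
    rw [← sub_eq_zero, ← (un v).mul_right_eq_zero, ← hv]
    linear_combination hd
  have k2 : a + d = -1 := by
    obtain ⟨v, hv | hv⟩ := par (a + d)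
    · have u := (un v).mul (un (v - 1))
      have z : (2 * v + 1) * (2 * (v - 1) + 1) = (a + d) ^ 2 - 1 := by rw [hv]; ring
      rw [z] at u
      have b0 : b = 0 := u.mul_right_eq_zero.1 (by linear_combination e2 + b * k1)
      have c0 : c = 0 := u.mul_right_eq_zero.1 (by linear_combination e3 + c * k1)
      have a0 : a = d := sub_eq_zero.1 (u.mul_right_eq_zero.1 (by
        linear_combination e1 - e4 + (a - d) * k1))
      subst b0 c0 a0
      have a1 : a = 1 := by linear_combination e1 - a * k1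
      exact absurd (by rw [a1]) h1
    · have u := un (v * a - 1)
      have z : 2 * (v * a - 1) + 1 = (a + d - 1) * a - 1 := by rw [hv]; ring
      rw [z] at u
      rw [← sub_eq_zero, ← u.mul_right_eq_zero]
      linear_combination e1 + (2 * a + d) * k1
  refine ⟨!![1, a; 0, c], ?_, ?_⟩
  · obtain ⟨v, hv⟩ := ev a
    have u := un (-v - 1)
    rw [show 2 * (-v - 1) + 1 = b * c by linear_combination k1 - a * k2 + hv] at u
    simpa [det_fin_two] using isUnit_of_mul_isUnit_right u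
  · rw [CC, mul_fin_two, mul_fin_two]
    refine mk2 (by ring) ?_ (by ring) ?_
    · linear_combination a * k2 - k1
    · linear_combination c * k2

end

theorem a4 : ∃ x t : alternatingGroup (Fin 4), x * x * x = 1 ∧ x ≠ 1 ∧ t * t = 1 ∧ t ≠ 1 ∧
    t * (x * t * x⁻¹) = x * (x * t * x⁻¹) * x⁻¹ ∧ (x * t * x⁻¹) * t = x * (x * t * x⁻¹) * x⁻¹ ∧
    Subgroup.closure {x, t} = ⊤ := by
  refine ⟨⟨Equiv.swap 0 1 * Equiv.swap 1 2, Equiv.Perm.mem_alternatingGroup.2 (by decide)⟩, ⟨Equiv.swap 0 1 * Equiv.swap 2 3, Equiv.Perm.mem_alternatingGroup.2 (by decide)⟩,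
    by decide, by decide, by decide, by decide, by decide, by decide, ?_⟩
  generalize hx : (⟨Equiv.swap 0 1 * Equiv.swap 1 2, _⟩ : alternatingGroup (Fin 4)) = x
  generalize ht : (⟨Equiv.swap 0 1 * Equiv.swap 2 3, _⟩ : alternatingGroup (Fin 4)) = t
  have key : ∀ g : alternatingGroup (Fin 4), ∃ i j : Fin 3, ∃ l : Fin 2,
      g = x ^ (i : ℕ) * t ^ (l : ℕ) * x ^ (j : ℕ) := by
    subst hx ht
    decide +kernel
  rw [eq_top_iff]
  intro g _
  obtain ⟨i, j, l, rfl⟩ := key g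
  have h1 : x ∈ Subgroup.closure {x, t} := Subgroup.subset_closure (by simp)
  have h2 : t ∈ Subgroup.closure {x, t} := Subgroup.subset_closure (by simp)
  exact mul_mem (mul_mem (pow_mem h1 _) (pow_mem h2 _)) (pow_mem h1 _)

theorem clo {G : Type*} [Group G] (c t : G) :
    Subgroup.closure {c, c * t * c⁻¹} = Subgroup.closure {c, t} := by
  have h : ∀ s, c ∈ Subgroup.closure ({c, s} : Set G) ∧ s ∈ Subgroup.closure ({c, s} : Set G) :=
    fun s => ⟨Subgroup.subset_closure (by simp), Subgroup.subset_closure (by simp)⟩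
  apply le_antisymm <;> rw [Subgroup.closure_le, Set.pair_subset_iff]
  · exact ⟨(h t).1, mul_mem (mul_mem (h t).1 (h t).2) (inv_mem (h t).1)⟩
  · refine ⟨(h _).1, ?_⟩
    have := mul_mem (mul_mem (inv_mem (h (c * t * c⁻¹)).1) (h _).2) (h _).1
    rwa [show c⁻¹ * (c * t * c⁻¹) * c = t by group] at this

theorem main {R : Type*} [CommRing R] (par : ∀ r : R, ∃ v, r = 2 * v ∨ r = 2 * v + 1)
    (un : ∀ v : R, IsUnit (2 * v + 1)) {ε : R} (hε : ∀ r : R, 2 * r = 0 → r = 0 ∨ r = ε)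
    (H : Subgroup (GL (Fin 2) R)) (e : H ≃* alternatingGroup (Fin 4)) :
    ∃ g c t : GL (Fin 2) R, (c : Matrix (Fin 2) (Fin 2) R) = CC ∧ (t : Matrix (Fin 2) (Fin 2) R) = TT ε 0 ∧
      H.map (MulAut.conj g).toMonoidHom = Subgroup.closure {c, t} := by
  obtain ⟨x, t, h1, h2, h3, h4, h5, h6, h7⟩ := a4
  let f : alternatingGroup (Fin 4) →* GL (Fin 2) R := H.subtype.comp e.symm.toMonoidHom
  have hf : Function.Injective f := H.subtype_injective.comp e.symm.injective
  obtain ⟨P, p1, p2⟩ := compan par un (f x : Matrix (Fin 2) (Fin 2) R)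
    (by rw [← Units.val_mul, ← Units.val_mul, ← map_mul, ← map_mul, h1, map_one, Units.val_one])
    (fun h => h2 (hf (by rw [map_one]; exact Units.ext h)))
  obtain ⟨g, rfl⟩ := (isUnit_iff_isUnit_det P).2 p1
  let f' := (MulAut.conj g⁻¹).toMonoidHom.comp f
  have hf' : Function.Injective f' := (MulAut.conj g⁻¹).injective.comp hf
  have k1 : H.map (MulAut.conj g⁻¹).toMonoidHom = Subgroup.closure {f' x, f' t} := by
    rw [← Set.image_pair, ← MonoidHom.map_closure, h7, ← Subgroup.map_map, ← Subgroup.map_map,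
      Subgroup.map_top_of_surjective _ e.symm.surjective, ← MonoidHom.range_eq_map, H.range_subtype]
  have k2 : (f' x : Matrix (Fin 2) (Fin 2) R) = CC := by
    show ((g⁻¹ * f x * g⁻¹⁻¹ : GL (Fin 2) R) : Matrix (Fin 2) (Fin 2) R) = CC
    rw [inv_inv, Units.val_mul, Units.val_mul, Matrix.mul_assoc, p2, Units.inv_mul_cancel_left]
  have k3 : (((f' x)⁻¹ : GL (Fin 2) R) : Matrix (Fin 2) (Fin 2) R) = CI :=
    Units.inv_eq_of_mul_eq_one_right (by rw [k2, CC_CI])
  have k4 : ∀ s : GL (Fin 2) R, ((f' x * s * (f' x)⁻¹ : GL (Fin 2) R) : Matrix (Fin 2) (Fin 2) R) =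
      CC * (s : Matrix (Fin 2) (Fin 2) R) * CI := fun s => by rw [Units.val_mul, Units.val_mul, k2, k3]
  replace h3 := congrArg (fun a => (f' a : Matrix (Fin 2) (Fin 2) R)) h3
  replace h5 := congrArg (fun a => (f' a : Matrix (Fin 2) (Fin 2) R)) h5
  replace h6 := congrArg (fun a => (f' a : Matrix (Fin 2) (Fin 2) R)) h6
  simp only [map_mul, map_inv, map_one, Units.val_mul, Units.val_one, k2, k3] at h3 h5 h6
  obtain ⟨p, r, q1, q2, q3⟩ := shape _ h3 h5 h6
  rcases hε p q2 with rfl | rfl <;> rcases hε r q3 with rfl | rfl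
  · exact absurd (hf' (Units.ext (by rw [q1, map_one, Units.val_one, TT, one_fin_two]; simp))) h4
  · exact ⟨_, _, _, k2, by rw [k4, q1, conj_TT]; simp, k1.trans (clo _ _).symm⟩
  · exact ⟨_, _, _, k2, q1, k1⟩
  · refine ⟨_, _, _, k2, ?_, k1.trans ((clo _ _).symm.trans (clo _ _).symm)⟩
    rw [k4, k4, q1, conj_TT, conj_TT]
    congr 1
    · linear_combination -q3
    · ring


/-- For k ≥ 2, any two subgroups of GL₂(ℤ/2ᵏℤ) (the automorphism group of the homocyclic group ℤ/2ᵏ × ℤ/2ᵏ) that are isomorphic to the alternating group of degree 4 are conjugate. -/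
theorem result (k : ℕ) (hk : 2 ≤ k) (H₁ H₂ : Subgroup (GL (Fin 2) (ZMod (2 ^ k)))) (h₁ : Nonempty (↥H₁ ≃* ↥(alternatingGroup (Fin 4)))) (h₂ : Nonempty (↥H₂ ≃* ↥(alternatingGroup (Fin 4)))) : ∃ g : GL (Fin 2) (ZMod (2 ^ k)), H₂ = H₁.map (MulAut.conj g).toMonoidHom := by
  obtain ⟨m, rfl⟩ : ∃ m, k = m + 1 := ⟨k - 1, by omega⟩
  have par : ∀ r : ZMod (2 ^ (m + 1)), ∃ v, r = 2 * v ∨ r = 2 * v + 1 := fun r => by
    obtain ⟨n, rfl⟩ := ZMod.natCast_zmod_surjective r
    obtain ⟨v, rfl | rfl⟩ := Nat.even_or_odd' n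
    exacts [⟨v, Or.inl (by push_cast; rfl)⟩, ⟨v, Or.inr (by push_cast; rfl)⟩]
  have un : ∀ v : ZMod (2 ^ (m + 1)), IsUnit (2 * v + 1) := fun v =>
    IsNilpotent.isUnit_add_one ⟨m + 1, by
      rw [mul_pow, show (2 : ZMod (2 ^ (m + 1))) ^ (m + 1) = ((2 ^ (m + 1) : ℕ) : ZMod (2 ^ (m + 1))) by
        push_cast; rfl, ZMod.natCast_self, zero_mul]⟩
  have hε : ∀ r : ZMod (2 ^ (m + 1)), 2 * r = 0 → r = 0 ∨ r = 2 ^ m := fun r h => by
    obtain ⟨n, rfl⟩ := ZMod.natCast_zmod_surjective r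
    have h1 : 2 ^ (m + 1) ∣ 2 * n := (ZMod.natCast_eq_zero_iff _ _).1 (by push_cast; exact h)
    rw [pow_succ', Nat.mul_dvd_mul_iff_left (by norm_num)] at h1
    obtain ⟨j, rfl⟩ := h1
    have h2 : (2 : ZMod (2 ^ (m + 1))) ^ m * 2 = 0 := by
      rw [← pow_succ]; exact_mod_cast ZMod.natCast_self (2 ^ (m + 1))
    obtain ⟨v, rfl | rfl⟩ := Nat.even_or_odd' j
    · left; push_cast; linear_combination v * h2
    · right; push_cast; linear_combination v * h2
  obtain ⟨g, c, t, g1, g2, g3⟩ := main par un hε H₁ h₁.some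
  obtain ⟨g', c', t', g1', g2', g3'⟩ := main par un hε H₂ h₂.some
  obtain rfl : c = c' := Units.ext (g1.trans g1'.symm)
  obtain rfl : t = t' := Units.ext (g2.trans g2'.symm)
  refine ⟨g'⁻¹ * g, ?_⟩
  have := congrArg (Subgroup.map (MulAut.conj g'⁻¹).toMonoidHom) (g3'.trans g3.symm)
  rw [Subgroup.map_map, Subgroup.map_map] at this
  convert this using 1
  · conv_lhs => rw [← Subgroup.map_id H₂]
    congr 1
    ext1 a
    simp [mul_assoc]
  · congr 1
    ext1 a
    simp [mul_assoc]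

end Cfsg.Agent.S2874
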