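import Cfsg.Statements.S2879
import Cfsg.Agent.H3.Rank2Three
import Cfsg.Agent.H8.MCFusion
import Cfsg.Agent.H61.RegLin2

set_option autoImplicit false
open Cfsg

namespace Cfsg.Agent.S2879

open Subgroup Cfsg.Agent.H63 Cfsg.Agent.H67 Cfsg.Agent.H3
open scoped commutatorElement

/-- Let G be a finite solvable group with O(G) = 1 whose Sylow 2-subgroup T is dihedral of order at least 8 or semidihedral, with G ≠ T and Z(T) normal in G. Then G has a normal subgroup isomorphic to SL₂(3). -/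
theorem result {G : Type*} [Group G] [Finite G] (hsol : IsSolvable G) (hO : Cfsg.oddCore G = ⊥) (T : Sylow 2 G) (hT : (∃ n : ℕ, 4 ≤ n ∧ Nonempty (↥(T : Subgroup G) ≃* DihedralGroup n)) ∨ Cfsg.IsQuasiDihedral ↥(T : Subgroup G)) (hne : (T : Subgroup G) ≠ ⊤) (hZ : ((T : Subgroup G) ⊓ Subgroup.centralizer ((T : Subgroup G) : Set G)).Normal) : ∃ U : Subgroup G, U.Normal ∧ Nonempty (↥U ≃* Matrix.SpecialLinearGroup (Fin 2) (ZMod 3)) := by
  obtain ⟨a, b, n, h⟩ : ∃ (a b : G) (n : ℕ), H9.MC (T : Subgroup G) a b n := by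
    rcases hT with ⟨m, hm, ⟨e⟩⟩ | hT
    · obtain ⟨a, b, n, h, -⟩ := H9.exists_MC_of_dihedral' e T.isPGroup' (by omega)
      exact ⟨a, b, n, h⟩
    · obtain ⟨a, b, n, -, h, -⟩ := H9.exists_MC_of_quasiDihedral' hT
      exact ⟨a, b, n, h⟩
  rw [h.inf_centralizer] at hZ
  have hch : CharP' 2 (⊤ : Subgroup G) :=
    charP'_of_solvable (by haveI : Group.IsSolvable G := hsol; infer_instance) (by rw [← pPrimeCore_eq_top_form Nat.prime_two]; exact hO)
  set Q := O[{2}]((⊤ : Subgroup G)) with hQ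
  have hQn : Q.Normal := normalIn_top_iff.1 (piCoreOf_normalIn _ _)
  have hQp : IsPGroup 2 Q := isPGroup_of_isPi Nat.prime_two (isPi_piCoreOf _ _)
  have hQT : Q ≤ T := hQp.le_sylow_of_normal T
  have hC : C[Q] ≤ Q := fun x hx => hch ⟨mem_top x, hx⟩
  have hNQ : N[Q] = ⊤ := normalizer_eq_top Q
  have hG2 : ¬ IsPGroup 2 (⊤ : Subgroup G) := fun h2 => hne (T.is_maximal' h2 le_top).symm
  obtain ⟨g, hg, hgC⟩ : ∃ g : G, Odd (orderOf g) ∧ g ∉ C[Q] := by
    by_contra hn
    push Not at hn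
    refine hG2 (isPGroup_of_forall_cent hQp (inf_le_right.trans hC) fun A _ hA x hx => hn x ?_)
    by_contra he
    exact hA 2 Nat.prime_two
      ((even_iff_two_dvd.1 (Nat.not_odd_iff_even.1 he)).trans (A.orderOf_dvd_natCard hx)) rfl
  obtain ⟨w, hw, ⟨-, -, h3⟩ | ⟨h1, h2, -⟩⟩ := H8.odd_aut h hQT (by rw [hNQ]; exact mem_top g) hg hgC
  · exact absurd (h3 ▸ (zpowers_le.2 (pow_mem (mem_zpowers a) _))
      (hZ.conj_mem _ (mem_zpowers _) g)) hw.not_mem
  obtain ⟨e⟩ : Nonempty (Q ≃* QuaternionGroup 2) := h2 ▸ H8.sub_equiv_quaternion hw h1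
  have hQ8 : Nat.card Q = 8 := by rw [Nat.card_congr e.toEquiv, H9.nat_card_quaternion]
  have h6 : Q.index ∣ 6 := by
    have := H8.relIndex_sup_centralizer_dvd_six e
    rwa [sup_eq_left.2 hC, hNQ, relIndex_top_right] at this
  have hGc := Q.card_mul_index
  rw [hQ8] at hGc
  have h3 : Q.index = 3 ∨ Q.index = 6 := by
    have hle := Nat.le_of_dvd (by norm_num) h6
    have h12 : ∀ k, Q.index ≠ 2 ^ k := fun k hk => hG2 (IsPGroup.of_card (n := 3 + k) (by
      rw [card_top, ← hGc, hk, pow_add]; norm_num))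
    have a1 := h12 0
    have a2 := h12 1
    obtain ⟨c, hc⟩ := h6
    generalize Q.index = m at *
    interval_cases m <;> omega
  haveI : Fact (Nat.Prime 3) := ⟨Nat.prime_three⟩
  obtain ⟨x, hx⟩ := exists_prime_orderOf_dvd_card' 3 (G := G) (by omega)
  have hP3 : Nat.card (zpowers x) = 3 := by rw [Nat.card_zpowers, hx]
  have hcop : (Nat.card (zpowers x)).Coprime (Nat.card Q) := by rw [hP3, hQ8]; norm_num
  have hPN : zpowers x ≤ N[Q] := by rw [hNQ]; exact le_top
  have hU : Nat.card ↥(Q ⊔ zpowers x) = 24 := by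
    rw [card_sup_of_inf_eq_bot (Or.inr hPN) (inf_eq_bot_of_coprime hcop.symm), hQ8, hP3]
  have hUi := (Q ⊔ zpowers x).card_mul_index
  rw [hU] at hUi
  refine ⟨Q ⊔ zpowers x, ?_, H61.iso_sl23_of_card hU (Q.subgroupOf _)
    ((subgroupOfEquivOfLe le_sup_left).trans e) fun M hM => ?_⟩
  · rcases h3 with h3 | h3
    · rw [index_eq_one.1 (show (Q ⊔ zpowers x).index = 1 by omega)]; infer_instance
    · exact normal_of_index_eq_two (by omega)
  · obtain ⟨U, hUd⟩ : ∃ U, U = Q ⊔ zpowers x := ⟨_, rfl⟩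
    revert M
    rw [← hUd]
    intro M hM
    have hQU : Q ≤ U := hUd ▸ le_sup_left
    have hPU : zpowers x ≤ U := hUd ▸ le_sup_right
    haveI := normal_of_index_eq_two hM
    set M' := M.map U.subtype with hM'
    have hxU : x ∈ U := hPU (mem_zpowers x)
    have hsq : ∀ y ∈ U, y * y ∈ M' := fun y hy =>
      ⟨⟨y, hy⟩ * ⟨y, hy⟩, mul_self_mem_of_index_two hM _, rfl⟩
    have hxM : x ∈ M' := by
      have : x = (x * x) * (x * x) := by
        have := pow_orderOf_eq_one x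
        rw [hx] at this
        calc x = x ^ 3 * x := by rw [this, one_mul]
          _ = _ := by simp only [pow_succ, pow_zero, one_mul, mul_assoc]
      rw [this]; exact hsq _ (mul_mem hxU hxU)
    have hMn : U ≤ N[M'] := by
      intro y hy
      refine mem_normalizer_of_cj_le ?_
      rintro _ ⟨_, ⟨m, hm, rfl⟩, rfl⟩
      exact ⟨⟨y, hy⟩ * m * ⟨y, hy⟩⁻¹, Normal.conj_mem ‹_› m hm _, rfl⟩
    have hMU : M'.relIndex U = 2 := by
      rw [relIndex, hM', subgroupOf, comap_map_eq_self_of_injective U.subtype_injective, hM]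
    have hMQ : M'.relIndex Q = 2 := by
      have hsup : Q ⊔ M' = U := le_antisymm (sup_le hQU (map_subtype_le M))
        (hUd.le.trans (sup_le le_sup_left ((zpowers_le.2 hxM).trans le_sup_right)))
      rw [← relIndex_sup_of_le_normalizer' (Or.inr (hQU.trans hMn)), hsup, hMU]
    have hW : Nat.card ↥(Q ⊓ M') = 4 := by
      have := H67.card_mul_relIndex (inf_le_left : Q ⊓ M' ≤ Q)
      rw [inf_relIndex_left, hMQ, hQ8] at this
      omega
    have hwQ : w ∈ Q := h2 ▸ H8.self_mem_sub _ _ _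
    have hzW : zpowers (a ^ 2 ^ n) ≤ Q ⊓ M' :=
      zpowers_le.2 (h1 ▸ ⟨mul_mem hwQ hwQ, hsq _ (hQU hwQ)⟩)
    have hZN : N[zpowers (a ^ 2 ^ n)] = ⊤ := normalizer_eq_top _
    have hcW : zpowers x ≤ C[Q ⊓ M'] := le_cent_of_card_four hW hzW
      (by rw [Nat.card_zpowers, h.orderOf_z])
      (le_normalizer_inf hPN (hPU.trans hMn))
      (by rw [hZN]; exact le_top) (by rw [hZN]; exact le_top) (by rw [hP3]; decide)
    have hcomm : ⁅Q, zpowers x⁆ ≤ Q ⊓ M' := le_inf (commutator_le_of_norm_left hPN)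
      ((commutator_mono le_rfl (zpowers_le.2 hxM)).trans
        (commutator_le_of_norm_right (hQU.trans hMn)))
    have := coprime_cent_of_commutator_cent hPN hcop (hcomm.trans (le_centralizer_iff.1 hcW))
    have hd := card_dvd_of_le (this.trans hC)
    rw [hP3, hQ8] at hd
    omega

end Cfsg.Agent.S2879
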