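import Cfsg.Statements.S2880
import Mathlib
import Cfsg.Agent.H89.XS2

set_option autoImplicit false
open Cfsg

namespace Cfsg.Agent.S2880

/-- Let E be an extraspecial 2-group of order 2^(2m+1) of plus type, that is, containing an elementary abelian subgroup of order 2^(m+1) (equivalently, a central product of m dihedral groups of order 8). Then E has exactly 2^(2m) − 2^m elements of order 4. -/
theorem result {E : Type*} [Group E] [Finite E] (m : ℕ) (hm : 1 ≤ m) (hE : Cfsg.IsExtraspecial 2 E) (hcard : Nat.card E = 2 ^ (2 * m + 1)) (hplus : ∃ A : Subgroup E, Cfsg.IsElementaryAbelian 2 A ∧ Nat.card A = 2 ^ (m + 1)) : Nat.card {x : E // orderOf x = 4} = 2 ^ (2 * m) - 2 ^ m := by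
  classical
  obtain ⟨z, hz⟩ := H89.XS.of_isExtraspecial hE
  obtain ⟨B, hB, hBc⟩ := hplus
  have hS : H89.ssum E = 2 ^ (m + 1) := by
    obtain ⟨A, h1, -, h3 | h3⟩ := hz.exists_elementary_ge hcard hB.2
    · exact h3.1
    · have := Subgroup.card_le_of_le h1
      rw [hBc, h3.2, Nat.pow_le_pow_iff_right (by norm_num)] at this
      omega
  have h1 : Nat.card {x : E // orderOf x = 4} = Nat.card {x : E // ¬ x ^ 2 = 1} := by
    refine Nat.card_congr (Equiv.subtypeEquivRight fun x => ⟨fun h h2 => ?_, fun h => ?_⟩)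
    · have := orderOf_dvd_of_pow_eq_one h2
      rw [h] at this
      omega
    · refine orderOf_eq_prime_pow (p := 2) (n := 1) (by simpa using h) ?_
      rw [show 2 ^ (1 + 1) = 2 * 2 by rfl, pow_mul, (hz.sq2.sq x).resolve_left h, hz.pow_eq_one]
  have := Fintype.ofFinite E
  have h2 := H89.ssum_eq (G := E)
  rw [h1, Nat.card_eq_fintype_card, Fintype.card_subtype_compl, ← Nat.card_eq_fintype_card,
    ← Nat.card_eq_fintype_card]
  rw [hS, hcard] at h2
  rw [hcard]
  have h3 : Nat.card {x : E // x ^ 2 = 1} = 2 ^ (2 * m) + 2 ^ m := by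
    zify
    push_cast at h2
    have : (2 : ℤ) * Nat.card {x : E // x ^ 2 = 1} = 2 * (2 ^ (2 * m) + 2 ^ m) := by
      linear_combination -h2
    exact mul_left_cancel₀ two_ne_zero this
  rw [h3, pow_succ]
  omega

end Cfsg.Agent.S2880
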