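import Cfsg.Statements.S2881
import Cfsg.Agent.H49.XSDual

set_option autoImplicit false
open Cfsg

namespace Cfsg.Agent.S2881

open Subgroup Cfsg.Agent.H49

theorem count_sq {E : Type*} [Group E] [Fintype E] [DecidableEq E] {z : E}
    (h : XS (⊤ : Subgroup E) z) (A : Subgroup E) (hA2 : ∀ a ∈ A, a * a = 1)
    (hC : centralizer (A : Set E) = A) :
    2 * (Finset.univ.filter (fun x : E => x * x = 1)).card = Nat.card E + Nat.card A := by
  classical
  let ε : E → ℤ := fun x => if x * x = 1 then 1 else -1
  let β : E → E → ℤ := fun x a => ((csign x a : ℤˣ) : ℤ)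
  have hεβ : ∀ x a, a ∈ A → ε (x * a) = ε x * β x a := by
    intro x a ha
    by_cases hc : x * a = a * x
    · have h1 : x * a * (x * a) = x * x := by
        calc x * a * (x * a) = x * (a * x) * a := by group
          _ = x * (x * a) * a := by rw [hc]
          _ = x * x * (a * a) := by group
          _ = x * x := by rw [hA2 a ha, mul_one]
      have h2 : csign x a = 1 := csign_eq_one.2 hc
      simp only [ε, β, h1, h2, Units.val_one, mul_one]
    · have hax : a * x = x * a * z := h.comm_of_ne (mem_top a) (mem_top x) (fun e => hc e.symm)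
      have h1 : x * a * (x * a) = x * x * z := by
        calc x * a * (x * a) = x * (a * x) * a := by group
          _ = x * (x * a * z) * a := by rw [hax]
          _ = x * x * a * (z * a) := by group
          _ = x * x * a * (a * z) := by rw [h.cen a (mem_top a)]
          _ = x * x * (a * a) * z := by group
          _ = x * x * z := by rw [hA2 a ha, mul_one]
      have h2 : csign x a = -1 := by unfold csign; rw [if_neg hc]
      simp only [ε, β, h1, h2]
      rcases h.sq (mem_top x) with e | e
      · rw [e, one_mul, if_neg h.ne, if_pos rfl]; simp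
      · rw [e, h.zz, if_pos rfl, if_neg h.ne]; simp
  let FA : Finset E := Finset.univ.filter (fun a => a ∈ A)
  have hFA : (FA.card : ℤ) = Nat.card A := by
    rw [Nat.card_eq_fintype_card, Fintype.card_subtype]
  have hβ : ∀ x, ∑ a ∈ FA, β x a = if x ∈ A then (Nat.card A : ℤ) else 0 := by
    intro x
    split_ifs with hx
    · rw [← hFA, Finset.sum_congr rfl (g := fun _ => (1 : ℤ))]
      · simp
      · intro a ha
        have ha' : a ∈ A := (Finset.mem_filter.1 ha).2
        have : csign x a = 1 := by
          rw [csign_eq_one]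
          rw [← hC] at hx
          exact (hx a ha').symm
        simp [β, this]
    · rw [← hC, mem_centralizer_iff] at hx
      push Not at hx
      obtain ⟨a0, ha0, hne⟩ := hx
      have h0 : csign x a0 = -1 := by
        unfold csign; rw [if_neg (fun e => hne e.symm)]
      have e1 : ∑ a ∈ FA, β x a = ∑ a ∈ FA, β x (a * a0) := by
        symm
        apply Finset.sum_bij (fun a _ => a * a0)
        · intro a ha
          simp only [FA, Finset.mem_filter, Finset.mem_univ, true_and] at ha ⊢
          exact mul_mem ha ha0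
        · intro a _ b _ e; exact mul_right_cancel e
        · intro b hb
          simp only [FA, Finset.mem_filter, Finset.mem_univ, true_and] at hb ⊢
          exact ⟨b * a0⁻¹, mul_mem hb (inv_mem ha0), by group⟩
        · intro a _; rfl
      have e2 : ∑ a ∈ FA, β x (a * a0) = -∑ a ∈ FA, β x a := by
        rw [← Finset.sum_neg_distrib]
        refine Finset.sum_congr rfl fun a _ => ?_
        simp only [β, h.csign_mul_right (mem_top a) (mem_top a0) (mem_top x), h0]
        simp
      linarith
  have key : (Nat.card A : ℤ) * ∑ x, ε x = (Nat.card A : ℤ) * Nat.card A := by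
    calc (Nat.card A : ℤ) * ∑ x, ε x = ∑ a ∈ FA, ∑ x, ε (x * a) := by
          have : ∀ a ∈ FA, ∑ x, ε (x * a) = ∑ x, ε x := fun a _ =>
            Equiv.sum_comp (Equiv.mulRight a) ε
          rw [Finset.sum_congr rfl this, Finset.sum_const, nsmul_eq_mul, hFA]
      _ = ∑ x, ε x * ∑ a ∈ FA, β x a := by
          rw [Finset.sum_comm]
          refine Finset.sum_congr rfl fun x _ => ?_
          rw [Finset.mul_sum]
          exact Finset.sum_congr rfl fun a ha => hεβ x a (Finset.mem_filter.1 ha).2
      _ = ∑ x, if x ∈ A then (Nat.card A : ℤ) else 0 := by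
          refine Finset.sum_congr rfl fun x _ => ?_
          rw [hβ]
          split_ifs with hx
          · simp [ε, hA2 x hx]
          · simp
      _ = (Nat.card A : ℤ) * Nat.card A := by
          rw [← Finset.sum_filter, Finset.sum_const, nsmul_eq_mul, hFA]
  have hpos : (Nat.card A : ℤ) ≠ 0 := by exact_mod_cast (Nat.card_pos (α := A)).ne'
  have k2 : ∑ x, ε x = Nat.card A := mul_left_cancel₀ hpos key
  have k3 : ∑ x, ε x = 2 * ((Finset.univ.filter (fun x : E => x * x = 1)).card : ℤ) - Nat.card E := by
    have : ∀ x, ε x = 2 * (if x * x = 1 then 1 else 0) - 1 := by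
      intro x; simp only [ε]; split_ifs <;> norm_num
    simp only [this, Finset.sum_sub_distrib, ← Finset.mul_sum]
    rw [Finset.sum_boole]
    simp [Nat.card_eq_fintype_card]
  have : (2 * ((Finset.univ.filter (fun x : E => x * x = 1)).card : ℤ)) = Nat.card E + Nat.card A := by
    linarith
  exact_mod_cast this

/-- Let E be an extraspecial 2-group of order 2^(2m+1) of plus type (containing an elementary abelian subgroup of order 2^(m+1)), and let ω be an automorphism of E of order 5 whose fixed points are exactly the centre of E. Then m is divisible by 4. -/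
theorem result {E : Type*} [Group E] [Finite E] (m : ℕ) (hm : 1 ≤ m) (hE : Cfsg.IsExtraspecial 2 E) (hcard : Nat.card E = 2 ^ (2 * m + 1)) (hplus : ∃ A : Subgroup E, Cfsg.IsElementaryAbelian 2 A ∧ Nat.card A = 2 ^ (m + 1)) (ω : E ≃* E) (hω : orderOf ω = 5) (hfix : ∀ x : E, ω x = x ↔ x ∈ Subgroup.center E) : 4 ∣ m := by
  classical
  have := Fintype.ofFinite E
  have : Fact (Nat.Prime 5) := ⟨by norm_num⟩
  obtain ⟨z, h⟩ := exists_XS_top hE
  obtain ⟨A, ⟨hAc, hA2⟩, hAcard⟩ := hplus
  have hA2' : ∀ a ∈ A, a * a = 1 := fun a ha => by rw [← pow_two]; exact hA2 a ha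
  have hle : A ≤ centralizer (A : Set E) := by
    intro a ha b hb
    exact congrArg Subtype.val (hAc.is_comm.comm (⟨b, hb⟩ : A) ⟨a, ha⟩)
  have hC : centralizer (A : Set E) = A := by
    have e := h.card_mul_card_centralizer (U := A) le_top
    rw [top_inf_eq, card_top, hcard, hAcard] at e
    have h2 : Nat.card ↥(A ⊓ zpowers z) ≤ 2 := by
      rw [← h.card_Z]; exact card_le_of_le inf_le_right
    have h3 : Nat.card (centralizer (A : Set E)) ≤ Nat.card A := by
      rw [hAcard]
      have : 2 ^ (m + 1) * Nat.card (centralizer (A : Set E)) ≤ 2 ^ (m + 1) * 2 ^ (m + 1) := by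
        rw [e]
        calc _ ≤ 2 * 2 ^ (2 * m + 1) := Nat.mul_le_mul_right _ h2
          _ = _ := by ring
      exact Nat.le_of_mul_le_mul_left this (by positivity)
    exact (eq_of_le_of_card_ge hle h3).symm
  have hN := count_sq h A hA2' hC
  rw [hcard, hAcard] at hN
  have hω5 : ∀ x, (ω ^ 5) x = x := by
    intro x; rw [← hω, pow_orderOf_eq_one]; rfl
  have hcen : Nat.card (center E) = 2 := hE.2
  -- fixed points on `E`
  have f1 : Nat.card E ≡ 2 [MOD 5] := by
    let f : Function.End E := fun x => ω x
    have hf : f ^ 5 ^ 1 = 1 := by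
      funext x
      exact hω5 x
    have := Equiv.Perm.card_fixedPoints_modEq hf
    rw [← Nat.card_eq_fintype_card, ← Nat.card_eq_fintype_card] at this
    rw [← hcen]
    convert this using 1
    exact Nat.card_congr (Equiv.subtypeEquivRight fun x => (hfix x).symm)
  have f2 : (Finset.univ.filter (fun x : E => x * x = 1)).card ≡ 2 [MOD 5] := by
    let f : Function.End {x : E // x * x = 1} :=
      fun x => ⟨ω x, by rw [← map_mul, x.2, map_one]⟩
    have hf : f ^ 5 ^ 1 = 1 := by
      funext x
      exact Subtype.ext (hω5 x)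
    have := Equiv.Perm.card_fixedPoints_modEq hf
    rw [Fintype.card_subtype, ← Nat.card_eq_fintype_card] at this
    rw [← hcen]
    convert this using 1
    refine Nat.card_congr ⟨fun x => ⟨⟨x, ?_⟩, ?_⟩, fun x => ⟨x.1.1, ?_⟩, fun x => rfl, fun x => rfl⟩
    · rcases h.cent x (mem_top _) (fun y _ => (mem_center_iff.1 x.2 y).symm) with e | e
      · rw [e, mul_one]
      · rw [e, h.zz]
    · exact Subtype.ext ((hfix x).2 x.2)
    · exact (hfix _).1 (congrArg Subtype.val x.2)
  rw [hcard] at f1
  set N := (Finset.univ.filter (fun x : E => x * x = 1)).card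
  have hm4 : 2 ^ m ≡ 2 ^ (m % 4) [MOD 5] := by
    conv_lhs => rw [← Nat.div_add_mod m 4, pow_add, pow_mul]
    have : (2 ^ 4) ^ (m / 4) ≡ 1 [MOD 5] := by
      simpa using (show 2 ^ 4 ≡ 1 [MOD 5] by decide).pow (m / 4)
    simpa using this.mul_right (2 ^ (m % 4))
  have e1 : 2 ^ (2 * m + 1) = 2 * (2 ^ m * 2 ^ m) := by ring
  have e2 : 2 ^ (m + 1) = 2 * 2 ^ m := by ring
  rw [e1] at f1
  rw [e1, e2] at hN
  unfold Nat.ModEq at f1 f2 hm4
  have h5 : 2 ^ m % 5 = 1 := by omega
  have : m % 4 < 4 := Nat.mod_lt _ (by norm_num)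
  rw [h5] at hm4
  interval_cases hm' : m % 4
  · omega
  · simp at hm4
  · simp at hm4
  · simp at hm4

end Cfsg.Agent.S2881
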