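import Cfsg.Statements.S2882
import Cfsg.Agent.H42.FusionSimple

set_option autoImplicit false
set_option maxRecDepth 1000000
open Cfsg

namespace Cfsg.Agent.S2882

open Cfsg.Agent.H42

/-- In the Mathieu group of degree 24 (realised as the automorphism group of the extended binary Golay code) every Sylow 2-subgroup is self-normalizing. -/
theorem result (S : Sylow 2 ↥Cfsg.M24) : Subgroup.normalizer ((S : Subgroup ↥Cfsg.M24) : Set ↥Cfsg.M24) = (S : Subgroup ↥Cfsg.M24) := by
  obtain ⟨f, hf, h1, h2, h3⟩ := exists_hom_sylow (p := 2) (a := 10) ⊤ P24 le_top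
    (by rw [card_P24]; norm_num) (by rw [Subgroup.card_top, card_M24]; norm_num)
    Subgroup.topEquiv.symm S
  have h := fusProp_24.of_hom f hf h1 h2 _ h3 le_top
  refine le_antisymm (fun n hn => h.norm n trivial fun s hs => ?_) Subgroup.le_normalizer
  exact (Subgroup.mem_normalizer_iff''.mp hn s).mp hs

end Cfsg.Agent.S2882
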