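import Cfsg.Statements.S3329
import Cfsg.Agent.H63.L3A8Set

set_option autoImplicit false
open Cfsg

namespace Cfsg.Agent.S3329

/-- A 3-local characterization of the alternating group of degree 8. Let G be a finite group whose Sylow 3-subgroup D is elementary abelian of order 9, generated by y and z, and suppose: (i) C_G(D) = D and N_G(D)/D is dihedral of order 8; (ii) D is normal in C_G(y), C_G(y) has order 18, D is normal in N_G(⟨y⟩) and N_G(⟨y⟩)/D is elementary abelian of order 4; (iii) C_G(z) is isomorphic to the direct product of a cyclic group of order 3 and the alternating group of degree 5, and N_G(⟨z⟩) is isomorphic to the subgroup of index 2 of Sym(3) × Sym(5) consisting of the pairs of permutations whose signs agree. Then G is isomorphic to the alternating group of degree 8. -/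
theorem result {G : Type*} [Group G] [Finite G]
    (P : Sylow 3 G) (D : Subgroup G) (hDP : D = P) (y z : G) (hgen : Subgroup.closure {y, z} = D)
    (hcomm : IsMulCommutative D) (hcard : Nat.card D = 9) (hexp : ∀ a ∈ D, a ^ 3 = 1)
    (hC : Subgroup.centralizer (D : Set G) = D)
    (eN : Subgroup.normalizer (D : Set G) ⧸ D.subgroupOf (Subgroup.normalizer (D : Set G)) ≃* DihedralGroup 4)
    (hyn : (D.subgroupOf (Subgroup.centralizer ({y} : Set G))).Normal)
    (hycard : Nat.card (Subgroup.centralizer ({y} : Set G)) = 18)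
    (Ny : Subgroup G) (hNy : Ny = Subgroup.normalizer (Subgroup.zpowers y : Set G))
    (hyN : D ≤ Ny) [hyNn : (D.subgroupOf Ny).Normal]
    (hyNcard : Nat.card (Ny ⧸ D.subgroupOf Ny) = 4) (hyNexp : ∀ g : Ny ⧸ D.subgroupOf Ny, g ^ 2 = 1)
    (eC : Subgroup.centralizer ({z} : Set G) ≃* Multiplicative (ZMod 3) × alternatingGroup (Fin 5))
    (eL : Subgroup.normalizer (Subgroup.zpowers z : Set G) ≃*
      (((Equiv.Perm.sign).comp (MonoidHom.fst (Equiv.Perm (Fin 3)) (Equiv.Perm (Fin 5)))) *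
        ((Equiv.Perm.sign).comp (MonoidHom.snd (Equiv.Perm (Fin 3)) (Equiv.Perm (Fin 5))))).ker) :
    Nonempty (G ≃* alternatingGroup (Fin 8)) := by
  have : Fact (Nat.Prime 3) := ⟨by norm_num⟩
  have hy : y ∈ D := hgen ▸ Subgroup.subset_closure (by simp)
  have hz : z ∈ D := hgen ▸ Subgroup.subset_closure (by simp)
  have ncyc : ∀ a ∈ D, y ∈ Subgroup.zpowers a → z ∈ Subgroup.zpowers a → False :=
    fun a ha h1 h2 => by
    have h3 := Subgroup.card_le_of_le (show D ≤ Subgroup.zpowers a from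
      hgen ▸ (Subgroup.closure_le _).2 (Set.pair_subset h1 h2))
    have := Nat.le_of_dvd (by norm_num) (orderOf_dvd_of_pow_eq_one (hexp a ha))
    rw [Nat.card_zpowers] at h3
    omega
  have oz : orderOf z = 3 := orderOf_eq_prime (hexp z hz) fun e =>
    ncyc y hy (Subgroup.mem_zpowers y) (e ▸ one_mem _)
  let ψ0 : H63.L3A.M0 →* G := (Subgroup.subtype _).comp eL.symm.toMonoidHom
  have i0 : Function.Injective ψ0 := Subtype.val_injective.comp eL.symm.injective
  have r0 : ψ0.range = Subgroup.normalizer (Subgroup.zpowers z : Set G) := by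
    ext g
    exact ⟨fun ⟨m, e⟩ => e ▸ (eL.symm m).2, fun h => ⟨eL ⟨g, h⟩, by simp [ψ0]⟩⟩
  obtain ⟨zc, cent, -⟩ := H63.L3A.gen i0 oz r0
  obtain ⟨i, k, e⟩ := cent y (congrArg Subtype.val (hcomm.is_comm.comm ⟨y, hy⟩ ⟨z, hz⟩))
  have hk : ψ0 (H63.L3A.i5 k) ∈ D :=
    (D.mul_mem_cancel_left (zpow_mem hz i)).1 (e ▸ hy)
  obtain ⟨p, hp⟩ := (by decide +kernel : ∀ k : H63.L3A.A5, k ^ 3 = 1 → k ≠ 1 →
      ∃ p, p * H63.L3A.dt 0 1 1 2 * p⁻¹ = k) k
    (Subtype.ext (congrArg (fun m : H63.L3A.M0 => m.1.2) (i0 (show ψ0 (H63.L3A.i5 (k ^ 3)) = ψ0 1 by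
      rw [map_pow, map_pow, hexp _ hk, map_one]))))
    fun e' => ncyc z hz ⟨i, by rw [e, e', map_one, map_one, mul_one]⟩ (Subgroup.mem_zpowers z)
  let ψ := ψ0.comp (MulAut.conj (H63.L3A.i5 p)).toMonoidHom
  have ht : ψ (H63.L3A.i5 (H63.L3A.dt 0 1 1 2)) = ψ0 (H63.L3A.i5 k) := by
    rw [← hp, map_mul H63.L3A.i5, map_mul H63.L3A.i5, map_inv]; rfl
  have c1 := zc k
  obtain ⟨s, hs⟩ := H63.L3A.setup (D := D) (ψ := ψ) (i0.comp (MulAut.conj _).injective) oz
    (by rw [← r0, MonoidHom.range_comp, MonoidHom.range_eq_top.2 (MulAut.conj _).surjective,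
      MonoidHom.range_eq_map]) hz (ht ▸ hk) (fun g hg => by
      rw [ht]
      rw [← hgen] at hg
      induction hg using Subgroup.closure_induction with
      | mem x hx =>
        rcases hx with rfl | rfl
        exacts [⟨i, 1, by rw [zpow_one, e]⟩, ⟨1, 0, by simp⟩]
      | one => exact ⟨0, 0, by simp⟩
      | mul _ _ _ _ h1 h2 =>
        obtain ⟨a, b, rfl⟩ := h1
        obtain ⟨a', b', rfl⟩ := h2
        exact ⟨a + a', b + b', by rw [zpow_add, zpow_add, (c1.zpow_zpow a' b).mul_mul_mul_comm]⟩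
      | inv _ _ h1 =>
        obtain ⟨a, b, rfl⟩ := h1
        exact ⟨-a, -b, by rw [zpow_neg, zpow_neg, (c1.zpow_zpow a b).mul_inv]⟩)
    hcard hexp hC (by
      rw [(D.subgroupOf _).card_eq_card_quotient_mul_card_subgroup, Nat.card_congr eN.toEquiv,
        Nat.card_congr (Subgroup.subgroupOfEquivOfLe Subgroup.le_normalizer).toEquiv, hcard,
        DihedralGroup.nat_card]) (i0 := i) (by rw [ht, ← e, hycard])
  refine hs.main fun h => P.not_dvd_index ?_
  rw [← (P : Subgroup G).card_mul_index, ← hDP, hcard] at h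
  exact hDP ▸ (Nat.mul_dvd_mul_iff_left (by norm_num : 0 < 9)).1 h

end Cfsg.Agent.S3329
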