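import Cfsg.Statements.S2932
import Cfsg.Agent.H18.NatSL2

set_option autoImplicit false
open Cfsg

namespace Cfsg.Agent.S2932

open Cfsg.Agent.H18 Cfsg.Agent.H19 MonoidAlgebra

/-- Let p be a prime. Inside a finite ambient group let V be an elementary abelian p-subgroup and G a subgroup normalizing V and acting faithfully on it (G ∩ C(V) = 1), and let L ≤ G act on V as SL₂(F) on its natural module, F a finite field of characteristic p, with L ≅ SL₂(F). If every Sylow p-subgroup of N_G(L) is a Sylow p-subgroup of G, then either L is normal in G, or F has 4 elements and G is isomorphic to the alternating group of degree 7. -/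
theorem result {X : Type*} [Group X] [Finite X] {p : ℕ} [Fact p.Prime] (F : Type) [Field F] [Fintype F] [CharP F p] (V G L : Subgroup X) (hV : Cfsg.IsElementaryAbelian p V) (hGV : G ≤ Subgroup.normalizer (V : Set X)) (hfaith : G ⊓ Subgroup.centralizer (V : Set X) = ⊥) (hLG : L ≤ G) (hnat : Cfsg.IsNaturalSL2Module F V L) (hLiso : Nonempty (↥L ≃* Matrix.SpecialLinearGroup (Fin 2) F)) (hSyl : ∀ S : Sylow p ↥(G ⊓ Subgroup.normalizer (L : Set X)), ∀ P : Sylow p ↥G, Nat.card S = Nat.card P) : (L.subgroupOf G).Normal ∨ (Fintype.card F = 4 ∧ Nonempty (↥G ≃* ↥(alternatingGroup (Fin 7)))) := by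
  obtain ⟨-, ρ, ψ, hs, hk, hc⟩ := hnat
  let c : G →* MulAut V := V.normalizerMonoidHom.comp (Subgroup.inclusion hGV)
  let : DistribMulAction G (Fin 2 → F) :=
    { smul := fun g m => ψ (Additive.ofMul (c g (ψ.symm m).toMul))
      one_smul := fun m => by
        change ψ (Additive.ofMul (c 1 _)) = m
        simp
      mul_smul := fun a b m => by
        change ψ (Additive.ofMul (c (a * b) _)) = ψ (Additive.ofMul (c a (ψ.symm (ψ _)).toMul))
        simp
      smul_zero := fun a => by
        change ψ (Additive.ofMul (c a _)) = 0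
        simp
      smul_add := fun a m n => by
        change ψ (Additive.ofMul (c a _)) = ψ (Additive.ofMul (c a _)) + ψ (Additive.ofMul (c a _))
        simp }
  have hsm : ∀ (g : G) (v : V), g • ψ (Additive.ofMul v) = ψ (Additive.ofMul (c g v)) := fun g v => by
    change ψ (Additive.ofMul (c g (ψ.symm (ψ _)).toMul)) = _
    simp
  have hi : Function.Injective ρ := (MonoidHom.ker_eq_bot_iff ρ).1 (eq_bot_iff.2 fun x hx =>
    Subtype.ext (Subgroup.mem_bot.1 (hfaith ▸ ⟨hLG x.2, (hk ▸ hx :)⟩)))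
  let e := MulEquiv.ofBijective ρ ⟨hi, hs⟩
  let ι := (Subgroup.inclusion hLG).comp e.symm.toMonoidHom
  have hr : ι.range = L.subgroupOf G := by
    ext x
    exact ⟨by rintro ⟨y, rfl⟩; exact (e.symm y).2,
      fun hx => ⟨e ⟨x, hx⟩, Subtype.ext (congrArg Subtype.val (e.symm_apply_apply ⟨x, hx⟩) :)⟩⟩
  have hE : H18.NS.Ext ι := by
    refine ⟨fun g hg => Subtype.ext (Subgroup.mem_bot.1 (hfaith ▸ ⟨g.2, fun v hv => ?_⟩)),
      fun l m => ?_⟩
    · have h1 := hg (ψ (Additive.ofMul ⟨v, hv⟩))
      rw [hsm] at h1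
      exact (mul_inv_eq_iff_eq_mul.1 (congrArg Subtype.val (Additive.ofMul.injective
        (ψ.injective h1)))).symm
    · obtain ⟨v, rfl⟩ := ψ.surjective m
      obtain ⟨l, rfl⟩ := e.surjective l
      obtain ⟨w, h1, h2⟩ := hc l v.toMul
      refine (hsm _ v.toMul).trans (Eq.trans ?_ h2)
      congr 2
      refine Subtype.ext (Eq.trans ?_ h1.symm)
      change ((e.symm (e l) : L) : X) * _ * ((e.symm (e l) : L) : X)⁻¹ = _
      rw [e.symm_apply_apply]
  obtain ⟨n, -, hn⟩ := FiniteField.card F p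
  obtain ⟨S, h1, h2⟩ := H8.exists_isSylowIn_ge ((H82.isPGroup_UU hn).map ι)
    ((Subgroup.map_le_range ι _).trans Subgroup.le_normalizer)
  obtain ⟨P⟩ : Nonempty (Sylow p G) := inferInstance
  obtain ⟨T⟩ : Nonempty (Sylow p ↥(G ⊓ Subgroup.normalizer (L : Set X))) := inferInstance
  rw [← hr]
  refine H18.NS.main (S := S)
    ⟨hE, (H8.isSylowIn_top P).of_card_ge h1.isPGroup le_top (le_of_eq ?_), h2, h1.le⟩
  rw [← hSyl T P, h1.card_eq, Sylow.card_eq_multiplicity, hr,
    ← Subgroup.subgroupOf_normalizer_eq hLG, ← Subgroup.inf_subgroupOf_left,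
    Nat.card_congr (Subgroup.subgroupOfEquivOfLe inf_le_left).toEquiv]

end Cfsg.Agent.S2932
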