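import Cfsg.Statements.S2968
import Cfsg.Agent.H86.Isolated

set_option autoImplicit false
open Cfsg

namespace Cfsg.Agent.S2968

/-- Let G be a finite group, p a prime, P a Sylow p-subgroup of G and x ∈ P an element of p-power order which is isolated in G (the only conjugate of x commuting with x is x itself). Then x lies in the centre of P, and the subgroup generated by x is both strongly closed and weakly closed in P with respect to G. -/
theorem result {G : Type*} [Group G] [Finite G] {p : ℕ} [Fact p.Prime] (P : Sylow p G) (x : G) (hxP : x ∈ (P : Subgroup G)) (hx : ∃ k : ℕ, orderOf x = p ^ k) (hiso : Cfsg.IsIsolated x) : x ∈ (P : Subgroup G) ⊓ Subgroup.centralizer ((P : Subgroup G) : Set G) ∧ Cfsg.IsStronglyClosed (Subgroup.zpowers x) (P : Subgroup G) ∧ Cfsg.IsWeaklyClosed (Subgroup.zpowers x) (P : Subgroup G) := by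
  have px := H86.pow_eq_one_of_orderOf hx
  refine ⟨⟨hxP, fun y hy => H86.isolated_commute hiso P.isPGroup' hxP hy⟩,
    ⟨Subgroup.zpowers_le_of_mem hxP, fun y hy g hg => ?_⟩,
    ⟨Subgroup.zpowers_le_of_mem hxP, fun g hg => ?_⟩⟩
  · obtain ⟨n, rfl⟩ := Subgroup.mem_zpowers_iff.mp hy
    have h1 : x ∈ Subgroup.centralizer ({g * x ^ n * g⁻¹} : Set G) := by
      rw [Subgroup.mem_centralizer_singleton_iff]
      exact (H86.isolated_commute hiso P.isPGroup' hxP hg).symm
    have h2 : g * x * g⁻¹ ∈ Subgroup.centralizer ({g * x ^ n * g⁻¹} : Set G) := by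
      rw [Subgroup.mem_centralizer_singleton_iff]
      group
    obtain ⟨h, hh, e⟩ := H86.isolated_exists_conj px hiso h1 h2
    rw [Subgroup.mem_centralizer_singleton_iff] at hh
    have e2 : h * g * x ^ n * (h * g)⁻¹ = x ^ n := by
      rw [← conj_zpow, e]
    have : g * x ^ n * g⁻¹ = x ^ n := by
      calc g * x ^ n * g⁻¹ = (g * x ^ n * g⁻¹ * h) * h⁻¹ := by group
        _ = h * g * x ^ n * (h * g)⁻¹ := by rw [← hh]; group
        _ = x ^ n := e2
    rw [this]
    exact hy
  · have h1 : g * x * g⁻¹ ∈ (P : Subgroup G) := hg ⟨x, Subgroup.mem_zpowers x, rfl⟩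
    have h2 := H86.isolated_conj_eq hiso P.isPGroup' hxP h1
    rw [MonoidHom.map_zpowers]
    congr 1

end Cfsg.Agent.S2968
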