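import Cfsg.Statements.S2969
import Cfsg.Agent.H86.Isolated

set_option autoImplicit false
open Cfsg

namespace Cfsg.Agent.S2969

/-- Let G be a finite group, p a prime and x ∈ G an element of p-power order which is isolated in G. If R is a p-subgroup of G containing x, then N_G(R) ≤ C_G(x); in particular x lies in the centre of R. Moreover, if x lies in a normal subgroup N of a subgroup H of G, then H = N·C_H(x). -/
theorem result {G : Type*} [Group G] [Finite G] {p : ℕ} [Fact p.Prime] (x : G) (hx : ∃ k : ℕ, orderOf x = p ^ k) (hiso : Cfsg.IsIsolated x) : (∀ R : Subgroup G, IsPGroup p ↥R → x ∈ R → Subgroup.normalizer (R : Set G) ≤ Subgroup.centralizer ({x} : Set G)) ∧ (∀ H N : Subgroup G, N ≤ H → H ≤ Subgroup.normalizer (N : Set G) → x ∈ N → N ⊔ (H ⊓ Subgroup.centralizer ({x} : Set G)) = H) := by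
  have px := H86.pow_eq_one_of_orderOf hx
  refine ⟨fun R hR hxR g hg => ?_, fun H N hNH hHN hxN => ?_⟩
  · have h1 := (Subgroup.mem_normalizer_iff.mp hg x).mp hxR
    have h2 := H86.isolated_conj_eq hiso hR hxR h1
    rw [Subgroup.mem_centralizer_singleton_iff]
    calc g * x = (g * x * g⁻¹) * g := by group
      _ = x * g := by rw [h2]
  · refine le_antisymm (sup_le hNH inf_le_left) fun g hg => ?_
    have h1 := (Subgroup.mem_normalizer_iff.mp (hHN hg) x).mp hxN
    obtain ⟨h, hh, e⟩ := H86.isolated_exists_conj px hiso hxN h1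
    have h2 : h * g ∈ H ⊓ Subgroup.centralizer ({x} : Set G) := by
      refine Subgroup.mem_inf.mpr ⟨H.mul_mem (hNH hh) hg, ?_⟩
      rw [Subgroup.mem_centralizer_singleton_iff]
      calc h * g * x = (h * g * x * (h * g)⁻¹) * (h * g) := by group
        _ = x * (h * g) := by rw [e]
    have : g = h⁻¹ * (h * g) := by group
    rw [this]
    exact Subgroup.mul_mem_sup (N.inv_mem hh) h2

end Cfsg.Agent.S2969
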