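import Cfsg.Statements.S3011
import Cfsg.Agent.S0200
import Cfsg.Agent.H52.Fitting

set_option autoImplicit false
open Cfsg

namespace Cfsg.Agent.S3011

theorem eq_one_of_inv {G : Type*} [Group G] {h : G} (hh : Odd (orderOf h)) (e : h = h⁻¹) :
    h = 1 := by
  have h2 : h ^ 2 = 1 := by rw [pow_two]; nth_rewrite 2 [e]; simp
  have := orderOf_dvd_of_pow_eq_one h2
  rcases (Nat.dvd_prime Nat.prime_two).mp this with h1 | h1
  · exact orderOf_eq_one_iff.mp h1
  · rw [h1] at hh; exact absurd hh (by decide)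

theorem comm_of_sq {G : Type*} [Group G] {w h : G} (hh : Odd (orderOf h))
    (hc : Commute w (h ^ 2)) : Commute w h := by
  obtain ⟨k, hk⟩ := hh
  have : h = (h ^ 2) ^ (k + 1) := by
    rw [← pow_mul, show 2 * (k + 1) = orderOf h + 1 by omega, pow_succ, pow_orderOf_eq_one,
      one_mul]
  rw [this]
  exact hc.pow_right _

/-- the key configuration: `a, b` generate `V`, `x` is centralized by `a` and inverted by `b`,
`y` is centralized by `b` and inverted by `a`. -/
theorem key {G : Type*} [Group G] [Finite G] (V : Subgroup G) (hS : Cfsg.IsSidkiPair V)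
    {a b x y : G} (ha : a ∈ V) (hb : b ∈ V) (ha2 : a * a = 1) (hb2 : b * b = 1)
    (hV : ∀ w ∈ V, w = 1 ∨ w = a ∨ w = b ∨ w = a * b)
    (hx1 : x ≠ 1) (hy1 : y ≠ 1) (hx : Odd (orderOf x)) (hy : Odd (orderOf y))
    (hax : a * x = x * a) (hbx : b * x * b⁻¹ = x⁻¹) (hby : b * y = y * b)
    (hay : a * y * a⁻¹ = y⁻¹) : False := by
  have hbi : b⁻¹ = b := inv_eq_of_mul_eq_one_right hb2
  -- `x y x⁻¹` is inverted by `a`
  have h1 : a * (x⁻¹ * y * x) * a⁻¹ = (x⁻¹ * y * x)⁻¹ := by
    have hc : Commute a x := hax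
    calc a * (x⁻¹ * y * x) * a⁻¹ = (a * x⁻¹) * y * (x * a⁻¹) := by group
      _ = x⁻¹ * (a * y * a⁻¹) * x := by rw [hc.inv_right.eq, ← hc.inv_left.eq]; group
      _ = (x⁻¹ * y * x)⁻¹ := by rw [hay]; group
  have hodd : Odd (orderOf (x⁻¹ * y * x)) := by
    have : orderOf (x⁻¹ * y * x) = orderOf y := by
      have := MulEquiv.orderOf_eq (MulAut.conj x⁻¹) y
      simpa using this
    rwa [this]
  have hxb : x * b * x⁻¹ = x ^ 2 * b := by
    calc x * b * x⁻¹ = x * (b * x * b⁻¹)⁻¹ * b := by group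
      _ = x ^ 2 * b := by rw [hbx, pow_two]; group
  have hxy : Commute y x := by
    apply comm_of_sq hx
    obtain ⟨w, hwV, hw1, hw⟩ := hS _ a ha hodd h1
    have hw' : Commute (x * w * x⁻¹) y := by
      calc x * w * x⁻¹ * y = x * (w * (x⁻¹ * y * x)) * x⁻¹ := by group
        _ = y * (x * w * x⁻¹) := by rw [hw]; group
    have hyb : Commute b y := hby
    rcases hV w hwV with rfl | rfl | rfl | rfl
    · exact absurd rfl hw1
    · exfalso
      rw [← hax, mul_inv_cancel_right] at hw'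
      apply hy1
      apply eq_one_of_inv hy
      rw [← hay, hw'.eq]; group
    · rw [hxb] at hw'
      have := hw'.mul_left hyb.inv_left
      rw [mul_inv_cancel_right] at this
      exact this.symm
    · exfalso
      have e : x * (a * b) * x⁻¹ = a * (x ^ 2 * b) := by
        rw [← hxb, ← mul_assoc x a, ← hax]; group
      rw [e] at hw'
      have h2 := hw'.mul_left hyb.inv_left
      have e2 : a * (x ^ 2 * b) * b⁻¹ = a * x ^ 2 := by group
      rw [e2] at h2
      -- a power of `a * x ^ 2` is `a`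
      have hc : Commute a (x ^ 2) := (show Commute a x from hax).pow_right 2
      have h3 := h2.pow_left (orderOf x)
      rw [hc.mul_pow, ← pow_mul, mul_comm 2, pow_mul, pow_orderOf_eq_one, one_pow, mul_one] at h3
      obtain ⟨k, hk⟩ := hx
      rw [hk, pow_succ, pow_mul, pow_two, ha2, one_pow, one_mul] at h3
      apply hy1
      apply eq_one_of_inv hy
      rw [← hay, h3.eq]; group
  have hodd2 : Odd (orderOf (x * y)) :=
    Odd.of_dvd_nat (hx.mul hy) hxy.symm.orderOf_mul_dvd_mul_orderOf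
  have ea : a * (x * y) * a⁻¹ = x * y⁻¹ := by
    calc a * (x * y) * a⁻¹ = (a * x) * y * a⁻¹ := by group
      _ = x * (a * y * a⁻¹) := by rw [hax]; group
      _ = x * y⁻¹ := by rw [hay]
  have eb : b * (x * y) * b⁻¹ = x⁻¹ * y := by
    calc b * (x * y) * b⁻¹ = (b * x * b⁻¹) * (b * y) * b⁻¹ := by group
      _ = x⁻¹ * y := by rw [hbx, hby]; group
  have eab : a * b * (x * y) * (a * b)⁻¹ = (x * y)⁻¹ := by
    have hc : Commute a x := hax
    calc a * b * (x * y) * (a * b)⁻¹ = a * (b * (x * y) * b⁻¹) * a⁻¹ := by group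
      _ = (a * x⁻¹) * y * a⁻¹ := by rw [eb]; group
      _ = x⁻¹ * (a * y * a⁻¹) := by rw [hc.inv_right.eq]; group
      _ = (x * y)⁻¹ := by rw [hay, ← hxy.eq]; group
  have hna : a * (x * y) ≠ x * y * a := by
    intro h
    rw [h, mul_inv_cancel_right] at ea
    exact hy1 (eq_one_of_inv hy (mul_left_cancel ea))
  obtain ⟨w, hwV, hw1, hw⟩ := hS _ (a * b) (V.mul_mem ha hb) hodd2 eab
  rcases hV w hwV with rfl | rfl | rfl | rfl
  · exact hw1 rfl
  · exact hna hw
  · rw [hw, mul_inv_cancel_right] at eb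
    exact hx1 (eq_one_of_inv hx (mul_right_cancel eb))
  · rw [hw, mul_inv_cancel_right] at eab
    apply hna
    rw [eq_one_of_inv hodd2 eab]; simp

/-- Let G be a finite group and V a nontrivial elementary abelian 2-subgroup of G of order at most 4 such that, whenever an element of V inverts an element h of G of odd order, some nontrivial element of V commutes with h. Then V meets O₂(G) nontrivially. (The case of order at most 4 has a short argument from the Baer–Suzuki theorem.) -/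
theorem result {G : Type*} [Group G] [Finite G] (V : Subgroup G) (hV : Cfsg.IsElementaryAbelian 2 V) (hV1 : V ≠ ⊥) (hS : Cfsg.IsSidkiPair V) (h4 : Nat.card V ≤ 4) : V ⊓ Cfsg.pCore 2 G ≠ ⊥ := by
  classical
  intro hbot
  have hsq : ∀ v ∈ V, v * v = 1 := fun v hv => by rw [← pow_two]; exact hV.2 v hv
  have hcomm : ∀ a ∈ V, ∀ b ∈ V, a * b = b * a := fun a ha b hb =>
    congrArg Subtype.val (hV.1.is_comm.comm (⟨a, ha⟩ : V) ⟨b, hb⟩)
  -- every nontrivial `v ∈ V` inverts some `h`, centralized by some `w ≠ 1, v`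
  have hinv : ∀ v ∈ V, v ≠ 1 → ∃ h : G, ∃ w ∈ V, w ≠ 1 ∧ w ≠ v ∧ h ≠ 1 ∧ Odd (orderOf h) ∧
      v * h * v⁻¹ = h⁻¹ ∧ w * h = h * w := by
    intro v hv hv1
    have : Fact (Nat.Prime 2) := ⟨Nat.prime_two⟩
    obtain ⟨h, h1, h2, h3⟩ := S0200.result v (orderOf_eq_prime (hV.2 v hv) hv1) (by
      intro N hN hpN hvN
      apply hv1
      rw [← Subgroup.mem_bot, ← hbot]
      exact ⟨hv, H52.le_pCore hpN hvN⟩)
    obtain ⟨w, hw, hw1, hwh⟩ := hS h v hv h2 h3
    refine ⟨h, w, hw, hw1, fun e => h1 (eq_one_of_inv h2 ?_), h1, h2, h3, hwh⟩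
    rw [← h3, ← e, hwh]; group
  have hall : ∀ a ∈ V, ∀ b ∈ V, a ≠ 1 → b ≠ 1 → a ≠ b →
      ∀ w ∈ V, w = 1 ∨ w = a ∨ w = b ∨ w = a * b := by
    intro a ha b hb ha1 hb1 hab w hw
    by_contra hne
    push Not at hne
    obtain ⟨n1, n2, n3, n4⟩ := hne
    have hab1 : a * b ≠ 1 := fun e => hab (mul_left_cancel ((hsq a ha).trans e.symm))
    have hsub : (({w, 1, a, b, a * b} : Finset G) : Set G) ⊆ (V : Set G) := by
      intro z hz
      simp only [Finset.coe_insert, Finset.coe_singleton, Set.mem_insert_iff,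
        Set.mem_singleton_iff] at hz
      rcases hz with rfl | rfl | rfl | rfl | rfl
      exacts [hw, V.one_mem, ha, hb, V.mul_mem ha hb]
    have h5 : ({w, 1, a, b, a * b} : Finset G).card = 5 := by
      rw [Finset.card_insert_of_notMem (by simp [n1, n2, n3, n4]),
        Finset.card_insert_of_notMem (by simp [ha1.symm, hb1.symm, hab1.symm]),
        Finset.card_insert_of_notMem (by simp [hab, hb1]),
        Finset.card_insert_of_notMem (by simp [ha1]), Finset.card_singleton]
    have := Set.ncard_le_ncard hsub (Set.toFinite _)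
    rw [Set.ncard_coe_finset, h5] at this
    have h4' : (V : Set G).ncard ≤ 4 := h4
    omega
  obtain ⟨v, hv, hv1⟩ := (V.bot_or_exists_ne_one).resolve_left hV1
  obtain ⟨x, a, ha, ha1, hav, hx1, hx, hvx, hax⟩ := hinv v hv hv1
  obtain ⟨y, b, hb, hb1, hba, hy1, hy, hay, hby⟩ := hinv a ha ha1
  have hbx : b * x * b⁻¹ = x⁻¹ := by
    rcases hall a ha v hv ha1 hv1 hav b hb with rfl | rfl | rfl | rfl
    · exact absurd rfl hb1
    · exact absurd rfl hba
    · exact hvx
    · have hc : Commute a x := hax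
      calc a * v * x * (a * v)⁻¹ = a * (v * x * v⁻¹) * a⁻¹ := by group
        _ = x⁻¹ := by rw [hvx, hc.inv_right.eq]; group
  exact key V hS ha hb (hsq a ha) (hsq b hb) (hall a ha b hb ha1 hb1 hba.symm) hx1 hy1 hx hy
    hax hbx hby hay

end Cfsg.Agent.S3011
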