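import Cfsg.Statements.S3017
import Cfsg.Agent.H81.Odd
import Cfsg.Agent.H81.AutSylow
import Cfsg.Agent.H4.Coprime

set_option autoImplicit false
open Cfsg

namespace Cfsg.Agent.S3017

open Subgroup Cfsg.Agent.H85 Cfsg.Agent.H81

universe u

/-- the hypotheses -/
structure EC {G : Type*} [Group G] (H : Subgroup G) : Prop where
  p : IsPGroup 2 H
  ab : ∀ a ∈ H, ∀ b ∈ H, a * b = b * a
  cl : ∀ g : G, (H ⊔ cj g H) ⊓ normalizer (H : Set G) = H

section
variable {G : Type*} [Group G] [Finite G] {H : Subgroup G}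

theorem EC.twist (h : EC H) (g : G) : ∃ Y : Subgroup G, Odd (Nat.card Y) ∧
    H ≤ normalizer (Y : Set G) ∧ Y ⊔ H = H ⊔ cj g H ∧
    ∃ y ∈ Y, ∃ n ∈ normalizer (H : Set G), g = y * n := by
  haveI : Fact (Nat.Prime 2) := ⟨Nat.prime_two⟩
  set L := H ⊔ cj g H with hL
  have hS : IsSyl 2 H L := by
    obtain ⟨R, hR, hle⟩ := exists_isSyl_ge (H := L) h.p le_sup_left
    have : H = R := by
      by_contra hne
      have := lt_inf_normalizer_of_lt hR.isPGroup (lt_of_le_of_ne hle hne)
      exact (this.trans_le (inf_le_inf_right _ hR.le)).ne (h.cl g).symm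
    exact this ▸ hR
  have hnpc : HasNormalPComplement 2 L := by
    refine H8.hasNormalPComplement_of_normalizer_le_centralizer hS.toSylow ?_
    intro x hx y hy
    have hx' : x ∈ normalizer ((H.subgroupOf L : Subgroup L) : Set L) := hx
    rw [← subgroupOf_normalizer_eq hS.le, mem_subgroupOf] at hx'
    have h1 : (x : G) ∈ H := (h.cl g).le ⟨x.2, hx'⟩
    exact Subtype.ext (h.ab _ hy _ h1)
  have hodd : Odd (Nat.card (resOf 2 L)) := by
    have := H8.hasNormalPComplement_iff_coprime.mp hnpc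
    rw [card_map_of_injective L.subtype_injective]
    exact Nat.coprime_two_right.mp this
  have hn : H ≤ normalizer ((resOf 2 L : Subgroup G) : Set G) := hS.le.trans (le_normalizer_resOf 2 L)
  refine ⟨resOf 2 L, hodd, hn, hS.resOf_sup, ?_⟩
  have hS' : IsSyl 2 (cj g H) L := hS.of_card_le (isPGroup_cj g h.p) le_sup_right (card_cj g H).ge
  obtain ⟨l, hl, hlg⟩ := hS.exists_cj_eq hS'
  rw [← hS.resOf_sup] at hl
  obtain ⟨y, hy, a, ha, rfl⟩ := (mem_sup_of_le_normalizer hn).mp hl
  refine ⟨y, hy, y⁻¹ * g, ?_, by group⟩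
  rw [cj_mul, cj_eq_of_mem ha] at hlg
  rw [← cj_eq_iff_mem_normalizer, cj_mul, ← hlg, cj_inv_cj]

theorem EC.map {G' : Type*} [Group G'] (h : EC H) (f : G →* G') (hf : Function.Surjective f) :
    EC (H.map f) := by
  refine ⟨h.p.map f, ?_, fun g' => ?_⟩
  · rintro _ ⟨a, ha, rfl⟩ _ ⟨b, hb, rfl⟩
    rw [← map_mul, ← map_mul, h.ab a ha b hb]
  obtain ⟨g, rfl⟩ := hf g'
  refine le_antisymm ?_ (le_inf le_sup_left le_normalizer)
  obtain ⟨Y, hY, hn, hL, -⟩ := h.twist g
  rw [← map_cj, ← Subgroup.map_sup, ← hL]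
  rintro _ ⟨⟨x, hx, rfl⟩, hxN⟩
  obtain ⟨y, hy, a, ha, rfl⟩ := (mem_sup_of_le_normalizer hn).mp hx
  have hyN : f y ∈ normalizer ((H.map f : Subgroup G') : Set G') := by
    have := (normalizer _).mul_mem hxN ((normalizer _).inv_mem (le_normalizer (mem_map_of_mem f ha)))
    rwa [map_mul, mul_inv_cancel_right] at this
  obtain ⟨k, hk⟩ := h.p.exists_card_eq
  have hYc := Nat.coprime_two_right.mpr hY
  obtain ⟨d, hd, hdy⟩ := H4.exists_mul_mem_centralizer' (A := H) (D := Y ⊓ f.ker) (x := y)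
    (le_normalizer_inf hn (by rw [normalizer_eq_top]; exact le_top))
    (by rw [hk]; exact ((Nat.Coprime.coprime_dvd_left (card_dvd_of_le inf_le_left) hYc).pow_right k).symm)
    (Or.inl (Group.isSolvable_of_comm (fun a b => Subtype.ext (h.ab _ a.2 _ b.2)))) (by
      intro b hb
      have h1 : b * y * b⁻¹ * y⁻¹ ∈ Y := Y.mul_mem (nconj_mem (hn hb) hy) (Y.inv_mem hy)
      refine ⟨h1, ?_⟩
      have h2 : f (b * y * b⁻¹ * y⁻¹) ∈ H.map f := by
        have := mul_mem (mem_map_of_mem f hb) (nconj_mem hyN (inv_mem (mem_map_of_mem f hb)))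
        simpa [mul_assoc] using this
      exact H8.eq_one_of_mem_of_coprime (h.p.map f) h2
        (Nat.coprime_two_right.mpr (Odd.of_dvd_nat (odd_ord_of_mem hY h1) (orderOf_map_dvd f _))))
  have h3 : d * y ∈ H := (h.cl g).le ⟨hL ▸ mem_sup_left (Y.mul_mem hd.1 hy), centralizer_le_normalizer _ hdy⟩
  refine ⟨d * y * a, H.mul_mem h3 ha, ?_⟩
  have : f d = 1 := hd.2
  simp [this]

theorem EC.sub (h : EC H) {K : Subgroup G} (hK : H ≤ K) : EC (H.subgroupOf K) := by
  refine ⟨h.p.comap_subtype, fun a ha b hb => Subtype.ext (h.ab _ ha _ hb), fun k => ?_⟩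
  refine le_antisymm ?_ (le_inf le_sup_left le_normalizer)
  rintro x ⟨hx, hxN⟩
  rw [← subgroupOf_normalizer_eq hK] at hxN
  have h1 : H.subgroupOf K ⊔ cj k (H.subgroupOf K) ≤ (H ⊔ cj (k : G) H).subgroupOf K := by
    rw [cj_subgroupOf]
    exact sup_le (comap_mono le_sup_left) (comap_mono le_sup_right)
  exact (h.cl k).le ⟨h1 hx, hxN⟩

/-- `g` is good -/
def Good (H : Subgroup G) (g : G) : Prop :=
  ∀ t ∈ H, t * t = 1 → Odd (orderOf (t * (g * t * g⁻¹)))

theorem EC.odd_iff (h : EC H) {Y : Subgroup G} (hY : Odd (Nat.card Y))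
    (hn : H ≤ normalizer (Y : Set G)) {y n t : G} (hy : y ∈ Y) (hnN : n ∈ normalizer (H : Set G))
    (ht : t ∈ H) (ht2 : t * t = 1) :
    Odd (orderOf (t * ((y * n) * t * (y * n)⁻¹))) ↔ n * t * n⁻¹ = t := by
  have hti : t⁻¹ = t := inv_eq_of_mul_eq_one_right ht2
  have ht' : n * t * n⁻¹ ∈ H := nconj_mem hnN ht
  set t' := n * t * n⁻¹ with ht'def
  have e : t * ((y * n) * t * (y * n)⁻¹) = (t * t') * (t'⁻¹ * y * t' * y⁻¹) := by rw [ht'def]; group
  have hw : t'⁻¹ * y * t' * y⁻¹ ∈ Y := Y.mul_mem (nconj_mem' (hn ht') hy) (Y.inv_mem hy)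
  rw [e]
  constructor
  · intro hodd
    have ht'2 : t' * t' = 1 := by
      calc t' * t' = n * (t * t) * n⁻¹ := by rw [ht'def]; group
        _ = 1 := by rw [ht2]; group
    have := eq_one_of_odd_ord_mul hY (hn (H.mul_mem ht ht')) (by
      have c : Commute t t' := h.ab _ ht _ ht'
      rw [← sq, c.mul_pow, sq, sq, ht2, ht'2, one_mul]) hw hodd
    rw [← hti]; exact eq_inv_of_mul_eq_one_right this
  · intro h1
    have : t * t' = 1 := by rw [h1, ht2]
    rw [this, one_mul]; exact odd_ord_of_mem hY hw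

theorem odd_conj_iff (c a : G) : Odd (orderOf (c * a * c⁻¹)) ↔ Odd (orderOf a) := by
  rw [H10.orderOf_conj]

/-- the four-group trick -/
theorem EC.good_mul (h : EC H) {e : G} (he : e ∈ H) (he2 : e * e = 1) {O : Subgroup G}
    (hO : Odd (Nat.card O)) (hOe : O ≤ centralizer {e})
    (hOn : centralizer {e} ≤ normalizer (O : Set G)) {g o : G} (hg : Good H g) (ho : o ∈ O) :
    Good H (g * o) := by
  intro t ht ht2
  have hHe : H ≤ centralizer {e} := fun a ha => mem_cent_singleton.mpr (h.ab _ ha _ he)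
  obtain ⟨Y, hY, hn, -, y, hy, n, hnN, rfl⟩ := h.twist g
  have hfix : ∀ s ∈ H, s * s = 1 → n * s * n⁻¹ = s := fun s hs hs2 =>
    (h.odd_iff hY hn hy hnN hs hs2).mp (hg s hs hs2)
  have hte : Commute t e := h.ab _ ht _ he
  have hte2 : t * e * (t * e) = 1 := by rw [← sq, hte.mul_pow, sq, sq, ht2, he2, one_mul]
  obtain ⟨c₁, hc₁, c₃, hc₃, c₂, hc₂, k1, k3, k2, rfl⟩ :=
    four_factorization hY (hn ht) (hn he) ht2 he2 hte hy
  have ho' : n * o * n⁻¹ ∈ O := nconj_mem (hOn (conj_eq_iff_mem_cent.mp (hfix e he he2))) ho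
  set o' := n * o * n⁻¹ with ho'def
  obtain ⟨Y', hY', hn', -, y', hy', n', hn'N, hg'⟩ := h.twist (c₃ * (c₂ * o'))
  have hoe : Commute o' e := mem_cent_singleton.mp (hOe ho')
  have f1 : n' * e * n'⁻¹ = e := by
    rw [← h.odd_iff hY' hn' hy' hn'N he he2, ← hg']
    have e1 : c₃ * (c₂ * o') * e * (c₃ * (c₂ * o'))⁻¹ = c₃ * 1 * e * (c₃ * 1)⁻¹ := by
      have : Commute (c₂ * o') e := k2.symm.mul_left hoe
      calc _ = c₃ * ((c₂ * o') * e) * (c₂ * o')⁻¹ * c₃⁻¹ := by group
        _ = _ := by rw [this.eq]; group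
    rw [e1, h.odd_iff hY hn hc₃ (one_mem _) he he2]; group
  have f2 : n' * (t * e) * n'⁻¹ = t * e := by
    rw [← h.odd_iff hY' hn' hy' hn'N (H.mul_mem ht he) hte2, ← hg']
    have e1 : t * e * (c₃ * (c₂ * o') * (t * e) * (c₃ * (c₂ * o'))⁻¹) =
        c₃ * ((t * e * (c₂ * 1 * (t * e) * (c₂ * 1)⁻¹)) *
          (c₂ * ((t * e)⁻¹ * o' * (t * e) * o'⁻¹) * c₂⁻¹)) * c₃⁻¹ := by
      calc _ = (t * e * c₃) * (c₂ * o' * (t * e) * o'⁻¹ * c₂⁻¹ * c₃⁻¹) := by group
        _ = _ := by rw [k3.eq]; group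
    have hc₂e : c₂ ∈ centralizer {e} := mem_cent_singleton.mpr k2.symm.eq
    have hteC : t * e ∈ centralizer {e} := hHe (H.mul_mem ht he)
    rw [e1, odd_conj_iff]
    refine odd_ord_mul_of_normalizer hO (hOn ?_) ?_ ?_
    · exact mul_mem hteC (mul_mem (mul_mem (mul_mem hc₂e (one_mem _)) hteC)
        (inv_mem (mul_mem hc₂e (one_mem _))))
    · rw [h.odd_iff hY hn hc₂ (one_mem _) (H.mul_mem ht he) hte2]; group
    · exact nconj_mem (hOn hc₂e) (O.mul_mem (nconj_mem' (hOn hteC) ho') (O.inv_mem ho'))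
  have f3 : n' * t * n'⁻¹ = t := by
    calc n' * t * n'⁻¹ = (n' * (t * e) * n'⁻¹) * (n' * e * n'⁻¹)⁻¹ := by group
      _ = t := by rw [f1, f2]; group
  rw [← h.odd_iff hY' hn' hy' hn'N ht ht2, ← hg'] at f3
  have hnt := hfix t ht ht2
  have e2 : t * (c₁ * c₃ * c₂ * n * o * t * (c₁ * c₃ * c₂ * n * o)⁻¹) =
      c₁ * (t * (c₃ * (c₂ * o') * t * (c₃ * (c₂ * o'))⁻¹)) * c₁⁻¹ := by
    calc _ = (t * c₁) * (c₃ * (c₂ * o') * (n * t * n⁻¹) * (c₃ * (c₂ * o'))⁻¹) * c₁⁻¹ := by
          rw [ho'def]; group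
      _ = _ := by rw [hnt, k1.eq]; group
  rw [e2, odd_conj_iff]; exact f3

theorem good_mul_cent {g n : G} (hg : Good H g) (hn : ∀ t ∈ H, t * t = 1 → n * t * n⁻¹ = t) :
    Good H (g * n) := fun t ht ht2 => by
  have : g * n * t * (g * n)⁻¹ = g * (n * t * n⁻¹) * g⁻¹ := by group
  rw [this, hn t ht ht2]; exact hg t ht ht2

theorem EC.normal_of_le (h : EC H) (hK : normalClosure (H : Set G) ≤ normalizer (H : Set G)) :
    H.Normal := by
  refine normal_of_top_le_normalizer fun g _ => mem_normalizer_of_cj_le ?_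
  exact (le_inf le_sup_right ((cj_le_normalClosure g H).trans hK)).trans (h.cl g).le

end

theorem gen_of_core (n : ℕ)
    (ih : ∀ (G : Type u) [Group G] [Finite G], Nat.card G ≤ n → pPrimeCore 2 G = ⊥ →
      ∀ H : Subgroup G, EC H → H.Normal)
    (G : Type u) [Group G] [Finite G] (hG : Nat.card G ≤ n) (H : Subgroup G) (h : EC H) (g : G) :
    ∃ o ∈ pPrimeCore 2 G, ∃ m ∈ normalizer (H : Set G), g = o * m := by
  haveI : Fact (Nat.Prime 2) := ⟨Nat.prime_two⟩
  set O := pPrimeCore 2 G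
  have h1 := ih (G ⧸ O) ((Nat.card_le_card_of_surjective _ (QuotientGroup.mk'_surjective O)).trans hG)
    (H3.pPrimeCore_quotient_pPrimeCore 2 G) _ (h.map _ (QuotientGroup.mk'_surjective O))
  have h2 : (H ⊔ O).Normal := by
    have := h1.comap (QuotientGroup.mk' O)
    rwa [comap_map_eq, QuotientGroup.ker_mk'] at this
  obtain ⟨o, ho, hog⟩ := exists_cj_eq_of_sup_eq (N := O) h.p (isPGroup_cj g h.p)
    (H3.pPrimeCore_coprime 2 G) (by
      conv_lhs => rw [← cj_normal g (H ⊔ O), cj_sup, cj_normal g O])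
  refine ⟨o, ho, o⁻¹ * g, ?_, by group⟩
  rw [← cj_eq_iff_mem_normalizer, cj_mul, ← hog, cj_inv_cj]

theorem core (n : ℕ) : ∀ (G : Type u) [Group G] [Finite G], Nat.card G ≤ n → pPrimeCore 2 G = ⊥ →
      ∀ H : Subgroup G, EC H → H.Normal := by
  haveI : Fact (Nat.Prime 2) := ⟨Nat.prime_two⟩
  induction n with
  | zero => intro G _ _ hG; exact absurd hG (by have := Nat.card_pos (α := G); omega)
  | succ n ih =>
  intro G _ _ hG hO H h
  have gen := gen_of_core n ih
  -- proper subgroups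
  have hsub : ∀ K : Subgroup G, K ≠ ⊤ → H ≤ K → ∀ k ∈ K,
      ∃ o ∈ (pPrimeCore 2 K).map K.subtype, ∃ m ∈ normalizer (H : Set G), k = o * m := by
    intro K hK hHK k hk
    have hc : Nat.card K ≤ n := by
      have := card_lt_of_lt (lt_top_iff_ne_top.mpr hK)
      rw [card_top] at this; omega
    obtain ⟨o, ho, m, hm, hom⟩ := gen K hc _ (h.sub hHK) ⟨k, hk⟩
    rw [← subgroupOf_normalizer_eq hHK] at hm
    exact ⟨o, mem_map_of_mem _ ho, m, hm, congrArg Subtype.val hom⟩
  by_cases hH : H = ⊥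
  · rw [hH]; infer_instance
  by_cases hcen : ∃ e ∈ H, orderOf e = 2 ∧ e ∈ center G
  · obtain ⟨e, he, he2, hec⟩ := hcen
    have hZ : zpowers e ≤ center G := zpowers_le.mpr hec
    haveI : (zpowers e).Normal := ⟨fun z hz g => by
      rw [mem_center_iff.mp (hZ hz) g, mul_inv_cancel_right]; exact hz⟩
    have hc : Nat.card (G ⧸ zpowers e) ≤ n := by
      have := card_eq_card_quotient_mul_card_subgroup (zpowers e)
      rw [Nat.card_zpowers, he2] at this
      have h0 := Nat.card_pos (α := G ⧸ zpowers e)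
      omega
    have h1 := ih _ hc (H6.pPrimeCore_quotient_eq_bot_of_le_center _ hZ hO) _
      (h.map _ (QuotientGroup.mk'_surjective (zpowers e)))
    have := h1.comap (QuotientGroup.mk' (zpowers e))
    rwa [comap_map_eq, QuotientGroup.ker_mk', sup_eq_left.mpr (zpowers_le.mpr he)] at this
  push Not at hcen
  have hCe : ∀ e ∈ H, orderOf e = 2 → centralizer {e} ≠ (⊤ : Subgroup G) := fun e he he2 htop =>
    hcen e he he2 (mem_center_iff.mpr fun g => mem_cent_singleton.mp (htop ▸ mem_top g))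
  have hHe : ∀ e ∈ H, H ≤ centralizer {e} := fun e he a ha => mem_cent_singleton.mpr (h.ab _ ha _ he)
  -- good elements of `C(e)` preserve goodness
  have hstep : ∀ e ∈ H, orderOf e = 2 → ∀ y ∈ centralizer {e}, Good H y → ∀ g, Good H g →
      Good H (g * y) := by
    intro e he he2 y hy hgy g hg
    obtain ⟨o, ho, m, hm, rfl⟩ := hsub _ (hCe e he he2) (hHe e he) y hy
    have hodd : Odd (Nat.card ((pPrimeCore 2 (centralizer ({e} : Set G))).map (centralizer {e}).subtype)) :=
      Nat.coprime_two_right.mp (H3.map_pPrimeCore_coprime _)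
    have hn := le_normalizer.trans (H3.normalizer_le_normalizer_map_pPrimeCore (p := 2) (centralizer ({e} : Set G)))
    rw [← mul_assoc]
    refine good_mul_cent (h.good_mul he (H10.mul_self_of_orderOf_two he2) hodd (map_subtype_le _) hn hg ho) ?_
    intro t ht ht2
    exact (h.odd_iff hodd ((hHe e he).trans hn) ho hm ht ht2).mp (hgy t ht ht2)
  obtain ⟨e, he, he1, he2⟩ := exists_order_prime_mem h.p hH
  have heo : orderOf e = 2 := orderOf_eq_prime' he1 he2
  have hee := H10.mul_self_of_orderOf_two heo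
  have hKgood : ∀ k ∈ normalClosure (H : Set G), Odd (orderOf (e * (k * e * k⁻¹))) := by
    by_cases huniq : ∀ t ∈ H, orderOf t = 2 → t = e
    · intro k _
      obtain ⟨Y, hY, hn, -, y, hy, m, hm, rfl⟩ := h.twist k
      rw [h.odd_iff hY hn hy hm he hee]
      exact huniq _ (nconj_mem hm he) (by rw [H10.orderOf_conj]; exact heo)
    push Not at huniq
    obtain ⟨t, ht, hto, hte⟩ := huniq
    have htt := H10.mul_self_of_orderOf_two hto
    have hcomm : Commute t e := h.ab _ ht _ he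
    have hteo : orderOf (t * e) = 2 := H10.orderOf_eq_two_of
      (by rw [← sq, hcomm.mul_pow, sq, sq, htt, hee, one_mul])
      (fun h1 => hte (by rw [eq_inv_of_mul_eq_one_left h1, H10.inv_eq_of_orderOf_two heo]))
    let K₀ : Subgroup G :=
      { carrier := {x | ∀ g, Good H g → Good H (g * x)}
        mul_mem' := fun {a b} ha hb g hg => by rw [← mul_assoc]; exact hb _ (ha g hg)
        one_mem' := fun g hg => by rwa [mul_one]
        inv_mem' := fun {a} ha g hg => by
          have : ∀ m : ℕ, Good H (g * a ^ m) := fun m => by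
            induction m with
            | zero => simpa using hg
            | succ m ih => rw [pow_succ, ← mul_assoc]; exact ha _ ih
          have h1 : a⁻¹ = a ^ (orderOf a - 1) := by
            apply inv_eq_of_mul_eq_one_right
            rw [← pow_succ', Nat.sub_add_cancel (orderOf_pos a), pow_orderOf_eq_one]
          rw [h1]; exact this _ }
    have hK₀ : normalClosure (H : Set G) ≤ K₀ := by
      rw [normalClosure_eq_iSup_cj]
      refine iSup_le fun g => ?_
      obtain ⟨Y, hY, hn, hL, -⟩ := h.twist g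
      refine le_sup_right.trans (hL.ge.trans (sup_le ?_ ?_))
      · intro y hy
        have hg : ∀ c ∈ Y, Good H c := fun c hc s hs hs2 => by
          have := (h.odd_iff hY hn hc (one_mem _) hs hs2).mpr (by group)
          rwa [mul_one] at this
        obtain ⟨c₁, hc₁, c₃, hc₃, c₂, hc₂, k1, k3, k2, rfl⟩ :=
          four_factorization hY (hn ht) (hn he) htt hee hcomm hy
        refine K₀.mul_mem (K₀.mul_mem ?_ ?_) ?_
        · exact hstep t ht hto _ (mem_cent_singleton.mpr k1.symm.eq) (hg _ hc₁)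
        · exact hstep _ (H.mul_mem ht he) hteo _ (mem_cent_singleton.mpr k3.symm.eq) (hg _ hc₃)
        · exact hstep e he heo _ (mem_cent_singleton.mpr k2.symm.eq) (hg _ hc₂)
      · intro a ha g hg
        exact good_mul_cent hg fun s hs _ => by rw [h.ab _ ha _ hs, mul_inv_cancel_right]
    intro k hk
    have := hK₀ hk 1 (fun s _ hs2 => by simp [hs2])
    rw [one_mul] at this
    exact this e he hee
  set K := normalClosure (H : Set G) with hK
  have hHK : H ≤ K := le_normalClosure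
  have hOK : pPrimeCore 2 K = ⊥ := by
    rw [← H3.pPrimeCore_subgroupOf_eq K, hO, bot_subgroupOf]
  have hiso : IsIsolatedInvolution (⟨e, hHK he⟩ : K) := by
    refine ⟨by rw [← Subgroup.orderOf_coe]; exact heo, fun k hk => Subtype.ext ?_⟩
    have c : Commute e (k * e * (k : G)⁻¹) := congrArg Subtype.val hk
    have h1 := H10.eq_one_of_odd_of_sq (hKgood k k.2) (by
      rw [c.mul_pow, sq, sq, hee, one_mul]
      exact H10.mul_self_of_orderOf_two (by rw [H10.orderOf_conj]; exact heo))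
    show k * e * (k : G)⁻¹ = e
    rw [eq_inv_of_mul_eq_one_right h1, H10.inv_eq_of_orderOf_two heo]
  have hKe : K ≤ centralizer {e} := fun k hk => mem_cent_singleton.mpr
    (congrArg Subtype.val (mem_center_iff.mp (H6.mem_center_of_isolated hiso hOK) ⟨k, hk⟩))
  refine h.normal_of_le fun k hk => ?_
  obtain ⟨o, ho, m, hm, rfl⟩ := hsub K (fun htop => hCe e he heo (top_le_iff.mp (htop ▸ hKe))) hHK k hk
  rw [hOK, Subgroup.map_bot, mem_bot] at ho
  rw [ho, one_mul]; exact hm


/-- Let G be a finite group and H an abelian 2-subgroup of G that is extremely closed (for every g, the subgroup generated by H and g H g⁻¹ meets N_G(H) exactly in H). Then G = N_G(H) O(G), where O(G) is the largest normal subgroup of odd order. For H of order 2 this is Glauberman's Z*-statement. -/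
theorem result {G : Type*} [Group G] [Finite G] (H : Subgroup G) (hH2 : IsPGroup 2 H) (hHab : IsMulCommutative H) (hcl : Cfsg.IsExtremelyClosed H) : Subgroup.normalizer (H : Set G) ⊔ Cfsg.oddCore G = ⊤ := by
  rw [eq_top_iff]
  intro g _
  obtain ⟨o, ho, m, hm, rfl⟩ := gen_of_core _ (core _) G le_rfl H
    ⟨hH2, fun a ha b hb => setLike_mul_comm ha hb, hcl⟩ g
  exact mul_mem (mem_sup_right ho) (mem_sup_left hm)

end Cfsg.Agent.S3017
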