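import Cfsg.Statements.S3888
import Cfsg.Agent.H90.Blackburn

set_option autoImplicit false
open Cfsg

namespace Cfsg.Agent.S3888

open Subgroup H7 H71 H90
open scoped commutatorElement

theorem main {G : Type*} [Group G] [Finite G] {p : ℕ} [hp : Fact p.Prime] (h2 : p ≠ 2) {n : ℕ}
    (hn : Nat.card G = p ^ n) (hr : PRankLE p 2 G) {E : Subgroup G} [E.Normal]
    (hE : Nat.card E = p ^ 3) (hEp : ∀ x ∈ E, x ^ p = 1) :
    (3 ≤ n ∧ ∃ x y z : G, closure ({x, y, z} : Set G) = ⊤ ∧ x ^ p = 1 ∧ y ^ p = 1 ∧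
      z ^ p ^ (n - 2) = 1 ∧ x * z = z * x ∧ y * z = z * y ∧ x⁻¹ * y * x = y * z ^ p ^ (n - 3)) ∨
    (4 ≤ n ∧ ∃ (s : ℕ) (x y z : G), ¬ p ∣ s ∧ closure ({x, y, z} : Set G) = ⊤ ∧ x ^ p = 1 ∧
      y ^ p = 1 ∧ z ^ p ^ (n - 2) = 1 ∧ y * z = z * y ∧ x⁻¹ * y * x = y * z ^ (s * p ^ (n - 3)) ∧
      x⁻¹ * z * x = y * z ∧ x * z ^ p = z ^ p * x) := by
  have hG : IsPGroup p G := IsPGroup.of_card hn
  have h1p := hp.out.one_lt
  obtain ⟨A, hAn, hAE, hAc⟩ := exists_normal_le_card_eq hG E (k := 2)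
    (hE ▸ Nat.pow_le_pow_right hp.out.pos (by omega))
  have hA : IsMulCommutative A := isMulCommutative_of_card_le_sq (hG.to_subgroup A) hAc.le
  have hAp : ∀ a ∈ A, a ^ p = 1 := fun a ha => hEp a (hAE ha)
  set T := centralizer (A : Set G)
  have hAT : A ≤ T := le_centralizer_iff_isMulCommutative.2 hA
  have hTA : ∀ t ∈ T, t ^ p = 1 → t ∈ A := fun t ht htp => by
    by_contra h
    have h4 := hr _ (isMulCommutative_sup_zpowers hA ht) fun z hz => by
      obtain ⟨a, ha, k, rfl⟩ := mem_sup_zpowers.1 hz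
      rw [(Commute.zpow_right (ht a ha) k).mul_pow, hAp a ha, ← zpow_natCast, ← zpow_mul,
        mul_comm k, zpow_mul, zpow_natCast, htp, one_zpow, one_mul]
    rw [card_sup_zpowers h (htp ▸ one_mem A), hAc, ← pow_succ, Nat.pow_le_pow_iff_right h1p] at h4
    omega
  obtain ⟨x, hxE, hxT⟩ : ∃ x ∈ E, x ∉ T := by
    by_contra! h
    have := card_le_of_le (H := E) (K := A) fun x hx => hTA x (h x hx) (hEp x hx)
    rw [hE, hAc, Nat.pow_le_pow_iff_right h1p] at this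
    omega
  have hxp := hEp x hxE
  have hT : T.index = p := by
    obtain ⟨T', -, h1, h3⟩ := exists_le_index_eq hG (H := T) fun h => hxT (h ▸ mem_top x)
    exact le_antisymm (by simpa using index_centralizer_le hG 2 A hAc) (h3 ▸ index_antitone h1)
  have hTc : Nat.card T * p = p ^ n := by rw [← hn, ← T.card_mul_index, hT]
  have hδA : ∀ t : T, x⁻¹ * t * x * (t : G)⁻¹ ∈ A := fun t => hTA _
    (mul_mem (Normal.conj_mem' inferInstance _ t.2 x) (inv_mem t.2)) (hEp _ (by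
      simpa [mul_assoc] using mul_mem (inv_mem hxE) (Normal.conj_mem inferInstance _ hxE t)))
  obtain ⟨δ, hδ⟩ : ∃ δ : T →* G, ∀ t, δ t = x⁻¹ * t * x * (t : G)⁻¹ :=
    ⟨MonoidHom.mk' (fun t => x⁻¹ * t * x * (t : G)⁻¹) fun s t => by
      calc _ = x⁻¹ * s * x * (x⁻¹ * t * x * (t : G)⁻¹ * (s : G)⁻¹) := by
            simp only [coe_mul]; group
        _ = _ := by rw [(Commute.inv_right (s.2 _ (hδA t))).eq]; group, fun _ => rfl⟩
  have hδ' : ∀ t : T, x⁻¹ * t * x = δ t * t := fun t => by rw [hδ, inv_mul_cancel_right]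
  simp only [← hδ] at hδA
  set W := ⁅A, (⊤ : Subgroup G)⁆
  have hWc : Nat.card W ≤ p := (card_commutator_le hG hAc.le).trans_eq (pow_one p)
  have hWZ := le_center_of_card_le hG hWc
  have hWA : W ≤ A := commutator_le_left _ _
  have hδW : ∀ t : T, t.1 ∈ A → δ t ∈ W := fun t ht => by
    simpa [hδ, commutatorElement_def, mul_assoc] using
      inv_mem (commutator_mem_commutator ht (mem_top x⁻¹))
  have hWz : ∀ w ∈ W, w ≠ 1 → zpowers w = W := fun w hw hw1 => eq_of_le_of_card_ge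
    (zpowers_le.2 hw) (by rwa [Nat.card_zpowers, orderOf_eq_prime (hAp w (hWA hw)) hw1])
  set D := centralizer (E : Set G)
  have hDT : D ≤ T := centralizer_le hAE
  have hD : ∀ t : T, t.1 ∈ D ↔ δ t = 1 := fun t => by
    have : A ⊔ zpowers x = E := eq_of_le_of_card_ge (sup_le hAE (zpowers_le.2 hxE)) (by
      rw [card_sup_zpowers (fun h => hxT (hAT h)) (hxp ▸ one_mem A), hAc, hE, ← pow_succ])
    simp only [D, ← this, centralizer_sup_zpowers, mem_inf, mem_centralizer_singleton_iff]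
    rw [hδ, mul_inv_eq_one, mul_assoc, inv_mul_eq_iff_eq_mul]
    exact and_iff_left t.2
  have hWD : W ≤ D := hWZ.trans (center_le_centralizer _)
  obtain ⟨y₀, hy₀, hy₀'⟩ : ∃ y ∈ A, y ∉ D := by
    by_contra! h
    exact hxT fun a ha => (h a ha x hxE).symm
  have hw₀ : δ ⟨y₀, hAT hy₀⟩ ≠ 1 := fun h => hy₀' ((hD _).2 h)
  have hWp : Nat.card W = p := by
    rw [← hWz _ (hδW _ hy₀) hw₀, Nat.card_zpowers, orderOf_eq_prime (hAp _ (hδA _)) hw₀]
  have hDW : ∀ d ∈ D, d ^ p = 1 → d ∈ W := fun d hd hdp => by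
    by_contra h
    exact hy₀' ((le_sup_of_not_le hG hWA (by rw [hWp, hAc, pow_two]) (zpowers_le.2 (hTA d (hDT hd)
      hdp)) (mt zpowers_le.1 h)).trans (sup_le (zpowers_le.2 hd) hWD) hy₀)
  have hDc : IsCyclic D := isCyclic_of_card_om1_le (hG.to_subgroup D) h2
    ((card_le_of_le (om1_le_iff.2 hDW)).trans hWc)
  obtain ⟨m, hm⟩ := card_eq_pow hG D
  obtain ⟨m, rfl⟩ : ∃ k, m = k + 1 := Nat.exists_eq_succ_of_ne_zero (by
    rintro rfl
    have := card_le_of_le hWD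
    rw [pow_zero] at hm
    omega)
  have hgen : ∀ c, zpowers c = D → c ^ p ^ (m + 1) = 1 ∧ zpowers (c ^ p ^ m) = W := fun c hc => by
    have ho : orderOf c = p ^ (m + 1) := by rw [← Nat.card_zpowers, hc, hm]
    have h1 : c ^ p ^ (m + 1) = 1 := ho ▸ pow_orderOf_eq_one c
    refine ⟨h1, hWz _ (hDW _ (pow_mem (hc ▸ mem_zpowers c) _) (by rwa [← pow_mul, ← pow_succ]))
      (pow_ne_one_of_lt_orderOf (pow_pos hp.out.pos m).ne' ?_)⟩
    exact ho ▸ Nat.pow_lt_pow_right h1p m.lt_succ_self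
  have hcard : p ^ (m + 1) * Nat.card δ.range * p = p ^ n := by
    rw [← hTc, ← δ.ker.card_mul_index, index_ker, ← hm,
      show δ.ker = D.subgroupOf T from Subgroup.ext fun t => (hD t).symm,
      Nat.card_congr (subgroupOfEquivOfLe hDT).toEquiv]
  have htop : ∀ H : Subgroup G, x ∈ H → D ≤ H → δ.range ≤ (H.subgroupOf T).map δ → H = ⊤ := by
    intro H hx h1 h3
    refine top_unique (((isCoatom_of_index_prime (hT ▸ hp.out)).2 (T ⊔ zpowers x)
      (lt_of_le_not_ge le_sup_left fun h => hxT (h (mem_sup_right (mem_zpowers x))))).ge.trans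
      (sup_le (fun u hu => ?_) (zpowers_le.2 hx)))
    obtain ⟨v, hv, he⟩ := h3 ⟨⟨u, hu⟩, rfl⟩
    simpa using mul_mem (show v.1 ∈ H from hv)
      (h1 ((hD (v⁻¹ * ⟨u, hu⟩)).2 (by rw [map_mul, map_inv, he, inv_mul_cancel])))
  obtain ⟨c, hc⟩ := (D.isCyclic_iff_exists_zpowers_eq_top).1 hDc
  have hcD : c ∈ D := hc ▸ mem_zpowers c
  by_cases h : δ.range ≤ W
  · left
    have h1 : δ.range = W := le_antisymm h (hWz _ (hδW _ hy₀) hw₀ ▸ zpowers_le.2 ⟨_, rfl⟩)
    rw [h1, hWp, ← pow_succ, ← pow_succ, Nat.pow_right_inj h1p] at hcard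
    subst hcard
    obtain ⟨k, hk⟩ := exists_nat_pow_of_mem_zpowers
      (hWz _ (hδW _ hy₀) hw₀ ▸ (hgen c hc).2 ▸ mem_zpowers _ : c ^ p ^ m ∈ zpowers _)
    rw [← map_pow] at hk
    refine ⟨by omega, x, y₀ ^ k, c, htop _ (subset_closure (by simp))
      (hc ▸ zpowers_le.2 (subset_closure (by simp))) ?_, hxp, hAp _ (pow_mem hy₀ k), (hgen c hc).1,
      hcD x hxE, hDT hcD _ (pow_mem hy₀ k), ?_⟩
    · rw [h1, ← (hgen c hc).2, ← hk]
      exact zpowers_le.2 ⟨_, subset_closure (by simp), rfl⟩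
    · exact (hδ' (⟨y₀, hAT hy₀⟩ ^ k)).trans
        ((mem_center_iff.1 (hWZ (hδW _ (pow_mem hy₀ k))) _).symm.trans (by rw [hk]))
  right
  obtain ⟨_, ⟨t, rfl⟩, ht⟩ := SetLike.not_le_iff_exists.1 h
  have hAW := le_sup_of_not_le hG hWA (by rw [hWp, hAc, pow_two]) (zpowers_le.2 (hδA t))
    (mt zpowers_le.1 ht)
  have h1 : δ.range = A := le_antisymm (by rintro _ ⟨u, rfl⟩; exact hδA u) (hAW.trans
    (sup_le (zpowers_le.2 ⟨_, rfl⟩) (hWz _ (hδW _ hy₀) hw₀ ▸ zpowers_le.2 ⟨_, rfl⟩)))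
  rw [h1, hAc, ← pow_add, ← pow_succ, Nat.pow_right_inj h1p] at hcard
  subst hcard
  have htp : t.1 ^ p ∈ D := (hD (t ^ p)).2 (by rw [map_pow, hAp _ (hδA t)])
  have h3 : zpowers (t.1 ^ p) = D := by
    obtain ⟨k, hk⟩ := exists_nat_pow_of_mem_zpowers (hc ▸ htp : _ ∈ zpowers c)
    by_cases hpk : p ∣ k
    swap
    · exact le_antisymm (zpowers_le.2 htp) (hc ▸ zpowers_le.2 (mem_of_pow_mem_of_coprime
        (hk ▸ mem_zpowers _) (coprime_orderOf_of_not_dvd (hgen c hc).1 hpk)))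
    exfalso
    obtain ⟨k, rfl⟩ := hpk
    rw [mul_comm, pow_mul] at hk
    have hd := inv_mem (pow_mem hcD k)
    rw [← inv_inj, ← inv_pow] at hk
    generalize (c ^ k)⁻¹ = d at hd hk
    have h4 : ⁅t.1, d⁆ ^ p = 1 := comm_pow_eq_one_of_centralizes_omega (B := D) inferInstance
      (hG.to_subgroup D) one_ne_zero (by rwa [pow_one]) (fun b hb hbp => mem_center_iff.1
        (hWZ (hDW b hb (by rwa [pow_one] at hbp))) _)
      (fun b hb => commute_of_mem inferInstance htp hb) hd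
    have h5 := mem_center_iff.1 (hWZ (hDW _ (commutator_le_right ⊤ D
      (commutator_mem_commutator (mem_top t.1) hd)) h4))
    have h6 := hδW (⟨d, hDT hd⟩ * t) (hTA _ (mul_mem (hDT hd) t.2) (by
      rw [coe_mul, mul_pow_of_class2 hp.out h2 (h5 _) (h5 _) h4, hk, inv_mul_cancel]))
    rw [map_mul, (hD _).1 hd, one_mul] at h6
    exact ht h6
  have hw : δ ⟨δ t, hAT (hδA t)⟩ ≠ 1 := fun h => ht (hDW _ ((hD _).2 h) (hAp _ (hδA t)))
  obtain ⟨s, hs⟩ := exists_nat_pow_of_mem_zpowers ((hgen _ h3).2 ▸ hδW ⟨_, hAT (hδA t)⟩ (hδA t) :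
    _ ∈ zpowers _)
  refine ⟨by omega, s, x, δ t, t, fun hps => hw ?_, htop _ (subset_closure (by simp))
    (h3 ▸ zpowers_le.2 (pow_mem (subset_closure (by simp)) p)) ?_, hxp, hAp _ (hδA t), ?_,
    t.2 _ (hδA t), ?_, hδ' t, htp x hxE⟩
  · exact hs ▸ pow_eq_one_of_dvd (hAp _ (hWA ((hgen _ h3).2 ▸ mem_zpowers _))) hps
  · refine h1 ▸ hAW.trans (sup_le (zpowers_le.2 ⟨t, subset_closure (by simp), rfl⟩) ?_)
    rw [← hWz _ (hδW _ (hδA t)) hw]
    exact zpowers_le.2 ⟨_, subset_closure (by simp), rfl⟩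
  · rw [← (hgen _ h3).1, ← pow_mul, ← pow_succ']
    rfl
  · refine (hδ' ⟨_, hAT (hδA t)⟩).trans ((mem_center_iff.1 (hWZ (hδW _ (hδA t))) _).symm.trans ?_)
    rw [← hs, ← pow_mul, ← pow_mul, ← mul_assoc, ← pow_succ', mul_comm (p ^ _) s]
    rfl

theorem normalize {G : Type*} [Group G] [Finite G] {p : ℕ} [hp : Fact p.Prime] {m s : ℕ}
    {x y z : G} (hs : ¬ p ∣ s) (hs' : IsSquare (s : ZMod p))
    (h : closure ({x, y, z} : Set G) = ⊤) (hx : x ^ p = 1) (hy : y ^ p = 1)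
    (hz : z ^ p ^ (m + 2) = 1) (hyz : y * z = z * y) (h1 : x⁻¹ * y * x = y * z ^ (s * p ^ (m + 1)))
    (h2 : x⁻¹ * z * x = y * z) (h3 : x * z ^ p = z ^ p * x) :
    ∃ x y : G, closure ({x, y, z} : Set G) = ⊤ ∧ x ^ p = 1 ∧ y ^ p = 1 ∧ y * z = z * y ∧
      x⁻¹ * y * x = y * z ^ (1 * p ^ (m + 1)) ∧ x⁻¹ * z * x = y * z := by
  obtain ⟨j, hj⟩ := hs'
  have hj0 : j ≠ 0 := by
    rintro rfl
    exact hs ((ZMod.natCast_eq_zero_iff s p).1 (by simpa using hj))
  have hi : ¬ p ∣ j⁻¹.val := by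
    rw [← ZMod.natCast_eq_zero_iff, ZMod.natCast_zmod_val]
    exact inv_ne_zero hj0
  have hi' : s * (j⁻¹.val * j⁻¹.val) ≡ 1 [MOD p] := by
    rw [← ZMod.natCast_eq_natCast_iff]
    push_cast
    rw [ZMod.natCast_zmod_val, hj]
    field_simp
  generalize j⁻¹.val = i at hi hi'
  set u := z ^ p ^ (m + 1) with hu
  have hup : u ^ p = 1 := by rw [← pow_mul, ← pow_succ, hz]
  rw [mul_comm s, pow_mul, ← hu] at h1
  have hxu : Commute x u := by
    rw [hu, pow_succ', pow_mul]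
    exact Commute.pow_right h3 _
  have hyu : Commute y u := Commute.pow_right hyz _
  have key : ∀ i : ℕ, (x ^ i)⁻¹ * y * x ^ i = y * u ^ (s * i) ∧
      ∃ k : ℕ, (x ^ i)⁻¹ * z * x ^ i = y ^ i * u ^ k * z := fun i => by
    have hc : ∀ k : ℕ, x⁻¹ * u ^ k * x = u ^ k := fun k => by
      rw [mul_assoc, ← (hxu.pow_right k).eq, inv_mul_cancel_left]
    induction i with
    | zero => exact ⟨by simp, 0, by simp⟩
    | succ i ih =>
      obtain ⟨h4, k, h5⟩ := ih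
      refine ⟨?_, s * i + k, ?_⟩
      · calc _ = x⁻¹ * ((x ^ i)⁻¹ * y * x ^ i) * x := by group
          _ = x⁻¹ * y * x * (x⁻¹ * u ^ (s * i) * x) := by rw [h4]; group
          _ = _ := by rw [h1, hc]; group
      · calc _ = x⁻¹ * ((x ^ i)⁻¹ * z * x ^ i) * x := by group
          _ = (x⁻¹ * y * x⁻¹⁻¹) ^ i * (x⁻¹ * u ^ k * x) * (x⁻¹ * z * x) := by
            rw [h5, conj_pow]; group
          _ = y ^ i * (u ^ (s * i + k) * y) * z := by
            rw [inv_inv, h1, hc, h2, (hyu.pow_right s).mul_pow]; group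
          _ = _ := by rw [← (hyu.pow_right _).eq]; group
  obtain ⟨h4, k, h5⟩ := key i
  refine ⟨x ^ i, y ^ i * u ^ k, top_unique (h.ge.trans ((closure_le _).2 ?_)), ?_, ?_, ?_, ?_, h5⟩
  · have hz' : z ∈ closure ({x ^ i, y ^ i * u ^ k, z} : Set G) := subset_closure (by simp)
    rintro _ (rfl | rfl | rfl)
    · exact mem_of_pow_mem_of_coprime (subset_closure (by simp))
        (coprime_orderOf_of_not_dvd (n := 1) (by rwa [pow_one]) hi)
    · refine mem_of_pow_mem_of_coprime ((mul_mem_cancel_right (pow_mem (pow_mem hz' (p ^ (m + 1))) k)).1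
        (subset_closure (by simp [hu]))) (coprime_orderOf_of_not_dvd (n := 1) (by rwa [pow_one]) hi)
    · exact hz'
  · rw [← pow_mul, mul_comm, pow_mul, hx, one_pow]
  · rw [(hyu.pow_pow i k).mul_pow, ← pow_mul, mul_comm, pow_mul, hy, ← pow_mul u, mul_comm k,
      pow_mul, hup]
    simp
  · exact Commute.mul_left (Commute.pow_left hyz i) (((Commute.refl z).pow_left _).pow_left k)
  · calc _ = ((x ^ i)⁻¹ * y * (x ^ i)⁻¹⁻¹) ^ i * ((x ^ i)⁻¹ * (u ^ k * x ^ i)) := by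
          rw [conj_pow]; group
      _ = y ^ i * u ^ k * u ^ (s * (i * i)) := by
          rw [inv_inv, h4, ← (hxu.pow_pow i k).eq, (hyu.pow_right _).mul_pow]; group
      _ = _ := by rw [pow_eq_pow_mod (s * (i * i)) hup, hi', ← pow_eq_pow_mod _ hup, pow_one, one_mul]


/-- The classification of the p-groups of rank at most two for odd p. Let p be an odd prime and G a group of order p^n with no elementary abelian subgroup of order p³. Then one of the following holds: G is metacyclic; n ≥ 3 and G is generated by elements x, y, z with x^p = y^p = z^(p^(n−2)) = 1, z commuting with x and y, and x⁻¹yx = y z^(p^(n−3)); n ≥ 4 and G is generated by elements x, y, z with x^p = y^p = z^(p^(n−2)) = 1, yz = zy, x⁻¹yx = y z^(s p^(n−3)) and x⁻¹zx = yz, where s = 1 or s is a quadratic non-residue modulo p; or p = 3 and G has maximal class (nilpotency class n − 1). -/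
theorem result {G : Type*} [Group G] [Finite G] {p : ℕ} [Fact p.Prime] (hp : p ≠ 2) (n : ℕ) (hG : Nat.card G = p ^ n)
    (hrk : Cfsg.PRankLE p 2 G) :
    Cfsg.IsMetacyclic G ∨
    (3 ≤ n ∧ ∃ x y z : G, Subgroup.closure ({x, y, z} : Set G) = ⊤ ∧ x ^ p = 1 ∧ y ^ p = 1 ∧ z ^ p ^ (n - 2) = 1 ∧
        x * z = z * x ∧ y * z = z * y ∧ x⁻¹ * y * x = y * z ^ p ^ (n - 3)) ∨
    (4 ≤ n ∧ ∃ (s : ℕ) (x y z : G), (s = 1 ∨ ¬ IsSquare (s : ZMod p)) ∧ Subgroup.closure ({x, y, z} : Set G) = ⊤ ∧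
        x ^ p = 1 ∧ y ^ p = 1 ∧ z ^ p ^ (n - 2) = 1 ∧ y * z = z * y ∧ x⁻¹ * y * x = y * z ^ (s * p ^ (n - 3)) ∧
        x⁻¹ * z * x = y * z) ∨
    (p = 3 ∧ 2 ≤ n ∧ (⊤ : Subgroup G).lowerCentralSeries (n - 2) ≠ ⊥) := by
  have hP : IsPGroup p G := IsPGroup.of_card hG
  have hp' : p.Prime := Fact.out
  by_cases hm : IsMetacyclic G
  · exact Or.inl hm
  right
  by_cases hE : ∃ E : Subgroup G, E.Normal ∧ Nat.card E = p ^ 3 ∧ ∀ x ∈ E, x ^ p = 1
  · obtain ⟨E, _, hE, hEp⟩ := hE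
    refine (main hp hG hrk hE hEp).imp id fun ⟨hn, s, x, y, z, hs, h, hx, hy, hz, h1, h2, h3, h4⟩ =>
      Or.inl ⟨hn, ?_⟩
    by_cases hs' : IsSquare (s : ZMod p)
    · obtain ⟨m, rfl⟩ := Nat.exists_eq_add_of_le' hn
      obtain ⟨x, y, h, hx, hy, h1, h2, h3⟩ := normalize (m := m) hs hs' h hx hy hz h1 h2 h3 h4
      exact ⟨1, x, y, z, Or.inl rfl, h, hx, hy, hz, h1, h2, h3⟩
    · exact ⟨s, x, y, z, Or.inr hs', h, hx, hy, hz, h1, h2, h3⟩
  have hn : 2 ≤ n := by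
    by_contra hn
    exact hm (metacyclic_of_index_powerClosure hp hP ((Nat.le_of_dvd Nat.card_pos
      (index_dvd_card _)).trans (hG ▸ Nat.pow_le_pow_right hp'.pos (by omega))))
  by_cases h3 : 3 < p
  · have hr := fun E (h : IsElementaryAbelian p E) => hrk E h.1 h.2
    refine (hE ⟨closure {x : G | x ^ p = 1}, have := omega_characteristic (G := G) p; inferInstance,
      le_antisymm (card_le_cube_of_rank_two (fun x => Subtype.ext
        (omega_pow_of_rank_two h3 hP hr x.2)) (rank_le_subgroup hr _)) (le_pow_of_lt_pow_succ hP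
          fun h => hm (metacyclic_of_card_om1_le h3 hP (om1_top (p := p) (G := G) ▸ h))),
      fun x => omega_pow_of_rank_two h3 hP hr⟩).elim
  obtain ⟨m, rfl⟩ := Nat.exists_eq_add_of_le' hn
  have := hp'.two_le
  exact Or.inr (Or.inr ⟨by omega, hn,
    ((blackburn_rank_two hp hG hrk).resolve_left hm).resolve_left hE⟩)

end Cfsg.Agent.S3888
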