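import Cfsg.Statements.S3068
import Cfsg.Agent.H78.JSix
import Cfsg.Agent.H54.PairCtl
import Cfsg.Agent.H54.KTransfer
import Cfsg.Agent.H8.Tate

set_option autoImplicit false
open Cfsg

namespace Cfsg.Agent.S3068

open Subgroup

universe u

theorem maxAb {G : Type*} [Group G] [Finite G] {p : ℕ} [Fact p.Prime] (S : Sylow p G)
    {A : Subgroup G} (hA : A ∈ H51.maxEA 0 (S : Subgroup G)) : H33.JA.MaxAb p A := by
  refine ⟨S.isPGroup'.to_le hA.1, H51.isEA_zero_iff.1 hA.2.1, fun X h1 h2 => ?_⟩
  obtain ⟨Q, hQ⟩ := h1.exists_le_sylow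
  obtain ⟨g, rfl⟩ := MulAction.exists_smul_eq G Q S
  rw [← card_map_of_injective (K := X) (f := (MulAut.conj g).toMonoidHom) (MulAut.conj g).injective]
  exact hA.2.2 _ (map_mono hQ) (H51.isEA_zero_iff.2 (H51.isMulCommutative_map h2 _))

theorem ctl {G : Type u} [Group G] [Finite G] {p : ℕ} [Fact p.Prime] (hp : 7 ≤ p) :
    ControlsTransferIn p (inducedFunctor (G := G) (thompsonSubgroup 0)) ⊤ := by
  have hW : IsCharPFunctor.{u} p (thompsonSubgroup 0) := H54.isCharPFunctor_thompson (dvd_zero p)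
  refine H54.controlsTransferIn_top_of_equiv hW (H54.topSectionEquiv G)
    (S1972.result _ hW (fun K R _ _ T hT => ?_) ⊤ ⊥)
  have h1 : ¬ thompsonSubgroupOf 0 (T : Subgroup (K ⧸ R.subgroupOf K)) ≤ pCore p _ := by
    intro h
    refine hT ?_
    change (thompsonSubgroupOf 0 (T : Subgroup (K ⧸ R.subgroupOf K))).Normal
    rw [← H51.thompsonSubgroupOf_eq_of_le h (H3.pCore_le_sylow T)]
    have := H51.thompsonSubgroup_characteristic 0 (pCore p (K ⧸ R.subgroupOf K))
    exact ConjAct.normal_of_characteristic_of_normal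
  rw [H51.thompsonSubgroupOf_le_iff] at h1
  push Not at h1
  obtain ⟨A, hA, hAT⟩ := h1
  obtain ⟨g, h1, h2, h3⟩ := H78.JSix.six (H3.pCore_le_sylow T) (maxAb T hA) hA.1 hAT
  refine ⟨g, h1, h2, fun U V hUV hU => le_trans ?_ (h3 U V hUV hU)⟩
  have := hUV.2.1
  exact H54.iterCommutator_antitone le_normalizer_of_normal (by omega)

/-- Let p ≥ 7 be a prime, S a Sylow p-subgroup of the finite group G, J(S) the subgroup generated by the abelian subgroups of S of largest order and M = N_G(J(S)). Then G/O^p(G) ≅ M/O^p(M): the largest p-factor group of G is that of M (here O^p(X) is the subgroup generated by the elements of X of order prime to p). -/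
theorem result {G : Type*} [Group G] [Finite G] {p : ℕ} [Fact p.Prime]
    (hp : 7 ≤ p) (S : Sylow p G)
    [hn : (Cfsg.pResidual p G).Normal]
    [hm : (Cfsg.pResidual p ↥(Subgroup.normalizer (Cfsg.thompsonSubgroupAOf (S : Subgroup G) : Set G))).Normal] :
    Nonempty (G ⧸ Cfsg.pResidual p G ≃*
      ↥(Subgroup.normalizer (Cfsg.thompsonSubgroupAOf (S : Subgroup G) : Set G)) ⧸
        Cfsg.pResidual p ↥(Subgroup.normalizer (Cfsg.thompsonSubgroupAOf (S : Subgroup G) : Set G))) := by
  have hW : IsCharPFunctor p (thompsonSubgroup 0) := H54.isCharPFunctor_thompson (dvd_zero p)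
  have h1 := (H54.controlsTransferIn_top_iff hW S).1 (ctl hp)
  change (S : Subgroup G) ⊓ commutator G = (S : Subgroup G) ⊓
    ⁅normalizer (thompsonSubgroupOf 0 (S : Subgroup G) : Set G),
    normalizer (thompsonSubgroupOf 0 (S : Subgroup G) : Set G)⁆ at h1
  have hS : (S : Subgroup G) ≤ normalizer (thompsonSubgroupOf 0 (S : Subgroup G) : Set G) :=
    le_normalizer.trans (H51.normalizer_le_normalizer_thompsonSubgroupOf 0 _)
  rw [← H51.thompsonSubgroupAOf_eq] at h1 hS
  set M := normalizer (thompsonSubgroupAOf (S : Subgroup G) : Set G) with hM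
  have h2 := H8.sylow_inf_pResidual_eq_of_commutator S hS
    (((inf_comm _ _).trans h1).le.trans inf_le_right)
  let f : M →* G ⧸ pResidual p G := (QuotientGroup.mk' _).comp M.subtype
  have hf : Function.Surjective f := by
    intro x
    obtain ⟨x, rfl⟩ := QuotientGroup.mk'_surjective _ x
    obtain ⟨s, hs, r, hr, rfl⟩ := H8.exists_mul_pResidual_of_not_dvd_index S.not_dvd_index x
    exact ⟨⟨s, hS hs⟩, by
      rw [map_mul, show QuotientGroup.mk' _ r = 1 from (QuotientGroup.eq_one_iff r).2 hr, mul_one]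
      rfl⟩
  have hk : f.ker = pResidual p M := by
    ext x
    rw [MonoidHom.mem_ker, ← mem_map_iff_mem M.subtype_injective, ← h2]
    exact ⟨fun h => ⟨(QuotientGroup.eq_one_iff _).1 h, x.2⟩,
      fun h => (QuotientGroup.eq_one_iff _).2 h.1⟩
  exact ⟨(QuotientGroup.quotientKerEquivOfSurjective f hf).symm.trans
    (QuotientGroup.quotientMulEquivOfEq hk)⟩

end Cfsg.Agent.S3068
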