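import Cfsg.Statements.S3070
import Cfsg.Agent.H33.JA2
import Cfsg.Agent.H54.Glaub
import Cfsg.Agent.S2007
import Cfsg.Agent.H99.Agemo
import Cfsg.Agent.H96.ThompsonJ

set_option autoImplicit false
open Cfsg

namespace Cfsg.Agent.S3070

open Subgroup

universe u

theorem maxAb {G : Type*} [Group G] [Finite G] {p : ℕ} [Fact p.Prime] (S : Sylow p G)
    {A : Subgroup G} (hA : A ∈ H51.maxEA 0 (S : Subgroup G)) : H33.JA.MaxAb p A := by
  refine ⟨S.isPGroup'.to_le hA.1, H51.isEA_zero_iff.1 hA.2.1, fun X h1 h2 => ?_⟩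
  obtain ⟨Q, hQ⟩ := h1.exists_le_sylow
  obtain ⟨g, rfl⟩ := MulAction.exists_smul_eq G Q S
  rw [← card_map_of_injective (K := X) (f := (MulAut.conj g).toMonoidHom) (MulAut.conj g).injective]
  exact hA.2.2 _ (map_mono hQ) (H51.isEA_zero_iff.2 (H51.isMulCommutative_map h2 _))

theorem npc {G : Type u} [Group G] [Finite G] {p : ℕ} [Fact p.Prime] (hp : 5 ≤ p) (S : Sylow p G)
    (hN : HasNormalPComplement p (normalizer (thompsonSubgroupOf 0 (S : Subgroup G) : Set G))) :
    HasNormalPComplement p G := by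
  refine H6.npc_of_localFunctors (ι := Unit)
    (fun _ G _ P => normalizer ((thompsonSubgroupOf 0 P : Subgroup G) : Set G)) ?_ ?_ ?_
    (fun G _ => True) (fun _ _ h _ => h) (fun _ _ h _ _ => h) ?_ G trivial S (fun _ => hN)
  · rintro _ G G' _ _ _ f hf hk P hP
    change normalizer _ = (normalizer _).map f
    rw [← H6.map_thompsonSubgroupOf (H6.injOn_of_coprime_ker hk hP),
      H6.normalizer_map_of_coprime_ker hf hk (hP.to_le (H51.thompsonSubgroupOf_le 0 P))]
  · rintro _ G _ _ H Q hQ
    change normalizer _ = (normalizer _).subgroupOf H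
    rw [← H51.map_thompsonSubgroupOf 0 Q H.subtype_injective,
      H6.normalizer_map_subtype_subgroupOf]
  · rintro _ G _ _ P hP hP1
    refine ⟨thompsonSubgroup 0 P, H51.thompsonSubgroup_characteristic 0 P, ?_, le_rfl⟩
    intro h
    apply (H54.isConjugacyFunctor_thompson (dvd_zero p) P hP).2.1 hP1
    change (thompsonSubgroup 0 P).map P.subtype = ⊥
    rw [h, Subgroup.map_bot]
  · intro G _ _ _ h _ hC hq hco
    obtain ⟨P⟩ : Nonempty (Sylow p G) := inferInstance
    have hJ : thompsonSubgroupAOf (P : Subgroup G) ≤ pCore p G := by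
      rw [H51.thompsonSubgroupAOf_eq, H51.thompsonSubgroupOf_le_iff]
      exact fun A hA => H33.JA.le_pCore hp _ G rfl (H54.abRes_of_sylow_coatom P (hco P) hq) hC A
        (maxAb P hA)
    have hn := H99.thompsonA_normal_of_le_pCore P hJ
    have h1 := h () P
    rw [← H51.thompsonSubgroupAOf_eq, normalizer_eq_top] at h1
    exact H8.HasNormalPComplement.of_equiv h1 topEquiv

/-- Let p ≥ 5 be a prime, S a Sylow p-subgroup of the finite group G and J(S) the subgroup generated by the abelian subgroups of S of largest order. Then G has a normal p-complement if and only if N_G(J(S))/C_G(J(S)) is a p-group (every element of N_G(J(S)) of order prime to p centralizes J(S)). -/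
theorem result {G : Type*} [Group G] [Finite G] {p : ℕ} [Fact p.Prime]
    (hp : 5 ≤ p) (S : Sylow p G) :
    Cfsg.HasNormalPComplement p G ↔
      ∀ g ∈ Subgroup.normalizer (Cfsg.thompsonSubgroupAOf (S : Subgroup G) : Set G), (orderOf g).Coprime p →
        g ∈ Subgroup.centralizer (Cfsg.thompsonSubgroupAOf (S : Subgroup G) : Set G) := by
  constructor
  · intro h g hg hc
    have hK := H8.HasNormalPComplement.isComplement' h S
    have hKn := H8.pResidual_normal (G := G) p
    refine mem_centralizer_iff.2 fun j hj => ?_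
    have h1 : j⁻¹ * (g * j * g⁻¹) ∈ pResidual p G ⊓ (S : Subgroup G) := by
      refine ⟨?_, H96.thompsonSubgroupAOf_le' _
        (mul_mem (inv_mem hj) ((mem_normalizer_iff.1 hg j).1 hj))⟩
      have h2 := H8.mem_pResidual_of_coprime hc
      have h3 : j⁻¹ * (g * j * g⁻¹) = j⁻¹ * g * j⁻¹⁻¹ * g⁻¹ := by group
      rw [h3]
      exact (pResidual p G).mul_mem (hKn.conj_mem g h2 _) ((pResidual p G).inv_mem h2)
    rw [hK.disjoint.eq_bot, mem_bot] at h1
    calc j * g = j * (j⁻¹ * (g * j * g⁻¹)) * g := by rw [h1]; group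
      _ = g * j := by group
  · intro h
    refine npc hp S ?_
    rw [← H51.thompsonSubgroupAOf_eq]
    exact S2007.result S _ (H96.thompsonSubgroupAOf_le' _)
      (le_normalizer.trans (H96.normalizer_le_normalizer_thompsonSubgroupAOf _))
      (H96.centralizerIn_thompsonSubgroupAOf_le _) h

end Cfsg.Agent.S3070
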