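import Cfsg.Statements.S3073
import Cfsg.Agent.S1988
import Cfsg.Agent.H54.Transport

set_option autoImplicit false
universe u
open Cfsg

namespace Cfsg.Agent.S3073

/-- For an odd prime p, every finite p-group S has a characteristic subgroup K with C_S(K) ≤ K such that, whenever S is (isomorphic to) a Sylow p-subgroup of a finite group G, G has a normal p-complement if and only if N_G(K)/C_G(K) is a p-group, i.e. every element of N_G(K) of order prime to p centralizes K (K transported into G along the isomorphism). -/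
theorem result (p : ℕ) [Fact p.Prime] (hp : p ≠ 2)
    (S : Type u) [Group S] [Finite S] (hS : IsPGroup p S) :
    ∃ K : Subgroup S, K.Characteristic ∧ Subgroup.centralizer (K : Set S) ≤ K ∧
      ∀ (G : Type u) [Group G] [Finite G] (P : Sylow p G) (e : ↥(P : Subgroup G) ≃* S),
        Cfsg.HasNormalPComplement p G ↔
          ∀ g ∈ Subgroup.normalizer (((K.comap (e : ↥(P : Subgroup G) →* S)).map (P : Subgroup G).subtype : Subgroup G) : Set G),
            (orderOf g).Coprime p →
              g ∈ Subgroup.centralizer (((K.comap (e : ↥(P : Subgroup G) →* S)).map (P : Subgroup G).subtype : Subgroup G) : Set G) := by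
  have : Group.IsNilpotent S := hS.isNilpotent
  refine ⟨kInfLower S, H54.kInfLower_characteristic, H54.centralizer_kInfLower_le, ?_⟩
  intro G _ _ P e
  have hK : (kInfLower S).comap (e : ↥(P : Subgroup G) →* S) = kInfLower ↥(P : Subgroup G) := by
    rw [← H54.map_kInfLower_equiv e]
    exact Subgroup.comap_map_eq_self_of_injective e.injective _
  rw [hK]
  constructor
  · rintro ⟨P', N, hNn, hc⟩ g hg hgp
    -- `g ∈ N`
    have hidx : N.index = Nat.card (P' : Subgroup G) := hc.symm.index_eq_card
    obtain ⟨k, hk⟩ := P'.isPGroup'.exists_card_eq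
    have hgN : g ∈ N := by
      have h1 : g ^ N.index ∈ N := Subgroup.pow_index_mem N g
      rw [hidx, hk] at h1
      have h2 : (QuotientGroup.mk g : G ⧸ N) ^ (p ^ k) = 1 := by
        rw [← QuotientGroup.mk_pow, QuotientGroup.eq_one_iff]; exact h1
      have h3 : (QuotientGroup.mk g : G ⧸ N) ^ orderOf g = 1 := by
        rw [← QuotientGroup.mk_pow, pow_orderOf_eq_one]; rfl
      have h4 := orderOf_dvd_of_pow_eq_one h2
      have h5 := orderOf_dvd_of_pow_eq_one h3
      have h6 : orderOf (QuotientGroup.mk g : G ⧸ N) = 1 :=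
        Nat.eq_one_of_dvd_coprimes (hgp.pow_right k) h5 h4
      rwa [orderOf_eq_one_iff, QuotientGroup.eq_one_iff] at h6
    -- `N ⊓ P = ⊥`
    have hcop : (Nat.card N).Coprime (Nat.card (P : Subgroup G)) := by
      have h1 : Nat.card N = (P' : Subgroup G).index := hc.index_eq_card.symm
      obtain ⟨m, hm⟩ := P.isPGroup'.exists_card_eq
      rw [h1, hm]
      exact ((Nat.Prime.coprime_iff_not_dvd Fact.out).2 P'.not_dvd_index).symm.pow_right m
    have hdisj := disjoint_iff.1 (Subgroup.disjoint_of_coprime_natCard hcop)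
    rw [Subgroup.mem_centralizer_iff]
    intro x hx
    have hxP : ∀ y ∈ (kInfLower ↥(P : Subgroup G)).map (P : Subgroup G).subtype,
        y ∈ (P : Subgroup G) := fun y hy => Subgroup.map_subtype_le _ hy
    have h1 : g * x * g⁻¹ ∈ (P : Subgroup G) :=
      hxP _ ((Subgroup.mem_normalizer_iff.1 hg x).1 hx)
    have h2 : g * x * g⁻¹ * x⁻¹ ∈ N ⊓ (P : Subgroup G) := by
      refine ⟨?_, (P : Subgroup G).mul_mem h1 ((P : Subgroup G).inv_mem (hxP x hx))⟩
      have : g * x * g⁻¹ * x⁻¹ = g * (x * g⁻¹ * x⁻¹) := by group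
      rw [this]
      exact N.mul_mem hgN (hNn.conj_mem _ (N.inv_mem hgN) x)
    rw [hdisj, Subgroup.mem_bot] at h2
    have : x * g = g * x := by
      calc x * g = (g * x * g⁻¹ * x⁻¹)⁻¹ * (g * x) := by group
        _ = g * x := by rw [h2]; simp
    exact this
  · intro h
    exact Cfsg.Agent.S1988.result hp P (Or.inr h)

end Cfsg.Agent.S3073
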