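import Cfsg.Statements.S3101
import Cfsg.Agent.H17.TwD
import Cfsg.Agent.H17.TwZ
import Cfsg.Agent.H37.TwK1
import Cfsg.Agent.H13.TwSC
import Cfsg.Agent.H32.TwAs
import Cfsg.Agent.H12.A12Aut
import Cfsg.Agent.H31.A12Hm
import Cfsg.Agent.H61.A12Phi
import Cfsg.Agent.H22.TwFrmB
import Cfsg.Agent.H60.A12LN
import Cfsg.Agent.H64.A12Sig
import Cfsg.Agent.H7.A12Bal
import Cfsg.Agent.H44.TwMx
import Cfsg.Agent.H30.A12Mp
import Cfsg.Agent.H4.A12Wce
import Cfsg.Agent.H33.TwK
import Cfsg.Agent.H92.TwEmb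
import Cfsg.Agent.H36.A12Frm
import Cfsg.Agent.H47.TwKitB
import Cfsg.Agent.H67.A12LocO
import Cfsg.Agent.H80.A12Tw
import Cfsg.Agent.H91.A12SigA
import Cfsg.Agent.H28.TwOm
import Cfsg.Agent.H26.A12A5
import Cfsg.Agent.H24.A12D
import Cfsg.Agent.H5.TwPatA
import Cfsg.Agent.H76.A12KitA
import Cfsg.Agent.H75.A12G
import Cfsg.Agent.H57.TwNo22
import Cfsg.Agent.H79.A12Sev
import Cfsg.Agent.H45.TwFin
import Cfsg.Agent.H3.TwHolt
import Cfsg.Agent.H87.OInv
import Cfsg.Agent.H39.A12Tq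
import Cfsg.Agent.H70.A12Uni
import Cfsg.Agent.H86.TwK2
import Cfsg.Agent.H72.TwCm
import Cfsg.Agent.H51.A12Perm
import Cfsg.Agent.H19.TwIso
import Cfsg.Agent.H58.A12Up
import Cfsg.Agent.H84.TwDown
import Cfsg.Agent.H69.TwV3
import Cfsg.Agent.H83.TwId

set_option autoImplicit false
open Cfsg

namespace Cfsg.Agent.S3101

/-- Let G be a non-abelian finite simple group whose Sylow 2-subgroups are isomorphic to those of the alternating group of degree 12. Then G is isomorphic to the alternating group of degree 12 or 13, to the projective symplectic group of dimension 6 over the field with 2 elements, or to the simple orthogonal group PΩ₇(q) (the commutator subgroup of the isometry group of a non-degenerate quadratic form in dimension 7, modulo its centre) over a field with q elements, q ≡ 3 or 5 mod 8. -/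
theorem result {G : Type*} [Group G] [Finite G] [IsSimpleGroup G] (hG : ¬ IsMulCommutative G) (S : Sylow 2 G)
    (hS : ∃ P : Sylow 2 ↥(alternatingGroup (Fin 12)), Nonempty (↥(S : Subgroup G) ≃* ↥(P : Subgroup ↥(alternatingGroup (Fin 12))))) :
    Nonempty (G ≃* ↥(alternatingGroup (Fin 12))) ∨ Nonempty (G ≃* ↥(alternatingGroup (Fin 13))) ∨
      (∃ (F : Type) (_ : Field F) (_ : Fintype F), Fintype.card F = 2 ∧ Nonempty (G ≃* Cfsg.PSp 3 F)) ∨
      (∃ (F : Type) (_ : Field F) (_ : Fintype F), (Fintype.card F % 8 = 3 ∨ Fintype.card F % 8 = 5) ∧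
        Nonempty (G ≃* Cfsg.POmega F (Cfsg.quadFormOdd 3 F))) := by
  open H17.Tw in
  · have b : BurnStmt := burn
    have w : WCEStmt := H4.A12.wce
    have pa : PatAStmt := H5.TwP.patA b
    have sg : SigStmt := H64.A12Sig.sig
    have tw : TwStmt := H80.A12Tw.tw (H26.A12A5.a5 H12.A12A.aut5)
    exact main_of
      ⟨syl, H33.TwK.k w H37.K1.k1 H86.TwK2.k2,
        H13.TwSC.sc w b H44.TwMx.mx H30.A12.mp H30.A12.mz, H61.A12Phi.phi, b, pat, s7,
        H24.A12D.dich0, pa, H31.A12Hm.hm' b locM, H84.TD.down, locM, H58.A12Up.up, H58.A12Up.up,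
        H7.A12Bal.bal sg, H79.A12Sev.sev, H69.TwV3.v3 b pa H87.OInv.oInv locM, H91.A12SigA.sigA sg b pa locM,
        H3.TwHolt.holt b⟩
      ⟨H84.TD.det, H60.A12LN.ln, H83.TwI.id' H39.A12Tq.tqStmt H57.TwNo.no22, H28.TwOm.om H70.A12Uni.uni,
        H36.A12F.frmA H12.A12A.aut6, H22.TwF.frmB H12.A12A.aut6, H92.TwEmb.emb,
        H76.A12KitA.kitA, H75.A12G.kitG, H47.TwK.kitB H76.A12KitA.kitA, H67.A12LocO.locO,
        H51.A12P.perm, tw, H51.A12P.adj, H72.TwCm.cm tw H51.A12P.adj, H32.TwAs.as7,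
        H45.TwFin.fin, H19.TwIso.iso⟩ S hS

end Cfsg.Agent.S3101
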