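import Cfsg.Statements.S3121
import Cfsg.Agent.S1911
import Cfsg.Agent.S0205
import Cfsg.Agent.H52.FStar
import Cfsg.Agent.H82.SPE
import Cfsg.Agent.H10.StronglyEmbedded

set_option autoImplicit false
open Cfsg

namespace Cfsg.Agent.S3121

open Subgroup

/-- Let G be a finite group whose generalized Fitting subgroup F*(G) is a non-abelian simple group, let H be a tightly embedded subgroup of G and N its normalizer. If H^g ∩ N has odd order for every element g of G outside N, then either H is normal in G or F*(G) has a strongly embedded subgroup. -/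
theorem result {G : Type*} [Group G] [Finite G]
    (hF : IsSimpleGroup ↥(Cfsg.generalizedFittingSubgroup G)) (hF' : ¬ IsMulCommutative ↥(Cfsg.generalizedFittingSubgroup G))
    (H : Subgroup G) (hH : Cfsg.IsTightlyEmbedded H)
    (hodd : ∀ g : G, g ∉ Subgroup.normalizer (H : Set G) →
      Odd (Nat.card ↥(H.map (MulAut.conj g).toMonoidHom ⊓ Subgroup.normalizer (H : Set G)))) :
    H.Normal ∨ ∃ M : Subgroup ↥(Cfsg.generalizedFittingSubgroup G), Cfsg.IsStronglyEmbedded M := by
  refine (S1911.result H hH hodd).imp_right fun hM => ?_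
  set K := normalClosure (H : Set G) with hK
  set L := generalizedFittingSubgroup G with hL
  have hLn : L.Normal := H52.fstar_normal
  have hLK : L ≤ K := by
    have hK1 : K ≠ ⊥ := fun h => by
      have : H = ⊥ := le_bot_iff.mp (h ▸ le_normalClosure)
      have h2 := hH.1
      rw [this, card_bot] at h2
      exact absurd h2 (by decide)
    have h1 := H52.fstar_inf_ne_bot_of_subnormal (S := K) (Normal.isSubnormal inferInstance) hK1
    refine subgroupOf_eq_top.mp ((Normal.eq_bot_or_eq_top inferInstance).resolve_left fun h => h1 ?_)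
    rw [subgroupOf_eq_bot] at h
    exact h.symm.eq_bot
  have heven : 2 ∣ Nat.card L := by
    by_contra h
    have := S0205.result (G := L) (Nat.odd_iff.mpr (Nat.two_dvd_ne_zero.mp h))
    exact hF' ⟨⟨IsSimpleGroup.comm_iff_isSolvable.mpr this⟩⟩
  obtain ⟨hM1, hM2, hM3⟩ := H82.isStronglyPEmbedded_iff.mp (H82.isStronglyEmbedded_iff.mp hM)
  have hcL : Nat.card (L.subgroupOf K) = Nat.card L := Nat.card_congr (subgroupOfEquivOfLe hLK).toEquiv
  have h1 := hM3.exists_mul_of_normal hM2 (L.subgroupOf K) (hcL ▸ heven)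
  refine ⟨_, H82.isStronglyEmbedded_iff.mpr (H82.isStronglyPEmbedded_iff.mpr ⟨fun h => hM1 ?_, ?_,
    hM3.comap (inclusion hLK) (inclusion_injective hLK)⟩)⟩
  · rw [← h1]
    refine (sup_eq_left.mpr fun x hx => ?_).symm
    exact h.ge (mem_top (⟨x, hx⟩ : L))
  · obtain ⟨P, hP⟩ := H10.SE.exists_sylow_le hM
    obtain ⟨t, ht⟩ := exists_prime_orderOf_dvd_card' (G := L) 2 heven
    obtain ⟨Q, hQ⟩ := (H82.isPGroup_zpowers_of_orderOf (p := 2) (x := inclusion hLK t) (k := 1)
      (by rw [orderOf_injective _ (inclusion_injective hLK), ht, pow_one])).exists_le_sylow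
    obtain ⟨g, rfl⟩ := MulAction.exists_smul_eq K Q P
    have h2 : g * inclusion hLK t * g⁻¹ ∈ ((g • Q : Sylow 2 K) : Subgroup K) :=
      ⟨_, hQ (mem_zpowers _), rfl⟩
    refine (H82.dvd_card_iff_exists_mem _).mpr ⟨⟨g * t * (g : G)⁻¹, hLn.conj_mem _ t.2 g⟩, hP h2, ?_⟩
    rw [← Subgroup.orderOf_coe, H82.orderOf_conj', Subgroup.orderOf_coe, ht]

end Cfsg.Agent.S3121
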