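import Cfsg.Statements.S3156
import Cfsg.Agent.H86.U3Aut

set_option autoImplicit false
open Cfsg

namespace Cfsg.Agent.S3156

/-- If a finite group T is isomorphic to a Sylow 2-subgroup of the projective special unitary group of dimension 3 with parameter 4 (realised over the field with 16 elements), then no subgroup of the automorphism group of T is isomorphic to the symmetric group of degree 3. -/
theorem result {T : Type*} [Group T] [Finite T] (hT : (∃ (F : Type) (_ : Field F) (_ : Fintype F), Fintype.card F = 16 ∧ ∃ S : Sylow 2 (Cfsg.PSU 3 F 4), Nonempty (T ≃* ↥(S : Subgroup (Cfsg.PSU 3 F 4))))) (H : Subgroup (MulAut T)) : ¬ Nonempty (↥H ≃* Equiv.Perm (Fin 3)) := by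
  obtain ⟨K, _, _, hK, P, ⟨e⟩⟩ := hT
  obtain ⟨E, _, _, _, Q, z, π, hE, h, -⟩ :=
    H31.U3B.model (PSU 3 K 4) K 2 le_rfl hK ⟨MulEquiv.refl _⟩ P
  obtain ⟨z, π, h⟩ := h.transport (Subgroup.topEquiv.trans e)
  rintro ⟨f⟩
  obtain ⟨x, y, hx, hx3, hy, hxy⟩ : ∃ x y : MulAut T, x ≠ 1 ∧ x * x * x = 1 ∧ y * y = 1 ∧
      x * y * x = y := by
    let g := H.subtype.comp f.symm.toMonoidHom
    have hg : Function.Injective g := H.subtype_injective.comp f.symm.injective
    refine ⟨g (finRotate 3), g (Equiv.swap 0 1), mt (map_eq_one_iff g hg).1 (by decide), ?_, ?_, ?_⟩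
    · rw [← map_mul, ← map_mul, map_eq_one_iff g hg]; decide
    · rw [← map_mul, map_eq_one_iff g hg]; decide
    · rw [← map_mul, ← map_mul]; congr 1; decide
  obtain ⟨c, σ, h0, hc⟩ := h.aut_semi x
  obtain ⟨d, τ, h0', hd⟩ := h.aut_semi y
  have h1 : ∀ a, c * σ (c * σ (c * σ a)) = a := fun a => by
    obtain ⟨s, -, rfl⟩ := h.surj a
    rw [← hc, ← hc, ← hc, ← MulAut.mul_apply, ← MulAut.mul_apply, hx3, MulAut.one_apply]
  have h2 : ∀ a, d * τ (d * τ a) = a := fun a => by
    obtain ⟨s, -, rfl⟩ := h.surj a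
    rw [← hd, ← hd, ← MulAut.mul_apply, hy, MulAut.one_apply]
  have h3 : ∀ a, c * σ (d * τ (c * σ a)) = d * τ a := fun a => by
    obtain ⟨s, -, rfl⟩ := h.surj a
    rw [← hc, ← hd, ← hc, ← MulAut.mul_apply, ← MulAut.mul_apply, hxy, hd]
  have h4 : ∀ a, σ (σ (σ a)) = a := fun a => by
    have e1 := h1 1
    have e2 := h1 a
    simp only [map_mul, map_one, mul_one, ← mul_assoc] at e1 e2
    rwa [e1, one_mul] at e2
  have h5 : ∀ a, τ (τ a) = a := fun a => by
    have e1 := h2 1
    have e2 := h2 a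
    simp only [map_mul, map_one, mul_one, ← mul_assoc] at e1 e2
    rwa [e1, one_mul] at e2
  have h6 : ∀ a, σ a = a := fun a => by
    have e1 : Nat.card (RingAut K) = 4 :=
      H61.natCard_ringEquiv (f := 4) Nat.prime_two (by rw [Nat.card_eq_fintype_card, hK]; norm_num)
    have e2 := pow_card_eq_one' (G := RingAut K) (x := σ)
    rw [e1] at e2
    exact (h4 (σ a)).symm.trans (DFunLike.congr_fun e2 a)
  simp only [h6] at h1 h3 hc
  have h7 : c ^ 3 = 1 := by linear_combination h1 1
  have h8 : τ c = c := by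
    rcases Q.aut_sq h5 with e | e
    · exact e c
    · rw [e, ← Q.pow_card, hE]; linear_combination c * h7
  have h9 := h3 1
  rw [mul_one, h8, map_one] at h9
  have h10 : c = 1 := by
    by_contra h11
    exact Q.sq_ne_one h11 (mul_left_cancel₀ h0' (by linear_combination h9))
  have h11 := h.aut_triv_sq (α := x) fun s => by rw [hc, h10, one_mul]
  rw [h11, one_mul] at hx3
  exact hx hx3

end Cfsg.Agent.S3156
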