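import Cfsg.Statements.S3162
import Cfsg.Agent.H86.U3Aut

set_option autoImplicit false
open Cfsg

namespace Cfsg.Agent.S3162

/-- Let S be a Sylow 2-subgroup of the special unitary group of dimension 3 with parameter q = 2^n (n ≥ 2; realised over the field with q² elements). Then the largest normal 2-subgroup of the automorphism group of S is elementary abelian of order 2^(2n²), and the automorphism group has order 2^(2n²) · 2n(q² − 1). -/
theorem result {S : Type*} [Group S] [Finite S] (n : ℕ) (hn : 2 ≤ n) {F : Type*} [Field F] [Fintype F] (hF : Fintype.card F = 4 ^ n)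
    (P : Sylow 2 ↥(Cfsg.SU 3 F (2 ^ n))) (hS : Nonempty (S ≃* ↥(P : Subgroup ↥(Cfsg.SU 3 F (2 ^ n))))) :
    Cfsg.IsElementaryAbelian 2 (Cfsg.pCore 2 (MulAut S)) ∧ Nat.card ↥(Cfsg.pCore 2 (MulAut S)) = 2 ^ (2 * n ^ 2) ∧
      Nat.card (MulAut S) = 2 ^ (2 * n ^ 2) * (2 * n * ((2 ^ n) ^ 2 - 1)) := by
  obtain ⟨e⟩ := hS
  obtain ⟨E, _, _, _, Q, z, π, hE, h⟩ := H86.U3.su_spq hn hF P (Subgroup.topEquiv.trans e)
  have := Q.charF
  have := Q.charK
  have hK : Nat.card F = 2 ^ (2 * n) := by rw [Nat.card_eq_fintype_card, hF, pow_mul]; rfl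
  have h1 : Nat.card (H86.U3.Spq.Kr π) = 2 ^ (2 * n ^ 2) := by
    rw [h.card_Kr, H86.U3.card_addHom hE hK, mul_assoc, pow_two]
  rw [h.pCore_aut]
  refine ⟨⟨⟨⟨fun a b => Subtype.ext ?_⟩⟩, fun a ha => ?_⟩, h1, ?_⟩
  · exact H86.U3.comm_of_sq (B := H86.U3.Spq.Kr π) (fun x hx => h.aut_triv_sq hx) a.2 b.2
  · rw [pow_two, h.aut_triv_sq ha]
  · rw [← (H86.U3.Spq.Kr π).card_mul_index, h1, h.index_Kr, Nat.card_prod, Nat.card_units,
      H61.natCard_ringEquiv Nat.prime_two hK, hK, mul_comm (_ - 1), ← pow_mul, mul_comm n]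

end Cfsg.Agent.S3162
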