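import Cfsg.Statements.S3171
import Cfsg.Agent.H24.GhP24

set_option autoImplicit false
open Cfsg

namespace Cfsg.Agent.S3171

/-- Let P be a Sylow 2-subgroup of the Mathieu group of degree 24 and S the quotient of P by its centre. Then the centre of every maximal subgroup of S has order at most 8; S has an elementary abelian subgroup of order 64; and S has only one abelian subgroup of order 64. -/
theorem result (P : Sylow 2 ↥Cfsg.M24) :
    (∀ M : Subgroup (↥(P : Subgroup ↥Cfsg.M24) ⧸ Subgroup.center ↥(P : Subgroup ↥Cfsg.M24)), IsCoatom M →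
        Nat.card ↥(Subgroup.center ↥M) ≤ 8) ∧
      (∃ A : Subgroup (↥(P : Subgroup ↥Cfsg.M24) ⧸ Subgroup.center ↥(P : Subgroup ↥Cfsg.M24)),
        Cfsg.IsElementaryAbelian 2 A ∧ Nat.card ↥A = 64) ∧
      ∀ A B : Subgroup (↥(P : Subgroup ↥Cfsg.M24) ⧸ Subgroup.center ↥(P : Subgroup ↥Cfsg.M24)),
        IsMulCommutative ↥A → Nat.card ↥A = 64 → IsMulCommutative ↥B → Nat.card ↥B = 64 → A = B := by
  obtain ⟨A, α, c, h⟩ := H24.Gh.crd_quot P
  refine ⟨fun M hM => ?_, ⟨A, h.elem, h.cardA⟩, fun B B' h1 h2 h3 h4 => ?_⟩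
  · have := Fact.mk Nat.prime_two
    have hc := h.card
    rw [Subgroup.card_top] at hc
    have hp : IsPGroup 2 (↥(P : Subgroup ↥Cfsg.M24) ⧸ Subgroup.center ↥(P : Subgroup ↥Cfsg.M24)) :=
      IsPGroup.of_card (n := 9) (by rw [hc]; norm_num)
    have h256 : 256 ≤ Nat.card M := by
      by_contra hlt
      push Not at hlt
      obtain ⟨n, hn⟩ := (hp.to_subgroup M).exists_card_eq
      have hn8 : n ≤ 8 := by
        by_contra h9
        have := Nat.pow_le_pow_right (n := 2) (by norm_num) (show 9 ≤ n by omega)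
        omega
      obtain ⟨K, hK, hMK⟩ := Sylow.exists_subgroup_card_pow_prime_le 2 (m := 8)
        (by rw [hc]; norm_num) M hn hn8
      rcases eq_or_lt_of_le hMK with e | e
      · rw [e, hK] at hlt; omega
      · rw [hM.2 K e, Subgroup.card_top, hc] at hK; omega
    have h1 := h.card_center_le le_top h256
    rwa [← H67.map_center_subtype, H67.card_map_subtype] at h1
  · rw [h.uniq le_top h1 h2, h.uniq le_top h3 h4]

end Cfsg.Agent.S3171
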