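import Cfsg.Statements.S3195
import Cfsg.Agent.S3011

set_option autoImplicit false
open Cfsg

namespace Cfsg.Agent.S3195

/-- Let A be a Klein four-subgroup of a finite group G. If every G-conjugate of every involution of A commutes with some involution of A (its centralizer meets A nontrivially), then A meets the largest normal 2-subgroup O₂(G) nontrivially. -/
theorem result {G : Type*} [Group G] [Finite G]
    (A : Subgroup G) (hA : IsKleinFour ↥A)
    (h : ∀ a ∈ A, a ≠ 1 → ∀ g : G, A ⊓ Subgroup.centralizer ({g * a * g⁻¹} : Set G) ≠ ⊥) :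
    A ⊓ Cfsg.pCore 2 G ≠ ⊥ := by
  have hcard : Nat.card A = 4 := hA.card_four
  have hsq : ∀ a ∈ A, a ^ 2 = 1 := fun a ha => by
    have := IsKleinFour.mul_self (⟨a, ha⟩ : A)
    rw [pow_two]; exact congrArg Subtype.val this
  have hcomm : IsMulCommutative A := ⟨⟨fun a b => by
    have h1 := IsKleinFour.mul_self (a * b)
    have h2 := IsKleinFour.mul_self a
    have h3 := IsKleinFour.mul_self b
    calc a * b = (a * a) * (b * a) * (b * b) * (b * a)⁻¹ * (a * b) := by
          rw [h2, h3]; group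
      _ = b * a := by
          rw [h2, h3, one_mul, mul_one, mul_inv_cancel, one_mul,
            ← inv_eq_of_mul_eq_one_right h1, mul_inv_rev, inv_eq_of_mul_eq_one_right h2,
            inv_eq_of_mul_eq_one_right h3]⟩⟩
  have hA1 : A ≠ ⊥ := by
    intro e
    rw [e, Subgroup.card_bot] at hcard
    omega
  refine S3011.result A ⟨hcomm, hsq⟩ hA1 ?_ hcard.le
  intro x v hv hx hinv
  by_cases hv1 : v = 1
  · obtain ⟨w, hw, hw1⟩ := (A.bot_or_exists_ne_one).resolve_left hA1
    have : x = 1 := S3011.eq_one_of_inv hx (by simpa [hv1] using hinv)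
    exact ⟨w, hw, hw1, by simp [this]⟩
  · obtain ⟨w, hw, hw1⟩ := (Subgroup.bot_or_exists_ne_one _).resolve_left (h v hv hv1 x)
    refine ⟨w, hw.1, hw1, S3011.comm_of_sq hx ?_⟩
    have h1 : Commute w (x * v * x⁻¹) := Subgroup.mem_centralizer_singleton_iff.mp hw.2
    have h2 : Commute w v := congrArg Subtype.val (hcomm.is_comm.comm (⟨w, hw.1⟩ : A) ⟨v, hv⟩)
    have e : x ^ 2 = x * v * x⁻¹ * v⁻¹ := by
      calc x ^ 2 = x * (x⁻¹)⁻¹ := by rw [pow_two, inv_inv]
        _ = x * (v * x * v⁻¹)⁻¹ := by rw [hinv]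
        _ = x * v * x⁻¹ * v⁻¹ := by group
    rw [e]
    exact h1.mul_right h2.inv_right

end Cfsg.Agent.S3195
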