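import Cfsg.Statements.S3221
import Cfsg.Agent.H89.Sp43

set_option autoImplicit false
open Cfsg

namespace Cfsg.Agent.S3221

/-- Let F be the field with 3 elements and t₀ an involution of PSp₄(3) = PSp₄(F) lying in the centre of a Sylow 2-subgroup. If G is a finite group of even order that has no subgroup of index 2 and contains an involution t whose centralizer C_G(t) is isomorphic to C_{PSp₄(3)}(t₀), then G ≅ PSp₄(3). -/
theorem result {G : Type*} [Group G] [Finite G] (hev : Even (Nat.card G))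
    (hG : ∀ H : Subgroup G, H.index ≠ 2) {F : Type*} [Field F] [Fintype F] (hF : Fintype.card F = 3)
    (U : Sylow 2 (Cfsg.PSp 2 F)) (t₀ : Cfsg.PSp 2 F) (ht₀ : orderOf t₀ = 2) (ht₀U : t₀ ∈ (U : Subgroup (Cfsg.PSp 2 F)))
    (ht₀c : ∀ u ∈ (U : Subgroup (Cfsg.PSp 2 F)), u * t₀ = t₀ * u) (t : G) (ht : orderOf t = 2)
    (e : ↥(Subgroup.centralizer ({t} : Set G)) ≃* ↥(Subgroup.centralizer ({t₀} : Set (Cfsg.PSp 2 F)))) :
    Nonempty (G ≃* Cfsg.PSp 2 F) := by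
  obtain ⟨ι0, h0⟩ := H89.Sp43.exists_model
  let φ := H28.pspEquiv (H28.equivZMod 3 hF) 2
  have h1 : H89.Rec.Emb (φ.symm.toMonoidHom.comp ι0) H89.HP.z :=
    ⟨φ.symm.injective.comp h0.inj, fun g hg => by
      obtain ⟨y, hy⟩ := h0.cent (φ g) (by simpa using hg.map φ)
      exact ⟨y, by simp [hy]⟩, h0.zc, h0.zz, h0.z1⟩
  obtain ⟨g, hg⟩ := h1.conj_of_central (h1.syl H89.HP.sylS H89.HP.zS H89.HP.centS)
    H89.HP.centS U ht₀ ht₀U ht₀c
  obtain ⟨e1⟩ := h1.equiv_of_conj hg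
  obtain ⟨ι, h, -⟩ := H89.Rec.Emb.of_equiv ht (e1.trans e.symm) H89.HP.centM
  obtain ⟨e2⟩ := H89.Sp43.main h hG
  exact ⟨e2.trans φ.symm⟩

end Cfsg.Agent.S3221
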