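import Cfsg.Statements.S3230
import Cfsg.Agent.H84.U6Main

set_option autoImplicit false
open Cfsg

namespace Cfsg.Agent.S3230

/-- Let G be a finite group with an involution z, H = C_G(z), such that J = O₂(H) is extraspecial of order 2⁹ with C_H(J) ≤ J and H/J ≅ PSp₄(3). Then G ≅ U₆(2) or G = H·O(G). -/
theorem result {G : Type*} [Group G] [Finite G] (z : G) (hz : orderOf z = 2)
    {F : Type*} [Field F] [Fintype F] (hF : Fintype.card F = 3) {K : Type*} [Field K] [Fintype K] (hK : Fintype.card K = 4)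
    (hJ : Cfsg.IsExtraspecial 2 ↥(Cfsg.pCore 2 ↥(Subgroup.centralizer ({z} : Set G)))) (hJc : Nat.card ↥(Cfsg.pCore 2 ↥(Subgroup.centralizer ({z} : Set G))) = 2 ^ 9)
    (hCJ : Subgroup.centralizer ((Cfsg.pCore 2 ↥(Subgroup.centralizer ({z} : Set G))) : Set ↥(Subgroup.centralizer ({z} : Set G))) ≤ Cfsg.pCore 2 ↥(Subgroup.centralizer ({z} : Set G))) [hJn : (Cfsg.pCore 2 ↥(Subgroup.centralizer ({z} : Set G))).Normal]
    (e : (↥(Subgroup.centralizer ({z} : Set G)) ⧸ Cfsg.pCore 2 ↥(Subgroup.centralizer ({z} : Set G))) ≃* Cfsg.PSp 2 F) :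
    Nonempty (G ≃* Cfsg.PSU 6 K 2) ∨ Subgroup.centralizer ({z} : Set G) ⊔ Cfsg.oddCore G = ⊤ := by
  obtain ⟨e1⟩ := H84.U6.psp_equiv hF
  obtain ⟨r, h, hr⟩ := H84.U6.exists_hyp hz hJ hJc hCJ
    ((H84.U6.SUG.subtype.comp (e.trans e1).toMonoidHom).comp (QuotientGroup.mk' _))
    (by
      rw [← MonoidHom.comap_ker, (MonoidHom.ker_eq_bot_iff (H84.U6.SUG.subtype.comp _)).2
        ((Subgroup.subtype_injective _).comp (e.trans e1).injective), MonoidHom.comap_bot,
        QuotientGroup.ker_mk'])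
    fun x hx => by
      obtain ⟨y, hy⟩ := ((e.trans e1).surjective.comp (QuotientGroup.mk'_surjective _)) ⟨x, hx⟩
      exact ⟨y, congrArg Subtype.val hy⟩
  rcases h.main with h1 | ⟨⟨e2⟩, -, h2, h3⟩
  · exact Or.inr (H84.U6.sup_of_empty hz h1)
  · rw [sup_eq_left.2 fun a ha => h3 a (Subgroup.mem_centralizer_singleton_iff.1 ha)
      ((congrArg _ (hr ⟨a, ha⟩)).trans ((e.trans e1) _).2)] at h2
    exact Or.inl ⟨((Subgroup.topEquiv.symm.trans (MulEquiv.subgroupCongr h2.symm)).trans e2).trans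
      (H84.U6.psu6Equiv hK)⟩

end Cfsg.Agent.S3230
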