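import Cfsg.Statements.S3260
import Cfsg.Agent.H54.FlH
import Cfsg.Agent.S0205

set_option autoImplicit false
open Cfsg

namespace Cfsg.Agent.S3260

/-- Let p ≥ 5 be a prime, G a finite p-constrained group with Sylow p-subgroup S, and A a group of automorphisms of G of order coprime to |G| whose fixed-point subgroup has no section isomorphic to PSL₂(p). Then G = O_{p'}(G) · N_G(Z(J(S))), where J(S) is the subgroup generated by the abelian subgroups of S of largest order. -/
theorem result {G : Type*} [Group G] [Finite G] (p : ℕ) [hp : Fact p.Prime] (hp5 : 5 ≤ p)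
    (hG : Cfsg.IsPConstrained p G) (S : Sylow p G) (A : Subgroup (MulAut G)) (hA : (Nat.card ↥A).Coprime (Nat.card G))
    (C : Subgroup G) (hC : ∀ g : G, g ∈ C ↔ ∀ a ∈ A, a g = g)
    {F : Type*} [Field F] [Fintype F] (hF : Fintype.card F = p)
    (hfix : ¬ Cfsg.Involves (Matrix.ProjectiveSpecialLinearGroup (Fin 2) F) ↥C) :
    Cfsg.pPrimeCore p G ⊔ Subgroup.normalizer (Cfsg.centerThompsonAOf (S : Subgroup G) : Set G) = ⊤ := by
  have e : F ≃+* ZMod p := (ZMod.ringEquivOfPrime F hp.out hF).symm
  let e' : Matrix.SpecialLinearGroup (Fin 2) F ≃* Matrix.SpecialLinearGroup (Fin 2) (ZMod p) :=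
    MonoidHom.toMulEquiv (Matrix.SpecialLinearGroup.map e.toRingHom)
      (Matrix.SpecialLinearGroup.map e.symm.toRingHom)
      (MonoidHom.ext fun g => Matrix.SpecialLinearGroup.ext _ _ fun i j => by simp)
      (MonoidHom.ext fun g => Matrix.SpecialLinearGroup.ext _ _ fun i j => by simp)
  have hCe : C = H4.Ext.fix A.subtype := Subgroup.ext fun g =>
    (hC g).trans ⟨fun h a => h a a.2, fun h a ha => h ⟨a, ha⟩⟩
  subst hCe
  rw [← H51.sInf_maxEA_zero]
  refine H54.Fl.zj_factorization_coprime hp5 hG S A.subtype hA ?_ e' hfix 0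
  rcases Nat.even_or_odd (Nat.card G) with h | h
  · exact Or.inl (S0205.result (Nat.coprime_two_right.1 (hA.coprime_dvd_right h.two_dvd)))
  · exact Or.inr (S0205.result h)

end Cfsg.Agent.S3260
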