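import Cfsg.Statements.S3268
import Cfsg.Agent.H68.O8Main

set_option autoImplicit false
open Cfsg

namespace Cfsg.Agent.S3268

/-- A standard form result for Ω⁺(8,2), conditional on two smaller standard form cases in proper sections and on the B-property of 2-locals. Let G be a finite group with no nontrivial normal subgroup of odd order having a standard subgroup L isomorphic to Ω⁺(8,2) whose centralizer has cyclic Sylow 2-subgroups. Assume, first, that in every proper section X with no nontrivial normal subgroup of odd order, a standard subgroup isomorphic to A₈ with centralizer of cyclic Sylow 2-type forces E(X) ≅ A₈, A₈ × A₈, A₁₀, SL(4,4) or the Higman–Sims group; second, that in every such proper section, a standard subgroup isomorphic to SU(4,2) with centralizer of cyclic Sylow 2-type forces E(X) ≅ SU(4,2), SU(4,2) × SU(4,2), SL(4,4), PSL(4,3), PSU(4,3), SL(5,3), SU(5,3) or PSp(4,9);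 third, that for every 2-subgroup X of G, with N = N_G(X), the layer of N/O(N) is the image of the layer of N. Then E(G) is isomorphic to Ω⁺(8,2), Ω⁺(8,2) × Ω⁺(8,2), Ω⁺(8,4), or the Fischer group Fi₂₂. -/
theorem result {G : Type*} [Group G] [Finite G] (hO : Cfsg.oddCore G = ⊥)
    (K₂ : Type) [Field K₂] [Fintype K₂] (hK₂ : Fintype.card K₂ = 2)
    (L : Subgroup G) (hL : Cfsg.IsStandardSubgroup L) (eL : ↥L ≃* Cfsg.POmega K₂ (Cfsg.quadFormPlus 4 K₂))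
    (hC : ∀ R : Sylow 2 ↥(Subgroup.centralizer (L : Set G)), IsCyclic ↥(R : Subgroup ↥(Subgroup.centralizer (L : Set G))))
    (hA : ∀ (H : Subgroup G) (N : Subgroup ↥H) [N.Normal], (H ≠ ⊤ ∨ N ≠ ⊥) →
        (Cfsg.oddCore (↥H ⧸ N) = ⊥ → ∀ L : Subgroup (↥H ⧸ N), Cfsg.IsStandardSubgroup L →
          Nonempty (↥L ≃* ↥(alternatingGroup (Fin 8))) →
          (∀ R : Sylow 2 ↥(Subgroup.centralizer (L : Set (↥H ⧸ N))), IsCyclic ↥(R : Subgroup ↥(Subgroup.centralizer (L : Set (↥H ⧸ N))))) →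
          Nonempty (↥(Cfsg.layer (↥H ⧸ N)) ≃* ↥(alternatingGroup (Fin 8))) ∨
            Nonempty (↥(Cfsg.layer (↥H ⧸ N)) ≃* ↥(alternatingGroup (Fin 8)) × ↥(alternatingGroup (Fin 8))) ∨
            Nonempty (↥(Cfsg.layer (↥H ⧸ N)) ≃* ↥(alternatingGroup (Fin 10))) ∨
            (∃ (F : Type) (_ : Field F) (_ : Fintype F), Fintype.card F = 4 ∧
              Nonempty (↥(Cfsg.layer (↥H ⧸ N)) ≃* Matrix.SpecialLinearGroup (Fin 4) F)) ∨
            Cfsg.Spor.IsoHS ↥(Cfsg.layer (↥H ⧸ N))))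
    (hB : ∀ (H : Subgroup G) (N : Subgroup ↥H) [N.Normal], (H ≠ ⊤ ∨ N ≠ ⊥) →
        (Cfsg.oddCore (↥H ⧸ N) = ⊥ → ∀ (L : Subgroup (↥H ⧸ N)) (K : Type) (_ : Field K) (_ : Fintype K), Fintype.card K = 4 →
          Cfsg.IsStandardSubgroup L → Nonempty (↥L ≃* ↥(Cfsg.SU 4 K 2)) →
          (∀ R : Sylow 2 ↥(Subgroup.centralizer (L : Set (↥H ⧸ N))), IsCyclic ↥(R : Subgroup ↥(Subgroup.centralizer (L : Set (↥H ⧸ N))))) →
          Nonempty (↥(Cfsg.layer (↥H ⧸ N)) ≃* ↥(Cfsg.SU 4 K 2)) ∨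
            Nonempty (↥(Cfsg.layer (↥H ⧸ N)) ≃* ↥(Cfsg.SU 4 K 2) × ↥(Cfsg.SU 4 K 2)) ∨
            Nonempty (↥(Cfsg.layer (↥H ⧸ N)) ≃* Matrix.SpecialLinearGroup (Fin 4) K) ∨
            Nonempty (↥(Cfsg.layer (↥H ⧸ N)) ≃* Matrix.ProjectiveSpecialLinearGroup (Fin 4) (ZMod 3)) ∨
            (∃ (K' : Type) (_ : Field K') (_ : Fintype K'), Fintype.card K' = 9 ∧
              (Nonempty (↥(Cfsg.layer (↥H ⧸ N)) ≃* Cfsg.PSU 4 K' 3) ∨ Nonempty (↥(Cfsg.layer (↥H ⧸ N)) ≃* ↥(Cfsg.SU 5 K' 3)) ∨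
                Nonempty (↥(Cfsg.layer (↥H ⧸ N)) ≃* Cfsg.PSp 2 K'))) ∨
            Nonempty (↥(Cfsg.layer (↥H ⧸ N)) ≃* Matrix.SpecialLinearGroup (Fin 5) (ZMod 3))))
    (hBprop : ∀ X : Subgroup G, IsPGroup 2 ↥X →
        Cfsg.layer (↥(Subgroup.normalizer (X : Set G)) ⧸ Cfsg.oddCore ↥(Subgroup.normalizer (X : Set G))) =
          (Cfsg.layer ↥(Subgroup.normalizer (X : Set G))).map (QuotientGroup.mk' (Cfsg.oddCore ↥(Subgroup.normalizer (X : Set G))))) :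
    Nonempty (↥(Cfsg.layer G) ≃* Cfsg.POmega K₂ (Cfsg.quadFormPlus 4 K₂)) ∨
      Nonempty (↥(Cfsg.layer G) ≃* Cfsg.POmega K₂ (Cfsg.quadFormPlus 4 K₂) × Cfsg.POmega K₂ (Cfsg.quadFormPlus 4 K₂)) ∨
      (∃ (K : Type) (_ : Field K) (_ : Fintype K), Fintype.card K = 4 ∧
        Nonempty (↥(Cfsg.layer G) ≃* Cfsg.POmega K (Cfsg.quadFormPlus 4 K))) ∨
      Cfsg.Spor.IsoFi22 ↥(Cfsg.layer G) :=
  H68.O8.main H68.O8.pieces hK₂ hO hL eL hC

end Cfsg.Agent.S3268
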