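import Cfsg.Statements.S3313
import Cfsg.Agent.H70.HJ6
import Cfsg.Agent.H52.FStar

set_option autoImplicit false
open Cfsg

namespace Cfsg.Agent.S3313

/-- The order of a simple group with the involution pattern of the Hall–Janko group. Let G be a non-abelian finite simple group with exactly two conjugacy classes of involutions, represented by z and t, such that: F*(C_G(z)) is an extraspecial 2-group; Q = O₂(C_G(z)) has order 32 and C_G(z) is the semidirect product of Q by a subgroup isomorphic to A₅; every involution of Q is conjugate to z and every other involution of C_G(z) is conjugate to t; C_G(t) is an internal direct product V × B with V a four-group containing t and B ≅ A₅; every involution of B is conjugate to z and every other involution of C_G(t) is conjugate to t. Then |G| = 604800. -/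
theorem result {G : Type*} [Group G] [Finite G]
    [IsSimpleGroup G] (hna : ¬ IsMulCommutative G) (z t : G) (hz : orderOf z = 2) (ht : orderOf t = 2)
    (hzt : ¬ IsConj z t) (hcl : ∀ x : G, orderOf x = 2 → IsConj x z ∨ IsConj x t)
    (hex : Cfsg.IsExtraspecial 2 ↥(Cfsg.generalizedFittingSubgroup ↥(Subgroup.centralizer ({z} : Set G))))
    (hQ : Nat.card ↥(Cfsg.pCore 2 ↥(Subgroup.centralizer ({z} : Set G))) = 32)
    (K : Subgroup G) (hK : Nonempty (↥K ≃* alternatingGroup (Fin 5)))
    (hKC : K ⊔ (Cfsg.pCore 2 ↥(Subgroup.centralizer ({z} : Set G))).map (Subgroup.centralizer ({z} : Set G)).subtype = Subgroup.centralizer ({z} : Set G))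
    (hKQ : K ⊓ (Cfsg.pCore 2 ↥(Subgroup.centralizer ({z} : Set G))).map (Subgroup.centralizer ({z} : Set G)).subtype = ⊥)
    (hQz : ∀ x ∈ (Cfsg.pCore 2 ↥(Subgroup.centralizer ({z} : Set G))).map (Subgroup.centralizer ({z} : Set G)).subtype, orderOf x = 2 → IsConj x z)
    (hCz : ∀ x ∈ Subgroup.centralizer ({z} : Set G), orderOf x = 2 →
      x ∉ (Cfsg.pCore 2 ↥(Subgroup.centralizer ({z} : Set G))).map (Subgroup.centralizer ({z} : Set G)).subtype → IsConj x t)
    (V B : Subgroup G) (hVB : Cfsg.IsInternalDirectProduct V B (Subgroup.centralizer ({t} : Set G)))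
    (hV : Nat.card ↥V = 4) (hV2 : ∀ v ∈ V, v ^ 2 = 1) (htV : t ∈ V) (hB : Nonempty (↥B ≃* alternatingGroup (Fin 5)))
    (hBz : ∀ x ∈ B, orderOf x = 2 → IsConj x z)
    (hCt : ∀ x ∈ Subgroup.centralizer ({t} : Set G), orderOf x = 2 → x ∉ B → IsConj x t) :
    Nat.card G = 604800 := by
  have : Fact (Nat.Prime 2) := ⟨Nat.prime_two⟩
  obtain ⟨eK⟩ := hK
  rw [H52.fstar_eq_pCore_iff_isPGroup.2 hex.1.1] at hex
  set C := Subgroup.centralizer ({z} : Set G) with hC
  set Q := Cfsg.pCore 2 C with hQd
  have hle : K ≤ C := le_sup_left.trans hKC.le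
  let φ : K →* C ⧸ Q := (QuotientGroup.mk' Q).comp (Subgroup.inclusion hle)
  have hinj : Function.Injective φ := by
    rw [injective_iff_map_eq_one]
    intro k hk
    have h1 : Subgroup.inclusion hle k ∈ Q := (QuotientGroup.eq_one_iff _).1 hk
    have h2 : (k : G) ∈ K ⊓ Q.map C.subtype := ⟨k.2, _, h1, rfl⟩
    rw [hKQ, Subgroup.mem_bot] at h2
    exact Subtype.ext h2
  have hsurj : Function.Surjective φ := by
    rw [← MonoidHom.range_eq_top, eq_top_iff]
    have h1 : K ⊔ Q.map C.subtype ≤ (φ.range.comap (QuotientGroup.mk' Q)).map C.subtype := by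
      refine sup_le (fun k hk => ⟨⟨k, hle hk⟩, ⟨⟨k, hk⟩, rfl⟩, rfl⟩) (Subgroup.map_mono fun q hq => ?_)
      rw [Subgroup.mem_comap, QuotientGroup.mk'_apply, (QuotientGroup.eq_one_iff q).2 hq]
      exact one_mem _
    rintro x -
    obtain ⟨c, rfl⟩ := QuotientGroup.mk'_surjective Q x
    obtain ⟨d, hd, e⟩ := h1 (hKC.ge c.2)
    obtain rfl : d = c := Subtype.ext e
    exact hd
  rcases H70.iso_of_simple hz Q hQ hex ((MulEquiv.ofBijective φ ⟨hinj, hsurj⟩).symm.trans eK) with h | h
  · exact H70.IsoJ2.card h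
  · exact absurd (H70.IsoJ3.isConj h hz ht) hzt

end Cfsg.Agent.S3313
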