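import Cfsg.Statements.S3315
import Cfsg.Agent.H86.U3Aut

set_option autoImplicit false
open Cfsg

namespace Cfsg.Agent.S3315

/-- Let S be a Sylow 2-subgroup of SU₃(2ⁿ), n ≥ 2 (realised over the field with 4ⁿ elements). If a finite 2-group R contains a subgroup S' of index 2 isomorphic to S, then the centre of S' is contained in the centre of R. -/
theorem result {R : Type*} [Group R] [Finite R]
    (hR : IsPGroup 2 R) (n : ℕ) (hn : 2 ≤ n) {F : Type*} [Field F] [Fintype F] (hF : Fintype.card F = 4 ^ n)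
    (P : Sylow 2 ↥(Cfsg.SU 3 F (2 ^ n))) (S' : Subgroup R) (hS : Nonempty (↥S' ≃* ↥(P : Subgroup ↥(Cfsg.SU 3 F (2 ^ n)))))
    (hidx : S'.index = 2) :
    (Subgroup.center ↥S').map S'.subtype ≤ Subgroup.center R := by
  obtain ⟨e⟩ := hS
  obtain ⟨E, _, _, _, Q, z, π, -, h⟩ := H86.U3.su_spq hn hF P e
  have hN : S'.Normal := Subgroup.normal_of_index_eq_two hidx
  rintro _ ⟨x, hx, rfl⟩
  obtain ⟨b, hb⟩ := h.mem_V_of_central x.2 fun y hy =>
    congrArg Subtype.val (Subgroup.mem_center_iff.1 hx ⟨y, hy⟩).symm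
  refine Subgroup.mem_center_iff.2 fun g => ?_
  rw [Subgroup.coe_subtype, hb]
  exact h.cent_of_sq (fun s hs => hN.conj_mem s hs g)
    (h.triv_of_mem (Subgroup.mul_self_mem_of_index_two hidx g)) b

end Cfsg.Agent.S3315
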