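import Cfsg.Statements.S3372
import Cfsg.Agent.H95.O8Fin
import Cfsg.Agent.H64.O8S4
import Cfsg.Agent.H75.O8Sec
import Cfsg.Agent.H75.O8Res
import Cfsg.Agent.H75.O8Gc
import Cfsg.Agent.H75.O8Cb
import Cfsg.Agent.H67.KLO
import Cfsg.Agent.H50.O8RhoB
import Cfsg.Agent.H77.O8SC
import Cfsg.Agent.H39.O8TT
import Cfsg.Agent.H20.O8LN
import Cfsg.Agent.H22.O8RhoA
import Cfsg.Agent.H65.O8Pos
import Cfsg.Agent.H66.O8El
import Cfsg.Agent.H37.O8Fin
import Cfsg.Agent.H60.O8Bad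
import Cfsg.Agent.H57.O8M1
import Cfsg.Agent.H70.KO2
import Cfsg.Agent.H90.O8J27
import Cfsg.Agent.H29.O8Mb

set_option autoImplicit false
open Cfsg
open Cfsg.Agent.H95

namespace Cfsg.Agent.S3372

/-- A 3-local recognition of the extensions Ω⁺₈(2).3 and Ω⁺₈(2).Sym(3). Let G be a finite group, S a Sylow 3-subgroup, Z = Z(S), C = C_G(Z) and Q = O₃(C). Suppose Q is extraspecial of order 3^5 and exponent 3, C_G(Q) ≤ Q, some conjugate of Z other than Z lies in Q, and C/Q is isomorphic to SL(2,3) or to SL(2,3) × C₂. Let K be the preimage in C of the subgroup of C/Q generated by its elements of odd order, and suppose that some maximal chain of K-invariant subgroups from Z to Q (a K-chief chain of Q/Z) has exactly one factor on which K acts non-trivially. Then G has a normal subgroup N isomorphic to Ω⁺₈(2) with C_G(N) = 1 and |G : N| = 3 or 6. -/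
theorem result {G : Type*} [Group G] [Finite G]
    (S : Sylow 3 G) (Z : Subgroup G) (hZ : Z = (S : Subgroup G) ⊓ Subgroup.centralizer ((S : Subgroup G) : Set G))
    (C : Subgroup G) (hCZ : C = Subgroup.centralizer (Z : Set G))
    (Q : Subgroup G) (hQ : Q = (Cfsg.pCore 3 C).map C.subtype)
    (hQex : Cfsg.IsExtraspecial 3 Q) (hQcard : Nat.card Q = 3 ^ 5) (hQexp : ∀ a ∈ Q, a ^ 3 = 1)
    (hCQ : Subgroup.centralizer (Q : Set G) ≤ Q)
    (hZQ : ∃ x : G, Z.map (MulAut.conj x).toMonoidHom ≤ Q ∧ Z.map (MulAut.conj x).toMonoidHom ≠ Z)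
    (K : Subgroup G) (hK : K = ((Cfsg.pResidual 2 (C ⧸ Cfsg.pCore 3 C)).comap (QuotientGroup.mk' (Cfsg.pCore 3 C))).map C.subtype)
    (r : ℕ) (A : Fin (r + 1) → Subgroup G) (hA0 : A 0 = Z) (hAr : A (Fin.last r) = Q)
    (hmono : ∀ i : Fin r, A i.castSucc < A i.succ)
    (hinv : ∀ i : Fin (r + 1), ∀ k ∈ K, ∀ a ∈ A i, k * a * k⁻¹ ∈ A i)
    (hmax : ∀ i : Fin r, ∀ B : Subgroup G, A i.castSucc < B → B < A i.succ → ∃ k ∈ K, ∃ b ∈ B, k * b * k⁻¹ ∉ B)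
    (e : Nonempty (C ⧸ Cfsg.pCore 3 C ≃* Matrix.SpecialLinearGroup (Fin 2) (ZMod 3)) ∨
      Nonempty (C ⧸ Cfsg.pCore 3 C ≃* Matrix.SpecialLinearGroup (Fin 2) (ZMod 3) × Multiplicative (ZMod 2)))
    (hone : ∃! i : Fin r, (∃ k ∈ K, ∃ a ∈ A i.succ, k * a * k⁻¹ * a⁻¹ ∉ A i.castSucc)) :
    ∃ N : Subgroup G, N.Normal ∧ Nonempty (N ≃* Cfsg.Omega (ZMod 2) (Cfsg.quadFormPlus 4 (ZMod 2))) ∧
      Subgroup.centralizer (N : Set G) = ⊥ ∧ (N.index = 3 ∨ N.index = 6) := by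
  obtain ⟨U⟩ := Cfsg.Agent.H64.O8.setO G S Z hZ C hCZ Q hQ hQex hQcard hQexp hCQ hZQ K hK r A hA0 hAr
    hmono hinv hmax e hone
  exact (L3.O8P.c
    { s9 := Cfsg.Agent.H90.O8.s9
      j27a := Cfsg.Agent.H90.O8.j27a
      j27b := fun _ => Cfsg.Agent.H90.O8.j27b
      sec := Cfsg.Agent.H75.O8S.sec
      pos := Cfsg.Agent.H65.O8.posO
      bad := Cfsg.Agent.H60.BadO.badO
      ko2 := Cfsg.Agent.H70.KO.ko2
      rhoA := Cfsg.Agent.H22.O8R.rhoA
      rhoB := Cfsg.Agent.H50.O8.rhoB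
      cb := Cfsg.Agent.H75.O8S.cb
      el := Cfsg.Agent.H66.O8E.elo
      ln := Cfsg.Agent.H20.O8.ln
      m1 := Cfsg.Agent.H57.O8.m1
      m2 := Cfsg.Agent.H29.O8M.m2
      gc := Cfsg.Agent.H75.O8S.gc
      wc := Cfsg.Agent.H77.O8.wcO
      sc := Cfsg.Agent.H77.O8.scO
      kl := Cfsg.Agent.H67.KLO.klo
      tt := Cfsg.Agent.H39.O8TT.tto
      fin := Cfsg.Agent.H37.O8F.finO
      res := Cfsg.Agent.H75.O8S.res } U)

end Cfsg.Agent.S3372
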