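import Cfsg.Statements.S3384
import Cfsg.Agent.H54.O84Asm
import Cfsg.Agent.H54.O84Setup
import Cfsg.Agent.H54.O84Geo
import Cfsg.Agent.H90.O84ClsL
import Cfsg.Agent.H62.O84E4
import Cfsg.Agent.H97.O84Nm3
import Cfsg.Agent.H57.O84Cen
import Cfsg.Agent.H65.O84Syl
import Cfsg.Agent.H79.O84Idx
import Cfsg.Agent.H23.O84Cg1
import Cfsg.Agent.H29.O84E2
import Cfsg.Agent.H39.O84E3
import Cfsg.Agent.H71.O84E5
import Cfsg.Agent.H34.O84E6
import Cfsg.Agent.H61.O84Red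
import Cfsg.Agent.H88.O84Cover
import Cfsg.Agent.H84.O84X2
import Cfsg.Agent.H92.O84X3
import Cfsg.Agent.H53.O84X4
import Cfsg.Agent.H56.O84X0
import Cfsg.Agent.H67.O84Xf
import Cfsg.Agent.H27.O84Nu1
import Cfsg.Agent.H28.O84Tor1
import Cfsg.Agent.H72.O84Rho
import Cfsg.Agent.H55.O84Cg2
import Cfsg.Agent.H95.O84FinC
import Cfsg.Agent.H81.O84FinB
import Cfsg.Agent.H24.O84Fin
import Cfsg.Agent.H44.O84U5
import Cfsg.Agent.H65.O84Inv
import Cfsg.Agent.H89.O84Half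
import Cfsg.Agent.H55.O84Det
import Cfsg.Agent.H30.O84Perm
import Cfsg.Agent.H60.O84Sep
import Cfsg.Agent.H88.O84Stab
import Cfsg.Agent.H90.O84Nm1
import Cfsg.Agent.H40.O84Nm
import Cfsg.Agent.H38.O84Om
import Cfsg.Agent.H47.O84Tor2
import Cfsg.Agent.H32.O84Conj
import Cfsg.Agent.H16.O84Yi
import Cfsg.Agent.H62.O84FinA
import Cfsg.Agent.H2.O84X5
import Cfsg.Agent.H33.O84X7
import Cfsg.Agent.H12.O84Wf
import Cfsg.Agent.H3.O84Lin
import Cfsg.Agent.H96.O84Cls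
import Cfsg.Agent.H84.O84Comm
import Cfsg.Agent.H52.O84E1
import Cfsg.Agent.H64.O84X16

set_option autoImplicit false
open Cfsg

namespace Cfsg.Agent.S3384

/-- Conjugacy classes of Ω⁺₈(4)-type subgroups of E₈(2) (realised by its root elements in the adjoint representation over the field with 2 elements), with 'exactly k classes of subgroups with a property' meaning k pairwise non-conjugate subgroups with the property to one of which every such subgroup is conjugate: E₈(2) has exactly 2 classes of subgroups isomorphic to Ω⁺₈(4), and exactly 1, 2 and 1 classes of subgroups H with F*(H) ≅ Ω⁺₈(4) of index 3, 4 and 12 in H respectively (the extensions Ω⁺₈(4):3, Ω⁺₈(4):2² and the full automorphism group Ω⁺₈(4):Dih(12)). -/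
theorem result
    (F₄ : Type*) [Field F₄] [Fintype F₄] (hF₄ : Fintype.card F₄ = 4)
    (classes : (Subgroup ↥(Cfsg.Lie.chevE8.group (ZMod 2)) → Prop) → ℕ → Prop)
    (hclasses : ∀ (P : Subgroup ↥(Cfsg.Lie.chevE8.group (ZMod 2)) → Prop) (k : ℕ), classes P k ↔
      ∃ f : Fin k → Subgroup ↥(Cfsg.Lie.chevE8.group (ZMod 2)), (∀ i, P (f i)) ∧
        (∀ i j, (∃ g : ↥(Cfsg.Lie.chevE8.group (ZMod 2)), (f i).map (MulAut.conj g).toMonoidHom = f j) → i = j) ∧
        (∀ H, P H → ∃ (i : Fin k) (g : ↥(Cfsg.Lie.chevE8.group (ZMod 2))), H.map (MulAut.conj g).toMonoidHom = f i)) :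
    classes (fun H => Nonempty (H ≃* Cfsg.Omega F₄ (Cfsg.quadFormPlus 4 F₄))) 2 ∧
    classes (fun H => Nonempty (Cfsg.generalizedFittingSubgroup H ≃* Cfsg.Omega F₄ (Cfsg.quadFormPlus 4 F₄)) ∧
      (Cfsg.generalizedFittingSubgroup H).index = 3) 1 ∧
    classes (fun H => Nonempty (Cfsg.generalizedFittingSubgroup H ≃* Cfsg.Omega F₄ (Cfsg.quadFormPlus 4 F₄)) ∧
      (Cfsg.generalizedFittingSubgroup H).index = 4) 2 ∧
    classes (fun H => Nonempty (Cfsg.generalizedFittingSubgroup H ≃* Cfsg.Omega F₄ (Cfsg.quadFormPlus 4 F₄)) ∧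
      (Cfsg.generalizedFittingSubgroup H).index = 12) 1 := by
  rw [hclasses, hclasses, hclasses, hclasses]
  have rho := H72.O84Rho.rho
  have wf : H54.O84.WfStmt := H12.O84Wf.wf rho
  have lin : H54.O84.LinStmt := H3.O84Lin.lin
  have cls : H54.O84.ClsStmt := H96.O84Cls.cls (H96.O84Cls.clsT rho) H90.O84ClsL.clsL
  have comm : H54.O84.CommStmt := H84.O84Comm.comm
  have nm1 := H90.O84Nm1.nm1
  have nm2 : H54.O84.Nm2Stmt := H84.O84Comm.nm2 nm1
  have e1 : H54.O84.E1Stmt := H52.O84E1.e1 nm1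
  have nm := H40.O84Nm.nm rho nm2 (H97.O84.nm3 rho comm)
  have rw' := H65.O84Inv.rw rho H65.O84Inv.inv
  have stab := H88.O84Stab.stab rho H55.O84D.ct (H88.O84Cover.cover rho H89.O84Half.half
    H61.O84Red.red (H30.O84Perm.perm H55.O84D.det H55.O84D.ct)) (H60.O84Sep.sep H65.O84Inv.inv)
  exact H54.O84.asm H54.O84.setupStmt
    (H54.O84.geoStmt (H28.O84T.tor1 rho) (H47.O84T.tor2 lin) H27.O84Nu1.nu1 H47.O84T.nu2 nm
      (H57.O84Cen.cen rho wf nm))
    (H54.O84.isoStmt H54.O84.moveStmt (H29.O84E2.e2 comm e1) H39.O84E3.e3 H62.O84E4.e4 H71.O84E5.e5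
      (H34.O84E.e6 comm e1) H38.O84Om.om)
    (H67.O84Xf.xf H56.O84X0.x0 H64.O84X16.x1 (H84.O84X2.x2 H56.O84X0.x0) H64.O84X16.x6
      (H33.O84X7.x7 H56.O84X0.x0 H92.O84X3.x3 H53.O84X4.x4 H2O84X5.x5))
    H38.O84Om.om
    (H32.O84Conj.conj (H65.O84Syl.syl H44.O84U5.u5)
      (H55.O84C.cg2 rho cls (H23.O84Cg1.cg1 rho wf)))
    (H79.O84Idx.idx stab (H16.O84Yi.yi rho rw')) (H16.O84Yi.cen1 rho)
    (H24.O84F.fin H81.O84FinB.finB (H54.O84.FinC.finC H62.O84FinA.finA)) F₄ hF₄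

end Cfsg.Agent.S3384
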