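import Cfsg.Statements.S3390
import Cfsg.Agent.S3224
import Cfsg.Agent.H62.PermBasic
import Cfsg.Agent.H8.Fusion
import Cfsg.Agent.H3.Cores

set_option autoImplicit false
open Cfsg

namespace Cfsg.Agent.S3390

section
open Subgroup MulAction
open scoped Pointwise

variable {G : Type*} [Group G] [Finite G] {Ω : Type*} [Fintype Ω] [MulAction G Ω]

omit [Finite G] in
theorem three (hfix : ∀ g : G, g ≠ 1 → Nat.card (fixedBy Ω g) ≤ 2) {g : G} {a b c : Ω} (ha : g • a = a)
    (hb : g • b = b) (hc : g • c = c) (hab : a ≠ b) (hac : a ≠ c) (hbc : b ≠ c) : g = 1 := by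
  by_contra hg
  have h1 := hfix g hg
  have h2 : ({a, b, c} : Set Ω) ⊆ fixedBy Ω g := by
    rintro x (rfl | rfl | rfl) <;> assumption
  have h3 := Set.ncard_le_ncard h2
  rw [Set.ncard_eq_three.mpr ⟨a, b, c, hab, hac, hbc, rfl⟩] at h3
  rw [Nat.card_coe_set_eq] at h1
  omega

theorem lemA (hfix : ∀ g : G, g ≠ 1 → Nat.card (fixedBy Ω g) ≤ 2) (S : Subgroup G) (hS : IsPGroup 2 S)
    (ω : Ω) (h0 : S ⊓ stabilizer G ω ≠ ⊥) (h1 : ¬ S ≤ stabilizer G ω) :
    (S ⊓ stabilizer G ω).relIndex S = 2 ∨ (Nat.card ↥(S ⊓ stabilizer G ω) = 2 ∧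
      ((∃ n : ℕ, Nonempty (S ≃* DihedralGroup n)) ∨ Cfsg.IsQuasiDihedral S)) := by
  set T := S ⊓ stabilizer G ω with hT
  have hTS : T < S := lt_of_le_of_ne inf_le_left fun h => h1 (inf_eq_left.mp h)
  have hTR := H8.lt_inf_normalizer_of_lt hS hTS
  set R := S ⊓ normalizer (T : Set G) with hR
  obtain ⟨t₀, ht₀, ht₀1⟩ : ∃ t ∈ T, t ≠ 1 := by
    by_contra hc
    push Not at hc
    exact h0 ((eq_bot_iff_forall _).mpr hc)
  have hfixR : ∀ r ∈ R, ∀ t ∈ T, t • r • ω = r • ω := by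
    intro r hr t ht
    have : r⁻¹ * t * r⁻¹⁻¹ ∈ T := (mem_normalizer_iff.mp (inv_mem hr.2) t).mp ht
    have h2 : (r⁻¹ * t * r⁻¹⁻¹) • ω = ω := this.2
    rw [inv_inv, mul_smul, mul_smul, inv_smul_eq_iff] at h2
    exact h2
  obtain ⟨r, hrR, hrT⟩ := SetLike.exists_of_lt hTR
  have hrω : r • ω ≠ ω := fun h => hrT ⟨hrR.1, h⟩
  have hidx : T.relIndex R = 2 := by
    rw [Subgroup.relIndex, index_eq_two_iff']
    refine ⟨⟨r⁻¹, R.inv_mem hrR⟩, fun b => ?_⟩
    by_cases hb : (b : G) ∈ T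
    · refine Or.inr ⟨hb, fun h => hrT ?_⟩
      have h' : r⁻¹ * b ∈ T := h
      have := T.mul_mem hb (T.inv_mem h')
      simpa using this
    · refine Or.inl ⟨⟨S.mul_mem (S.inv_mem hrR.1) b.2.1, ?_⟩, hb⟩
      show (r⁻¹ * b) • ω = ω
      rw [mul_smul, inv_smul_eq_iff]
      by_contra hne
      exact ht₀1 (three hfix ht₀.2 (hfixR r hrR t₀ ht₀) (hfixR b b.2 t₀ ht₀) hrω.symm
        (fun h => hb ⟨b.2.1, h.symm⟩) (Ne.symm hne))
  by_cases hRS : R = S
  · left; rw [← hRS]; exact hidx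
  right
  have hRS' : R < S := lt_of_le_of_ne inf_le_left hRS
  obtain ⟨s, hs, hsR⟩ := SetLike.exists_of_lt (H8.lt_inf_normalizer_of_lt hS hRS')
  have hle : MulAut.conj s • T ≤ R := by
    rw [← H8.mem_normalizer_iff_conj_smul_eq.mp hs.2]
    exact pointwise_smul_le_pointwise_smul_iff.mpr hTR.le
  have hdis : T ⊓ MulAut.conj s • T = ⊥ := by
    rw [eq_bot_iff]
    rintro t ⟨ht1, ht2⟩
    have h2 : (s⁻¹ * t * s) • ω = ω := (H8.mem_conj_smul.mp ht2).2
    rw [mul_smul, mul_smul, inv_smul_eq_iff] at h2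
    refine three hfix ht1.2 (hfixR r hrR t ht1) h2 hrω.symm (fun h => hsR (hTR.le ⟨hs.1, h.symm⟩)) ?_
    intro h
    apply hsR
    have : r⁻¹ * s ∈ T := ⟨S.mul_mem (S.inv_mem hrR.1) hs.1, by
      show (r⁻¹ * s) • ω = ω
      rw [mul_smul, inv_smul_eq_iff, h]⟩
    have := R.mul_mem hrR (hTR.le this)
    simpa using this
  have hcard : Nat.card T = 2 := by
    have e1 := H3.card_inf_mul_relIndex T (MulAut.conj s • T)
    rw [hdis, card_bot, one_mul, H8.card_conj_smul] at e1
    have e2 := relIndex_le_of_le_right (H := T) hle index_ne_zero_of_finite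
    have e3 : Nat.card T ≠ 1 := fun h => h0 (card_eq_one.mp h)
    have e4 : 0 < Nat.card T := Nat.card_pos
    omega
  refine ⟨hcard, ?_⟩
  have hzp : zpowers t₀ = T := by
    apply eq_of_le_of_card_ge (zpowers_le.mpr ht₀)
    rw [hcard, Nat.card_zpowers]
    have := orderOf_pos t₀
    have := mt orderOf_eq_one_iff.mp ht₀1
    omega
  have hord : orderOf t₀ = 2 := by rw [← Nat.card_zpowers, hzp, hcard]
  have hRc : Nat.card R = 4 := by
    rw [← H3.card_mul_relIndex hTR.le, hcard, hidx]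
  have hcen : centralizer ({(⟨t₀, ht₀.1⟩ : S)} : Set S) = R.subgroupOf S := by
    ext y
    rw [mem_centralizer_singleton_iff, mem_subgroupOf, Subtype.ext_iff]
    constructor
    · intro h
      refine ⟨y.2, ?_⟩
      rw [← hzp]
      apply centralizer_le_normalizer
      rw [mem_centralizer_iff]
      rintro _ ⟨k, rfl⟩
      exact ((show Commute (y : G) t₀ from h).zpow_right k).symm
    · intro h
      have h2 : y * t₀ * (y : G)⁻¹ ∈ T := (mem_normalizer_iff.mp h.2 t₀).mp ht₀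
      have h3 : y * t₀ * (y : G)⁻¹ ≠ 1 := by simpa using ht₀1
      obtain ⟨u, -, hu⟩ := (Nat.card_eq_two_iff' (1 : T)).mp hcard
      have e1 := hu ⟨_, h2⟩ (fun h => h3 (congrArg Subtype.val h))
      have e2 := hu ⟨_, ht₀⟩ (fun h => ht₀1 (congrArg Subtype.val h))
      have e3 : y * t₀ * (y : G)⁻¹ = t₀ := congrArg Subtype.val (e1.trans e2.symm)
      exact mul_inv_eq_iff_eq_mul.mp e3
  rcases S3224.result hS ⟨t₀, ht₀.1⟩ (by rw [← orderOf_coe]; exact hord)
    (by rw [hcen, H3.card_subgroupOf, inf_of_le_left hRS'.le, hRc]) with h | h | h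
  · exact Or.inl h
  · exact Or.inr h
  · exact absurd (eq_of_le_of_card_ge hRS'.le (by rw [h, hRc])) hRS

theorem exists_N (S : Sylow 2 G) (T : Subgroup G) (hT : T.relIndex S = 2)
    (h : ∀ x ∈ (S : Subgroup G), ∀ a : G, a⁻¹ * x * a ∈ (S : Subgroup G) → (a⁻¹ * x * a ∈ T ↔ x ∈ T)) :
    ∃ N : Subgroup G, N.Normal ∧ N.index = 2 ∧ ∀ x ∈ (S : Subgroup G), x ∈ N ↔ x ∈ T := by
  classical
  let φ : (S : Subgroup G) →* ℤˣ := MonoidHom.mk' (fun s => if (s : G) ∈ T then 1 else -1) (by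
    intro a b
    have := mul_mem_iff_of_index_two (H := T.subgroupOf S) hT (a := a) (b := b)
    simp only [mem_subgroupOf] at this
    by_cases ha : (a : G) ∈ T <;> by_cases hb : (b : G) ∈ T <;> simp_all)
  have hφ : ∀ s : (S : Subgroup G), φ s = 1 ↔ (s : G) ∈ T := by
    intro s
    show (if (s : G) ∈ T then (1 : ℤˣ) else -1) = 1 ↔ _
    split_ifs with hs <;> simp [hs]
  have hV : ∀ s : (S : Subgroup G), MonoidHom.transfer φ (s : G) = φ s := by
    intro s
    rw [H8.transfer_eq_pow_of_conj φ s]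
    · have hodd : Odd (S : Subgroup G).index := by
        rw [← Nat.not_even_iff_odd, even_iff_two_dvd]; exact S.not_dvd_index
      rcases Int.units_eq_one_or (φ s) with h1 | h1 <;> rw [h1]
      · simp
      · exact hodd.neg_one_pow
    · intro k a ha
      rw [← map_pow]
      have := h _ (s ^ k).2 a ha
      show (if _ then _ else _) = (if _ then _ else _)
      exact if_congr this rfl rfl
  refine ⟨(MonoidHom.transfer φ).ker, inferInstance, ?_, fun x hx => ?_⟩
  · rw [index_ker]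
    have : (MonoidHom.transfer φ).range = ⊤ := by
      rw [eq_top_iff]
      intro u _
      rcases Int.units_eq_one_or u with rfl | rfl
      · exact one_mem _
      · have : ¬ (S : Subgroup G) ≤ T := fun hle => by
          rw [relIndex_eq_one.mpr hle] at hT; omega
        obtain ⟨x, hx, hxT⟩ := SetLike.not_le_iff_exists.mp this
        exact ⟨x, (hV ⟨x, hx⟩).trans ((Int.units_eq_one_or _).resolve_left (mt (hφ _).mp hxT))⟩
    rw [this, card_top]
    simp
  · rw [MonoidHom.mem_ker, show x = ((⟨x, hx⟩ : (S : Subgroup G)) : G) from rfl, hV, hφ]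

theorem frob [FaithfulSMul G Ω] [IsPretransitive G Ω]
    (hfix : ∀ g : G, g ≠ 1 → Nat.card (fixedBy Ω g) ≤ 2) (S : Sylow 2 G) (α : Ω) (N : Subgroup G)
    [hN : N.Normal] (hi : N.index = 2) (h0 : (S : Subgroup G) ⊓ stabilizer G α ≠ ⊥)
    (hNS : ∀ x ∈ (S : Subgroup G), x ∈ N ↔ x ∈ (S : Subgroup G) ⊓ stabilizer G α)
    (r : G) (hrS : r ∈ (S : Subgroup G)) (hr : ∀ ω : Ω, r • ω ≠ ω) :
    Cfsg.IsFrobeniusComplement ((stabilizer G α).subgroupOf N) := by
  have hrN : r ∉ N := fun h => hr α ((hNS r hrS).mp h).2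
  have hodd : ¬ 2 ∣ Nat.card (orbit N α) := by
    rw [H62.card_orbit_subgroup_eq_relIndex]
    intro hd
    apply (H8.isSylowIn_inf_normal S N).not_dvd
    exact hd.trans (relIndex_dvd_of_le_left N fun x hx => ((hNS x hx.1).mp hx.2).2)
  have hstab : stabilizer G α ≤ N := by
    intro y hy
    by_contra hyN
    have huniv : orbit N α = Set.univ := by
      rw [Set.eq_univ_iff_forall]
      intro ω
      obtain ⟨g, rfl⟩ := exists_smul_eq G α ω
      by_cases hg : g ∈ N
      · exact ⟨⟨g, hg⟩, rfl⟩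
      · refine ⟨⟨g * y, (mul_mem_iff_of_index_two hi).mpr (by simp [hg, hyN])⟩, ?_⟩
        show (g * y) • α = g • α
        rw [mul_smul, hy]
    rw [huniv, Nat.card_congr (Equiv.Set.univ Ω)] at hodd
    obtain ⟨ω, hω⟩ := S.isPGroup'.nonempty_fixed_point_of_prime_not_dvd_card Ω hodd
    exact hr ω (hω ⟨r, hrS⟩)
  refine ⟨fun h => h0 ?_, fun h => h0 ?_, fun g hg => ?_⟩
  · rw [eq_bot_iff]
    intro x hx
    have : (⟨x, (hNS x hx.1).mpr hx⟩ : N) ∈ (stabilizer G α).subgroupOf N := hx.2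
    rw [h] at this
    exact congrArg Subtype.val (mem_bot.mp this)
  · have := H62.normal_eq_bot_of_le_stabilizer N hN α (subgroupOf_eq_top.mp h)
    rw [eq_bot_iff, ← this]
    exact fun x hx => (hNS x hx.1).mpr hx
  by_contra hne
  have hcard : Nat.card ↥((stabilizer G α).subgroupOf N ⊓ MulAut.conj g • (stabilizer G α).subgroupOf N) ≠ 1 :=
    fun h => hne (card_eq_one.mp h)
  obtain ⟨l, hl, hld⟩ := Nat.exists_prime_and_dvd hcard
  haveI := Fact.mk hl
  obtain ⟨⟨h, hh1, hh2⟩, hho⟩ := exists_prime_orderOf_dvd_card' l hld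
  rw [← orderOf_coe] at hho
  simp only at hho
  have ha : (h : G) • α = α := hh1
  have hb : (h : G) • (g : G) • α = (g : G) • α := by
    have h2 : ((g⁻¹ * h * g : N) : G) • α = α := H8.mem_conj_smul.mp hh2
    rw [coe_mul, coe_mul, coe_inv, mul_smul, mul_smul, inv_smul_eq_iff] at h2
    exact h2
  have hgα : α ≠ (g : G) • α := fun e => hg e.symm
  have hh0 : (h : G) ≠ 1 := by
    intro e
    rw [show h = 1 from Subtype.ext e, orderOf_one] at hho
    exact hl.one_lt.ne hho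
  have hfx : ∀ ω : Ω, (h : G) • ω = ω → ω = α ∨ ω = (g : G) • α := by
    intro ω hω
    by_contra hc
    push Not at hc
    exact hh0 (three hfix ha hb hω hgα hc.1.symm hc.2.symm)
  have hP : IsPGroup l (zpowers h) := IsPGroup.of_card (n := 1) (by rw [Nat.card_zpowers, hho, pow_one])
  let h' : N := ⟨r⁻¹ * h * r, hN.conj_mem' _ h.2 r⟩
  have hP' : IsPGroup l (zpowers h') := IsPGroup.of_card (n := 1) (by
    rw [Nat.card_zpowers, pow_one, ← hho, ← orderOf_coe, ← orderOf_coe]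
    have : (h' : G) = MulAut.conj r⁻¹ (h : G) := by simp [h']
    rw [this, MulEquiv.orderOf_eq])
  have d1 : l ∣ Nat.card (orbit N α) := by
    by_contra hnd
    obtain ⟨⟨_, n, rfl⟩, hx⟩ := hP'.nonempty_fixed_point_of_prime_not_dvd_card (orbit N α) hnd
    have h2 : (r⁻¹ * h * r) • (n : G) • α = (n : G) • α :=
      congrArg Subtype.val (hx ⟨h', mem_zpowers h'⟩)
    rw [mul_smul, mul_smul, inv_smul_eq_iff] at h2
    apply hrN
    rcases hfx _ h2 with e | e
    · have := hstab (show r * n ∈ stabilizer G α by rw [mem_stabilizer_iff, mul_smul, e])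
      exact (N.mul_mem_cancel_right n.2).mp this
    · have := hstab (show (g : G)⁻¹ * (r * n) ∈ stabilizer G α by
        rw [mem_stabilizer_iff, mul_smul, mul_smul, e, inv_smul_smul])
      exact (N.mul_mem_cancel_right n.2).mp ((N.mul_mem_cancel_left (N.inv_mem g.2)).mp this)
  have d2 := hP.card_modEq_card_fixedPoints (orbit N α)
  have e2 : fixedPoints (zpowers h) (orbit N α) = {⟨α, mem_orbit_self α⟩, ⟨_, mem_orbit α g⟩} := by
    ext x
    constructor
    · intro hx
      rcases hfx x (congrArg Subtype.val (hx ⟨h, mem_zpowers h⟩)) with e | e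
      · exact Or.inl (Subtype.ext e)
      · exact Or.inr (Subtype.ext e)
    · intro hx
      have hx' : h • x = x := by
        rcases hx with rfl | rfl
        · exact Subtype.ext ha
        · exact Subtype.ext hb
      rintro ⟨y, hy⟩
      exact (zpowers_le (H := stabilizer N x)).mpr hx' hy
  have e3 : Nat.card (fixedPoints (zpowers h) (orbit N α)) = 2 := by
    rw [e2, Nat.card_coe_set_eq, Set.ncard_pair (fun e => hgα (congrArg Subtype.val e))]
  rw [e3] at d2
  have d3 : l ∣ 2 := (d2.dvd_iff dvd_rfl).mp d1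
  rw [(Nat.prime_dvd_prime_iff_eq hl Nat.prime_two).mp d3] at d1
  exact hodd d1

end

/-- Let G be a finite group acting faithfully and transitively on a finite set Ω with fixity 2 (every non-identity element fixes at most two points, and some fixes exactly two). Let α ∈ Ω and S a Sylow 2-subgroup of G. Then one of the following holds: the stabilizer S_α of α in S is trivial; S is dihedral or semidihedral and either |S_α| = 2 or |S : S_α| = 2; |S| ≥ 4, S has exactly one orbit of size 2 on Ω, every other S-orbit is regular, and G has a normal subgroup of index 2 or of index |S| which is a Frobenius group; or S ≤ G_α. -/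
theorem result {G : Type*} [Group G] [Finite G] {Ω : Type*} [Fintype Ω] [MulAction G Ω] [FaithfulSMul G Ω] (htr : MulAction.IsPretransitive G Ω)
    (hfix : ∀ g : G, g ≠ 1 → Nat.card (MulAction.fixedBy Ω g) ≤ 2) (hex : ∃ g : G, g ≠ 1 ∧ Nat.card (MulAction.fixedBy Ω g) = 2) (α : Ω) (S : Sylow 2 G) :
    (S : Subgroup G) ⊓ MulAction.stabilizer G α = ⊥ ∨
    (((∃ n : ℕ, Nonempty (↥(S : Subgroup G) ≃* DihedralGroup n)) ∨ Cfsg.IsQuasiDihedral ↥(S : Subgroup G)) ∧
       (Nat.card ↥((S : Subgroup G) ⊓ MulAction.stabilizer G α) = 2 ∨ ((S : Subgroup G) ⊓ MulAction.stabilizer G α).relIndex (S : Subgroup G) = 2)) ∨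
    (4 ≤ Nat.card (S : Subgroup G) ∧
       (∃ ω : Ω, Nat.card (MulAction.orbit ↥(S : Subgroup G) ω) = 2 ∧
          ∀ ω' : Ω, ω' ∉ MulAction.orbit ↥(S : Subgroup G) ω → Nat.card (MulAction.orbit ↥(S : Subgroup G) ω') = Nat.card (S : Subgroup G)) ∧
       ∃ N : Subgroup G, N.Normal ∧ (N.index = 2 ∨ N.index = Nat.card (S : Subgroup G)) ∧ (∃ H : Subgroup ↥N, Cfsg.IsFrobeniusComplement H)) ∨
    (S : Subgroup G) ≤ MulAction.stabilizer G α := by
  by_cases h0 : (S : Subgroup G) ⊓ MulAction.stabilizer G α = ⊥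
  · exact Or.inl h0
  by_cases h1 : (S : Subgroup G) ≤ MulAction.stabilizer G α
  · exact Or.inr (Or.inr (Or.inr h1))
  right
  rcases lemA hfix _ S.isPGroup' α h0 h1 with hi | ⟨h2, h3⟩
  swap
  · exact Or.inl ⟨h3, Or.inl h2⟩
  by_cases hD : (∃ n : ℕ, Nonempty (↥(S : Subgroup G) ≃* DihedralGroup n)) ∨
    Cfsg.IsQuasiDihedral ↥(S : Subgroup G)
  · exact Or.inl ⟨hD, Or.inr hi⟩
  right; left
  set T := (S : Subgroup G) ⊓ MulAction.stabilizer G α with hT
  have hcS := H3.card_mul_relIndex (show T ≤ S from inf_le_left)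
  rw [hi] at hcS
  have hT1 : Nat.card T ≠ 1 := fun h => h0 (Subgroup.card_eq_one.mp h)
  have hT0 : 0 < Nat.card T := Nat.card_pos
  obtain ⟨r, hrS, hrα⟩ := SetLike.not_le_iff_exists.mp h1
  have hconj : ∀ x ∈ (S : Subgroup G), ∀ s ∈ (S : Subgroup G), s⁻¹ * x * s ∈ T ↔ x ∈ T := by
    intro x hx s hs
    have := Subgroup.normal_of_index_eq_two (H := T.subgroupOf S) hi
    have := this.mem_comm_iff (a := (⟨s, hs⟩ : (S : Subgroup G))⁻¹ * ⟨x, hx⟩)
      (b := ⟨s, hs⟩)
    simpa [Subgroup.mem_subgroupOf] using this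
  have hfixo : ∀ t ∈ T, ∀ s ∈ (S : Subgroup G), t • s • α = s • α := by
    intro t ht s hs
    have h2 : (s⁻¹ * t * s) • α = α := ((hconj t ht.1 s hs).mpr ht).2
    rwa [mul_smul, mul_smul, inv_smul_eq_iff] at h2
  have hdis : ∀ ω : Ω, ω ∉ MulAction.orbit (S : Subgroup G) α → ∀ t ∈ T, t • ω = ω → t = 1 := by
    intro ω hω t ht htω
    exact three hfix ht.2 (hfixo t ht r hrS) htω (fun e => hrα e.symm)
      (fun e => hω (e ▸ MulAction.mem_orbit_self α)) (fun e => hω ⟨⟨r, hrS⟩, e⟩)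
  have hreg : ∀ ω : Ω, ω ∉ MulAction.orbit (S : Subgroup G) α →
      (S : Subgroup G) ⊓ MulAction.stabilizer G ω = ⊥ := by
    intro ω hω
    by_contra hne
    rcases lemA hfix _ S.isPGroup' ω hne (fun hle => h0 ((Subgroup.eq_bot_iff_forall _).mpr
      fun t ht => hdis ω hω t ht (hle ht.1))) with hj | ⟨-, h3⟩
    · apply hD
      left
      have hsq : ∀ x : (S : Subgroup G), x ^ 2 = 1 := by
        intro x
        have a1 := Subgroup.sq_mem_of_index_two (H := T.subgroupOf S) hi x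
        have a2 := Subgroup.sq_mem_of_index_two
          (H := ((S : Subgroup G) ⊓ MulAction.stabilizer G ω).subgroupOf S) hj x
        exact Subtype.ext (hdis ω hω _ a1 a2.2)
      have hc4 : Nat.card (S : Subgroup G) = 4 := by
        have e1 := H3.card_inf_mul_relIndex ((S : Subgroup G) ⊓ MulAction.stabilizer G ω) T
        have e0 : ((S : Subgroup G) ⊓ MulAction.stabilizer G ω) ⊓ T = ⊥ :=
          (Subgroup.eq_bot_iff_forall _).mpr fun t ht => hdis ω hω t ht.2 ht.1.2
        rw [e0, Subgroup.card_bot, one_mul] at e1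
        have e2 := Subgroup.relIndex_le_of_le_right
          (H := (S : Subgroup G) ⊓ MulAction.stabilizer G ω) (show T ≤ S from inf_le_left)
          Subgroup.index_ne_zero_of_finite
        omega
      haveI : Nontrivial (S : Subgroup G) := Finite.one_lt_card_iff_nontrivial.mp (by omega)
      haveI : IsKleinFour (S : Subgroup G) :=
        ⟨hc4, (Monoid.exponent_eq_prime_iff Nat.prime_two).mpr fun x hx => orderOf_eq_prime (hsq x) hx⟩
      exact ⟨2, IsKleinFour.nonempty_mulEquiv⟩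
    · exact hD h3
  have hchar : ∀ x ∈ (S : Subgroup G), x ∈ T ↔ ∃ ω : Ω, x • ω = ω := by
    intro x hx
    refine ⟨fun h => ⟨α, h.2⟩, ?_⟩
    rintro ⟨ω, hω⟩
    by_cases ho : ω ∈ MulAction.orbit (S : Subgroup G) α
    · obtain ⟨s, rfl⟩ := ho
      refine (hconj x hx s s.2).mp ⟨(S : Subgroup G).mul_mem ((S : Subgroup G).mul_mem
        ((S : Subgroup G).inv_mem s.2) hx) s.2, ?_⟩
      show ((s : G)⁻¹ * x * s) • α = α
      rw [mul_smul, mul_smul, inv_smul_eq_iff]
      exact hω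
    · have : x ∈ (S : Subgroup G) ⊓ MulAction.stabilizer G ω := ⟨hx, hω⟩
      rw [hreg ω ho, Subgroup.mem_bot] at this
      rw [this]; exact one_mem _
  obtain ⟨N, hN, hNi, hNS⟩ := exists_N S T hi (by
    intro x hx a ha
    rw [hchar _ ha, hchar _ hx]
    constructor
    · rintro ⟨ω, hω⟩
      rw [mul_smul, mul_smul, inv_smul_eq_iff] at hω
      exact ⟨_, hω⟩
    · rintro ⟨ω, hω⟩
      exact ⟨a⁻¹ • ω, by rw [mul_smul, mul_smul, smul_inv_smul, hω]⟩)
  refine ⟨by omega, ⟨α, ?_, fun ω hω => ?_⟩, N, hN, Or.inl hNi, _, frob hfix S α N hNi h0 hNS r hrS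
    fun ω hω => hrα ((hchar r hrS).mpr ⟨ω, hω⟩).2⟩
  · rw [H62.card_orbit_subgroup_eq_relIndex, ← Subgroup.inf_relIndex_left]
    exact hi
  · rw [H62.card_orbit_subgroup_eq_relIndex, ← Subgroup.inf_relIndex_left, hreg ω hω,
      Subgroup.relIndex_bot_left]

end Cfsg.Agent.S3390
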