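import Cfsg.Statements.S3634
import Cfsg.Agent.H57.GK

set_option autoImplicit false
open Cfsg

namespace Cfsg.Agent.S3634

theorem relIndex_dvd_of_sup {G : Type*} [Group G] {N X M : Subgroup G} [N.Normal] (h : N ⊔ X = M) :
    N.relIndex M ∣ Nat.card X := by
  rw [← h, Subgroup.relIndex_sup_left]
  exact Subgroup.relIndex_dvd_card N X

theorem card_div_eq {G : Type*} [Group G] [Finite G] {K M : Subgroup G} (h : K ≤ M) :
    Nat.card M / Nat.card K = K.relIndex M := by
  have h1 : Nat.card K * K.relIndex M = Nat.card M := by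
    rw [← Nat.card_congr (Subgroup.subgroupOfEquivOfLe h).toEquiv]
    exact (K.subgroupOf M).card_mul_index
  rw [← h1, Nat.mul_div_cancel_left _ Nat.card_pos]

/-- Let G be a finite group with normal subgroups K ≤ M, and let p, q, r be distinct primes with p dividing the order of K, q dividing the order of M/K and r dividing the order of G/M. Then p, q, r are not pairwise non-adjacent in the prime graph of G: G has an element of order pq, pr or qr. -/
theorem result {G : Type*} [Group G] [Finite G] (K M : Subgroup G) [K.Normal] [M.Normal] (hKM : K ≤ M)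
    (p q r : ℕ) (hp : p.Prime) (hq : q.Prime) (hr : r.Prime) (hpq : p ≠ q) (hpr : p ≠ r) (hqr : q ≠ r)
    (hpK : p ∣ Nat.card ↥K) (hqM : q ∣ Nat.card ↥M / Nat.card ↥K) (hrG : r ∣ Nat.card G / Nat.card ↥M) :
    (∃ x : G, orderOf x = p * q) ∨ (∃ x : G, orderOf x = p * r) ∨ (∃ x : G, orderOf x = q * r) := by
  open Cfsg.Agent.H63 Cfsg.Agent.H67 Cfsg.Agent.H57 in
  haveI := Fact.mk hp
  haveI := Fact.mk hq
  rw [card_div_eq hKM] at hqM
  rw [← Subgroup.card_top (G := G), card_div_eq le_top] at hrG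
  obtain ⟨P, hP⟩ := exists_syl (p := p) K
  have f1 := frattini_arg (M := M) ⟨hKM, Subgroup.le_normalizer_of_normal⟩ hP
  have f2 := frattini_arg (M := ⊤) ⟨le_top, Subgroup.le_normalizer_of_normal⟩ hP
  rw [top_inf_eq] at f2
  have h1 := hqM.trans (relIndex_dvd_of_sup f1)
  obtain ⟨Q, hQ⟩ := exists_syl (p := q) (M ⊓ N[P])
  have f3 := frattini_arg (M := N[P]) (N := M ⊓ N[P])
    ⟨inf_le_right, le_normalizer_inf Subgroup.le_normalizer_of_normal
      Subgroup.le_normalizer⟩ hQ
  have f4 : M ⊔ (N[P] ⊓ N[Q]) = ⊤ := by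
    rw [eq_top_iff, ← f2]
    refine sup_le (hKM.trans le_sup_left) ?_
    conv_lhs => rw [← f3]
    exact sup_le_sup_right inf_le_left _
  obtain ⟨x, hx, hxr⟩ := exists_mem_orderOf_eq hr (hrG.trans (relIndex_dvd_of_sup f4))
  exact three_primes hp hq hr hpq hpr hqr (syl_isPGroup hP) (syl_isPGroup hQ) (syl_ne_bot hP hpK)
    (syl_ne_bot hQ h1) (hQ.1.trans inf_le_right) hxr hx.1 hx.2

end Cfsg.Agent.S3634
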