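import Cfsg.Statements.S3420
import Cfsg.Agent.H57.GK
import Cfsg.Agent.S0721
import Cfsg.Agent.S3634

set_option autoImplicit false
open Cfsg

namespace Cfsg.Agent.S3420

theorem add_le_of_orderOf {n p q : ℕ} (hp : p.Prime) (hq : q.Prime) (hpq : p ≠ q)
    (σ : Equiv.Perm (Fin n)) (h : orderOf σ = p * q) : p + q ≤ n := by
  have hs : σ.cycleType.sum ≤ n := by simpa using σ.sum_cycleType_le
  have hl := σ.lcm_cycleType
  have key : ∀ r : ℕ, r.Prime → r ∣ p * q → ∃ a ∈ σ.cycleType, r ∣ a := by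
    intro r hr hd
    rw [← h, ← hl] at hd
    exact (Prime.exists_mem_multiset_dvd hr.prime (hd.trans (Multiset.lcm_dvd.2
      fun b hb => Multiset.dvd_prod hb)))
  obtain ⟨a, ha, hpa⟩ := key p hp (dvd_mul_right _ _)
  obtain ⟨b, hb, hqb⟩ := key q hq (dvd_mul_left _ _)
  have ha2 := Equiv.Perm.two_le_of_mem_cycleType ha
  have hb2 := Equiv.Perm.two_le_of_mem_cycleType hb
  by_cases hab : a = b
  · subst hab
    have h1 : p * q ≤ a := Nat.le_of_dvd (by omega)
      (((Nat.coprime_primes hp hq).2 hpq).mul_dvd_of_dvd_of_dvd hpa hqb)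
    have h2 : a ≤ σ.cycleType.sum := Multiset.le_sum_of_mem ha
    have h3 := Nat.add_le_mul hp.two_le hq.two_le
    omega
  · obtain ⟨t, ht⟩ := Multiset.exists_cons_of_mem ha
    rw [ht] at hb hs
    rw [Multiset.mem_cons] at hb
    have h2 : b ≤ t.sum := Multiset.le_sum_of_mem (hb.resolve_left (Ne.symm hab))
    rw [Multiset.sum_cons] at hs
    have := Nat.le_of_dvd (by omega) hpa
    have := Nat.le_of_dvd (by omega) hqb
    omega

theorem core {G : Type*} [Group G] [Finite G] (n : ℕ) (hn : 5 ≤ n)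
    (hcard : Nat.card G = Nat.card ↥(alternatingGroup (Fin n)))
    (hspec : Set.range (orderOf : G → ℕ) = Set.range (orderOf : ↥(alternatingGroup (Fin n)) → ℕ))
    (h2 : ∃ p q : ℕ, p.Prime ∧ q.Prime ∧ n < 2 * p ∧ p < q ∧ q ≤ n) :
    ∃ (N H : Subgroup G) (_ : N.Normal), H.Normal ∧ N < H ∧
      IsSimpleGroup (↥H ⧸ N.subgroupOf H) ∧ ¬ IsMulCommutative (↥H ⧸ N.subgroupOf H) ∧
      ∀ p : ℕ, p.Prime → n < 2 * p → p ≤ n → p ∣ Nat.card (↥H ⧸ N.subgroupOf H) := by
  open Cfsg.Agent.H63 Cfsg.Agent.H67 Cfsg.Agent.H57 in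
  haveI : Nontrivial (Fin n) := Fin.nontrivial_iff_two_le.2 (by omega)
  have hG : 2 * Nat.card G = n.factorial := by
    rw [hcard, two_mul_nat_card_alternatingGroup, Nat.card_perm, Nat.card_eq_fintype_card,
      Fintype.card_fin]
  have hdvd : ∀ p : ℕ, p.Prime → n < 2 * p → p ≤ n → p ∣ Nat.card G := by
    intro p hp h1 h2
    have h3 : p ∣ 2 * Nat.card G := hG ▸ (hp.dvd_factorial.2 h2)
    refine ((Nat.Prime.dvd_mul hp).1 h3).resolve_left fun h => ?_
    have := Nat.le_of_dvd two_pos h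
    omega
  have hsq : ∀ p : ℕ, p.Prime → n < 2 * p → ¬ p ^ 2 ∣ Nat.card G := by
    intro p hp h1 h
    have h3 : p ^ 2 ∣ n.factorial := hG ▸ h.mul_left 2
    haveI := Fact.mk hp
    have hp3 : 3 ≤ p := by omega
    have h4 : n < p ^ 2 := by nlinarith
    rw [hp.pow_dvd_factorial_iff (b := 2) (Nat.log_lt_of_lt_pow (by omega) h4)] at h3
    simp at h3
    have : n / p < 2 := (Nat.div_lt_iff_lt_mul hp.pos).2 h1
    omega
  have hlink : ∀ K : Subgroup G, K.Normal → ∀ p q : ℕ, p.Prime → n < 2 * p → p ≤ n →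
      q.Prime → n < 2 * q → q ≤ n → p ∣ Nat.card K → q ∣ Nat.card K := by
    intro K hK p q hp p1 p2 hq q1 q2 hpK
    by_contra hqK
    have hpq : p ≠ q := by rintro rfl; exact hqK hpK
    haveI := Fact.mk hp
    obtain ⟨P, hP⟩ := exists_syl (p := p) K
    have f2 := frattini_arg (M := ⊤) ⟨le_top, Subgroup.le_normalizer_of_normal⟩ hP
    have h1 : q ∣ K.relIndex ⊤ := by
      have := hdvd q hq q1 q2
      rw [← K.card_mul_index] at this
      rw [Subgroup.relIndex_top_right]
      exact ((Nat.Prime.dvd_mul hq).1 this).resolve_left hqK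
    obtain ⟨x, hx, hxq⟩ := exists_mem_orderOf_eq hq
      (h1.trans (Cfsg.Agent.S3634.relIndex_dvd_of_sup f2))
    have hPc : Nat.card P = p := by
      obtain ⟨k, hk⟩ := IsPGroup.iff_card.1 (syl_isPGroup hP)
      have h3 : k ≠ 0 := by
        rintro rfl
        exact syl_ne_bot hP hpK (Subgroup.card_eq_one.1 hk)
      have h4 : k < 2 := by
        by_contra h
        exact hsq p hp p1 ((pow_dvd_pow p (by omega)).trans (hk ▸ P.card_subgroup_dvd_card))
      rw [hk, show k = 1 by omega, pow_one]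
    obtain ⟨v, hv, hv1, hc⟩ := exists_commute_of_card_mod hq hxq hx.2 (by
      rw [hPc]
      intro h
      obtain ⟨c, hc⟩ := (Nat.modEq_iff_dvd' hp.one_le).1 h.symm
      have h5 := hp.two_le
      have h6 : c = 1 := by
        rcases c with _ | _ | c
        · omega
        · rfl
        · exfalso; nlinarith [Nat.sub_add_cancel hp.one_le]
      subst h6
      have h7 := hp.eq_two_or_odd
      have h8 := hq.eq_two_or_odd
      omega)
    obtain ⟨g, hg⟩ := exists_orderOf_mul_of_commute hc ((Nat.coprime_primes hp hq).2 hpq)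
      (prime_dvd_orderOf_of_isPGroup (syl_isPGroup hP) hv hv1) (hxq ▸ dvd_rfl)
    obtain ⟨σ, hσ⟩ : p * q ∈ Set.range (orderOf : ↥(alternatingGroup (Fin n)) → ℕ) :=
      hspec ▸ ⟨g, hg⟩
    have := add_le_of_orderOf hp hq hpq (σ : Equiv.Perm (Fin n)) (by rw [Subgroup.orderOf_coe, hσ])
    omega
  obtain ⟨p, q, hp, hq, p1, hpq, q2⟩ := h2
  obtain ⟨H, -, ⟨hHn, hH⟩, hmin⟩ := exists_minimal_le
    (fun H : Subgroup G => H.Normal ∧ p ∣ Nat.card H) (H := ⊤)
    ⟨inferInstance, by rw [Subgroup.card_top]; exact hdvd p hp p1 (by omega)⟩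
  have hH1 : ⊥ < H := by
    rw [bot_lt_iff_ne_bot]
    rintro rfl
    rw [Subgroup.card_bot] at hH
    exact hp.one_lt.ne' (Nat.dvd_one.1 hH)
  obtain ⟨N, -, ⟨hNn, hNH⟩, hmax⟩ := exists_maximal_ge
    (fun N : Subgroup G => N.Normal ∧ N < H) (H := ⊥) ⟨inferInstance, hH1⟩
  have hN : ¬ p ∣ Nat.card N := fun h => hNH.ne (hmin N ⟨hNn, h⟩ hNH.le)
  have hcQ : Nat.card N * Nat.card (↥H ⧸ N.subgroupOf H) = Nat.card H := by
    rw [← Nat.card_congr (Subgroup.subgroupOfEquivOfLe hNH.le).toEquiv]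
    exact (N.subgroupOf H).card_mul_index
  have hall : ∀ r : ℕ, r.Prime → n < 2 * r → r ≤ n → r ∣ Nat.card (↥H ⧸ N.subgroupOf H) := by
    intro r hr r1 r2
    have h1 := hlink H hHn p r hp p1 (by omega) hr r1 r2 hH
    rw [← hcQ] at h1
    exact ((Nat.Prime.dvd_mul hr).1 h1).resolve_left fun h =>
      hN (hlink N hNn r p hr r1 r2 hp p1 (by omega) h)
  let Hb : Subgroup (G ⧸ N) := H.map (QuotientGroup.mk' N)
  haveI : Hb.Normal := hHn.map _ (QuotientGroup.mk'_surjective N)
  let f : H →* Hb := (QuotientGroup.mk' N).subgroupMap H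
  have hf : Function.Surjective f := MonoidHom.subgroupMap_surjective _ _
  have hker : f.ker = N.subgroupOf H := by
    ext x
    rw [MonoidHom.mem_ker, Subgroup.mem_subgroupOf, ← QuotientGroup.eq_one_iff, Subtype.ext_iff]
    rfl
  let e : (↥H ⧸ N.subgroupOf H) ≃* Hb :=
    (QuotientGroup.quotientMulEquivOfEq hker.symm).trans
      (QuotientGroup.quotientKerEquivOfSurjective f hf)
  have hHb : Hb ≠ ⊥ := by
    intro h
    have := hall p hp p1 (by omega)
    rw [Nat.card_congr e.toEquiv, h, Subgroup.card_bot] at this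
    exact hp.one_lt.ne' (Nat.dvd_one.1 this)
  obtain ⟨T, iT, m, hT, hm, ⟨e'⟩⟩ := Cfsg.Agent.S0721.result Hb hHb (by
    intro M hM hle
    have h1 : N ≤ M.comap (QuotientGroup.mk' N) := QuotientGroup.le_comap_mk' N M
    have h2 : M.comap (QuotientGroup.mk' N) ≤ H := by
      refine (Subgroup.comap_mono hle).trans ?_
      rw [QuotientGroup.comap_map_mk', sup_eq_right.2 hNH.le]
    have h3 : M = (M.comap (QuotientGroup.mk' N)).map (QuotientGroup.mk' N) :=
      (Subgroup.map_comap_eq_self_of_surjective (QuotientGroup.mk'_surjective N) M).symm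
    rcases h2.lt_or_eq with h | h
    · left
      rw [h3, hmax _ ⟨hM.comap _, h⟩ h1, QuotientGroup.map_mk'_self]
    · right
      rw [h3, h])
  have hc : Nat.card (↥H ⧸ N.subgroupOf H) = Nat.card T ^ m := by
    rw [Nat.card_congr (e.trans e').toEquiv, Nat.card_fun, Nat.card_eq_fintype_card (α := Fin m),
      Fintype.card_fin]
  have hm1 : m = 1 := by
    by_contra h
    apply hsq p hp p1
    have h1 := hall p hp p1 (by omega)
    rw [hc] at h1
    have h2 := (pow_dvd_pow_of_dvd (hp.dvd_of_dvd_pow h1) m)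
    rw [← hc] at h2
    exact (pow_dvd_pow p (by omega)).trans (h2.trans ((Dvd.intro_left _ hcQ).trans
      H.card_subgroup_dvd_card))
  subst hm1
  have hsimple : IsSimpleGroup (↥H ⧸ N.subgroupOf H) :=
    (e.trans (e'.trans (MulEquiv.funUnique (Fin 1) T))).isSimpleGroup
  refine ⟨N, H, hNn, hHn, hNH, hsimple, fun hc' => ?_, hall⟩
  have hpr : (Nat.card (↥H ⧸ N.subgroupOf H)).Prime := by
    open scoped IsMulCommutative in
    exact IsSimpleGroup.prime_card
  have a1 := (Nat.prime_dvd_prime_iff_eq hp hpr).1 (hall p hp p1 (by omega))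
  have a2 := (Nat.prime_dvd_prime_iff_eq hq hpr).1 (hall q hq (by omega) q2)
  omega

/-- Let n ≥ 11 and let G be a finite group with the same order and the same set of element orders as the alternating group of degree n. Then G has normal subgroups N < H such that H/N is a non-abelian simple group whose order is divisible by every prime p with n/2 < p ≤ n. -/
theorem result {G : Type*} [Group G] [Finite G] (n : ℕ) (hn : 11 ≤ n)
    (hcard : Nat.card G = Nat.card ↥(alternatingGroup (Fin n)))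
    (hspec : Set.range (orderOf : G → ℕ) = Set.range (orderOf : ↥(alternatingGroup (Fin n)) → ℕ)) :
    ∃ (N H : Subgroup G) (_ : N.Normal), H.Normal ∧ N < H ∧
      IsSimpleGroup (↥H ⧸ N.subgroupOf H) ∧ ¬ IsMulCommutative (↥H ⧸ N.subgroupOf H) ∧
      ∀ p : ℕ, p.Prime → n < 2 * p → p ≤ n → p ∣ Nat.card (↥H ⧸ N.subgroupOf H) := by
  apply core n (by omega) hcard hspec
  by_cases h : n = 11
  · exact ⟨7, 11, by norm_num, by norm_num, by omega, by omega, by omega⟩
  · obtain ⟨p, q, hp, hq, h1, h2, h3⟩ := Cfsg.Agent.H57.exists_two_primes (n / 2) (by omega)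
    exact ⟨p, q, hp, hq, by omega, h2, by omega⟩

end Cfsg.Agent.S3420
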