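import Cfsg.Statements.S3419
import Cfsg.Agent.S3420
import Cfsg.Agent.H57.SpecPerm

set_option autoImplicit false
open Cfsg

namespace Cfsg.Agent.S3419

/-- Let n ≥ 5 and let G be a finite group with the same order and the same set of element orders as the alternating group of degree n. Then G is not solvable. -/
theorem result {G : Type*} [Group G] [Finite G] (n : ℕ) (hn : 5 ≤ n)
    (hcard : Nat.card G = Nat.card ↥(alternatingGroup (Fin n)))
    (hspec : Set.range (orderOf : G → ℕ) = Set.range (orderOf : ↥(alternatingGroup (Fin n)) → ℕ)) :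
    ¬ Group.IsSolvable G := by
  open Cfsg.Agent.H63 Cfsg.Agent.H67 Cfsg.Agent.H57 in
  intro hG
  haveI : Nontrivial (Fin n) := Fin.nontrivial_iff_two_le.2 (by omega)
  have hc : 2 * Nat.card G = n.factorial := by
    rw [hcard, two_mul_nat_card_alternatingGroup, Nat.card_perm, Nat.card_eq_fintype_card,
      Fintype.card_fin]
  have hsp : spec G = spec (alternatingGroup (Fin n)) := hspec
  by_cases h6 : n = 6
  · subst h6
    have hc' : Nat.card (⊤ : Subgroup G) = 360 := by
      rw [Subgroup.card_top]; norm_num [Nat.factorial] at hc; omega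
    rw [spec_A6] at hsp
    rcases three_primes_of_solvable (K := (⊤ : Subgroup G)) Nat.prime_two Nat.prime_three
      Nat.prime_five (by norm_num) (by norm_num) (by norm_num) inferInstance
      (by rw [hc']; norm_num) (by rw [hc']; norm_num) (by rw [hc']; norm_num) with h | h | h
    all_goals
      have h' : _ ∈ spec G := h
      rw [hsp] at h'
      simp at h'
  by_cases h10 : n = 10
  · subst h10
    have hc' : Nat.card (⊤ : Subgroup G) = 1814400 := by
      rw [Subgroup.card_top]; norm_num [Nat.factorial] at hc; omega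
    rw [spec_A10] at hsp
    have h7 : Nat.Prime 7 := by norm_num
    obtain ⟨H, hH⟩ := exists_hall {5, 7} (M := (⊤ : Subgroup G)) inferInstance
    have h5H := H57.dvd_card_hall hH Nat.prime_five (by simp) (by rw [hc']; norm_num)
    have h7H := H57.dvd_card_hall hH h7 (by simp) (by rw [hc']; norm_num)
    have hH1 : H ≠ ⊥ := by
      rintro rfl
      rw [Subgroup.card_bot] at h5H
      norm_num at h5H
    obtain ⟨W, s, hWH, hHW, hW1, hs, hWs⟩ :=
      solvable_norm_abelem (H := H) inferInstance hH1 (Subgroup.le_normalizer (H := H))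
    haveI := Fact.mk hs
    have hWp := elemAb_isPGroup hWs
    obtain ⟨k, hk⟩ := IsPGroup.iff_card.1 hWp
    have hk0 : k ≠ 0 := by
      rintro rfl
      exact hW1 (Subgroup.card_eq_one.1 hk)
    have hsd : s ∣ Nat.card H :=
      (hWp.card_eq_or_dvd.resolve_left fun h => hW1 (Subgroup.card_eq_one.1 h)).trans
        (Subgroup.card_dvd_of_le hWH)
    have hWG : s ^ k ∣ 1814400 := by
      rw [← hk, ← hc']; exact Subgroup.card_dvd_of_le le_top
    have hno : ¬ ∃ g : G, orderOf g = 5 * 7 := by
      intro h
      have h' : _ ∈ spec G := h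
      rw [hsp] at h'
      simp at h'
    rcases hH.2.1 s hs hsd with rfl | rfl
    · have hk3 : k < 3 := by
        by_contra h
        have := (pow_dvd_pow 5 (show 3 ≤ k by omega)).trans hWG
        norm_num at this
      obtain ⟨x, hx, hxo⟩ := exists_mem_orderOf_eq h7 h7H
      obtain ⟨v, hv, hv1, hcm⟩ := exists_commute_of_card_mod h7 hxo (hHW hx) (by
        rw [hk]; interval_cases k <;> first | contradiction | decide)
      exact hno (exists_orderOf_mul_of_commute hcm (by norm_num)
        (prime_dvd_orderOf_of_isPGroup hWp hv hv1) (by rw [hxo]))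
    · have hk3 : k < 2 := by
        by_contra h
        have := (pow_dvd_pow 7 (show 2 ≤ k by omega)).trans hWG
        norm_num at this
      obtain ⟨x, hx, hxo⟩ := exists_mem_orderOf_eq Nat.prime_five h5H
      obtain ⟨v, hv, hv1, hcm⟩ := exists_commute_of_card_mod Nat.prime_five hxo (hHW hx) (by
        rw [hk]; interval_cases k <;> first | contradiction | decide)
      exact hno (exists_orderOf_mul_of_commute hcm.symm (by norm_num) (by rw [hxo])
        (prime_dvd_orderOf_of_isPGroup hWp hv hv1))
  obtain ⟨N, H, hN, hH, hNH, hs, hc, -⟩ := Cfsg.Agent.S3420.core n hn hcard hspec (by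
    by_cases h5 : n = 5
    · exact ⟨3, 5, by norm_num, by norm_num, by omega, by omega, by omega⟩
    by_cases h9 : n ≤ 9
    · exact ⟨5, 7, by norm_num, by norm_num, by omega, by omega, by omega⟩
    by_cases h : n = 11
    · exact ⟨7, 11, by norm_num, by norm_num, by omega, by omega, by omega⟩
    · obtain ⟨p, q, hp, hq, h1, h2, h3⟩ := exists_two_primes (n / 2) (by omega)
      exact ⟨p, q, hp, hq, by omega, h2, by omega⟩)
  exact hc ⟨⟨IsSimpleGroup.comm_iff_isSolvable.2 inferInstance⟩⟩

end Cfsg.Agent.S3419
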