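import Cfsg.Statements.S3421
import Cfsg.Agent.H3.PureP
import Cfsg.Agent.H15.BSW5
import Cfsg.Agent.H61.ZassFeit
import Cfsg.Agent.H11.ZassClass
import Cfsg.Agent.H28.PSL2Small
import Cfsg.Agent.H28.Transport
import Cfsg.Agent.S2475

set_option autoImplicit false
open Cfsg

namespace Cfsg.Agent.S3421

open Subgroup Cfsg.Agent.H63 Cfsg.Agent.H67 Cfsg.Agent.H3

theorem selfC_and_index {G : Type*} [Group G] [Finite G] {p : ℕ} [hp : Fact p.Prime]
    (h : PureP p G) (P : Sylow p G) {q d : ℕ} (hq : 3 < q) (hP : Nat.card P = q)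
    (hd : d = 1 ∧ p = 2 ∨ d = 2 ∧ p ≠ 2) (hG : d * Nat.card G = q * (q ^ 2 - 1)) :
    H15.SelfC (P : Subgroup G) ∧ N[(P : Subgroup G)].index = q + 1 := by
  have hPs := syl_top P
  have hPp := P.isPGroup'
  have hne : (P : Subgroup G) ≠ ⊥ := fun e => by rw [e, card_bot] at hP; omega
  have hcent : ∀ y ∈ (P : Subgroup G), y ≠ 1 → IsPGroup p C1[y] := fun y hy h1 x =>
    ⟨1, Subtype.ext (by
      simpa using h.pow_eq_one_of_commute (h.pow_eq_one hPp hy) h1
        (mem_centralizer_singleton_iff.1 x.2))⟩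
  have hself : IsMulCommutative (P : Subgroup G) → H15.SelfC (P : Subgroup G) := fun hc y hy h1 =>
    syl_eq_of_le hPs (hcent y hy h1) (fun x hx => mem_centralizer_singleton_iff.2
      (congrArg Subtype.val (hc.is_comm.comm ⟨x, hx⟩ ⟨y, hy⟩))) le_top
  have h2 : p = 2 → IsMulCommutative (P : Subgroup G) := by
    rintro rfl
    refine ⟨⟨fun a b => ?_⟩⟩
    have hsq : ∀ x : (P : Subgroup G), x * x = 1 := fun x =>
      Subtype.ext (by simpa [sq] using h.pow_eq_one hPp x.2)
    exact (Commute.of_orderOf_dvd_two (fun x => orderOf_dvd_of_pow_eq_one (by rw [sq, hsq])) a b)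
  have hTI : ∀ u ∈ (P : Subgroup G), u ≠ 1 → ∀ g : G, g * u * g⁻¹ ∈ (P : Subgroup G) →
      g ∈ N[(P : Subgroup G)] := by
    intro u hu h1 g hg
    by_cases hp2 : p = 2
    · exact (hself (h2 hp2)).mem_normalizer hu h1 hg
    · refine cj_eq_self_iff.1 (h.syl_unique hp2 (D := zpowers (g * u * g⁻¹)) (by simpa using h1)
        (hall_cj_top hPs g) hPs (zpowers_le.2 (conj_mem_cj hu)) (zpowers_le.2 hg))
  have hmod : N[(P : Subgroup G)].index ≡ 1 [MOD q] := by
    have hfix : ∀ u ∈ (P : Subgroup G), u ≠ 1 → ∀ a : G ⧸ N[(P : Subgroup G)], u • a = a →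
        a = ((1 : G) : G ⧸ N[(P : Subgroup G)]) := by
      intro u hu h1 a ha
      obtain ⟨g, rfl⟩ := QuotientGroup.mk_surjective a
      rw [H5.smul_coe_eq_iff] at ha
      have h3 : g⁻¹ * u * g ∈ (P : Subgroup G) := by
        refine le_syl_of_le_normalizer hPs le_top (K := zpowers (g⁻¹ * u * g)) ?_
          (Or.inr (zpowers_le.2 ha)) (mem_zpowers _)
        refine H8.isPGroup_zpowers_of_pow_eq_one (k := 1) ?_
        have := h.pow_eq_one hPp hu
        rw [pow_one, show g⁻¹ * u * g = g⁻¹ * u * g⁻¹⁻¹ by rw [inv_inv], conj_pow, this]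
        simp
      exact QuotientGroup.eq.2 (by simpa using hTI u hu h1 g⁻¹ (by simpa using h3))
    have := H5.AtMostOneFixed.card_modEq_one_of_fixed (L := (P : Subgroup G))
      (Ω := G ⧸ N[(P : Subgroup G)]) (a := ((1 : G) : G ⧸ N[(P : Subgroup G)]))
      (fun u h1 a b ha hb => by
        rw [hfix u u.2 (fun e => h1 (Subtype.ext e)) a ha, hfix u u.2 (fun e => h1 (Subtype.ext e)) b hb])
      (fun u => H5.smul_coe_eq_iff.2 (by simpa using le_normalizer u.2))
    rwa [hP] at this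
  obtain ⟨E, hE⟩ := exists_isSdp_of_normal_hall (hall_isHallOf
    (hall_of_le hPs le_normalizer le_top)) (normalIn_normalizer (P : Subgroup G))
  have hreg : Semiregular (P : Subgroup G) E := semiregular_of_commute fun x hx h1 k hk hc => by
    by_contra hk1
    have h3 := h.pow_eq_one_of_commute (h.pow_eq_one hPp hk) hk1 hc.symm
    exact h1 (hE.eq_one (le_syl_of_le_normalizer hPs le_top (K := zpowers x)
      (H8.isPGroup_zpowers_of_pow_eq_one (k := 1) (by rwa [pow_one]))
      (Or.inr (zpowers_le.2 (hE.le_right hx))) (mem_zpowers x)) hx)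
  have he1 := Nat.le_of_dvd (by omega) (hreg.card_dvd_pred hE.le_right)
  have he2 := (hreg.mono_left (inf_le_left : Z[(P : Subgroup G)] ≤ P)).card_lt
    (hE.le_right.trans (normalIn_normalizer _).center.norm)
    (center_ne_bot_of_isNilpotent hPp.isNilpotent hne)
  have he3 := H67.card_mul_relIndex (inf_le_left : Z[(P : Subgroup G)] ≤ P)
  have hN := hE.card
  have hi := N[(P : Subgroup G)].card_mul_index
  rw [hP] at he1 hN he3
  have he0 : 0 < Nat.card E := Nat.card_pos
  obtain ⟨k, hk⟩ : ∃ k, N[(P : Subgroup G)].index = 1 + q * k := by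
    obtain ⟨k, hk⟩ := (Nat.modEq_iff_dvd' (Nat.one_le_iff_ne_zero.2 index_ne_zero_of_finite)).1
      hmod.symm
    have := Nat.one_le_iff_ne_zero.2 (index_ne_zero_of_finite (H := N[(P : Subgroup G)]))
    exact ⟨k, by omega⟩
  rw [hk]
  rw [← hi, hN, hk] at hG
  generalize Nat.card E = e at *
  have h3 : d * e * (1 + q * k) + 1 = q * q := by
    have : q * (d * e * (1 + q * k)) = q * (q ^ 2 - 1) := by rw [← hG]; ring
    rw [Nat.eq_of_mul_eq_mul_left (by omega) this, sq]
    have : 0 < q * q := by positivity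
    omega
  have h4 : d * e + 1 = q := by
    have h5 : q ∣ d * e + 1 := (Nat.dvd_add_right (dvd_mul_right q (d * e * k))).1
      ⟨q, by rw [← h3]; ring⟩
    obtain ⟨j, hj⟩ := h5
    have : j = 1 := by
      rcases j with _ | _ | j
      · omega
      · rfl
      · exfalso
        have : q * (j + 1 + 1) ≥ q * 2 := Nat.mul_le_mul_left _ (by omega)
        rcases hd with ⟨rfl, -⟩ | ⟨rfl, -⟩ <;> omega
    rw [hj, this, mul_one]
  have h5 : k = 1 := by
    have h6 : d * e * (1 + q * k) = d * e * (1 + q * 1) := by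
      have : d * e * (1 + q * 1) + 1 = q * q := by rw [← h4]; ring
      omega
    have := Nat.eq_of_mul_eq_mul_left (by omega) h6
    exact Nat.eq_of_mul_eq_mul_left (by omega : 0 < q) (by omega)
  refine ⟨hself (le_centralizer_iff_isMulCommutative.1 ((relIndex_eq_one.1 ?_).trans
    (inf_le_right : Z[(P : Subgroup G)] ≤ _))), by rw [h5]; ring⟩
  by_contra h1
  have h0 : (Z[(P : Subgroup G)]).relIndex P ≠ 0 := fun e => by rw [e] at he3; omega
  have := Nat.mul_le_mul_left (Nat.card ↥Z[(P : Subgroup G)])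
    (show 2 ≤ (Z[(P : Subgroup G)]).relIndex P by omega)
  rcases hd with ⟨rfl, -⟩ | ⟨rfl, -⟩ <;> omega

theorem iso_of_isZ {G Ω : Type*} [Group G] [Finite G] [MulAction G Ω] [Finite Ω] {p : ℕ}
    [hp : Fact p.Prime] (h : PureP p G) {P : Subgroup G} (hPp : IsPGroup p P) (hZ : H61.IsZ G Ω)
    {w : Ω} (hK : H61.IsKer P w) (hcomm : ∀ u ∈ P, ∀ v ∈ P, u * v = v * u) {q e : ℕ} (hF : 3 < q)
    (hP : Nat.card P = q) (hΩ : Nat.card Ω = q + 1) (hG' : Nat.card G = q * ((q + 1) * e))
    (hd : e + 1 = q ∧ p = 2 ∨ 2 * e + 1 = q ∧ p ≠ 2 ∧ e + 1 ∈ Set.range (orderOf : G → ℕ)) :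
    ∃ (K : Type) (_ : Field K) (_ : Fintype K), Nat.card Ω = Fintype.card K + 1 ∧
      Nonempty (G ≃* Matrix.ProjectiveSpecialLinearGroup (Fin 2) K) := by
  have : Nontrivial Ω := Finite.one_lt_card_iff_nontrivial.1 (by omega)
  obtain ⟨o, ho⟩ := exists_ne w
  have hst : Nat.card (H61.stab2 G w o) = e := by
    have h1 := hZ.card_eq ho.symm
    rw [hΩ, hG', Nat.add_sub_cancel] at h1
    exact (Nat.eq_of_mul_eq_mul_left (Nat.mul_pos (by omega) (by omega) : 0 < (q + 1) * q)
      (by rw [mul_assoc (q + 1) q, mul_assoc (q + 1) q, ← h1]; ring)).symm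
  have hpq : p ∣ q := hP ▸ (hPp.card_eq_or_dvd.resolve_left (by omega))
  rcases hd with ⟨hd, rfl⟩ | ⟨hd, hp2, g, hg⟩
  · obtain ⟨K, _, _, h1, ⟨f⟩⟩ := (hZ.isSharp3_of_card ho.symm (by omega)).iso_PGL_of_odd
      (by omega) (by rw [hΩ]; exact (even_iff_two_dvd.2 hpq).add_one)
    obtain ⟨f'⟩ := H11.pgl_equiv_psl_of_even K (by
      rw [Nat.card_eq_fintype_card, show Fintype.card K = q by omega]; exact even_iff_two_dvd.2 hpq)
    exact ⟨K, _, _, h1, ⟨f.trans f'⟩⟩
  have hZ' : IsZassenhausGroup G Ω := by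
    refine ⟨hZ.faithfulSMul, hZ.two, hZ.three, ?_, fun M hM hMt => ?_⟩
    · obtain ⟨g, hg, h1⟩ := (bot_or_exists_ne_one (H61.stab2 G w o)).resolve_left
        fun e => by rw [e, card_bot] at hst; omega
      exact ⟨g, h1, _, _, ho.symm, hg.1, hg.2⟩
    by_contra hn
    push Not at hn
    have hMc : Nat.card M = q + 1 := by
      have := (MulAction.stabilizer M o).card_mul_index
      rw [MulAction.index_stabilizer_of_transitive, hn, card_bot, one_mul, hΩ] at this
      exact this.symm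
    have hgM : g ∈ M := H8.mem_of_coprime_orderOf_index (by
      have := M.card_mul_index
      rw [hMc, hG'] at this
      rw [hg, Nat.eq_of_mul_eq_mul_left (by omega : 0 < q + 1)
        (show (q + 1) * M.index = (q + 1) * (q * e) by rw [this]; ring)]
      refine Nat.Coprime.mul_right ?_ (by simp)
      rw [show q = (e + 1) + e by omega]
      simp)
    haveI : Fact (Nat.Prime 2) := ⟨Nat.prime_two⟩
    obtain ⟨t, ht⟩ := exists_prime_orderOf_dvd_card' (G := M) 2 (by omega)
    have ht1 : (t : G) ≠ 1 := fun e => by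
      rw [← orderOf_coe, e, orderOf_one] at ht; omega
    let f : P → {x : M // x ≠ 1} := fun u =>
      ⟨⟨u * t * (u : G)⁻¹, hM.conj_mem _ t.2 _⟩, fun e => ht1 (by simpa using congrArg Subtype.val e)⟩
    have hf : Function.Injective f := fun u v huv => by
      have h1 : (u : G) * t * (u : G)⁻¹ = v * t * (v : G)⁻¹ :=
        congrArg (fun x : {x : M // x ≠ 1} => (x.1 : G)) huv
      by_contra hne
      have h2 := h.pow_eq_one_of_commute (h.pow_eq_one hPp (mul_mem (inv_mem v.2) u.2))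
        (fun e => hne (Subtype.ext (inv_mul_eq_one.1 e).symm)) (c := t) (by
          change (t : G) * ((v : G)⁻¹ * u) = (v : G)⁻¹ * u * t
          calc (t : G) * ((v : G)⁻¹ * u) = (v : G)⁻¹ * (v * t * (v : G)⁻¹) * u := by group
            _ = _ := by rw [← h1]; group)
      have h3 := orderOf_dvd_of_pow_eq_one h2
      rw [orderOf_coe, ht] at h3
      exact hp2 ((Nat.prime_dvd_prime_iff_eq Nat.prime_two hp.out).1 h3).symm
    obtain ⟨u, hu⟩ := ((Nat.bijective_iff_injective_and_card f).2 ⟨hf, by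
      rw [H61.natCard_ne, hMc, hP, Nat.add_sub_cancel]⟩).2 ⟨⟨g, hgM⟩, fun e => by
        rw [show g = 1 from congrArg Subtype.val e, orderOf_one] at hg; omega⟩
    have h1 : (u : G) * t * (u : G)⁻¹ = g := congrArg (fun x : {x : M // x ≠ 1} => (x.1 : G)) hu
    rw [← h1, H9.orderOf_conj', orderOf_coe, ht] at hg
    omega
  rcases H61.zass_abelian_kernel hZ' ho hK hcomm with
    h1 | ⟨-, K, _, _, -, h1, h2⟩
  · omega
  · exact ⟨K, _, _, h1, h2⟩


/-- Let F be a finite field with more than 3 elements. A finite group G is isomorphic to PSL(2, F) if and only if G has the same set of element orders and the same order as PSL(2, F). -/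
theorem result {G : Type*} [Group G] [Finite G] {F : Type*} [Field F] [Fintype F] (hF : 3 < Fintype.card F) :
    Nonempty (G ≃* Matrix.ProjectiveSpecialLinearGroup (Fin 2) F) ↔
      (Set.range (orderOf : G → ℕ) = Set.range (orderOf : Matrix.ProjectiveSpecialLinearGroup (Fin 2) F → ℕ) ∧
        Nat.card G = Nat.card (Matrix.ProjectiveSpecialLinearGroup (Fin 2) F)) := by
  refine ⟨fun ⟨e⟩ => ⟨H57.spec_congr e, Nat.card_congr e.toEquiv⟩, fun ⟨hs, hc⟩ => ?_⟩
  obtain ⟨p, hpF⟩ := CharP.exists F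
  obtain ⟨n, hp, hq⟩ := FiniteField.card F p
  haveI := Fact.mk hp
  rw [S2475.result p hF] at hs
  have hG := H28.card_PSL2 (F := F) rfl
  rw [← hc] at hG
  set q := Fintype.card F with hqd
  set d := Nat.gcd 2 (q - 1) with hdd
  have hpq : p ∣ q := hq ▸ dvd_pow_self p n.ne_zero
  have hd : d = 1 ∧ p = 2 ∨ d = 2 ∧ p ≠ 2 := by
    rcases hp.eq_two_or_odd' with rfl | ho
    · refine Or.inl ⟨(Nat.coprime_two_left.2 ?_ :), rfl⟩
      obtain ⟨c, hc⟩ := hpq
      exact ⟨c - 1, by omega⟩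
    · refine Or.inr ⟨Nat.gcd_eq_left ?_, by rintro rfl; exact absurd ho (by decide)⟩
      obtain ⟨c, hc⟩ : Odd q := hq ▸ ho.pow
      exact ⟨c, by omega⟩
  have hd1 : d ∣ q - 1 := Nat.gcd_dvd_right _ _
  have hd2 : d ∣ q + 1 := by
    rw [show q + 1 = q - 1 + 2 by omega]; exact dvd_add hd1 (Nat.gcd_dvd_left _ _)
  have hn1 : ¬ p ∣ q - 1 := fun h => hp.one_lt.ne' (Nat.dvd_one.1 (by
    have := Nat.dvd_sub hpq h
    rwa [show q - (q - 1) = 1 by omega] at this))
  have hn2 : ¬ p ∣ q + 1 := fun h => hp.one_lt.ne' (Nat.dvd_one.1 ((Nat.dvd_add_right hpq).1 h))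
  have h : PureP p G := fun g hg => by
    rcases hs.le ⟨g, rfl⟩ with h1 | h1 | h1
    · exact Nat.dvd_antisymm h1 hg
    · exact absurd (hg.trans (h1.trans (Nat.div_dvd_of_dvd hd1))) hn1
    · exact absurd (hg.trans (h1.trans (Nat.div_dvd_of_dvd hd2))) hn2
  obtain ⟨P⟩ : Nonempty (Sylow p G) := inferInstance
  have hsq : q ^ 2 - 1 = (q + 1) * (q - 1) := by simpa using Nat.sq_sub_sq q 1
  obtain ⟨e, he⟩ := hd1
  have hG' : Nat.card G = q * ((q + 1) * e) :=
    Nat.eq_of_mul_eq_mul_left (by omega : 0 < d) (by rw [hG, hsq, he]; ring)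
  have hcop : q.Coprime ((q + 1) * e) := by
    rw [hq]
    refine Nat.Coprime.pow_left _ ((Nat.Prime.coprime_iff_not_dvd hp).2 fun hh => ?_)
    rw [← hq] at hh
    exact ((Nat.Prime.dvd_mul hp).1 hh).elim hn2 fun h1 => hn1 (he ▸ h1.mul_left d)
  have hP : Nat.card P = q := by
    rw [P.card_eq_multiplicity, hG', Nat.factorization_mul_of_coprime hcop, Finsupp.add_apply,
      Nat.factorization_eq_zero_of_not_dvd (n := (q + 1) * e)
        (fun hh => hp.one_lt.ne' (Nat.eq_one_of_dvd_coprimes hcop hpq hh)), hq]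
    simp [hp.factorization_pow]
  obtain ⟨hself, hi⟩ := selfC_and_index h P hF hP hd hG
  have hPi : (P : Subgroup G).index = (q + 1) * e := by
    have := (P : Subgroup G).card_mul_index
    rw [hP, hG'] at this
    exact Nat.eq_of_mul_eq_mul_left (by omega) this
  have hK := hself.isKer (by rwa [hP, hPi]) (by rw [hi, hP])
  rw [index_eq_card] at hi
  have hZ := H15.isZ_of_isKer hself hK (by omega)
  obtain ⟨K, _, _, h1, ⟨f⟩⟩ := iso_of_isZ h P.isPGroup' hZ hK (fun u hu v hv => hself.comm hu hv) hF hP hi hG'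
    (hd.imp (fun h => ⟨by rw [h.1] at he; omega, h.2⟩) fun h => ⟨by rw [h.1] at he; omega, h.2,
      hs.ge (Or.inr (Or.inr (by rw [h.1] at he ⊢; rw [show (q + 1) / 2 = e + 1 by omega])))⟩)
  exact ⟨f.trans (H28.pslEquiv (FiniteField.ringEquivOfCardEq (by omega)) _)⟩

end Cfsg.Agent.S3421
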