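import Cfsg.Statements.S3493
import Cfsg.Agent.H62.ExtPrimKey
import Cfsg.Agent.H98.SylIn

set_option autoImplicit false
open Cfsg

namespace Cfsg.Agent.S3493

open MulAction H62

theorem isCoatom_stabilizer {G : Type*} [Group G] [Finite G] {Ω : Type*} [Fintype Ω]
    [MulAction G Ω] [FaithfulSMul G Ω] (hprim : IsPreprimitive G Ω)
    (hH : ∀ α : Ω, stabilizer G α ≠ ⊥)
    (hep : ∀ (α : Ω) (ω : Ω), IsPreprimitive (stabilizer G α) (orbit (stabilizer G α) ω))
    (α ω : Ω) (hω : ω ≠ α) : IsCoatom (stabilizer (stabilizer G α) ω) := by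
  haveI := faithfulSMul_suborbit hprim hH hep α ω hω
  haveI := hep α ω
  haveI : Nontrivial (orbit (stabilizer G α) ω) := by
    by_contra h
    rw [not_nontrivial_iff_subsingleton] at h
    apply hH α
    rw [eq_bot_iff]
    intro g hg
    have : (⟨g, hg⟩ : stabilizer G α) = 1 :=
      FaithfulSMul.eq_of_smul_eq_smul (α := orbit (stabilizer G α) ω) fun _ => Subsingleton.elim _ _
    exact congrArg Subtype.val this
  have h := IsPreprimitive.isCoatom_stabilizer_of_isPreprimitive (stabilizer G α)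
    (⟨ω, mem_orbit_self ω⟩ : orbit (stabilizer G α) ω)
  have e : stabilizer (stabilizer G α) (⟨ω, mem_orbit_self ω⟩ : orbit (stabilizer G α) ω) =
      stabilizer (stabilizer G α) ω := by
    ext g
    rw [mem_stabilizer_iff, mem_stabilizer_iff, Subtype.ext_iff]
    rfl
  rwa [e] at h

theorem exists_smul_eq_of_normal {G : Type*} [Group G] [Finite G] {Ω : Type*} [Fintype Ω]
    [MulAction G Ω] [FaithfulSMul G Ω] (hprim : IsPreprimitive G Ω)
    (hH : ∀ α : Ω, stabilizer G α ≠ ⊥)
    (hep : ∀ (α : Ω) (ω : Ω), IsPreprimitive (stabilizer G α) (orbit (stabilizer G α) ω))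
    (α : Ω) (L : Subgroup (stabilizer G α)) [L.Normal] (hL : L ≠ ⊥) (ω : Ω) (g : stabilizer G α) :
    ∃ l ∈ L, (l : G) • ω = (g : G) • ω := by
  by_cases hω : ω = α
  · exact ⟨1, L.one_mem, by rw [hω, g.2]; simp⟩
  haveI := faithfulSMul_suborbit hprim hH hep α ω hω
  haveI := hep α ω
  haveI := isPretransitive_of_normal_ne_bot (Ω := orbit (stabilizer G α) ω) L hL
  obtain ⟨l, hl⟩ := exists_smul_eq L (⟨ω, mem_orbit_self ω⟩ : orbit (stabilizer G α) ω)
    ⟨g • ω, mem_orbit ω g⟩
  exact ⟨l, l.2, congrArg Subtype.val hl⟩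

theorem false_of_diagonal {G : Type*} [Group G] [Finite G] {Ω : Type*} [Fintype Ω]
    [MulAction G Ω] [FaithfulSMul G Ω] (hprim : IsPreprimitive G Ω)
    (hH : ∀ α : Ω, stabilizer G α ≠ ⊥)
    (hep : ∀ (α : Ω) (ω : Ω), IsPreprimitive (stabilizer G α) (orbit (stabilizer G α) ω))
    (α : Ω) {N T : Subgroup G} (hT : IsFactor N T) (h1 : T ⊓ stabilizer G α = ⊥)
    (h2 : ∀ u ∈ T, ∃ c ∈ Subgroup.centralizer (T : Set G), (u * c) • α = α)
    (M : Subgroup G) [M.Normal] (hM : ∀ m ∈ M, ∀ t ∈ T, m * t * m⁻¹ ∈ T)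
    (hMα : M.subgroupOf (stabilizer G α) ≠ ⊥) : False := by
  haveI := (Subgroup.nontrivial_iff_ne_bot T).2 hT.ne_bot
  haveI := hT.isSimpleGroup
  have hinj : ∀ s ∈ T, ∀ t ∈ T, s • α = t • α → s = t := by
    intro s hs t ht h
    have : t⁻¹ * s ∈ T ⊓ stabilizer G α :=
      ⟨T.mul_mem (T.inv_mem ht) hs, show (t⁻¹ * s) • α = α by rw [mul_smul, h, inv_smul_smul]⟩
    rw [h1, Subgroup.mem_bot, inv_mul_eq_one] at this
    exact this.symm
  refine false_of_coatom_stabilizers (T := T) (A := stabilizer G α) ?_ ?_ (fun t => (t : G) • α)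
    (fun s t h => Subtype.ext (hinj s s.2 t t.2 h)) ?_ ?_ ?_
  · refine ⟨(IsSimpleGroup.eq_bot_or_eq_top_of_normal _ inferInstance).resolve_left fun h => ?_⟩
    exact hT.noncommT ((commutator_eq_bot_iff T).1 h)
  · intro p hp L hL hLp
    refine (IsSimpleGroup.eq_bot_or_eq_top_of_normal L hL).resolve_right fun h => ?_
    rw [h] at hLp
    exact hT.not_isPGroup p hp (hLp.of_equiv Subgroup.topEquiv)
  · intro a
    have hai : (a : G)⁻¹ • α = α := (stabilizer G α).inv_mem a.2
    rcases hT.conj_or a with h | h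
    · refine ⟨MonoidHom.mk' (fun t => ⟨a * t * (a : G)⁻¹, h t t.2⟩) (fun s t => Subtype.ext (by simp [mul_assoc])),
        Or.inl fun t => ?_⟩
      show (a : G) • (t : G) • α = ((a : G) * t * (a : G)⁻¹) • α
      rw [mul_smul, mul_smul, hai]
    · have hex : ∀ t : T, ∃ s : T, (a : G) • (t : G) • α = (s : G)⁻¹ • α := by
        intro t
        obtain ⟨l, hl, hl2⟩ := exists_smul_eq_of_normal hprim hH hep α _ hMα ((t : G) • α) a
        have hli : (l : G)⁻¹ • α = α := (stabilizer G α).inv_mem l.2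
        refine ⟨⟨_, T.inv_mem (hM l hl t t.2)⟩, ?_⟩
        rw [← hl2, inv_inv, mul_smul, mul_smul, hli]
      choose φ hφ using hex
      refine ⟨MonoidHom.mk' φ fun s t => Subtype.ext (inv_injective (hinj _ (T.inv_mem (φ _).2) _
        (T.inv_mem (φ s * φ t).2) ?_)), Or.inr hφ⟩
      have hc := (h s s.2).1 _ (T.inv_mem (φ t).2)
      rw [← hφ, Subgroup.coe_mul, Subgroup.coe_mul, mul_inv_rev, mul_smul, mul_smul, ← hφ s]
      calc (a : G) • (s : G) • (t : G) • α = ((a : G) * s * (a : G)⁻¹) • (a : G) • (t : G) • α := by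
            rw [mul_smul, mul_smul, inv_smul_smul]
        _ = ((φ t : G)⁻¹ * ((a : G) * s * (a : G)⁻¹)) • α := by rw [hφ t, smul_smul, hc]
        _ = _ := by rw [mul_smul, mul_smul, mul_smul, hai]
  · intro u
    obtain ⟨c, hc, huc⟩ := h2 u u.2
    refine ⟨⟨u * c, huc⟩, fun t => ?_⟩
    show ((u : G) * c) • (t : G) • α = ((u : G) * t * (u : G)⁻¹) • α
    have : c • α = (u : G)⁻¹ • α := by rw [eq_inv_smul_iff, smul_smul, huc]
    rw [smul_smul, mul_assoc, ← hc t t.2, ← mul_assoc, mul_smul, this, smul_smul]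
  · intro t ht
    exact isCoatom_stabilizer hprim hH hep α _ fun h =>
      ht (Subtype.ext (hinj t t.2 1 T.one_mem (by rw [one_smul]; exact h)))

/-- An extremely primitive permutation group is of affine type or almost simple. Let a finite group G act faithfully and primitively on a finite set Ω with at least two points, in such a way that every point stabilizer acts primitively on each of its own orbits in Ω (an orbit of size one counts as primitive). Then either G has a non-trivial abelian normal subgroup whose elements other than the identity fix no point (affine type), or G has a non-abelian simple normal subgroup with trivial centralizer (almost simple). -/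
theorem result {G : Type*} [Group G] [Finite G] {Ω : Type*} [Fintype Ω] [MulAction G Ω] [FaithfulSMul G Ω] (hΩ : 2 ≤ Fintype.card Ω) (hprim : MulAction.IsPreprimitive G Ω) (hep : ∀ (α : Ω) (ω : Ω), MulAction.IsPreprimitive (MulAction.stabilizer G α) (MulAction.orbit (MulAction.stabilizer G α) ω)) :
    (∃ N : Subgroup G, N.Normal ∧ N ≠ ⊥ ∧ IsMulCommutative N ∧ ∀ ω : Ω, MulAction.stabilizer N ω = ⊥) ∨ (∃ T : Subgroup G, T.Normal ∧ IsSimpleGroup T ∧ ¬ IsMulCommutative T ∧ Subgroup.centralizer (T : Set G) = ⊥) := by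
  haveI : Nontrivial Ω := Fintype.one_lt_card_iff_nontrivial.1 hΩ
  obtain ⟨α⟩ : Nonempty Ω := inferInstance
  have htop : (⊤ : Subgroup G) ≠ ⊥ := fun h =>
    stabilizer_ne_top (G := G) α (eq_top_iff.2 (h ▸ bot_le))
  have haff : ∀ N : Subgroup G, N.Normal → N ≠ ⊥ → IsMulCommutative N →
      ∃ N : Subgroup G, N.Normal ∧ N ≠ ⊥ ∧ IsMulCommutative N ∧ ∀ ω : Ω, stabilizer N ω = ⊥ := by
    intro N hN hN1 hc
    haveI := isPretransitive_of_normal_ne_bot (Ω := Ω) N hN1
    refine ⟨N, hN, hN1, hc, fun a => eq_bot_iff.2 fun n hn => ?_⟩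
    exact Subtype.ext (eq_one_of_mem_centralizer_of_smul_eq N n
      (Subgroup.le_centralizer_iff_isMulCommutative.2 hc n.2) a hn)
  by_cases hα : stabilizer G α = ⊥
  · left
    have h := IsPreprimitive.isCoatom_stabilizer_of_isPreprimitive G α
    rw [hα] at h
    haveI := Fact.mk (prime_card_of_isCoatom_bot h)
    haveI : IsCyclic G := isCyclic_of_prime_card rfl
    exact haff ⊤ inferInstance htop inferInstance
  have hH := stabilizer_ne_bot_of_ne_bot hα
  obtain ⟨N, hN, hN1, -, hmin⟩ := H2.exists_minimal_normal_le (⊤ : Subgroup G) htop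
  by_cases hc : IsMulCommutative N
  · exact Or.inl (haff N hN hN1 hc)
  right
  obtain ⟨T, hT⟩ := exists_isFactor N hmin hc
  obtain ⟨⟨u, hu⟩, hu1⟩ := Subgroup.ne_bot_iff_exists_ne_one.1 hT.ne_bot
  have hu1' : u ≠ 1 := fun h => hu1 (Subtype.ext h)
  by_cases hC : Subgroup.centralizer (N : Set G) = ⊥
  swap
  · exfalso
    haveI := isPretransitive_of_normal_ne_bot (Ω := Ω) _ hC
    have h2 : ∀ u ∈ T, ∃ c ∈ Subgroup.centralizer (N : Set G), (u * c) • α = α := by
      intro u _
      obtain ⟨c, hc⟩ := exists_smul_eq (Subgroup.centralizer (N : Set G)) α (u⁻¹ • α)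
      exact ⟨c, c.2, by rw [mul_smul, show (c : G) • α = u⁻¹ • α from hc, smul_inv_smul]⟩
    refine false_of_diagonal hprim hH hep α hT (eq_bot_iff.2 fun t ht =>
      hT.eq_one_of_centralizer_ne_bot hC (hT.le ht.1) ht.2) (fun u hu => ?_)
      (N ⊔ Subgroup.centralizer (N : Set G)) ?_ ?_
    · obtain ⟨c, hc, h⟩ := h2 u hu
      exact ⟨c, fun t ht => hc t (hT.le ht), h⟩
    · intro m hm t ht
      obtain ⟨n, hn, c, hc, rfl⟩ := Subgroup.mem_sup_of_normal_right.1 hm
      have := hT.conj_mem n hn t ht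
      rwa [mul_assoc n c, ← hc t (hT.le ht), mul_inv_rev, ← mul_assoc, ← mul_assoc,
        mul_inv_cancel_right]
    · obtain ⟨c, hc, h⟩ := h2 u hu
      intro hbot
      have h3 : (⟨u * c, h⟩ : stabilizer G α) ∈ (N ⊔ Subgroup.centralizer (N : Set G)).subgroupOf _ :=
        Subgroup.mul_mem_sup (hT.le hu) hc
      rw [hbot, Subgroup.mem_bot] at h3
      have h4 : u = c⁻¹ := eq_inv_of_mul_eq_one_left (congrArg Subtype.val h3)
      exact hu1' (hT.eq_one_of_comm hu fun t ht => h4 ▸ (Subgroup.inv_mem _ hc) t (hT.le ht))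
  by_cases hTN : T = N
  · subst hTN
    exact ⟨T, hN, hT.isSimpleGroup, hc, hC⟩
  exfalso
  obtain ⟨g, hgα, hg⟩ : ∃ g : G, g • α = α ∧ ∀ x ∈ T, g * x * g⁻¹ ∈ cofac N T := by
    obtain ⟨g, hg⟩ := hT.exists_conj_cofac hTN
    obtain ⟨n, hn, hn2⟩ := hT.exists_smul_eq' α (g⁻¹ • α)
    refine ⟨g * n, by rw [mul_smul, hn2, smul_inv_smul], fun x hx => ?_⟩
    simpa [mul_assoc] using hg _ (hT.conj_mem n hn x hx)
  by_cases hL : N.subgroupOf (stabilizer G α) = ⊥
  · have hreg : ∀ n ∈ N, n • α = α → n = 1 := by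
      intro n hn h
      have : (⟨n, h⟩ : stabilizer G α) ∈ N.subgroupOf _ := hn
      rw [hL, Subgroup.mem_bot] at this
      exact congrArg Subtype.val this
    have huα : u • α ≠ α := fun h => hu1' (hreg u (hT.le hu) h)
    have hstab : ∀ a : stabilizer G α, a ∈ stabilizer (stabilizer G α) (u • α) ↔ a * u * (a : G)⁻¹ = u := by
      intro a
      have hai : (a : G)⁻¹ • α = α := (stabilizer G α).inv_mem a.2
      constructor
      · intro ha
        have ha' : (a : G) • u • α = u • α := ha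
        refine (inv_mul_eq_one.1 (hreg _ (N.mul_mem (N.inv_mem (hT.le hu))
          (hN.conj_mem _ (hT.le hu) a)) ?_)).symm
        rw [mul_smul, mul_smul, mul_smul, hai, ha', inv_smul_smul]
      · intro ha
        show (a : G) • u • α = u • α
        conv_rhs => rw [← ha, mul_smul, mul_smul, hai]
    have hD : stabilizer (stabilizer G α) (u • α) =
        (Subgroup.normalizer (T : Set G)).subgroupOf (stabilizer G α) := by
      have hle : stabilizer (stabilizer G α) (u • α) ≤
          (Subgroup.normalizer (T : Set G)).subgroupOf (stabilizer G α) := by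
        intro a ha
        rcases hT.eq_or_le_cofac (hT.map_conj a) with h | h
        · exact H98.map_conj_eq_iff_mem_normalizer.1 h
        · exact absurd (hT.eq_one_of_mem hu (h ⟨u, hu, (hstab a).1 ha⟩)) hu1'
      refine hle.eq_or_lt.resolve_right fun h => ?_
      have h2 := (isCoatom_stabilizer hprim hH hep α _ huα).2 _ h
      have h3 : (⟨g, hgα⟩ : stabilizer G α) ∈ (Subgroup.normalizer (T : Set G)).subgroupOf _ :=
        h2 ▸ Subgroup.mem_top _
      have h4 := hT.eq_one_of_mem ((Subgroup.mem_normalizer_iff.1 h3 u).1 hu) (hg u hu)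
      exact hu1' (conj_eq_one_iff.1 h4)
    have hcomm : ∀ a ∈ stabilizer G α, Commute u (a * u * a⁻¹) := by
      intro a ha
      rcases hT.eq_or_le_cofac (hT.map_conj a) with h | h
      · have h1 : (⟨a, ha⟩ : stabilizer G α) ∈ stabilizer (stabilizer G α) (u • α) :=
          hD ▸ H98.map_conj_eq_iff_mem_normalizer.1 h
        rw [show a * u * a⁻¹ = u from (hstab _).1 h1]
      · exact (h ⟨u, hu, rfl⟩).1 u hu
    let R : Subgroup G := Subgroup.closure {y | ∃ a ∈ stabilizer G α, y = a * u * a⁻¹}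
    have huR : u ∈ R := Subgroup.subset_closure ⟨1, Subgroup.one_mem _, by simp⟩
    have hRn : R.Normal := by
      refine normal_of_stabilizer_le_normalizer R α ?_ u huα (Subgroup.le_normalizer huR)
      rw [Subgroup.le_normalizer_closure_iff]
      rintro m hm _ ⟨a, ha, rfl⟩
      exact Subgroup.subset_closure ⟨m * a, Subgroup.mul_mem _ hm ha, by group⟩
    have hRN : R = N := by
      refine (hmin R hRn ((Subgroup.closure_le _).2 ?_)).resolve_left fun h => hu1' ?_
      · rintro _ ⟨a, -, rfl⟩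
        exact hN.conj_mem u (hT.le hu) a
      · rwa [h] at huR
    apply hc
    rw [← hRN]
    apply Subgroup.isMulCommutative_closure
    rintro _ ⟨a, ha, rfl⟩ _ ⟨b, hb, rfl⟩
    have := (hcomm (a⁻¹ * b) (Subgroup.mul_mem _ (Subgroup.inv_mem _ ha) hb)).eq
    calc a * u * a⁻¹ * (b * u * b⁻¹) = a * (u * (a⁻¹ * b * u * (a⁻¹ * b)⁻¹)) * a⁻¹ := by group
      _ = a * ((a⁻¹ * b * u * (a⁻¹ * b)⁻¹) * u) * a⁻¹ := by rw [this]
      _ = _ := by group
  · have hR : IsFactor.proj N T α = T := by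
      by_contra hR
      apply hT.not_le_stabilizer α
      intro t ht
      obtain ⟨l, hl, hl2⟩ := exists_smul_eq_of_normal hprim hH hep α _ hL (t • α) ⟨g, hgα⟩
      have hli : (l : G)⁻¹ • α = α := (stabilizer G α).inv_mem l.2
      have hgi : g⁻¹ • α = α := by rw [inv_smul_eq_iff, hgα]
      have hl3 : (l : G) • t • α = g • t • α := hl2
      have h1 : (l : G) * t * (l : G)⁻¹ ∈ IsFactor.proj N T α := by
        refine ⟨hT.conj_mem l hl t ht, _, Subgroup.inv_mem _ (hg t ht), ?_⟩
        rw [(Subgroup.inv_mem _ (hg t ht)).1 _ (hT.conj_mem l hl t ht), mul_smul, inv_smul_eq_iff,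
          mul_smul, mul_smul, mul_smul, mul_smul, hli, hgi, hl3]
      have h2 := hT.proj_le_stabilizer hR h1
      exact (Subgroup.mul_mem_cancel_left _ l.2).1
        ((Subgroup.mul_mem_cancel_right _ ((stabilizer G α).inv_mem l.2)).1 h2)
    refine false_of_diagonal hprim hH hep α hT (hT.inf_eq_bot_of_proj_eq hR) (fun u hu => ?_) N
      hT.conj_mem hL
    obtain ⟨-, c, hc, h⟩ : u ∈ IsFactor.proj N T α := hR.symm ▸ hu
    exact ⟨c, hc.1, h⟩

end Cfsg.Agent.S3493
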