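import Cfsg.Statements.S3495
import Cfsg.Agent.H62.ExtPrim

set_option autoImplicit false
open Cfsg

namespace Cfsg.Agent.S3495

/-- Let a finite group G act faithfully and primitively on a finite set Ω with non-trivial point stabilizers, each acting primitively on every one of its orbits (an extremely primitive group), and suppose G has an elementary abelian normal p-subgroup N acting regularly on Ω (affine type). Then every non-trivial subgroup M of a point stabilizer G_α that is normal in G_α has the same orbits on Ω as G_α, and normalizes no subgroup of N other than 1 and N. -/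
theorem result {G : Type*} [Group G] [Finite G] {Ω : Type*} [Fintype Ω] [MulAction G Ω] [FaithfulSMul G Ω] (hprim : MulAction.IsPreprimitive G Ω) (hH : ∀ α : Ω, MulAction.stabilizer G α ≠ ⊥) (hep : ∀ (α : Ω) (ω : Ω), MulAction.IsPreprimitive (MulAction.stabilizer G α) (MulAction.orbit (MulAction.stabilizer G α) ω))
    (N : Subgroup G) [N.Normal] (hNc : IsMulCommutative N) (p : ℕ) (hp : p.Prime) (hNp : ∀ n ∈ N, n ^ p = 1)
    (hNtr : MulAction.IsPretransitive N Ω) (hNreg : ∀ ω : Ω, MulAction.stabilizer N ω = ⊥) (α : Ω) (M : Subgroup G) (hM : M ≠ ⊥) (hMle : M ≤ MulAction.stabilizer G α)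
    (hMn : MulAction.stabilizer G α ≤ Subgroup.normalizer (M : Set G)) :
    (∀ ω : Ω, MulAction.orbit M ω = MulAction.orbit (MulAction.stabilizer G α) ω) ∧
    (∀ L : Subgroup G, L ≤ N → M ≤ Subgroup.normalizer (L : Set G) → L = ⊥ ∨ L = N) := by
  open MulAction in
  have part1 : ∀ ω : Ω, orbit M ω = orbit (stabilizer G α) ω := by
    intro ω
    apply Set.Subset.antisymm
    · rintro _ ⟨m, rfl⟩
      exact ⟨⟨m, hMle m.2⟩, rfl⟩
    rintro _ ⟨h, rfl⟩
    by_cases hω : ω = α
    · subst hω
      exact ⟨1, by simp only [one_smul]; exact h.2.symm⟩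
    have := H62.faithfulSMul_suborbit hprim hH hep α ω hω
    have := hep α ω
    have := Subgroup.normal_subgroupOf_of_le_normalizer hMn
    have := H62.isPretransitive_of_normal_ne_bot (Ω := orbit (stabilizer G α) ω)
      (M.subgroupOf (stabilizer G α)) (by
        rw [Ne, Subgroup.subgroupOf_eq_bot, disjoint_iff, inf_eq_left.2 hMle]; exact hM)
    obtain ⟨m, hm⟩ := exists_smul_eq (M.subgroupOf (stabilizer G α))
      (⟨ω, mem_orbit_self ω⟩ : orbit (stabilizer G α) ω) ⟨_, mem_orbit ω h⟩
    exact ⟨⟨m, m.2⟩, congrArg Subtype.val hm⟩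
  refine ⟨part1, fun L hL hML => ?_⟩
  have hreg : ∀ x ∈ N, ∀ y ∈ N, x • α = y • α → x = y := by
    intro x hx y hy h
    have : (⟨y, hy⟩⁻¹ * ⟨x, hx⟩ : N) ∈ MulAction.stabilizer N α := by
      show (y⁻¹ * x) • α = α
      rw [mul_smul, h, inv_smul_smul]
    rw [hNreg, Subgroup.mem_bot, inv_mul_eq_one] at this
    exact (congrArg Subtype.val this).symm
  by_cases hL1 : L = ⊥
  · exact Or.inl hL1
  right
  have hnorm : MulAction.stabilizer G α ≤ Subgroup.normalizer (L : Set G) := by
    have key : ∀ h ∈ MulAction.stabilizer G α, ∀ l ∈ L, h * l * h⁻¹ ∈ L := by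
      intro h hh l hl
      have : h • l • α ∈ MulAction.orbit M (l • α) := by
        rw [part1]; exact ⟨⟨h, hh⟩, rfl⟩
      obtain ⟨m, hm⟩ := this
      have hm' : (m : G) • l • α = h • l • α := hm
      have e : h * l * h⁻¹ = m * l * (m : G)⁻¹ := by
        apply hreg _ (Subgroup.Normal.conj_mem inferInstance _ (hL hl) _) _
          (Subgroup.Normal.conj_mem inferInstance _ (hL hl) _)
        rw [mul_smul, mul_smul, mul_smul, mul_smul,
          show h⁻¹ • α = α from (MulAction.stabilizer G α).inv_mem hh,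
          show (m : G)⁻¹ • α = α from (MulAction.stabilizer G α).inv_mem (hMle m.2), hm']
      rw [e]
      exact (Subgroup.mem_normalizer_iff.1 (hML m.2) l).1 hl
    intro h hh
    rw [Subgroup.mem_normalizer_iff]
    intro l
    refine ⟨key h hh l, fun hl => ?_⟩
    have := key h⁻¹ ((MulAction.stabilizer G α).inv_mem hh) _ hl
    simpa [mul_assoc] using this
  obtain ⟨⟨l, hl⟩, hl1⟩ := Subgroup.ne_bot_iff_exists_ne_one.1 hL1
  have hla : l • α ≠ α := fun h => hl1 (Subtype.ext (hreg l (hL hl) 1 N.one_mem (by rw [h, one_smul])))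
  have hLn := H62.normal_of_stabilizer_le_normalizer L α hnorm l hla (Subgroup.le_normalizer hl)
  have htr := H62.isPretransitive_of_normal_ne_bot (Ω := Ω) L hL1
  refine le_antisymm hL (fun n hn => ?_)
  obtain ⟨x, hx⟩ := MulAction.exists_smul_eq L α (n • α)
  rw [← hreg x (hL x.2) n hn hx]
  exact x.2

end Cfsg.Agent.S3495
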