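import Cfsg.Statements.S3496
import Cfsg.Agent.H62.PrimSolv
import Cfsg.Agent.H62.ElemAb
import Cfsg.Agent.S3495

set_option autoImplicit false
open Cfsg

namespace Cfsg.Agent.S3496

/-- The soluble extremely primitive groups. Let a finite solvable group G act faithfully and primitively on a finite set Ω with p ^ d points (p prime), with non-trivial point stabilizers each acting primitively on every one of its orbits. Then there is a prime q such that every orbit of a point stabilizer G_α other than {α} has exactly q points, q divides p ^ d − 1 but no p ^ i − 1 with 0 < i < d, and G_α has a normal subgroup T of order q with G_α generated by T and one further element and the order of G_α dividing q·d (so G_α is cyclic of order q, or an extension of T by a cyclic group of order dividing d). -/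
theorem result {G : Type*} [Group G] [Finite G] {Ω : Type*} [Fintype Ω] [MulAction G Ω] [FaithfulSMul G Ω] [Group.IsSolvable G] (p d : ℕ) (hp : p.Prime) (hcard : Fintype.card Ω = p ^ d)
    (hprim : MulAction.IsPreprimitive G Ω) (hH : ∀ α : Ω, MulAction.stabilizer G α ≠ ⊥) (hep : ∀ (α : Ω) (ω : Ω), MulAction.IsPreprimitive (MulAction.stabilizer G α) (MulAction.orbit (MulAction.stabilizer G α) ω)) (α : Ω) :
    ∃ q : ℕ, q.Prime ∧ (∀ ω : Ω, ω ≠ α → Nat.card (MulAction.orbit (MulAction.stabilizer G α) ω) = q) ∧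
      q ∣ p ^ d - 1 ∧ (∀ i : ℕ, 0 < i → i < d → ¬ q ∣ p ^ i - 1) ∧
      ∃ T : Subgroup G, T ≤ MulAction.stabilizer G α ∧ MulAction.stabilizer G α ≤ Subgroup.normalizer (T : Set G) ∧ Nat.card T = q ∧
        (∃ h : G, MulAction.stabilizer G α = T ⊔ Subgroup.zpowers h) ∧ Nat.card (MulAction.stabilizer G α) ∣ q * d := by
  have hG : (⊤ : Subgroup G) ≠ ⊥ := fun h => hH α (eq_bot_iff.2 (h ▸ le_top))
  obtain ⟨N, r, hN, hN1, -, hNc, hr, hNr, -⟩ := H62.exists_elemAb_normal_le (⊤ : Subgroup G) hG inferInstance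
  have hNtr := H62.isPretransitive_of_normal_ne_bot (Ω := Ω) N hN1
  have hNreg : ∀ ω : Ω, MulAction.stabilizer N ω = ⊥ := by
    intro ω
    rw [eq_bot_iff]
    intro n hn
    exact Subtype.ext (H62.eq_one_of_mem_centralizer_of_smul_eq N n (Subgroup.le_centralizer N n.2) ω hn)
  have : Nonempty Ω := ⟨α⟩
  have hNcard := H62.card_eq_of_transitive_comm (Ω := Ω) N hNc
  rw [Nat.card_eq_fintype_card (α := Ω), hcard] at hNcard
  have hrp : r = p := by
    obtain ⟨⟨x, hx⟩, hx1⟩ := Subgroup.ne_bot_iff_exists_ne_one.1 hN1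
    have := Fact.mk hr
    have h1 : orderOf (⟨x, hx⟩ : N) = r := orderOf_eq_prime (Subtype.ext (hNr x hx)) hx1
    have h2 := orderOf_dvd_natCard (⟨x, hx⟩ : N)
    rw [h1, hNcard] at h2
    exact (Nat.prime_dvd_prime_iff_eq hr hp).1 (hr.dvd_of_dvd_pow h2)
  subst hrp
  have := Fact.mk hr
  obtain ⟨d', ι, ρ, hd, hinj, hmem, hsurj, h0, hadd, hρ⟩ := H62.exists_conjRep N hNc hNr
  obtain rfl : d' = d := Nat.pow_right_injective hr.two_le (hd.symm.trans hNcard)
  set H := MulAction.stabilizer G α with hHdef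
  have hH1 : (⊤ : Subgroup H) ≠ ⊥ := by
    have := (Subgroup.nontrivial_iff_ne_bot H).2 (hH α)
    exact top_ne_bot
  obtain ⟨T, q, hT, hT1, -, hTc, hq, hTq, -⟩ := H62.exists_elemAb_normal_le (⊤ : Subgroup H) hH1 inferInstance
  have hT'1 : T.map H.subtype ≠ ⊥ := by
    rwa [Ne, Subgroup.map_eq_bot_iff_of_injective _ H.subtype_injective]
  have hT'n : H ≤ Subgroup.normalizer ((T.map H.subtype : Subgroup G) : Set G) := by
    have : ((T.map H.subtype).subgroupOf H).Normal := by
      rwa [Subgroup.subgroupOf, Subgroup.comap_map_eq_self_of_injective H.subtype_injective]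
    exact Subgroup.le_normalizer_of_normal_subgroupOf (Subgroup.map_subtype_le T)
  obtain ⟨-, hirr⟩ := S3495.result hprim hH hep N hNc r hr hNr hNtr hNreg α (T.map H.subtype) hT'1
    (Subgroup.map_subtype_le T) hT'n
  have hnt : Nontrivial (Fin d' → ZMod r) := by
    obtain ⟨⟨x, hx⟩, hx1⟩ := Subgroup.ne_bot_iff_exists_ne_one.1 hN1
    obtain ⟨v, rfl⟩ := hsurj x hx
    exact ⟨⟨v, 0, fun h => hx1 (Subtype.ext ((congrArg ι h).trans h0))⟩⟩
  have hρinj : Function.Injective (ρ.comp H.subtype) := by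
    rw [injective_iff_map_eq_one]
    intro h hh
    apply Subtype.ext
    refine H62.eq_one_of_mem_centralizer_of_smul_eq N (h : G) ?_ α h.2
    intro x hx
    obtain ⟨v, rfl⟩ := hsurj x hx
    have := hρ h v
    rw [show ρ h = 1 from hh] at this
    exact eq_mul_inv_iff_mul_eq.1 this
  obtain ⟨hcyc, -, ⟨φ, hφ⟩, hfrob⟩ := H62.singer_normalizer (ρ.comp H.subtype) T hTc (by
    intro W hW
    let L : Subgroup G :=
      { carrier := ι '' W
        one_mem' := ⟨0, W.zero_mem, h0⟩
        mul_mem' := by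
          rintro _ _ ⟨v, hv, rfl⟩ ⟨w, hw, rfl⟩
          exact ⟨v + w, W.add_mem hv hw, hadd v w⟩
        inv_mem' := by
          rintro _ ⟨v, hv, rfl⟩
          refine ⟨-v, W.neg_mem hv, ?_⟩
          rw [eq_inv_iff_mul_eq_one, ← hadd, neg_add_cancel, h0] }
    have hLN : L ≤ N := by rintro _ ⟨v, -, rfl⟩; exact hmem v
    have key : ∀ t ∈ T, ∀ l ∈ L, (t : G) * l * (t : G)⁻¹ ∈ L := by
      rintro t ht _ ⟨v, hv, rfl⟩
      exact ⟨_, hW t ht v hv, hρ t v⟩
    rcases hirr L hLN (by
      rintro _ ⟨t, ht, rfl⟩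
      rw [Subgroup.mem_normalizer_iff]
      intro l
      refine ⟨key t ht l, fun hl => ?_⟩
      have := key t⁻¹ (T.inv_mem ht) _ hl
      simpa [mul_assoc] using this) with h | h
    · left
      rw [eq_bot_iff]
      intro w hw
      have : ι w ∈ L := ⟨w, hw, rfl⟩
      rw [h, Subgroup.mem_bot, ← h0] at this
      exact hinj this
    · right
      rw [eq_top_iff]
      intro w _
      have : ι w ∈ L := h ▸ hmem w
      obtain ⟨v, hv, hvw⟩ := this
      exact hinj hvw ▸ hv)
  rw [Module.finrank_fin_fun] at hfrob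
  have hTcyc : IsCyclic T :=
    (MulEquiv.isCyclic (T.equivMapOfInjective _ hρinj)).2 hcyc
  have hTcard : Nat.card T = q := by
    obtain ⟨t, ht⟩ := IsCyclic.exists_ofOrder_eq_natCard (α := T)
    have := Fact.mk hq
    rw [← ht]
    refine orderOf_eq_prime (Subtype.ext (hTq t t.2)) ?_
    rintro rfl
    rw [orderOf_one, eq_comm, Subgroup.card_eq_one] at ht
    exact hT1 ht
  have key : ∀ ω : Ω, ω ≠ α → Subgroup.centralizer (T : Set H) ≤ T ∧
      Nat.card T = Nat.card (MulAction.orbit H ω) := by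
    intro ω hω
    have := H62.faithfulSMul_suborbit hprim hH hep α ω hω
    have := hep α ω
    have := H62.isPretransitive_of_normal_ne_bot (Ω := MulAction.orbit H ω) T hT1
    have : Nonempty (MulAction.orbit H ω) := ⟨⟨ω, MulAction.mem_orbit_self ω⟩⟩
    exact ⟨H62.centralizer_le_of_transitive_comm (Ω := MulAction.orbit H ω) T hTc,
      H62.card_eq_of_transitive_comm _ hTc⟩
  obtain ⟨ω, hω⟩ : ∃ ω : Ω, ω ≠ α := by
    by_contra h
    push Not at h
    apply hH α
    rw [eq_bot_iff]
    intro g _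
    exact FaithfulSMul.eq_of_smul_eq_smul (α := Ω) (fun x => by rw [h (g • x), h ((1 : G) • x)])
  have hker : φ.ker = T := by
    ext h
    rw [MonoidHom.mem_ker, hφ]
    constructor
    · intro hh
      apply (key ω hω).1
      intro t ht
      apply hρinj
      rw [map_mul, map_mul, hh t ht]
    · intro hh t ht
      have : h * t = t * h := congrArg Subtype.val (hTc.is_comm.comm (⟨h, hh⟩ : T) ⟨t, ht⟩)
      rw [← map_mul, ← map_mul, this]
  refine ⟨q, hq, fun ω hω => by rw [← (key ω hω).2, hTcard], ?_, ?_, T.map H.subtype,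
    Subgroup.map_subtype_le T, hT'n, ?_, ?_, ?_⟩
  · rw [← hcard, ← Nat.card_eq_fintype_card]
    exact H62.dvd_card_sub_one_of_dvd_suborbits (G := G) α _
      (fun b hb => by rw [← hTcard]; exact (key b hb).2.dvd)
  · rintro i hi hid ⟨k, hk⟩
    have := hfrob i (fun t ht => by
      rw [← map_pow, show r ^ i = q * k + 1 by have := pow_pos hr.pos i; omega, pow_succ, pow_mul,
        hTq t ht, one_pow, one_mul])
    exact absurd (Nat.le_of_dvd hi this) (by omega)
  · rw [Subgroup.card_map_of_injective H.subtype_injective, hTcard]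
  · obtain ⟨⟨_, h, rfl⟩, hg⟩ := IsCyclic.exists_generator (α := φ.range)
    refine ⟨h, le_antisymm ?_ (sup_le (Subgroup.map_subtype_le T) (Subgroup.zpowers_le.2 h.2))⟩
    intro x hx
    obtain ⟨k, hk⟩ := hg ⟨φ ⟨x, hx⟩, _, rfl⟩
    have hk' : φ h ^ k = φ ⟨x, hx⟩ := congrArg Subtype.val hk
    have h1 : (⟨x, hx⟩ : H) * (h ^ k)⁻¹ ∈ T := by
      rw [← hker, MonoidHom.mem_ker, map_mul, map_inv, map_zpow, hk', mul_inv_cancel]
    have h2 : x = ((⟨x, hx⟩ : H) * (h ^ k)⁻¹ : H) * (h : G) ^ k := by simp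
    rw [h2]
    exact Subgroup.mul_mem_sup ⟨_, h1, rfl⟩ ⟨k, rfl⟩
  · rw [← T.card_mul_index, hTcard]
    apply Nat.mul_dvd_mul_left
    rw [← hker, Subgroup.index_ker]
    have := Subgroup.card_subgroup_dvd_card φ.range
    rw [Nat.card_congr Multiplicative.toAdd, Nat.card_zmod] at this
    exact this.trans (by rw [Module.finrank_fin_fun])

end Cfsg.Agent.S3496
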