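import Cfsg.Statements.S3497
import Cfsg.Agent.H62.PrimSolv
import Cfsg.Agent.H62.ElemAb

set_option autoImplicit false
open Cfsg

namespace Cfsg.Agent.S3497

/-- Restrictions on the point stabilizer of an extremely primitive group. Let a finite group G act faithfully and primitively on a finite set Ω with point stabilizers H = G_α whose order is neither 1 nor a prime, each acting primitively on every one of its orbits. Then H has trivial center, the Fitting subgroup F(H) is an elementary abelian p-group for some prime p, and if F(H) ≠ 1 has order p ^ e then p ^ e divides the number of points minus one and H / F(H) embeds in GL_e(p) (there is a homomorphism from H to GL_e(p) with kernel exactly F(H)). -/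
theorem result {G : Type*} [Group G] [Finite G] {Ω : Type*} [Fintype Ω] [MulAction G Ω] [FaithfulSMul G Ω] (hprim : MulAction.IsPreprimitive G Ω) (hep : ∀ (α : Ω) (ω : Ω), MulAction.IsPreprimitive (MulAction.stabilizer G α) (MulAction.orbit (MulAction.stabilizer G α) ω)) (α : Ω)
    (hH1 : MulAction.stabilizer G α ≠ ⊥) (hHp : ¬ (Nat.card (MulAction.stabilizer G α)).Prime) :
    Subgroup.center (MulAction.stabilizer G α) = ⊥ ∧
    IsMulCommutative (Cfsg.fittingSubgroup (MulAction.stabilizer G α)) ∧
    ∃ p e : ℕ, p.Prime ∧ Nat.card (Cfsg.fittingSubgroup (MulAction.stabilizer G α)) = p ^ e ∧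
      (∀ x ∈ Cfsg.fittingSubgroup (MulAction.stabilizer G α), x ^ p = 1) ∧
      (Cfsg.fittingSubgroup (MulAction.stabilizer G α) ≠ ⊥ →
        p ^ e ∣ Fintype.card Ω - 1 ∧
        ∃ φ : MulAction.stabilizer G α →* GL (Fin e) (ZMod p), φ.ker = Cfsg.fittingSubgroup (MulAction.stabilizer G α)) := by
  open MulAction in
  have hH : ∀ β : Ω, stabilizer G β ≠ ⊥ := H62.stabilizer_ne_bot_of_ne_bot hH1
  obtain ⟨ω, hω⟩ : ∃ ω : Ω, ω ≠ α := by
    by_contra h
    push Not at h
    apply hH1
    rw [eq_bot_iff]
    intro g _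
    exact FaithfulSMul.eq_of_smul_eq_smul (α := Ω) (fun x => by rw [h (g • x), h ((1 : G) • x)])
  have hZ : Subgroup.center (MulAction.stabilizer G α) = ⊥ := by
    by_contra h
    have := H62.faithfulSMul_suborbit hprim hH hep α ω hω
    have := hep α ω
    exact hHp (H62.prime_card_of_center_ne_bot (Ω := MulAction.orbit (MulAction.stabilizer G α) ω) h)
  refine ⟨hZ, ?_⟩
  by_cases hF : Cfsg.fittingSubgroup (MulAction.stabilizer G α) = ⊥
  · rw [hF]
    refine ⟨inferInstance, 2, 0, Nat.prime_two, by simp, ?_, fun h => absurd rfl h⟩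
    intro x hx
    rw [Subgroup.mem_bot.1 hx, one_pow]
  have := H3.fitting_normal (MulAction.stabilizer G α)
  have key : ∀ ω : Ω, ω ≠ α → IsMulCommutative (Cfsg.fittingSubgroup (MulAction.stabilizer G α)) ∧
      (∃ p : ℕ, p.Prime ∧ ∀ x ∈ Cfsg.fittingSubgroup (MulAction.stabilizer G α), x ^ p = 1) ∧
      Subgroup.centralizer (Cfsg.fittingSubgroup (MulAction.stabilizer G α) : Set (MulAction.stabilizer G α)) =
        Cfsg.fittingSubgroup (MulAction.stabilizer G α) ∧
      Nat.card (Cfsg.fittingSubgroup (MulAction.stabilizer G α)) =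
        Nat.card (MulAction.orbit (MulAction.stabilizer G α) ω) := by
    intro ω hω
    have := H62.faithfulSMul_suborbit hprim hH hep α ω hω
    have := hep α ω
    obtain ⟨h1, h2, h3, h4⟩ := H62.elemAb_of_nilpotent_normal_primitive
      (Ω := MulAction.orbit (MulAction.stabilizer G α) ω) _ hF (H3.fitting_isNilpotent _)
    have : Nonempty (MulAction.orbit (MulAction.stabilizer G α) ω) := ⟨⟨ω, MulAction.mem_orbit_self ω⟩⟩
    exact ⟨h1, h2, h3, H62.card_eq_of_transitive_comm _ h1⟩
  obtain ⟨h1, ⟨p, hp, h2⟩, h3, -⟩ := key ω hω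
  have := Fact.mk hp
  obtain ⟨e, he, φ, hφ⟩ := H62.exists_hom_GL_ker_eq_centralizer _ h1 h2
  refine ⟨h1, p, e, hp, he, h2, fun _ => ⟨?_, φ, hφ.trans h3⟩⟩
  rw [← Nat.card_eq_fintype_card, ← he]
  exact H62.dvd_card_sub_one_of_dvd_suborbits (G := G) α _ (fun b hb => (key b hb).2.2.2.dvd)

end Cfsg.Agent.S3497
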