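import Cfsg.Statements.S3520
import Cfsg.Agent.H62.ONS
import Cfsg.Agent.S0144

set_option autoImplicit false
open Cfsg

namespace Cfsg.Agent.S3520

theorem exists_three_primes {T : Type*} [Group T] [Finite T] (h : ¬ Group.IsSolvable T) :
    ∃ p q r : ℕ, p.Prime ∧ q.Prime ∧ r.Prime ∧ p ≠ q ∧ p ≠ r ∧ q ≠ r ∧
      p ∣ Nat.card T ∧ q ∣ Nat.card T ∧ r ∣ Nat.card T := by
  have hn : Nat.card T ≠ 0 := Nat.card_pos.ne'
  have h1 : Nat.card T ≠ 1 := fun h1 => h (S0144.result 2 2 0 0 Nat.prime_two Nat.prime_two (by simpa using h1))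
  obtain ⟨p, hp, hpd⟩ := Nat.exists_prime_and_dvd h1
  obtain ⟨a, m, hpm, hm⟩ := Nat.exists_eq_pow_mul_and_not_dvd hn p hp.ne_one
  have h2 : m ≠ 1 := fun h2 => h (S0144.result p p a 0 hp hp (by simpa [h2] using hm))
  obtain ⟨q, hq, hqd⟩ := Nat.exists_prime_and_dvd h2
  obtain ⟨b, k, hqk, hk⟩ := Nat.exists_eq_pow_mul_and_not_dvd (n := m) (by rintro rfl; simp at hpm) q hq.ne_one
  have h3 : k ≠ 1 := fun h3 => h (S0144.result p q a b hp hq (by rw [hm, hk, h3, mul_one]))
  obtain ⟨r, hr, hrd⟩ := Nat.exists_prime_and_dvd h3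
  have hrm : r ∣ m := hk ▸ hrd.mul_left _
  refine ⟨p, q, r, hp, hq, hr, ?_, ?_, ?_, hpd, hm ▸ hqd.mul_left _, hm ▸ hrm.mul_left _⟩
  · rintro rfl; exact hpm hqd
  · rintro rfl; exact hpm hrm
  · rintro rfl; exact hqk hrd

theorem exists_not_dvd_index {T : Type*} [Group T] [Finite T] (p : ℕ) (hp : p.Prime)
    (hd : p ∣ Nat.card T) : ∃ t : T, t ≠ 1 ∧ ¬ p ∣ (Subgroup.centralizer {t}).index := by
  haveI := Fact.mk hp
  obtain ⟨P⟩ : Nonempty (Sylow p T) := inferInstance
  haveI : Nontrivial P := (Subgroup.nontrivial_iff_ne_bot _).2 (P.ne_bot_of_dvd_card hd)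
  haveI := P.isPGroup'.center_nontrivial
  obtain ⟨⟨x, hx⟩, hx1⟩ := exists_ne (1 : Subgroup.center P)
  refine ⟨x, fun h => hx1 (Subtype.ext (Subtype.ext h)), fun h => P.not_dvd_index
    (h.trans (Subgroup.index_dvd_of_le fun y hy => ?_))⟩
  rw [Subgroup.mem_centralizer_iff]
  rintro _ rfl
  exact (congrArg Subtype.val (Subgroup.mem_center_iff.1 hx ⟨y, hy⟩)).symm

theorem exists_two_sizes {T : Type*} [Group T] [Finite T] [Nontrivial T]
    (hZ : ∀ t : T, (∀ s, s * t = t * s) → t = 1) :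
    ∃ s t : T, (Subgroup.centralizer {s}).index ≠ 1 ∧ (Subgroup.centralizer {t}).index ≠ 1 ∧
      (Subgroup.centralizer {s}).index ≠ (Subgroup.centralizer {t}).index := by
  have key : ∀ t : T, t ≠ 1 → (Subgroup.centralizer {t}).index ≠ 1 := by
    intro t ht h
    rw [Subgroup.index_eq_one] at h
    refine ht (hZ t fun s => ?_)
    have : s ∈ Subgroup.centralizer {t} := h ▸ Subgroup.mem_top s
    exact (this t rfl).symm
  obtain ⟨s, hs⟩ := exists_ne (1 : T)
  obtain ⟨q, hq, hqd⟩ := Nat.exists_prime_and_dvd (key s hs)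
  obtain ⟨t, ht, hqt⟩ := exists_not_dvd_index q hq (hqd.trans (Subgroup.index_dvd_card _))
  exact ⟨s, t, key s hs, key t ht, fun h => hqt (h ▸ hqd)⟩

theorem card_centralizer_conj {G : Type*} [Group G] (N : Subgroup G) [hN : N.Normal] {x y : G}
    (h : IsConj x y) : Nat.card ↥(N ⊓ Subgroup.centralizer {x}) = Nat.card ↥(N ⊓ Subgroup.centralizer {y}) := by
  obtain ⟨g, rfl⟩ := isConj_iff.1 h
  rw [← Subgroup.card_map_of_injective (f := (MulAut.conj g).toMonoidHom) (MulAut.conj g).injective]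
  congr 2
  ext z
  constructor
  · rintro ⟨w, hw, rfl⟩
    refine ⟨hN.conj_mem w hw.1 g, ?_⟩
    rintro _ rfl
    have := hw.2 x rfl
    simp only [MulEquiv.toMonoidHom_eq_coe, MonoidHom.coe_coe, MulAut.conj_apply]
    calc g * x * g⁻¹ * (g * w * g⁻¹) = g * (x * w) * g⁻¹ := by group
      _ = g * (w * x) * g⁻¹ := by rw [this]
      _ = _ := by group
  · rintro ⟨hz1, hz2⟩
    refine ⟨g⁻¹ * z * g, ⟨by simpa using hN.conj_mem z hz1 g⁻¹, ?_⟩, by simp [mul_assoc]⟩
    intro m hm
    rw [Set.mem_singleton_iff.1 hm]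
    have := hz2 _ rfl
    calc x * (g⁻¹ * z * g) = g⁻¹ * (g * x * g⁻¹ * z) * g := by group
      _ = g⁻¹ * (z * (g * x * g⁻¹)) * g := by rw [this]
      _ = _ := by group

open H62 in
theorem card_centralizer_mul {G : Type*} [Group G] {N T : Subgroup G} (h : IsFactor N T) {x : G}
    (hx : x ∈ cofac N T) (t : T) :
    Nat.card ↥(N ⊓ Subgroup.centralizer {x * t}) =
      Nat.card (Subgroup.centralizer {t}) * Nat.card ↥(cofac N T ⊓ Subgroup.centralizer {x}) := by
  rw [← Nat.card_prod]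
  symm
  refine Nat.card_congr (Equiv.ofBijective (fun z => ⟨(z.1.1 : G) * z.2.1,
    N.mul_mem (h.le z.1.1.2) z.2.2.1.2, ?_⟩) ⟨?_, ?_⟩)
  · rintro _ rfl
    have h1 : (t : G) * z.1.1 = z.1.1 * t := congrArg Subtype.val (z.1.2 t rfl)
    have h2 : x * z.2.1 = z.2.1 * x := z.2.2.2 x rfl
    have h3 := hx.1 _ z.1.1.2
    have h4 := z.2.2.1.1 _ t.2
    calc x * t * (z.1.1 * z.2.1) = x * (t * z.1.1) * z.2.1 := by group
      _ = (x * z.1.1) * (t * z.2.1) := by rw [h1]; group
      _ = z.1.1 * (x * z.2.1) * t := by rw [← h3, h4]; group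
      _ = _ := by rw [h2]; group
  · rintro ⟨⟨u, hu⟩, ⟨c, hc⟩⟩ ⟨⟨u', hu'⟩, ⟨c', hc'⟩⟩ e
    obtain ⟨e1, e2⟩ := h.mul_eq_mul u.2 u'.2 hc.1 hc'.1 (congrArg Subtype.val e)
    exact Prod.ext (Subtype.ext (Subtype.ext e1)) (Subtype.ext e2)
  · rintro ⟨n, hn, hn2⟩
    obtain ⟨u, hu, c, hc, rfl⟩ := h.decomp n hn
    have h1 : x * t * (u * c) = u * c * (x * t) := hn2 _ rfl
    have h3 := hx.1 _ hu
    have h4 := hc.1 _ t.2
    have h5 := hx.1 _ t.2
    have h6 : (t * u) * (x * c) = (u * t) * (c * x) := by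
      calc (t * u) * (x * c) = t * (u * x) * c := by group
        _ = (t * x) * u * c := by rw [h3]; group
        _ = x * t * (u * c) := by rw [h5]; group
        _ = u * c * (x * t) := h1
        _ = u * (c * t) * x := by rw [← h5]; group
        _ = _ := by rw [← h4]; group
    obtain ⟨e1, e2⟩ := h.mul_eq_mul (T.mul_mem t.2 hu) (T.mul_mem hu t.2)
      (Subgroup.mul_mem _ hx hc) (Subgroup.mul_mem _ hc hx) h6
    refine ⟨⟨⟨⟨u, hu⟩, ?_⟩, ⟨c, hc, ?_⟩⟩, rfl⟩
    · rintro _ rfl
      exact Subtype.ext e1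
    · rintro _ rfl
      exact e2

/-- Let a finite group G act faithfully and primitively on a finite set Ω with at least two points, suppose G is not almost simple (no non-abelian simple normal subgroup with trivial centralizer), and suppose the derangements of G form exactly two conjugacy classes. Then either Ω has 3 points and G has order 3; or G has a non-trivial abelian normal subgroup N acting regularly, every non-identity element of G fixes at most one point (so, when n > 3, G is a Frobenius group with kernel N), the number n of points is odd and a point stabilizer has order (n − 1)/2; or G is 2-transitive with a non-trivial abelian regular normal subgroup and some non-identity element fixes at least two points (a non-Frobenius 2-transitive affine group). -/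
theorem result {G : Type*} [Group G] [Finite G] {Ω : Type*} [Fintype Ω] [MulAction G Ω] [FaithfulSMul G Ω] (hΩ : 2 ≤ Fintype.card Ω) (hprim : MulAction.IsPreprimitive G Ω) (hnas : ¬ ∃ T : Subgroup G, T.Normal ∧ IsSimpleGroup T ∧ ¬ IsMulCommutative T ∧ Subgroup.centralizer (T : Set G) = ⊥)
    (hκ : Nat.card {c : ConjClasses G // ∃ g : G, ConjClasses.mk g = c ∧ ∀ ω : Ω, g • ω ≠ ω} = 2) (α : Ω) :
    (Fintype.card Ω = 3 ∧ Nat.card G = 3) ∨
    ((∃ N : Subgroup G, N.Normal ∧ N ≠ ⊥ ∧ IsMulCommutative N ∧ ∀ ω : Ω, MulAction.stabilizer N ω = ⊥) ∧ (∀ g : G, g ≠ 1 → Nat.card (MulAction.fixedBy Ω g) ≤ 1) ∧ ¬ 2 ∣ Fintype.card Ω ∧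
        2 * Nat.card (MulAction.stabilizer G α) = Fintype.card Ω - 1) ∨
    ((∃ N : Subgroup G, N.Normal ∧ N ≠ ⊥ ∧ IsMulCommutative N ∧ ∀ ω : Ω, MulAction.stabilizer N ω = ⊥) ∧ MulAction.IsMultiplyPretransitive G Ω 2 ∧ ∃ g : G, g ≠ 1 ∧ 2 ≤ Nat.card (MulAction.fixedBy Ω g)) := by
  classical
  haveI : Nontrivial Ω := Fintype.one_lt_card_iff_nontrivial.1 hΩ
  obtain ⟨⟨c₁, x₀, hc₁, hx₀⟩, ⟨c₂, y₀, hc₂, hy₀⟩, hne, huniv⟩ := Nat.card_eq_two_iff.1 hκ
  have hxy : ¬ IsConj x₀ y₀ := fun h => hne (Subtype.ext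
    (hc₁.symm.trans ((ConjClasses.mk_eq_mk_iff_isConj.2 h).trans hc₂)))
  have h2 : ∀ z : G, (∀ ω : Ω, z • ω ≠ ω) → IsConj x₀ z ∨ IsConj y₀ z := by
    intro z hz
    have : (⟨ConjClasses.mk z, z, rfl, hz⟩ : {c : ConjClasses G // ∃ g : G, ConjClasses.mk g = c ∧ ∀ ω : Ω, g • ω ≠ ω}) ∈ Set.univ := trivial
    rw [← huniv] at this
    rcases this with h | h
    · exact Or.inl (ConjClasses.mk_eq_mk_iff_isConj.1 (hc₁.trans (congrArg Subtype.val h).symm))
    · exact Or.inr (ConjClasses.mk_eq_mk_iff_isConj.1 (hc₂.trans (congrArg Subtype.val h).symm))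
  have h3 : ∀ x y z : G, (∀ ω : Ω, x • ω ≠ ω) → (∀ ω : Ω, y • ω ≠ ω) → (∀ ω : Ω, z • ω ≠ ω) →
      IsConj x y ∨ IsConj x z ∨ IsConj y z := by
    intro x y z hx hy hz
    rcases h2 x hx with a | a <;> rcases h2 y hy with b | b <;> rcases h2 z hz with c | c <;>
      first | exact Or.inl (a.symm.trans b) | exact Or.inr (Or.inl (a.symm.trans c)) | exact Or.inr (Or.inr (b.symm.trans c))
  have hord : ∀ x y : G, IsConj x y → orderOf x = orderOf y := by
    intro x y h
    obtain ⟨g, rfl⟩ := isConj_iff.1 h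
    exact ((MulAut.conj g).orderOf_eq x).symm
  rcases H62.ons_derangement (G := G) (Ω := Ω) with ⟨N, r, hr, hN, hN1, hc, -⟩ | h | ⟨N, T, hT, h⟩ | ⟨N, T, hT, x, hx, h⟩
  · haveI := H62.isPretransitive_of_normal_ne_bot (Ω := Ω) N hN1
    have hreg : ∀ n ∈ N, ∀ a : Ω, n • a = a → n = 1 := fun n hn a ha =>
      H62.eq_one_of_mem_centralizer_of_smul_eq N n
        (Subgroup.le_centralizer_iff_isMulCommutative.2 hc hn) a ha
    have haff : ∃ N : Subgroup G, N.Normal ∧ N ≠ ⊥ ∧ IsMulCommutative N ∧ ∀ ω : Ω, MulAction.stabilizer N ω = ⊥ := by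
      refine ⟨N, hN, hN1, hc, fun a => ?_⟩
      rw [eq_bot_iff]
      exact fun n hn => Subtype.ext (hreg n n.2 a hn)
    have hconj : ∀ v ∈ N, ∀ w : G, IsConj v w → ∃ h : G, h • α = α ∧ h • v • α = w • α := by
      intro v hv w hvw
      obtain ⟨g, rfl⟩ := isConj_iff.1 hvw
      obtain ⟨n, hn⟩ := MulAction.exists_smul_eq N α (g⁻¹ • α)
      have hn' : (n : G) • α = g⁻¹ • α := hn
      refine ⟨g * n, by rw [mul_smul, hn', smul_inv_smul], ?_⟩
      rw [mul_smul, mul_smul, mul_smul, ← hn', smul_smul (n : G), setLike_mul_comm n.2 hv, mul_smul]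
    have hder : ∀ n ∈ N, n • α ≠ α → ∀ ω : Ω, n • ω ≠ ω := by
      intro n hn h ω hω
      exact h (by rw [hreg n hn ω hω, one_smul])
    right
    by_cases hF : ∀ g : G, g ≠ 1 → Nat.card (MulAction.fixedBy Ω g) ≤ 1
    · left
      have hfix : ∀ g : G, g • α = α → ∀ ω : Ω, ω ≠ α → g • ω = ω → g = 1 := by
        intro g hg ω hω hgω
        by_contra hg1
        have := Finite.card_le_one_iff_subsingleton.1 (hF g hg1)
        exact hω (congrArg Subtype.val (Subsingleton.elim (⟨ω, hgω⟩ : MulAction.fixedBy Ω g) ⟨α, hg⟩))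
      have hin : ∀ g : G, (∀ ω : Ω, g • ω ≠ ω) → g ∈ N := by
        intro g hg
        by_contra hgN
        obtain ⟨n, hn⟩ := MulAction.exists_smul_eq N α (g • α)
        have hn' : (n : G) • α = g • α := hn
        set h := (n : G)⁻¹ * g with hh
        have hhα : h • α = α := by rw [hh, mul_smul, ← hn', inv_smul_smul]
        have hh1 : h ≠ 1 := fun e => hgN (by rw [hh, inv_mul_eq_one] at e; exact e ▸ n.2)
        let φ : N → N := fun v => ⟨v * (h * (v : G)⁻¹ * h⁻¹), N.mul_mem v.2 (hN.conj_mem _ (N.inv_mem v.2) h)⟩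
        have hinj : Function.Injective φ := by
          intro v w e
          have e1 : (v : G) * (h * (v : G)⁻¹ * h⁻¹) = w * (h * (w : G)⁻¹ * h⁻¹) := congrArg Subtype.val e
          have e2 : h * ((w : G)⁻¹ * v) = ((w : G)⁻¹ * v) * h := by
            calc h * ((w : G)⁻¹ * v) = (w : G)⁻¹ * (w * (h * (w : G)⁻¹ * h⁻¹)) * h * v := by group
              _ = (w : G)⁻¹ * (v * (h * (v : G)⁻¹ * h⁻¹)) * h * v := by rw [e1]
              _ = _ := by group
          by_contra hvw
          have e3 : ((w : G)⁻¹ * v) • α ≠ α := fun e4 => hvw (Subtype.ext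
            (inv_mul_eq_one.1 (hreg _ (N.mul_mem (N.inv_mem w.2) v.2) α e4)).symm)
          exact hh1 (hfix h hhα _ e3 (by rw [smul_smul, e2, mul_smul, hhα]))
        obtain ⟨v, hv⟩ := Finite.surjective_of_injective hinj n
        have e1 : (v : G) * (h * (v : G)⁻¹ * h⁻¹) = n := congrArg Subtype.val hv
        have e2 : g = v * h * (v : G)⁻¹ := by
          rw [show g = n * h by rw [hh, mul_inv_cancel_left], ← e1]; group
        apply hg ((v : G) • α)
        rw [e2, mul_smul, mul_smul, inv_smul_smul, hhα]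
      have horb : ∀ ω : Ω, ω ≠ α →
          (MulAction.orbit (MulAction.stabilizer G α) ω).ncard = Nat.card (MulAction.stabilizer G α) := by
        intro ω hω
        have := H62.card_orbit_mul_card_stabilizer (G := MulAction.stabilizer G α) ω
        rw [show MulAction.stabilizer (MulAction.stabilizer G α) ω = ⊥ from
          eq_bot_iff.2 fun g hg => Subtype.ext (hfix g g.2 ω hω hg), Subgroup.card_bot, mul_one] at this
        exact this
      have hunion : ({α}ᶜ : Set Ω) = MulAction.orbit (MulAction.stabilizer G α) (x₀ • α) ∪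
          MulAction.orbit (MulAction.stabilizer G α) (y₀ • α) := by
        ext ω
        constructor
        · intro hω
          obtain ⟨n, rfl⟩ := MulAction.exists_smul_eq N α ω
          rcases h2 n (hder n n.2 hω) with e | e
          · obtain ⟨g, hg1, hg2⟩ := hconj _ (hin _ hx₀) _ e
            exact Or.inl ⟨⟨g, hg1⟩, hg2⟩
          · obtain ⟨g, hg1, hg2⟩ := hconj _ (hin _ hy₀) _ e
            exact Or.inr ⟨⟨g, hg1⟩, hg2⟩
        · rintro (⟨g, rfl⟩ | ⟨g, rfl⟩) e
          · exact hx₀ α (smul_left_cancel (g : G) ((show (g : G) • x₀ • α = α from e).trans g.2.symm))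
          · exact hy₀ α (smul_left_cancel (g : G) ((show (g : G) • y₀ • α = α from e).trans g.2.symm))
      have hdisj : Disjoint (MulAction.orbit (MulAction.stabilizer G α) (x₀ • α))
          (MulAction.orbit (MulAction.stabilizer G α) (y₀ • α)) := by
        refine (MulAction.orbit.eq_or_disjoint _ _).resolve_left fun e => hxy ?_
        obtain ⟨g, hg⟩ : y₀ • α ∈ MulAction.orbit (MulAction.stabilizer G α) (x₀ • α) :=
          e ▸ MulAction.mem_orbit_self _
        have hg' : (g : G) • x₀ • α = y₀ • α := hg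
        refine isConj_iff.2 ⟨g, (inv_mul_eq_one.1 (hreg _ (N.mul_mem (N.inv_mem (hin _ hy₀))
          (hN.conj_mem _ (hin _ hx₀) g)) α ?_)).symm⟩
        have hgi : (g : G)⁻¹ • α = α := (MulAction.stabilizer G α).inv_mem g.2
        rw [mul_smul, mul_smul, mul_smul, hgi, hg', inv_smul_smul]
      have hcard : 2 * Nat.card (MulAction.stabilizer G α) = Fintype.card Ω - 1 := by
        have e := congrArg Set.ncard hunion
        rw [Set.ncard_union_eq hdisj, horb _ (hx₀ α), horb _ (hy₀ α), Set.ncard_compl, Set.ncard_singleton,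
          Nat.card_eq_fintype_card] at e
        omega
      exact ⟨haff, hF, by omega, hcard⟩
    · right
      push Not at hF
      obtain ⟨g, hg1, hg2⟩ := hF
      refine ⟨haff, ?_, g, hg1, hg2⟩
      obtain ⟨d, hdN, hd⟩ : ∃ d : G, d ∉ N ∧ ∀ ω : Ω, d • ω ≠ ω := by
        by_contra hcon
        push Not at hcon
        obtain ⟨-, h4⟩ := H62.transitive_and_fix_one (X := Ω) N hcon
        by_cases hgN : g ∈ N
        · obtain ⟨⟨ω, hω⟩⟩ : Nonempty (MulAction.fixedBy Ω g) := (Nat.card_pos_iff.1 (by omega)).1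
          exact hg1 (hreg g hgN ω hω)
        · have := h4 g hgN
          omega
      have hnc : ∀ v ∈ N, ¬ IsConj v d := by
        intro v hv e
        obtain ⟨u, rfl⟩ := isConj_iff.1 e
        exact hdN (hN.conj_mem v hv u)
      have key : ∀ ω ω' : Ω, ω ≠ α → ω' ≠ α → ∃ h : G, h • α = α ∧ h • ω = ω' := by
        intro ω ω' hω hω'
        obtain ⟨n, rfl⟩ := MulAction.exists_smul_eq N α ω
        obtain ⟨n', rfl⟩ := MulAction.exists_smul_eq N α ω'
        rcases h3 n n' d (hder n n.2 hω) (hder n' n'.2 hω') hd with e | e | e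
        · exact hconj _ n.2 _ e
        · exact absurd e (hnc _ n.2)
        · exact absurd e (hnc _ n'.2)
      rw [MulAction.is_two_pretransitive_iff]
      intro a b c e hab hce
      obtain ⟨u, hu⟩ := MulAction.exists_smul_eq G a α
      obtain ⟨w, hw⟩ := MulAction.exists_smul_eq G c α
      obtain ⟨h, hh1, hh2⟩ := key (u • b) (w • e) (fun e1 => hab (smul_left_cancel u (hu.trans e1.symm)))
        (fun e1 => hce (smul_left_cancel w (hw.trans e1.symm)))
      refine ⟨w⁻¹ * h * u, ?_, ?_⟩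
      · rw [mul_smul, mul_smul, hu, hh1, ← hw, inv_smul_smul]
      · rw [mul_smul, mul_smul, hh2, inv_smul_smul]
  · exact absurd h hnas
  · exfalso
    haveI := hT.isSimpleGroup
    obtain ⟨p, q, r, hp, hq, hr, hpq, hpr, hqr, dp, dq, dr⟩ := exists_three_primes (T := T)
      (fun hs => hT.noncommT ⟨⟨IsSimpleGroup.comm_iff_isSolvable.2 hs⟩⟩)
    have key : ∀ s : ℕ, s.Prime → s ∣ Nat.card T → ∃ t : G, orderOf t = s ∧ ∀ ω : Ω, t • ω ≠ ω := by
      intro s hs hd
      haveI := Fact.mk hs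
      obtain ⟨t, ht⟩ := exists_prime_orderOf_dvd_card' s hd
      rw [← Subgroup.orderOf_coe] at ht
      refine ⟨t, ht, h t t.2 fun e => ?_⟩
      rw [e, orderOf_one] at ht
      exact hs.one_lt.ne ht
    obtain ⟨x, hx, hx'⟩ := key p hp dp
    obtain ⟨y, hy, hy'⟩ := key q hq dq
    obtain ⟨z, hz, hz'⟩ := key r hr dr
    rcases h3 x y z hx' hy' hz' with e | e | e
    · exact hpq (hx.symm.trans ((hord _ _ e).trans hy))
    · exact hpr (hx.symm.trans ((hord _ _ e).trans hz))
    · exact hqr (hy.symm.trans ((hord _ _ e).trans hz))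
  · exfalso
    haveI := hT.normal
    haveI := (Subgroup.nontrivial_iff_ne_bot T).2 hT.ne_bot
    obtain ⟨s, t, hs, ht, hst⟩ := exists_two_sizes (T := T) (fun t ht => Subtype.ext
      (hT.eq_one_of_comm t.2 fun s hs => congrArg Subtype.val (ht ⟨s, hs⟩)))
    have key : ∀ u w : T, IsConj (x * u) (x * w) →
        (Subgroup.centralizer {u}).index = (Subgroup.centralizer {w}).index := by
      intro u w e
      have e1 := card_centralizer_conj N e
      rw [card_centralizer_mul hT hx, card_centralizer_mul hT hx] at e1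
      have e2 := Nat.eq_of_mul_eq_mul_right Nat.card_pos e1
      have e3 := (Subgroup.centralizer {u}).index_mul_card
      have e4 := (Subgroup.centralizer {w}).index_mul_card
      rw [e2, ← e4] at e3
      exact Nat.eq_of_mul_eq_mul_right Nat.card_pos e3
    have h1 : (Subgroup.centralizer {(1 : T)}).index = 1 := by
      rw [Subgroup.index_eq_one, eq_top_iff]
      rintro y - _ rfl
      simp
    rcases h3 _ _ _ (h _ s.2) (h _ t.2) (h _ (1 : T).2) with e | e | e
    · exact hst (key _ _ e)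
    · exact hs ((key _ _ e).trans h1)
    · exact ht ((key _ _ e).trans h1)

end Cfsg.Agent.S3520
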