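import Cfsg.Statements.S3521
import Cfsg.Agent.H62.ExtAff
import Cfsg.Agent.S3493
import Cfsg.Agent.S0205

set_option autoImplicit false
open Cfsg

namespace Cfsg.Agent.S3521

/-- Let a finite group G that is not solvable act faithfully and primitively on a finite set with p ^ d points (p prime), with a non-trivial abelian normal subgroup acting regularly (affine type) and with non-trivial point stabilizers each acting primitively on every one of its orbits (an insoluble extremely primitive group of affine type). Then p = 2; and if moreover G is not 2-transitive, then a point stabilizer is almost simple (it has a non-abelian simple normal subgroup with trivial centralizer). -/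
theorem result {G : Type*} [Group G] [Finite G] {Ω : Type*} [Fintype Ω] [MulAction G Ω] [FaithfulSMul G Ω] (p d : ℕ) (hp : p.Prime) (hcard : Fintype.card Ω = p ^ d) (hsol : ¬ Group.IsSolvable G)
    (N : Subgroup G) [N.Normal] (hN : N ≠ ⊥) (hNc : IsMulCommutative N) (hNreg : ∀ ω : Ω, MulAction.stabilizer N ω = ⊥)
    (hprim : MulAction.IsPreprimitive G Ω) (hH : ∀ α : Ω, MulAction.stabilizer G α ≠ ⊥) (hep : ∀ (α : Ω) (ω : Ω), MulAction.IsPreprimitive (MulAction.stabilizer G α) (MulAction.orbit (MulAction.stabilizer G α) ω)) (α : Ω) :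
    p = 2 ∧ (¬ MulAction.IsMultiplyPretransitive G Ω 2 → ∃ T : Subgroup (MulAction.stabilizer G α), T.Normal ∧ IsSimpleGroup T ∧ ¬ IsMulCommutative T ∧ Subgroup.centralizer (T : Set (MulAction.stabilizer G α)) = ⊥) := by
  open MulAction in
  haveI := H62.isPretransitive_of_normal_ne_bot (Ω := Ω) N hN
  letI : CommGroup N := { mul_comm := fun a b => hNc.is_comm.comm a b }
  letI : MulDistribMulAction (stabilizer G α) N :=
    MulDistribMulAction.compHom N ((MulAut.conjNormal (H := N)).comp (stabilizer G α).subtype)
  have hsm : ∀ (h : stabilizer G α) (v : N), ((h • v : N) : G) = h * v * (h : G)⁻¹ := fun h v => rfl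
  have hreg : ∀ v w : N, (v : G) • α = (w : G) • α → v = w := fun v w e => by
    have : w⁻¹ * v ∈ stabilizer N α := by
      show ((w : G)⁻¹ * v) • α = α
      rw [mul_smul, e, inv_smul_smul]
    rw [hNreg α, Subgroup.mem_bot, inv_mul_eq_one] at this
    exact this.symm
  have hact : ∀ (h : stabilizer G α) (v : N), ((h • v : N) : G) • α = (h : G) • (v : G) • α := by
    intro h v
    rw [hsm, mul_smul, mul_smul, show (h : G)⁻¹ • α = α from (h⁻¹).2]
  have hdec : ∀ g : G, ∃ (n : N) (h : stabilizer G α), g = n * h := fun g => by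
    obtain ⟨n, hn⟩ := exists_smul_eq N α (g • α)
    exact ⟨n, ⟨(n : G)⁻¹ * g, by
      show ((n : G)⁻¹ * g) • α = α
      rw [mul_smul, ← hn]
      exact inv_smul_smul (n : G) α⟩, by simp⟩
  haveI : Nontrivial N := (Subgroup.nontrivial_iff_ne_bot N).2 hN
  have hE : H62.ExtAff (stabilizer G α) N := by
    refine ⟨fun v hv => ?_, fun W hW => ?_, fun h hh => ?_⟩
    · have e : stabilizer (stabilizer G α) v = stabilizer (stabilizer G α) ((v : G) • α) := by
        ext h
        constructor
        · intro hh
          show (h : G) • (v : G) • α = (v : G) • α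
          rw [← hact, show h • v = v from hh]
        · intro hh
          exact hreg _ _ ((hact h v).trans hh)
      rw [e]
      exact S3493.isCoatom_stabilizer hprim hH hep α _ fun e' => hv (hreg _ _ (by simpa using e'))
    · by_cases h1 : W = ⊥
      · exact Or.inl h1
      right
      haveI : (W.map N.subtype).Normal := ⟨by
        rintro _ ⟨w, hw, rfl⟩ g
        obtain ⟨n, h, rfl⟩ := hdec g
        refine ⟨h • w, hW h w hw, ?_⟩
        have e : n * (h • w) * n⁻¹ = h • w := by rw [mul_comm n, mul_inv_cancel_right]
        have e' := congrArg Subtype.val e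
        simp only [Subgroup.coe_mul, InvMemClass.coe_inv, hsm] at e'
        show ((h • w : N) : G) = n * h * w * (n * h : G)⁻¹
        rw [hsm, ← e']
        group⟩
      haveI := H62.isPretransitive_of_normal_ne_bot (Ω := Ω) (W.map N.subtype) (by
        rwa [Ne, Subgroup.map_eq_bot_iff_of_injective _ N.subtype_injective])
      rw [eq_top_iff]
      intro v _
      obtain ⟨⟨_, w, hw, rfl⟩, e⟩ := exists_smul_eq (W.map N.subtype) α ((v : G) • α)
      rw [← hreg w v e]
      exact hw
    · apply Subtype.ext
      refine H62.eq_one_of_mem_centralizer_of_smul_eq N (h : G) (fun n hn => ?_) α h.2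
      have := congrArg Subtype.val (hh ⟨n, hn⟩)
      rw [hsm, mul_inv_eq_iff_eq_mul] at this
      exact this.symm
  have hsolH : ¬ Group.IsSolvable (stabilizer G α) := fun hs => by
    apply hsol
    haveI : Group.IsSolvable N := H3.isSolvable_of_isMulCommutative
    haveI : Group.IsSolvable (G ⧸ N) := Group.isSolvable_of_surjective
      (f := (QuotientGroup.mk' N).comp (stabilizer G α).subtype) fun x => by
        obtain ⟨g, rfl⟩ := QuotientGroup.mk'_surjective N x
        obtain ⟨n, h, rfl⟩ := hdec g
        exact ⟨h, by simp [(QuotientGroup.eq_one_iff (n : G)).2 n.2]⟩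
    exact Group.isSolvable_of_ker_le_range N.subtype (QuotientGroup.mk' N) (by simp)
  obtain ⟨h2, hT⟩ := hE.almost_simple (fun K hK => S0205.result hK) hsolH
  refine ⟨?_, fun _ => hT⟩
  haveI : Nonempty Ω := ⟨α⟩
  have hc : Nat.card N = p ^ d := by
    rw [H62.card_eq_of_transitive_comm (Ω := Ω) N hNc, Nat.card_eq_fintype_card, hcard]
  obtain ⟨v, hv⟩ := exists_ne (1 : N)
  haveI : Fact (Nat.Prime 2) := ⟨Nat.prime_two⟩
  have ho : orderOf v = 2 := orderOf_eq_prime (by rw [pow_two, h2]) hv
  have : 2 ∣ p ^ d := by rw [← hc, ← ho]; exact orderOf_dvd_natCard v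
  exact ((Nat.prime_dvd_prime_iff_eq Nat.prime_two hp).1 (Nat.prime_two.dvd_of_dvd_pow this)).symm

end Cfsg.Agent.S3521
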