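import Cfsg.Statements.S3523
import Cfsg.Agent.H58.P4Asm
import Cfsg.Agent.H70.P4Kit1
import Cfsg.Agent.H76.P4Kit2
import Cfsg.Agent.H28.P4Kit3
import Cfsg.Agent.H13.P4Pgl
import Cfsg.Agent.H88.P4Pos
import Cfsg.Agent.H92.P4NoExc
import Cfsg.Agent.H57.P4PkInd
import Cfsg.Agent.H52.P4PkLeaf
import Cfsg.Agent.H47.P4Leaf5
import Cfsg.Agent.H84.P4Mat
import Cfsg.Agent.H81.P4Gal
import Cfsg.Agent.H30.P4Th
import Cfsg.Agent.H80.P4PE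
import Cfsg.Agent.H32.P4Ind
import Cfsg.Agent.H91.P4Ind2
import Cfsg.Agent.H68.P4Psi2
import Cfsg.Agent.H44.P4Cfg
import Cfsg.Agent.H75.P4One
import Cfsg.Agent.H14.P4Ps3
import Cfsg.Agent.H10.P4G2
import Cfsg.Agent.H95.P4R3a
import Cfsg.Agent.H36.P4Fix3
import Cfsg.Agent.H56.P4Spec
import Cfsg.Agent.H39.P4Num
import Cfsg.Agent.H16.P4Fs
import Cfsg.Agent.H72.P4Ex
import Cfsg.Agent.H55.P4S2b
import Cfsg.Agent.H86.P4Ded3
import Cfsg.Agent.H2.P4CaseA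
import Cfsg.Agent.H33.P4Q7
import Cfsg.Agent.H64.P4Red
import Cfsg.Agent.H60.P4Set
import Cfsg.Agent.H62.P4Q5
import Cfsg.Agent.H66.P4S2a
import Cfsg.Agent.H71.P4Lift
import Cfsg.Agent.H32.P4PkOne
import Cfsg.Agent.H38.P4Q13
import Cfsg.Agent.H87.P4Psi
import Cfsg.Agent.H23.P4PkChi

set_option autoImplicit false
open Cfsg

namespace Cfsg.Agent.S3523

/-- Let p and q be primes with p = 4q + 1 and let a finite group G that is not solvable act faithfully and transitively on a set with p points. Then G is 3-transitive, or q = 3, p = 13 and G is isomorphic to PSL₃(3) (acting on the 13 points of the projective plane of order 3). -/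
theorem result {G : Type*} [Group G] [Finite G] {Ω : Type*} [Fintype Ω] [MulAction G Ω] [FaithfulSMul G Ω] (p q : ℕ) (hp : p.Prime) (hq : q.Prime) (hpq : p = 4 * q + 1) (hcard : Fintype.card Ω = p)
    (hsol : ¬ Group.IsSolvable G) (htr : MulAction.IsPretransitive G Ω) :
    MulAction.IsMultiplyPretransitive G Ω 3 ∨
    (q = 3 ∧ p = 13 ∧ ∃ (F : Type) (_ : Field F) (_ : Fintype F), Fintype.card F = 3 ∧ Nonempty (G ≃* Matrix.ProjectiveSpecialLinearGroup (Fin 3) F)) := by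
  exact Cfsg.Agent.H58.P4.main
    ⟨Cfsg.Agent.H70.P4Kit1.kit1,
     Cfsg.Agent.H76.P4Kit2.kit2,
     Cfsg.Agent.H28.P4K.kit3,
     Cfsg.Agent.H13.P4Pgl.heart,
     Cfsg.Agent.H13.P4Pgl.pgl,
     Cfsg.Agent.H13.P4Pgl.small,
     Cfsg.Agent.H88.P4.pos,
     Cfsg.Agent.H92.P4NoExc.noExc,
     Cfsg.Agent.H32.P4PkOne.pkOne,
     Cfsg.Agent.H58.P4.pkInd,
     Cfsg.Agent.H23.P4PkChi.pkChi,
     Cfsg.Agent.H52.P4PkLeaf.pkLeaf,
     Cfsg.Agent.H47.P4Leaf5.leaf5,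
     Cfsg.Agent.H58.P4.goodD,
     Cfsg.Agent.H84.P4Mat.mat,
     Cfsg.Agent.H81.P4Gal.gal,
     Cfsg.Agent.H30.P4Th.th,
     Cfsg.Agent.H80.P4PE.pe,
     Cfsg.Agent.H32.P4Ind.ind,
     Cfsg.Agent.H91.P4Ind2.ind2,
     Cfsg.Agent.H87.P4Psi.psiStmt,
     Cfsg.Agent.H68.P4Psi2.psi2,
     Cfsg.Agent.H44.P4Cfg.cfg,
     Cfsg.Agent.H71.P4Lift.lft,
     Cfsg.Agent.H75.P4One.one,
     Cfsg.Agent.H14.P4Ps3.ps3,
     Cfsg.Agent.H10.P4G2.g2,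
     Cfsg.Agent.H58.P4.r3a,
     Cfsg.Agent.H36.P4Fix3.fix3,
     Cfsg.Agent.H56.P4Spec.spec,
     Cfsg.Agent.H39.P4Num.num,
     Cfsg.Agent.H16.P4Fs.fsS,
     Cfsg.Agent.H72.P4Ex.ex,
     Cfsg.Agent.H66.P4S2a.s2a,
     Cfsg.Agent.H55.P4S.s2b,
     Cfsg.Agent.H86.P4D.ded3,
     Cfsg.Agent.H2P4.caseA,
     Cfsg.Agent.H33.P4Q7.arith⟩
    Cfsg.Agent.H64.P4Red.red Cfsg.Agent.H60.P4Set.set Cfsg.Agent.H62.P4Q5.q5 Cfsg.Agent.H33.P4Q7.q7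
    Cfsg.Agent.H38.P4Q13.q13 p q hp hq hpq hcard hsol htr

end Cfsg.Agent.S3523
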