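import Cfsg.Statements.S3554
import Cfsg.Agent.H62.PermBasic

set_option autoImplicit false
open Cfsg

namespace Cfsg.Agent.S3554

/-- Let G act faithfully and transitively on a finite set and suppose G has a non-trivial cyclic normal subgroup. Then some element of G of prime order fixes no point. -/
theorem result {G Ω : Type*} [Group G] [Finite G] [MulAction G Ω] [FaithfulSMul G Ω] [Finite Ω]
    (htrans : MulAction.IsPretransitive G Ω) (C : Subgroup G) (hC : C.Normal) (hC1 : C ≠ ⊥) (hcyc : IsCyclic ↥C) :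
    ∃ g : G, (orderOf g).Prime ∧ ∀ ω : Ω, g • ω ≠ ω := by
  obtain ⟨c, hc⟩ := (Subgroup.isCyclic_iff_exists_zpowers_eq_top C).1 hcyc
  have hc1 : c ≠ 1 := by
    rintro rfl
    exact hC1 (by rw [← hc, Subgroup.zpowers_one_eq_bot])
  have ho : orderOf c ≠ 1 := by simpa using hc1
  obtain ⟨p, hp, m, hm⟩ := Nat.exists_prime_and_dvd ho
  have hpos : 0 < orderOf c := orderOf_pos c
  have hm0 : m ≠ 0 := by rintro rfl; omega
  have hord : orderOf (c ^ m) = p := by
    rw [orderOf_pow_of_dvd hm0 ⟨p, by rw [hm, mul_comm]⟩, hm, Nat.mul_div_cancel _ (Nat.pos_of_ne_zero hm0)]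
  refine ⟨c ^ m, hord ▸ hp, fun ω hω => ?_⟩
  have : c ^ m = 1 := by
    apply H62.eq_one_of_conj_smul_eq (c ^ m) ω
    intro g
    have h1 : g⁻¹ * c * g ∈ Subgroup.zpowers c := by
      rw [hc]
      simpa using hC.conj_mem c (hc ▸ Subgroup.mem_zpowers c) g⁻¹
    obtain ⟨k, hk⟩ := h1
    have h2 : g⁻¹ * c ^ m * g = (c ^ m) ^ k := by
      have : g⁻¹ * c ^ m * g = (g⁻¹ * c * g) ^ m := by
        have := conj_pow (a := g⁻¹) (b := c) (i := m)
        simpa using this.symm
      rw [this, ← hk]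
      simp only [← zpow_natCast, ← zpow_mul, mul_comm]
    rw [h2]
    exact (MulAction.stabilizer G ω).zpow_mem hω k
  rw [this, orderOf_one] at hord
  exact hp.one_lt.ne hord

end Cfsg.Agent.S3554
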