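import Cfsg.Statements.S3555
import Cfsg.Agent.H62.Derangement

set_option autoImplicit false
open Cfsg

namespace Cfsg.Agent.S3555

open MulAction in
theorem sum_sq_le {G Ω : Type*} [Group G] [Fintype G] [MulAction G Ω] [Finite Ω] :
    ∑ g : G, Nat.card (fixedBy Ω (g ^ 2)) ≤ ∑ g : G, Nat.card (fixedBy Ω g) ^ 2 := by
  classical
  simp only [← H62.card_fixedBy_prod]
  rw [← Nat.card_sigma, ← Nat.card_sigma]
  let r : Ω × Ω → G := fun x => if h : ∃ g : G, g • x.1 = x.2 ∧ g • x.2 = x.1 then h.choose else 1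
  have hr : ∀ (g : G) (a : Ω), (g ^ 2) • a = a → r (a, g • a) • a = g • a ∧ r (a, g • a) • g • a = a := by
    intro g a ha
    have h : ∃ k : G, k • (a, g • a).1 = (a, g • a).2 ∧ k • (a, g • a).2 = (a, g • a).1 :=
      ⟨g, rfl, by rw [smul_smul, ← sq]; exact ha⟩
    simp only [r, dif_pos h]
    exact h.choose_spec
  refine Nat.card_le_card_of_injective
    (fun x => ⟨(r (x.2.1, x.1 • x.2.1))⁻¹ * x.1, ⟨(x.2.1, x.1 • x.2.1), ?_⟩⟩) ?_
  · obtain ⟨g, a, ha⟩ := x
    obtain ⟨h1, h2⟩ := hr g a ha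
    refine Prod.ext ?_ ?_
    · show ((r (a, g • a))⁻¹ * g) • a = a
      rw [mul_smul, inv_smul_eq_iff, h1]
    · show ((r (a, g • a))⁻¹ * g) • g • a = g • a
      rw [mul_smul, inv_smul_eq_iff, h2, smul_smul, ← sq]
      exact ha
  · rintro ⟨g, a, ha⟩ ⟨g', a', ha'⟩ h
    have h1 : (r (a, g • a))⁻¹ * g = (r (a', g' • a'))⁻¹ * g' := congrArg Sigma.fst h
    have h2 : (a, g • a) = (a', g' • a') := congrArg (fun x : (Σ g : G, fixedBy (Ω × Ω) g) => x.2.1) h
    rw [h2, mul_right_inj] at h1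
    subst h1
    obtain rfl : a = a' := congrArg Prod.fst h2
    rfl

open MulAction in
theorem fix_le_one {G Ω : Type*} [Group G] [Finite G] [MulAction G Ω] [FaithfulSMul G Ω] [Finite Ω]
    [Nonempty Ω] (htrans : IsPretransitive G Ω) (hinv : ∀ g : G, (∀ ω : Ω, g • ω ≠ ω) → g ^ 2 = 1)
    (g : G) (hg : g ≠ 1) (a b : Ω) (ha : g • a = a) (hb : g • b = b) : a = b := by
  classical
  have : Fintype G := Fintype.ofFinite G
  obtain ⟨n, hn⟩ : ∃ n : ℤ, n = (Nat.card Ω : ℤ) := ⟨_, rfl⟩
  let π : G → ℤ := fun g => Nat.card (fixedBy Ω g)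
  have h1 : ∑ g, π g = Fintype.card G := by
    have := H62.sum_card_fixedBy G Ω
    rw [H62.card_quotient_eq_one, one_mul, Nat.card_eq_fintype_card] at this
    simp only [π]
    exact_mod_cast this
  have h2 : ∑ g, π (g ^ 2) ≤ ∑ g, π g ^ 2 := by
    simp only [π]
    exact_mod_cast sum_sq_le (G := G) (Ω := Ω)
  have hle : ∀ g, π g ≤ n := fun g => by
    simp only [π, hn]
    exact_mod_cast Nat.card_le_card_of_injective _ Subtype.val_injective
  have hmono : ∀ g, π g ≤ π (g ^ 2) := fun g => by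
    simp only [π]
    have : fixedBy Ω g ⊆ fixedBy Ω (g ^ 2) := fun x hx => (stabilizer G x).pow_mem hx 2
    exact_mod_cast Nat.card_le_card_of_injective _ (Set.inclusion_injective this)
  have hpos : ∀ g : G, (∃ x : Ω, g • x = x) → 1 ≤ π g := by
    rintro g ⟨x, hx⟩
    have : Nonempty (fixedBy Ω g) := ⟨⟨x, hx⟩⟩
    simp only [π]
    exact_mod_cast Nat.card_pos
  have h3 : ∀ g ∈ Finset.univ, 0 ≤ π (g ^ 2) + n * π g - π g ^ 2 - n := by
    intro g _
    by_cases hd : ∃ x : Ω, g • x = x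
    · have := hpos g hd
      have := hle g
      have := hmono g
      nlinarith
    · push Not at hd
      have e1 : π g = 0 := by
        have : IsEmpty (fixedBy Ω g) := ⟨fun x => hd x x.2⟩
        simp only [π, Nat.card_of_isEmpty, Nat.cast_zero]
      have e2 : π (g ^ 2) = n := by
        simp only [π, hinv g hd, fixedBy_one_eq_univ, hn, Nat.card_univ]
      rw [e1, e2]; simp
  have h4 : ∑ g, (π (g ^ 2) + n * π g - π g ^ 2 - n) = 0 := by
    apply le_antisymm _ (Finset.sum_nonneg h3)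
    rw [Finset.sum_sub_distrib, Finset.sum_sub_distrib, Finset.sum_add_distrib, ← Finset.mul_sum, h1,
      Finset.sum_const, Finset.card_univ, nsmul_eq_mul]
    linarith
  have h5 := (Finset.sum_eq_zero_iff_of_nonneg h3).1 h4 g (Finset.mem_univ g)
  have h6 := hpos g ⟨a, ha⟩
  have h7 := hmono g
  have h8 : π g < n := by
    refine lt_of_le_of_ne (hle g) (fun h => hg ?_)
    rw [← fixedBy_eq_univ_iff_eq_one (α := Ω)]
    apply Set.eq_of_subset_of_ncard_le (Set.subset_univ _)
    rw [Set.ncard_univ, ← Nat.card_coe_set_eq]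
    simp only [π, hn] at h
    exact_mod_cast h.ge
  have h9 : π g = 1 := by nlinarith
  have h10 : Nat.card (fixedBy Ω g) = 1 := by
    simp only [π] at h9
    exact_mod_cast h9
  have := (Nat.card_eq_one_iff_unique.1 h10).1
  exact congrArg Subtype.val (Subsingleton.elim (⟨a, ha⟩ : fixedBy Ω g) ⟨b, hb⟩)

theorem comm_of_sq {G : Type*} [Group G] {x y : G} (hx : x ^ 2 = 1) (hy : y ^ 2 = 1)
    (hxy : (x * y) ^ 2 = 1) : x * y = y * x := by
  rw [sq] at hx hy hxy
  rw [← inv_eq_of_mul_eq_one_right hxy, mul_inv_rev, inv_eq_of_mul_eq_one_right hx,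
    inv_eq_of_mul_eq_one_right hy]


/-- Let G act faithfully and transitively on a finite set and suppose every element of G fixing no point is an involution. Then either G is an elementary abelian 2-group, or G is a Frobenius group whose Frobenius kernel is an elementary abelian 2-group: G has a Frobenius complement H, and the elements lying in no conjugate of H, together with the identity, pairwise commute and square to the identity. -/
theorem result {G Ω : Type*} [Group G] [Finite G] [MulAction G Ω] [FaithfulSMul G Ω] [Finite Ω]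
    (htrans : MulAction.IsPretransitive G Ω) (hinv : ∀ g : G, (∀ ω : Ω, g • ω ≠ ω) → orderOf g = 2) :
    (IsMulCommutative G ∧ ∀ g : G, g ^ 2 = 1) ∨
    (∃ H : Subgroup G, Cfsg.IsFrobeniusComplement H ∧
      (∀ x ∈ Cfsg.frobeniusKernel H, x ^ 2 = 1) ∧
      ∀ x ∈ Cfsg.frobeniusKernel H, ∀ y ∈ Cfsg.frobeniusKernel H, x * y = y * x) := by
  have hinv' : ∀ g : G, (∀ ω : Ω, g • ω ≠ ω) → g ^ 2 = 1 := fun g hg => by
    rw [← hinv g hg, pow_orderOf_eq_one]
  by_cases hall : ∀ g : G, g ^ 2 = 1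
  · exact Or.inl ⟨⟨⟨fun x y => comm_of_sq (hall x) (hall y) (hall _)⟩⟩, hall⟩
  right
  push Not at hall
  obtain ⟨g, hg⟩ := hall
  have hg1 : g ≠ 1 := by rintro rfl; simp at hg
  obtain ⟨a, ha⟩ : ∃ a : Ω, g • a = a := by
    by_contra h
    push Not at h
    exact hg (hinv' g h)
  have : Nonempty Ω := ⟨a⟩
  have key := fix_le_one htrans hinv'
  have hker : ∀ x ∈ Cfsg.frobeniusKernel (MulAction.stabilizer G a), x = 1 ∨ ∀ ω : Ω, x • ω ≠ ω := by
    rintro x (rfl | hx)
    · exact Or.inl rfl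
    · right
      intro ω hω
      obtain ⟨k, rfl⟩ := MulAction.exists_smul_eq G a ω
      apply hx k
      rw [Subgroup.mem_pointwise_smul_iff_inv_smul_mem, MulAction.mem_stabilizer_iff]
      show (k⁻¹ * x * k) • a = a
      rw [mul_smul, mul_smul, hω, inv_smul_smul]
  have hsq : ∀ x ∈ Cfsg.frobeniusKernel (MulAction.stabilizer G a), x ^ 2 = 1 := by
    intro x hx
    rcases hker x hx with rfl | h
    · simp
    · exact hinv' x h
  refine ⟨MulAction.stabilizer G a, ⟨?_, ?_, ?_⟩, hsq, ?_⟩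
  · intro h
    have : g ∈ MulAction.stabilizer G a := ha
    rw [h] at this
    exact hg1 this
  · intro h
    exact hg1 (H62.eq_one_of_conj_smul_eq g a (fun k => by
      have : k⁻¹ * g * k ∈ MulAction.stabilizer G a := h ▸ Subgroup.mem_top _
      exact this))
  · intro k hk
    rw [eq_bot_iff]
    intro x hx12
    obtain ⟨hx1, hx2⟩ := Subgroup.mem_inf.1 hx12
    rw [Subgroup.mem_bot]
    by_contra hx
    apply hk
    rw [Subgroup.mem_pointwise_smul_iff_inv_smul_mem, MulAction.mem_stabilizer_iff] at hx2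
    have hx3 : (k⁻¹ * x * k) • a = a := hx2
    rw [mul_smul, mul_smul, inv_smul_eq_iff] at hx3
    exact key x hx _ _ hx3 hx1
  · intro x hx y hy
    rcases hker x hx with rfl | hx'
    · simp
    by_cases hxy : x * y = 1
    · exact comm_of_sq (hsq x hx) (hsq y hy) (by rw [hxy]; simp)
    apply comm_of_sq (hsq x hx) (hsq y hy)
    apply hinv'
    intro ω hω
    apply hx' ω
    apply key (x * y) hxy _ _ _ hω
    have e1 : x⁻¹ = x := inv_eq_of_mul_eq_one_right (by rw [← sq]; exact hsq x hx)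
    have e2 : y⁻¹ = y := inv_eq_of_mul_eq_one_right (by rw [← sq]; exact hsq y hy)
    have e3 : (x * y)⁻¹ • ω = ω := inv_smul_eq_iff.2 hω.symm
    rw [mul_inv_rev, e1, e2] at e3
    rw [smul_smul, mul_assoc, mul_smul, e3]

end Cfsg.Agent.S3555
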