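import Cfsg.Statements.S3556
import Cfsg.Agent.H62.ONS

set_option autoImplicit false
open Cfsg

namespace Cfsg.Agent.S3556

/-- Let G act faithfully and primitively on a finite set with at least two points, and suppose that for some fixed prime p every element of G fixing no point has order a power of p. Then G is of affine type (it has a regular normal subgroup that is an elementary abelian r-group for some prime r) or almost simple (it has a non-abelian simple normal subgroup with trivial centralizer). -/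
theorem result {G Ω : Type*} [Group G] [Finite G] [MulAction G Ω] [FaithfulSMul G Ω] [Finite Ω]
    (hprim : MulAction.IsPreprimitive G Ω) (hΩ : 2 ≤ Nat.card Ω) (p : ℕ) (hp : p.Prime)
    (hder : ∀ g : G, (∀ ω : Ω, g • ω ≠ ω) → ∃ k : ℕ, orderOf g = p ^ k) :
    (∃ (N : Subgroup G) (r : ℕ), r.Prime ∧ N.Normal ∧ Cfsg.IsElementaryAbelian r N ∧
      MulAction.IsPretransitive N Ω ∧ ∀ a : Ω, MulAction.stabilizer N a = ⊥) ∨
    (∃ T : Subgroup G, T.Normal ∧ IsSimpleGroup ↥T ∧ ¬ IsMulCommutative ↥T ∧
      Subgroup.centralizer (T : Set G) = ⊥) := by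
  haveI : Nontrivial Ω := Finite.one_lt_card_iff_nontrivial.1 hΩ
  rcases H62.ons_derangement (G := G) (Ω := Ω) with ⟨N, r, hr, hN, hN1, hc, h⟩ | h | ⟨N, T, hT, h⟩ | ⟨N, T, hT, x, hx, h⟩
  · haveI := H62.isPretransitive_of_normal_ne_bot (Ω := Ω) N hN1
    refine Or.inl ⟨N, r, hr, hN, ⟨hc, h⟩, this, fun a => ?_⟩
    rw [eq_bot_iff]
    intro n hn
    exact Subtype.ext (H62.eq_one_of_mem_centralizer_of_smul_eq N n
      (Subgroup.le_centralizer_iff_isMulCommutative.2 hc n.2) a hn)
  · exact Or.inr h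
  · exfalso
    apply hT.not_isPGroup p hp
    intro t
    by_cases ht : (t : G) = 1
    · exact ⟨0, Subtype.ext (by simpa using ht)⟩
    · obtain ⟨k, hk⟩ := hder t (h t t.2 ht)
      exact ⟨k, Subtype.ext (by rw [← hk]; exact pow_orderOf_eq_one (t : G))⟩
  · exfalso
    apply hT.not_isPGroup p hp
    intro t
    obtain ⟨k, hk⟩ := hder _ (h t t.2)
    obtain ⟨l, hl⟩ := hder _ (h 1 T.one_mem)
    rw [mul_one] at hl
    refine ⟨k + l, Subtype.ext ?_⟩
    have hc : Commute x t := (hx.1 t t.2).symm
    have h1 : (x * t) ^ p ^ (k + l) = 1 := by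
      rw [pow_add, pow_mul, ← hk, pow_orderOf_eq_one, one_pow]
    have h2 : x ^ p ^ (k + l) = 1 := by
      rw [pow_add, mul_comm, pow_mul, ← hl, pow_orderOf_eq_one, one_pow]
    rw [hc.mul_pow, h2, one_mul] at h1
    exact h1

end Cfsg.Agent.S3556
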