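import Cfsg.Statements.S5726

set_option autoImplicit false
open Cfsg

namespace Cfsg.Agent.S5726

/-- If a finite group acts faithfully and transitively on a set with p^k elements, p a prime and k ≥ 1, then some element of order p fixes no point. -/
theorem result {G Ω : Type*} [Group G] [Finite G] [MulAction G Ω] [FaithfulSMul G Ω] [Fintype Ω] (htr : MulAction.IsPretransitive G Ω)
    (p k : ℕ) (hp : p.Prime) (hk : 1 ≤ k) (hΩ : Fintype.card Ω = p ^ k) :
    ∃ g : G, orderOf g = p ∧ ∀ ω : Ω, g • ω ≠ ω := by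
  classical
  haveI : Fact p.Prime := ⟨hp⟩
  obtain ⟨P⟩ : Nonempty (Sylow p G) := inferInstance
  have hpos : 1 < Fintype.card Ω := by
    rw [hΩ]; exact Nat.one_lt_pow (by omega) hp.one_lt
  -- the Sylow subgroup is transitive
  have hPtr : ∀ ω : Ω, MulAction.orbit (P : Subgroup G) ω = Set.univ := by
    intro ω
    have h1 : (MulAction.stabilizer G ω).index = p ^ k := by
      rw [MulAction.index_stabilizer_of_transitive, Nat.card_eq_fintype_card, hΩ]
    have h2 : (MulAction.stabilizer (P : Subgroup G) ω).index =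
        (MulAction.orbit (P : Subgroup G) ω).ncard := MulAction.index_stabilizer _ ω
    have h3 : (MulAction.stabilizer (P : Subgroup G) ω).index =
        (MulAction.stabilizer G ω).relIndex (P : Subgroup G) := rfl
    have h4 : p ^ k ∣ (MulAction.stabilizer G ω).relIndex (P : Subgroup G) * (P : Subgroup G).index := by
      rw [← h1, ← Subgroup.inf_relIndex_right, Subgroup.relIndex_mul_index inf_le_right]
      exact Subgroup.index_dvd_of_le inf_le_left
    have h5 : (p ^ k).Coprime (P : Subgroup G).index :=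
      Nat.Coprime.pow_left k ((Nat.Prime.coprime_iff_not_dvd hp).2 P.not_dvd_index)
    have h6 : p ^ k ∣ (MulAction.orbit (P : Subgroup G) ω).ncard := by
      rw [← h2, h3]; exact h5.dvd_of_dvd_mul_right h4
    apply Set.eq_of_subset_of_ncard_le (Set.subset_univ _) _ (Set.toFinite _)
    rw [Set.ncard_univ, Nat.card_eq_fintype_card, hΩ]
    exact Nat.le_of_dvd ((Set.ncard_pos (Set.toFinite _)).2 ⟨ω, MulAction.mem_orbit_self ω⟩) h6
  obtain ⟨ω₀, ω₁, hne⟩ := Fintype.exists_pair_of_one_lt_card hpos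
  haveI : Nontrivial (P : Subgroup G) := by
    have : ω₁ ∈ MulAction.orbit (P : Subgroup G) ω₀ := (hPtr ω₀).symm ▸ Set.mem_univ _
    obtain ⟨g, hg⟩ := this
    refine ⟨g, 1, fun h => hne ?_⟩
    rw [← hg, h]; simp
  haveI := P.isPGroup'.center_nontrivial
  have hZ : IsPGroup p (Subgroup.center (P : Subgroup G)) := P.isPGroup'.to_subgroup _
  have hdvd : p ∣ Nat.card (Subgroup.center (P : Subgroup G)) := by
    obtain ⟨m, hm0, hm⟩ := hZ.nontrivial_iff_card.1 inferInstance
    rw [hm]; exact dvd_pow_self p hm0.ne'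
  obtain ⟨z, hz⟩ := exists_prime_orderOf_dvd_card' p hdvd
  refine ⟨((z : (P : Subgroup G)) : G), by rw [Subgroup.orderOf_coe, Subgroup.orderOf_coe, hz], ?_⟩
  intro ω hω
  have hall : ∀ ω' : Ω, ((z : (P : Subgroup G)) : G) • ω' = (1 : G) • ω' := by
    intro ω'
    have : ω' ∈ MulAction.orbit (P : Subgroup G) ω := (hPtr ω).symm ▸ Set.mem_univ _
    obtain ⟨g, rfl⟩ := this
    have hc := Subgroup.mem_center_iff.1 z.2 g
    have hc' : (g : G) * ((z : (P : Subgroup G)) : G) = ((z : (P : Subgroup G)) : G) * g :=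
      congrArg Subtype.val hc
    change _ • ((g : G) • ω) = (1 : G) • ((g : G) • ω)
    rw [one_smul, smul_smul, ← hc', mul_smul, hω]
  have h1 : ((z : (P : Subgroup G)) : G) = 1 := FaithfulSMul.eq_of_smul_eq_smul hall
  have h2 : z = 1 := Subtype.ext (Subtype.ext h1)
  rw [h2, orderOf_one] at hz
  exact hp.one_lt.ne hz

end Cfsg.Agent.S5726
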