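import Cfsg.Statements.S3557
import Cfsg.Agent.H89.PBasic
import Cfsg.Agent.S5726

set_option autoImplicit false
open Cfsg

namespace Cfsg.Agent.S3557

open MulAction

theorem core {P Ω : Type*} [Group P] [Finite P] [MulAction P Ω] [FaithfulSMul P Ω] [Finite Ω]
    {p : ℕ} [hp : Fact p.Prime] (hP : IsPGroup p P) (hcard : Nat.card Ω = 2 * p ^ 2)
    (horb : ∀ a : Ω, (stabilizer P a).index = p ^ 2) :
    ∃ σ : Equiv.Perm Ω, σ ^ p = 1 ∧ (∀ a, σ a ≠ a) ∧
      ∀ a b : Ω, ∃ g : P, σ a = g • a ∧ σ b = g • b := by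
  classical
  have hp1 : 1 < p := hp.out.one_lt
  have hpos : 0 < p ^ 2 := by positivity
  have hne : Nonempty Ω := by
    have : 0 < Nat.card Ω := by omega
    exact (Nat.card_pos_iff.mp this).1
  obtain ⟨a0⟩ := hne
  have hnt : Nontrivial P := by
    by_contra h
    rw [not_nontrivial_iff_subsingleton] at h
    have h1 : stabilizer P a0 = ⊤ := Subsingleton.elim _ _
    have := horb a0
    rw [h1, Subgroup.index_top] at this
    have : 1 < p ^ 2 := Nat.one_lt_pow (by norm_num) hp1
    omega
  -- a central element of order p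
  obtain ⟨z, hzc, hzo⟩ : ∃ z : P, z ∈ Subgroup.center P ∧ orderOf z = p := by
    have h1 : Nontrivial (Subgroup.center P) := hP.center_nontrivial
    have h2 : IsPGroup p (Subgroup.center P) := hP.to_subgroup _
    obtain ⟨n, hn0, hn⟩ := h2.nontrivial_iff_card.mp h1
    obtain ⟨z, hz⟩ := exists_prime_orderOf_dvd_card' (G := Subgroup.center P) p
      (by rw [hn]; exact dvd_pow_self p hn0.ne')
    exact ⟨z, z.2, by rw [← hz, Subgroup.orderOf_coe]⟩
  have hzp : z ^ p = 1 := by rw [← hzo]; exact pow_orderOf_eq_one z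
  have hzcomm : ∀ y : P, y * z = z * y := fun y => (Subgroup.mem_center_iff.mp hzc) y
  by_cases hfix : ∀ a : Ω, z • a ≠ a
  · refine ⟨toPerm z, ?_, fun a => hfix a, fun a b => ⟨z, rfl, rfl⟩⟩
    have : toPermHom P Ω (z ^ p) = 1 := by rw [hzp, map_one]
    rw [map_pow] at this
    exact this
  push Not at hfix
  obtain ⟨b0, hb0⟩ := hfix
  have hcorb : ∀ a : Ω, (orbit P a).ncard = p ^ 2 := fun a => by
    rw [← horb a, index_stabilizer]
  set B := orbit P b0 with hB
  have hzB : ∀ b ∈ B, z • b = b := by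
    rintro b ⟨y, rfl⟩
    show z • y • b0 = y • b0
    rw [smul_smul, ← hzcomm, mul_smul, hb0]
  have hBs : ∀ (y : P) (b : Ω), y • b ∈ B ↔ b ∈ B := fun y b => by
    constructor
    · rintro ⟨x, hx⟩
      refine ⟨y⁻¹ * x, ?_⟩
      show (y⁻¹ * x) • b0 = b
      have hx' : x • b0 = y • b := hx
      rw [mul_smul, hx', inv_smul_smul]
    · rintro ⟨x, rfl⟩
      exact ⟨y * x, by show (y * x) • b0 = y • x • b0; rw [mul_smul]⟩
  have hA : ∀ a, a ∉ B → orbit P a = Bᶜ := by
    intro a ha
    apply Set.eq_of_subset_of_ncard_le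
    · rintro _ ⟨y, rfl⟩ h
      exact ha ((hBs y a).mp h)
    · have h1 := Set.ncard_add_ncard_compl B
      rw [hcorb a]
      have h2 := hcorb b0
      rw [← hB] at h2
      omega
    · exact Set.toFinite _
  have hzA : ∀ a, a ∉ B → z • a ≠ a := by
    intro a ha h
    have hz1 : z = 1 := by
      apply FaithfulSMul.eq_of_smul_eq_smul (α := Ω)
      intro c
      rw [one_smul]
      by_cases hc : c ∈ B
      · exact hzB c hc
      · have : c ∈ orbit P a := by rw [hA a ha]; exact hc
        obtain ⟨y, rfl⟩ := this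
        show z • y • a = y • a
        rw [smul_smul, ← hzcomm, mul_smul, h]
    rw [hz1, orderOf_one] at hzo
    omega
  obtain ⟨a1, ha1⟩ : ∃ a, a ∉ B := by
    by_contra h
    push Not at h
    have h1 : B = Set.univ := Set.eq_univ_of_forall h
    have h2 := hcorb b0
    rw [← hB, h1, Set.ncard_univ] at h2
    omega
  -- the subgroup M
  let M : Subgroup P := stabilizer P a1 ⊔ Subgroup.zpowers z
  have hZn : (Subgroup.zpowers z).Normal := ⟨fun n hn g => by
    obtain ⟨k, rfl⟩ := hn
    have : g * z ^ k * g⁻¹ = z ^ k := by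
      have hc : Commute g (z ^ k) := (show Commute g z from hzcomm g).zpow_right k
      rw [hc.eq, mul_inv_cancel_right]
    show g * z ^ k * g⁻¹ ∈ _
    rw [this]
    exact ⟨k, rfl⟩⟩
  have hMmem : ∀ w ∈ M, ∃ k : ℤ, w • a1 = z ^ k • a1 := by
    intro w hw
    have : w ∈ ((Subgroup.zpowers z ⊔ stabilizer P a1 : Subgroup P) : Set P) := by
      rw [sup_comm]; exact hw
    rw [Subgroup.normal_mul] at this
    obtain ⟨x, ⟨k, rfl⟩, y, hy, rfl⟩ := this
    refine ⟨k, ?_⟩
    have hy' : y • a1 = a1 := hy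
    show (z ^ k * y) • a1 = _
    rw [mul_smul, hy']
  have hMidx : M.index = p := by
    have h1 : M.index ∣ p ^ 2 := by
      rw [← horb a1]; exact Subgroup.index_dvd_of_le le_sup_left
    obtain ⟨k, hk, hk'⟩ := (Nat.dvd_prime_pow hp.out).mp h1
    interval_cases k
    · exfalso
      rw [pow_zero, Subgroup.index_eq_one] at hk'
      have h2 : orbit P a1 ⊆ (fun k : Fin p => z ^ (k : ℕ) • a1) '' Set.univ := by
        rintro _ ⟨y, rfl⟩
        obtain ⟨k, hk⟩ := hMmem y (by rw [hk']; trivial)
        have hmem : z ^ k ∈ Submonoid.powers z := by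
          rw [mem_powers_iff_mem_zpowers]; exact ⟨k, rfl⟩
        obtain ⟨n, hn⟩ := hmem
        refine ⟨⟨n % p, Nat.mod_lt _ hp.out.pos⟩, trivial, ?_⟩
        show z ^ (n % p) • a1 = y • a1
        rw [hk, ← hn, ← hzo, pow_mod_orderOf]
      have h3 := Set.ncard_le_ncard h2 (Set.toFinite _)
      have h4 := Set.ncard_image_le (f := fun k : Fin p => z ^ (k : ℕ) • a1) (s := Set.univ)
        (Set.toFinite _)
      rw [Set.ncard_univ, Nat.card_eq_fintype_card, Fintype.card_fin] at h4
      rw [hcorb] at h3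
      have : p < p ^ 2 := by nlinarith
      omega
    · simpa using hk'
    · exfalso
      have h2 : stabilizer P a1 = M := by
        have h3 : (stabilizer P a1).relIndex M * M.index = (stabilizer P a1).index :=
          Subgroup.relIndex_mul_index le_sup_left
        rw [horb, hk'] at h3
        have h4 : (stabilizer P a1).relIndex M = 1 := by
          have := Nat.eq_of_mul_eq_mul_right hpos (h3.trans (one_mul _).symm)
          exact this
        exact le_antisymm le_sup_left (Subgroup.relIndex_eq_one.mp h4)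
      have h5 : z ∈ stabilizer P a1 := by
        rw [h2]; exact Subgroup.mem_sup_right (Subgroup.mem_zpowers z)
      exact hzA a1 ha1 h5
  have hMn : M.Normal := by
    apply Subgroup.normal_of_index_eq_minFac_card
    obtain ⟨n, hn0, hn⟩ := hP.nontrivial_iff_card.mp hnt
    rw [hMidx, hn, hp.out.pow_minFac hn0.ne']
  have hMA : ∀ w ∈ M, ∀ a, a ∉ B → ∃ k : ℤ, w • a = z ^ k • a := by
    intro w hw a ha
    have : a ∈ orbit P a1 := by rw [hA a1 ha1]; exact ha
    obtain ⟨y, rfl⟩ := this
    have h1 : y⁻¹ * w * y⁻¹⁻¹ ∈ M := hMn.conj_mem w hw y⁻¹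
    obtain ⟨k, hk⟩ := hMmem _ h1
    refine ⟨k, ?_⟩
    show w • y • a1 = z ^ k • y • a1
    have hc : Commute y (z ^ k) := (show Commute y z from hzcomm y).zpow_right k
    rw [← mul_smul (z ^ k), ← hc.eq, mul_smul y, ← hk, smul_smul, smul_smul]
    congr 1
    group
  -- the kernel on B
  let K : Subgroup P := (toPermHom P (orbit P b0)).ker
  have hK : ∀ x, x ∈ K ↔ ∀ b ∈ B, x • b = b := by
    intro x
    rw [MonoidHom.mem_ker]
    constructor
    · intro h b hb
      have := congrArg (fun f : Equiv.Perm (orbit P b0) => (f ⟨b, hb⟩ : Ω)) h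
      simpa using this
    · intro h
      ext ⟨b, hb⟩
      simpa using h b hb
  have hMK : M.map (QuotientGroup.mk' K) ≠ ⊥ := by
    intro h
    rw [Subgroup.map_eq_bot_iff, QuotientGroup.ker_mk'] at h
    have h1 : M ≤ stabilizer P b0 := fun x hx => (hK x).mp (h hx) b0 (mem_orbit_self b0)
    have h2 := Subgroup.index_dvd_of_le h1
    rw [horb, hMidx] at h2
    have := Nat.le_of_dvd hp.out.pos h2
    nlinarith
  haveI : (M.map (QuotientGroup.mk' K)).Normal :=
    hMn.map _ (QuotientGroup.mk'_surjective K)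
  have hQ : IsPGroup p (P ⧸ K) := hP.to_quotient K
  have h1 := H89.inf_center_ne_bot hQ hMK
  obtain ⟨wb, hwb, hwo⟩ : ∃ wb ∈ M.map (QuotientGroup.mk' K) ⊓ Subgroup.center (P ⧸ K),
      orderOf wb = p := by
    have h2 : IsPGroup p (M.map (QuotientGroup.mk' K) ⊓ Subgroup.center (P ⧸ K) : Subgroup _) :=
      hQ.to_subgroup _
    obtain ⟨n, hn0, hn⟩ := h2.nontrivial_iff_card.mp ((Subgroup.nontrivial_iff_ne_bot _).mpr h1)
    obtain ⟨z, hz⟩ := exists_prime_orderOf_dvd_card'
      (G := (M.map (QuotientGroup.mk' K) ⊓ Subgroup.center (P ⧸ K) : Subgroup _)) p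
      (by rw [hn]; exact dvd_pow_self p hn0.ne')
    exact ⟨z, z.2, by rw [← hz, Subgroup.orderOf_coe]⟩
  obtain ⟨⟨w, hwM, rfl⟩, hwc⟩ := hwb
  have hwp : ∀ b ∈ B, w ^ p • b = b := by
    rw [← hK, ← QuotientGroup.eq_one_iff]
    have := pow_orderOf_eq_one (QuotientGroup.mk' K w)
    rw [hwo, ← map_pow] at this
    exact this
  have hwB : ∀ b ∈ B, w • b ≠ b := by
    intro b hb h
    have h2 : w ∈ K := by
      rw [hK]
      intro c hc
      have hcb : c ∈ orbit P b := by
        have : orbit P b = B := orbit_eq_iff.mpr hb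
        rw [this]; exact hc
      obtain ⟨y, rfl⟩ := hcb
      have h3 := (Subgroup.mem_center_iff.mp hwc) (QuotientGroup.mk' K y)
      rw [← map_mul, ← map_mul, QuotientGroup.mk'_apply, QuotientGroup.mk'_apply,
        QuotientGroup.eq] at h3
      have h4 := (hK _).mp h3 b hb
      show w • y • b = y • b
      rw [mul_smul, inv_smul_eq_iff, mul_smul, mul_smul, h] at h4
      exact h4
    have h3 : QuotientGroup.mk' K w = 1 := (QuotientGroup.eq_one_iff w).mpr h2
    rw [h3, orderOf_one] at hwo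
    omega
  -- the permutation
  let σ : Equiv.Perm Ω :=
    { toFun := fun c => if c ∈ B then w • c else z • c
      invFun := fun c => if c ∈ B then w⁻¹ • c else z⁻¹ • c
      left_inv := fun c => by
        by_cases hc : c ∈ B
        · simp only [hc, if_true, (hBs w c).mpr hc, inv_smul_smul]
        · simp only [hc, if_false, (hBs z c).not.mpr hc, inv_smul_smul]
      right_inv := fun c => by
        by_cases hc : c ∈ B
        · simp only [hc, if_true, (hBs w⁻¹ c).mpr hc, smul_inv_smul]
        · simp only [hc, if_false, (hBs z⁻¹ c).not.mpr hc, smul_inv_smul] }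
  have hσB : ∀ c ∈ B, σ c = w • c := fun c hc => if_pos hc
  have hσA : ∀ c, c ∉ B → σ c = z • c := fun c hc => if_neg hc
  have hmix : ∀ a b, a ∉ B → b ∈ B → ∃ g : P, σ a = g • a ∧ σ b = g • b := by
    intro a b ha hb
    obtain ⟨k, hk⟩ := hMA w hwM a ha
    refine ⟨z ^ (1 - k) * w, ?_, ?_⟩
    · rw [hσA a ha, mul_smul, hk, smul_smul, ← zpow_add, sub_add_cancel, zpow_one]
    · rw [hσB b hb, mul_smul]
      have h2 : z ∈ stabilizer P (w • b) := hzB _ ((hBs w b).mpr hb)
      exact (Subgroup.zpow_mem _ h2 (1 - k)).symm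
  refine ⟨σ, ?_, ?_, ?_⟩
  · have key : ∀ (n : ℕ) (c : Ω), (c ∈ B → (σ ^ n) c = w ^ n • c) ∧
        (c ∉ B → (σ ^ n) c = z ^ n • c) := by
      intro n
      induction n with
      | zero => intro c; simp
      | succ n ih =>
        intro c
        constructor
        · intro hc
          rw [pow_succ', Equiv.Perm.mul_apply, (ih c).1 hc, hσB _ ((hBs _ _).mpr hc), pow_succ',
            mul_smul]
        · intro hc
          rw [pow_succ', Equiv.Perm.mul_apply, (ih c).2 hc, hσA _ ((hBs _ _).not.mpr hc),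
            pow_succ', mul_smul]
    ext c
    by_cases hc : c ∈ B
    · rw [(key p c).1 hc, hwp c hc]; rfl
    · rw [(key p c).2 hc, hzp, one_smul]; rfl
  · intro c
    by_cases hc : c ∈ B
    · rw [hσB c hc]; exact hwB c hc
    · rw [hσA c hc]; exact hzA c hc
  · intro a b
    by_cases ha : a ∈ B <;> by_cases hb : b ∈ B
    · exact ⟨w, hσB a ha, hσB b hb⟩
    · obtain ⟨g, h1, h2⟩ := hmix b a hb ha
      exact ⟨g, h2, h1⟩
    · exact hmix a b ha hb
    · exact ⟨z, hσA a ha, hσA b hb⟩

/-- Let G act faithfully and transitively on a finite set with 2p² points, p a prime, and suppose G is 2-closed: every permutation of the set which, on each ordered pair of points, agrees with some element of G, is itself induced by an element of G. Then some element of G of prime order fixes no point. -/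
theorem result {G Ω : Type*} [Group G] [Finite G] [MulAction G Ω] [FaithfulSMul G Ω] [Finite Ω]
    (htrans : MulAction.IsPretransitive G Ω) (p : ℕ) (hp : p.Prime) (hcard : Nat.card Ω = 2 * p ^ 2)
    (hcl : ∀ σ : Equiv.Perm Ω, (∀ a b : Ω, ∃ g : G, σ a = g • a ∧ σ b = g • b) → ∃ g : G, ∀ a : Ω, σ a = g • a) :
    ∃ g : G, (orderOf g).Prime ∧ ∀ ω : Ω, g • ω ≠ ω := by
  classical
  haveI : Fact p.Prime := ⟨hp⟩
  by_cases h2 : p = 2
  · subst h2
    letI : Fintype Ω := Fintype.ofFinite Ω
    obtain ⟨g, hg, hg'⟩ := S5726.result (G := G) (Ω := Ω) htrans 2 3 hp (by norm_num)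
      (by rw [← Nat.card_eq_fintype_card, hcard]; norm_num)
    exact ⟨g, hg ▸ hp, hg'⟩
  obtain ⟨P⟩ : Nonempty (Sylow p G) := inferInstance
  have hp3 : 3 ≤ p := by have := hp.two_le; omega
  have horb : ∀ a : Ω, (stabilizer (P : Subgroup G) a).index = p ^ 2 := by
    intro a
    have h1 : (stabilizer G a).index = 2 * p ^ 2 := by
      rw [index_stabilizer_of_transitive, hcard]
    have h3 : (stabilizer (P : Subgroup G) a).index = (stabilizer G a).relIndex P := rfl
    have h4 : (stabilizer G a).relIndex P * (P : Subgroup G).index =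
        ((stabilizer G a) ⊓ P).index := by
      rw [← Subgroup.inf_relIndex_right]
      exact Subgroup.relIndex_mul_index inf_le_right
    have h5 : (stabilizer G a).index ∣ ((stabilizer G a) ⊓ P).index :=
      Subgroup.index_dvd_of_le inf_le_left
    rw [← h4, h1] at h5
    have h6 : p ^ 2 ∣ (stabilizer G a).relIndex P := by
      have h7 : Nat.Coprime (p ^ 2) (P : Subgroup G).index :=
        Nat.Coprime.pow_left 2 ((Nat.Prime.coprime_iff_not_dvd hp).mpr P.not_dvd_index)
      exact h7.dvd_of_dvd_mul_right ((Dvd.intro_left 2 rfl).trans h5)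
    obtain ⟨k, hk⟩ := P.isPGroup'.index (stabilizer (P : Subgroup G) a)
    have h8 : (stabilizer (P : Subgroup G) a).index ≤ 2 * p ^ 2 := by
      rw [index_stabilizer, ← hcard, ← Set.ncard_univ]
      exact Set.ncard_le_ncard (Set.subset_univ _) (Set.toFinite _)
    rw [← h3, hk] at h6
    rw [hk] at h8 ⊢
    have h9 : 2 ≤ k := (Nat.pow_dvd_pow_iff_le_right hp.one_lt).mp h6
    have h10 : k < 3 := by
      by_contra h
      have : p ^ 3 ≤ p ^ k := Nat.pow_le_pow_right hp.pos (by omega)
      have : 3 * p ^ 2 ≤ p ^ 3 := by rw [pow_succ p 2, mul_comm]; exact Nat.mul_le_mul_left _ hp3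
      have : 0 < p ^ 2 := by positivity
      omega
    congr 1
    omega
  obtain ⟨σ, hσp, hσf, hσ⟩ := core (P := (P : Subgroup G)) P.isPGroup' hcard horb
  obtain ⟨g, hg⟩ := hcl σ (fun a b => by
    obtain ⟨g, h1, h2⟩ := hσ a b
    exact ⟨g, h1, h2⟩)
  have hgσ : toPermHom G Ω g = σ := by ext a; exact (hg a).symm
  have hgp : g ^ p = 1 := by
    apply (toPerm_injective (α := G) (β := Ω))
    have : toPermHom G Ω (g ^ p) = toPermHom G Ω 1 := by rw [map_pow, hgσ, hσp, map_one]
    exact this
  have hne : Nonempty Ω := by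
    have : 0 < Nat.card Ω := by rw [hcard]; positivity
    exact (Nat.card_pos_iff.mp this).1
  obtain ⟨a0⟩ := hne
  have hg1 : g ≠ 1 := by
    rintro rfl
    exact hσf a0 (by rw [hg, one_smul])
  refine ⟨g, ?_, fun ω => by rw [← hg]; exact hσf ω⟩
  rw [orderOf_eq_prime hgp hg1]
  exact hp

end Cfsg.Agent.S3557
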