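import Cfsg.Statements.S3571
import Cfsg.Agent.H98.AltDer
import Cfsg.Agent.H95.AutAlt

set_option autoImplicit false
open Cfsg

namespace Cfsg.Agent.S3571

open Subgroup MulAction Equiv

/-- Let G be an almost simple group whose socle is an alternating group of degree m ≥ 5 (G has a normal subgroup T isomorphic to that alternating group with trivial centralizer), acting faithfully and primitively on a finite set Ω with at least two points, and let r be the largest prime divisor of the number of points. Then G contains an element of order r fixing no point. -/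
theorem result {G Ω : Type*} [Group G] [Finite G] [MulAction G Ω] [FaithfulSMul G Ω] [Finite Ω]
    (T : Subgroup G) (hT : T.Normal) (hTc : Subgroup.centralizer (T : Set G) = ⊥) (m : ℕ) (hm : 5 ≤ m)
    (eT : ↥T ≃* ↥(alternatingGroup (Fin m))) (hprim : MulAction.IsPreprimitive G Ω) (hΩ : 2 ≤ Nat.card Ω)
    (r : ℕ) (hr : r.Prime) (hrd : r ∣ Nat.card Ω) (hmax : ∀ s : ℕ, s.Prime → s ∣ Nat.card Ω → s ≤ r) :
    ∃ g : G, orderOf g = r ∧ ∀ ω : Ω, g • ω ≠ ω := by
  have hc : Fintype.card (Fin m) = m := Fintype.card_fin m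
  haveI : Nontrivial Ω := Finite.one_lt_card_iff_nontrivial.1 hΩ
  obtain ⟨ω0⟩ : Nonempty Ω := inferInstance
  set ι : T →* Perm (Fin m) := (alternatingGroup (Fin m)).subtype.comp eT.toMonoidHom with hι
  have hιi : Function.Injective ι := (subtype_injective _).comp eT.injective
  have hιr : (⊤ : Subgroup T).map ι = alternatingGroup (Fin m) := by
    rw [hι, ← map_map, map_top_of_surjective _ eT.surjective, ← MonoidHom.range_eq_map,
      range_subtype]
  haveI := alternatingGroup.isSimpleGroup (α := Fin m) (by simpa using hm)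
  haveI : Nontrivial T := eT.symm.injective.nontrivial
  have htr : IsPretransitive T Ω := IsQuasiPreprimitive.isPretransitive_of_normal (by
    intro h
    obtain ⟨t, ht⟩ := exists_ne (1 : T)
    refine ht (Subtype.ext (eq_of_smul_eq_smul (α := Ω) fun ω => ?_))
    have : ω ∈ fixedPoints T Ω := h ▸ Set.mem_univ ω
    rw [OneMemClass.coe_one, one_smul]
    exact this t)
  have hN : ((stabilizer T ω0).map ι).relIndex (alternatingGroup (Fin m)) = Nat.card Ω := by
    rw [← hιr, relIndex_map_map_of_injective _ _ hιi, relIndex_top_right,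
      index_stabilizer_of_transitive]
  suffices h : ∃ g ∈ alternatingGroup (Fin m), orderOf g = r ∧
      ∀ x : Perm (Fin m), x * g * x⁻¹ ∉ (stabilizer T ω0).map ι by
    obtain ⟨g, hg, h1, h2⟩ := h
    rw [← hιr] at hg
    obtain ⟨t, -, rfl⟩ := hg
    refine ⟨t, by rw [orderOf_coe, ← orderOf_injective ι hιi, h1], fun ω hω => ?_⟩
    obtain ⟨y, rfl⟩ := htr.exists_smul_eq ω0 ω
    refine h2 (ι y⁻¹) ⟨y⁻¹ * t * y⁻¹⁻¹, ?_, by simp⟩
    have : t • y • ω0 = y • ω0 := hω
    rw [SetLike.mem_coe, mem_stabilizer_iff, inv_inv, mul_smul, mul_smul, this, inv_smul_smul]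
  by_cases h6 : m = 6
  · refine H98.AltDer.core_six (by omega) (fun h => ?_) hr (hN ▸ hrd) (hN ▸ hmax)
    rw [relIndex_eq_one.2 h] at hN
    omega
  let e : Perm (Fin m) ≃* MulAut (alternatingGroup (Fin m)) :=
    MulEquiv.ofBijective _ (H95.AutAlt.bijective_conjNormal (α := Fin m) (by omega) (by omega))
  set ψ : G →* Perm (Fin m) := e.symm.toMonoidHom.comp
    ((MulAut.congr eT).toMonoidHom.comp MulAut.conjNormal) with hψ
  have hψi : Function.Injective ψ := by
    refine e.symm.injective.comp ((MulAut.congr eT).injective.comp ?_)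
    rw [injective_iff_map_eq_one]
    intro g hg
    rw [← mem_bot, ← hTc, mem_centralizer_iff]
    intro t ht
    have := congrArg (fun f : MulAut T => (f ⟨t, ht⟩ : G)) hg
    simp only [MulAut.conjNormal_apply, MulAut.one_apply] at this
    calc t * g = g * t * g⁻¹ * g := by rw [this]
      _ = g * t := by group
  have hψT : ∀ t : T, ψ t = ι t := by
    intro t
    change e.symm _ = _
    rw [MulEquiv.symm_apply_eq]
    ext a : 1
    obtain ⟨s, rfl⟩ := eT.surjective a
    refine Subtype.ext ?_
    change ((eT (MulAut.conjNormal (t : G) (eT.symm (eT s))) : alternatingGroup (Fin m)) :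
      Perm (Fin m)) = ι t * ι s * (ι t)⁻¹
    rw [MulEquiv.symm_apply_apply, ← map_mul, ← map_inv, ← map_mul]
    rfl
  have hTA : T.map ψ = alternatingGroup (Fin m) := by
    rw [← hιr]
    ext x
    constructor
    · rintro ⟨t, ht, rfl⟩
      exact ⟨⟨t, ht⟩, trivial, (hψT ⟨t, ht⟩).symm⟩
    · rintro ⟨t, -, rfl⟩
      exact ⟨t, t.2, hψT t⟩
  have hN' : ((stabilizer G ω0).map ψ).relIndex (alternatingGroup (Fin m)) = Nat.card Ω := by
    rw [← hTA, relIndex_map_map_of_injective _ _ hψi, ← index_stabilizer_of_transitive T ω0]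
    rfl
  have hco := IsPreprimitive.isCoatom_stabilizer_of_isPreprimitive G ω0
  obtain ⟨g, hg, h1, h2⟩ := H98.AltDer.core (Ω := Fin m) (by omega) (H := (stabilizer G ω0).map ψ)
    (L := ψ.range) (hTA ▸ map_le_range ψ T) (map_le_range ψ _) (fun K k1 k2 => by
      rw [← map_comap_eq_self k2]
      rcases (map_le_iff_le_comap.1 k1).eq_or_lt with h | h
      · exact Or.inl (by rw [← h])
      · exact Or.inr (by rw [hco.2 _ h, MonoidHom.range_eq_map]))
    (fun h => by rw [relIndex_eq_one.2 h] at hN'; omega) hr (hN' ▸ hrd) (hN' ▸ hmax)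
  refine ⟨g, hg, h1, fun x hx => h2 x ?_⟩
  obtain ⟨t, ht, h3⟩ := hx
  exact ⟨t, ht, (hψT t).trans h3⟩

end Cfsg.Agent.S3571
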