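import Cfsg.Statements.S3575
import Cfsg.Agent.H98.AltDer

set_option autoImplicit false
open Cfsg

namespace Cfsg.Agent.S3575

open Equiv Equiv.Perm Finset

section
variable {Ω : Type*} [Fintype Ω] [DecidableEq Ω]

theorem dvd_card_support {r : ℕ} (hr : r.Prime) {g : Perm Ω} (hg : g ^ r = 1) :
    r ∣ g.support.card := by
  haveI : Fact r.Prime := ⟨hr⟩
  rw [← sum_cycleType]
  exact Multiset.dvd_sum fun k hk => by rw [pow_prime_eq_one_iff.1 hg k hk]

theorem dvd_card_inter {r : ℕ} (hr : r.Prime) {g : Perm Ω} (hg : g ^ r = 1) {B : Finset Ω}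
    (hB : ∀ x, g x ∈ B ↔ x ∈ B) : r ∣ (g.support.filter (· ∈ B)).card := by
  have h1 := dvd_card_support hr (g := g.subtypePerm hB)
    (by rw [subtypePerm_pow]; ext x; simp [hg])
  convert h1 using 1
  refine (card_bij (fun x _ => x.1) (fun x hx => ?_) (fun _ _ _ _ h => Subtype.ext h)
    fun y hy => ?_).symm
  · rw [mem_filter, mem_support]
    exact ⟨fun h => mem_support.1 hx (Subtype.ext h), x.2⟩
  · rw [mem_filter, mem_support] at hy
    exact ⟨⟨y, hy.2⟩, mem_support.2 fun h => hy.1 (congrArg Subtype.val h), rfl⟩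

theorem exists_pow_supp {r c : ℕ} (hr : r.Prime) (hle : r * c ≤ Fintype.card Ω) :
    ∃ g : Perm Ω, g ^ r = 1 ∧ g.support.card = r * c := by
  rcases Nat.eq_zero_or_pos c with rfl | hc
  · exact ⟨1, one_pow _, by simp⟩
  · obtain ⟨g, h1, h2, -⟩ := H98.AltDer.exists_replicate hr hc hle
    exact ⟨g, by rw [← h1, pow_orderOf_eq_one], h2⟩

theorem isConj_of_card {r : ℕ} (hr : r.Prime) {g h : Perm Ω} (hg : g ^ r = 1) (hh : h ^ r = 1)
    (hc : g.support.card = h.support.card) : IsConj g h := by
  haveI : Fact r.Prime := ⟨hr⟩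
  have h1 := Multiset.eq_replicate_card.2 (pow_prime_eq_one_iff.1 hg)
  have h2 := Multiset.eq_replicate_card.2 (pow_prime_eq_one_iff.1 hh)
  rw [← sum_cycleType, ← sum_cycleType, h1, h2, Multiset.sum_replicate, Multiset.sum_replicate,
    smul_eq_mul, smul_eq_mul] at hc
  rw [isConj_iff_cycleType_eq, h1, h2, Nat.eq_of_mul_eq_mul_right hr.pos hc]

end

theorem exists_distrib {ι : Type*} [DecidableEq ι] (q : ℕ) (S : Finset ι) :
    ∀ c, c ≤ S.card * q → ∃ g : ι → ℕ, (∀ j, g j ≤ q) ∧ ∑ j ∈ S, g j = c := by
  induction S using Finset.induction_on with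
  | empty => intro c hc; exact ⟨0, fun _ => Nat.zero_le _, by simpa [eq_comm] using hc⟩
  | insert a S ha ih =>
    intro c hc
    rw [card_insert_of_notMem ha, add_mul, one_mul] at hc
    obtain ⟨g, h1, h2⟩ := ih (c - min c q) (by omega)
    refine ⟨Function.update g a (min c q), fun j => ?_, ?_⟩
    · rcases eq_or_ne j a with rfl | h
      · simp
      · rw [Function.update_of_ne h]; exact h1 j
    · rw [sum_insert ha, Function.update_self, sum_congr rfl fun j hj =>
        Function.update_of_ne (ne_of_mem_of_not_mem hj ha) _ _, h2]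
      omega

theorem good_of_fix {Ω : Type*} [Fintype Ω] [DecidableEq Ω] {a b r c : ℕ} (ha : 1 ≤ a)
    (hr : r.Prime) {σ : Perm Ω}
    (hσ : σ ^ r = 1) (hc : σ.support.card = r * c) {f : Ω → Fin b}
    (hf : ∀ j : Fin b, Nat.card {x : Ω // f x = j} = a) {π : Perm (Fin b)}
    (h : ∀ x, f (σ x) = π (f x)) :
    ∃ u, r * u ≤ b ∧ u * a ≤ c ∧ c ≤ u * a + (b - r * u) * (a / r) := by
  have hf' : ∀ j, (univ.filter fun x => f x = j).card = a := fun j => by
    rw [← hf j, Nat.card_eq_fintype_card, Fintype.card_subtype]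
  have hπ : π ^ r = 1 := by
    have key : ∀ i x, f ((σ ^ i) x) = (π ^ i) (f x) := by
      intro i
      induction i with
      | zero => simp
      | succ i ih => intro x; rw [pow_succ', pow_succ', Perm.mul_apply, Perm.mul_apply, h, ih]
    ext j : 1
    obtain ⟨x, hx⟩ := card_pos.1 (show 0 < (univ.filter fun x => f x = j).card by rw [hf']; omega)
    rw [← (mem_filter.1 hx).2, ← key, hσ]
    rfl
  obtain ⟨u, hu⟩ := dvd_card_support hr hπ
  have h1 := card_eq_sum_card_fiberwise (f := f) (s := σ.support) (t := univ) (by simp)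
  rw [← sum_add_sum_compl π.support, hc] at h1
  have h2 : ∑ j ∈ π.support, (σ.support.filter fun x => f x = j).card = r * u * a := by
    rw [← hu, ← smul_eq_mul, ← sum_const]
    refine sum_congr rfl fun j hj => ?_
    rw [← hf' j]
    congr 1
    ext x
    simp only [mem_filter, mem_univ, true_and, and_iff_right_iff_imp, mem_support]
    rintro rfl hx
    exact mem_support.1 hj (by rw [← h, hx])
  have h3 : ∑ j ∈ π.supportᶜ, (σ.support.filter fun x => f x = j).card ≤
      (b - r * u) * (r * (a / r)) := by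
    rw [← hu, show b - π.support.card = π.supportᶜ.card by rw [card_compl, Fintype.card_fin],
      ← smul_eq_mul]
    refine sum_le_card_nsmul _ _ _ fun j hj => ?_
    rw [mem_compl, notMem_support] at hj
    obtain ⟨m, hm⟩ := dvd_card_inter hr hσ (B := univ.filter fun x => f x = j) fun x => by
      simp only [mem_filter, mem_univ, true_and, h]
      exact ⟨fun e => π.injective (e.trans hj.symm), fun e => by rw [e, hj]⟩
    simp only [mem_filter, mem_univ, true_and] at hm
    have h4 : (σ.support.filter fun x => f x = j).card ≤ a := by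
      rw [← hf' j]; exact card_le_card (filter_subset_filter _ (subset_univ _))
    rw [hm] at h4 ⊢
    exact Nat.mul_le_mul_left r ((Nat.le_div_iff_mul_le hr.pos).2 (by rwa [mul_comm]))
  refine ⟨u, ?_, ?_, ?_⟩
  · rw [← hu]; simpa using card_le_univ π.support
  · refine Nat.le_of_mul_le_mul_left ?_ hr.pos
    rw [← mul_assoc]; omega
  · refine Nat.le_of_mul_le_mul_left ?_ hr.pos
    rw [mul_add, ← mul_assoc, mul_left_comm]; omega

theorem fix_of_good {a b r c u : ℕ} (hr : r.Prime) {σ : Perm (Fin (a * b))}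
    (hσ : σ ^ r = 1) (hc : σ.support.card = r * c) (h1 : r * u ≤ b) (h2 : u * a ≤ c)
    (h3 : c ≤ u * a + (b - r * u) * (a / r)) :
    ∃ f : Fin (a * b) → Fin b, (∀ j : Fin b, Nat.card {x : Fin (a * b) // f x = j} = a) ∧
      ∃ π : Perm (Fin b), ∀ x, f (σ x) = π (f x) := by
  obtain ⟨π, hπ, hπc⟩ := exists_pow_supp (Ω := Fin b) (c := u) hr (by simpa using h1)
  obtain ⟨g, hg1, hg2⟩ := exists_distrib (a / r) π.supportᶜ (c - u * a)
    (by rw [card_compl, Fintype.card_fin, hπc]; omega)
  have h4 : ∀ j, ∃ t : Perm (Fin a), t ^ r = 1 ∧ (j ∈ π.support → t = 1) ∧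
      (j ∉ π.support → t.support.card = r * g j) := fun j => by
    by_cases hj : j ∈ π.support
    · exact ⟨1, one_pow _, fun _ => rfl, fun h => absurd hj h⟩
    · obtain ⟨t, ht1, ht2⟩ := exists_pow_supp (Ω := Fin a) (c := g j) hr (by
        rw [Fintype.card_fin]
        exact (Nat.mul_le_mul_left r (hg1 j)).trans (Nat.mul_div_le a r))
      exact ⟨t, ht1, fun h => absurd h hj, fun _ => ht2⟩
  choose τ hτ1 hτ2 hτ3 using h4
  set s : Perm (Fin b × Fin a) := Equiv.prodShear π τ with hs
  have hs1 : ∀ z : Fin b × Fin a, s z = (π z.1, τ z.1 z.2) := fun z => rfl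
  have hs2 : s ^ r = 1 := by
    have key : ∀ i (z : Fin b × Fin a), (s ^ i) z = ((π ^ i) z.1, (τ z.1 ^ i) z.2) := by
      intro i z
      induction i with
      | zero => simp
      | succ i ih =>
        rw [pow_succ', pow_succ', pow_succ', Perm.mul_apply, Perm.mul_apply, Perm.mul_apply, ih, hs1]
        by_cases hj : z.1 ∈ π.support
        · simp only [hτ2 _ hj, hτ2 _ (pow_apply_mem_support.2 hj)]
        · simp only [pow_apply_eq_self_of_apply_eq_self (notMem_support.1 hj)]
    ext z : 1
    rw [key, hπ, hτ1]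
    rfl
  have hs3 : s.support.card = r * c := by
    rw [card_eq_sum_card_fiberwise (f := Prod.fst) (s := s.support) (t := univ) (by simp),
      ← sum_add_sum_compl π.support]
    have k1 : ∀ j, (s.support.filter fun z => z.1 = j).card =
        (univ.filter fun y : Fin a => (π j, τ j y) ≠ (j, y)).card := fun j => by
      refine card_bij (fun z _ => z.2) (fun z hz => ?_) (fun z hz w hw h => ?_) fun y hy => ?_
      · obtain ⟨h5, rfl⟩ := mem_filter.1 hz
        exact mem_filter.2 ⟨mem_univ _, mem_support.1 h5⟩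
      · exact Prod.ext ((mem_filter.1 hz).2.trans (mem_filter.1 hw).2.symm) h
      · exact ⟨(j, y), mem_filter.2 ⟨mem_support.2 (mem_filter.1 hy).2, rfl⟩, rfl⟩
    have k2 : ∑ j ∈ π.support, (s.support.filter fun z => z.1 = j).card = r * u * a := by
      rw [← hπc, ← smul_eq_mul, ← sum_const]
      refine sum_congr rfl fun j hj => ?_
      rw [k1, filter_true_of_mem (p := fun y : Fin a => (π j, τ j y) ≠ (j, y))
        fun y _ h => mem_support.1 hj (congrArg Prod.fst h)]
      simp
    have k3 : ∑ j ∈ π.supportᶜ, (s.support.filter fun z => z.1 = j).card = r * (c - u * a) := by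
      rw [← hg2, mul_sum]
      refine sum_congr rfl fun j hj => ?_
      rw [mem_compl] at hj
      rw [k1, ← hτ3 j hj, notMem_support.1 hj]
      congr 1
      ext y
      simp [mem_support]
    rw [k2, k3, mul_assoc, ← mul_add]
    congr 1
    omega
  let e : Fin b × Fin a ≃ Fin (a * b) := Fintype.equivFinOfCardEq (by simp [mul_comm])
  have h5 : IsConj (e.permCongr s) σ := isConj_of_card hr
    (by rw [← permCongrHom_coe, ← map_pow, hs2, map_one]) hσ (by
      rw [hc, ← hs3]
      refine (card_bij (fun z _ => e z) (fun z hz => ?_) (fun _ _ _ _ h => e.injective h)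
        fun y hy => ⟨e.symm y, ?_, by simp⟩).symm
      · simpa [mem_support] using hz
      · rw [mem_support] at hy ⊢
        exact fun h => hy (by simp [h]))
  obtain ⟨k, hk⟩ := isConj_iff.1 h5
  refine ⟨fun x => (e.symm (k⁻¹ x)).1, fun j => ?_, π, fun x => ?_⟩
  · refine (Nat.card_congr (β := Fin a) ⟨fun x => (e.symm (k⁻¹ x.1)).2,
      fun y => ⟨k (e (j, y)), by simp⟩, fun x => Subtype.ext ?_, fun y => ?_⟩).trans (by simp)
    · obtain ⟨x, rfl⟩ := x
      simp
    · simp
  · rw [← hk]
    simp [hs1]

/-- Let a, b ≥ 2 and consider the symmetric group of degree a·b acting on the partitions of an (a·b)-set into b parts of size a (encoded as maps onto a b-element set all of whose fibres have a elements; a permutation fixes such a partition when it permutes the fibres). Let r be a prime dividing the number (ab)!/((a!)^b·b!) of such partitions, and let ℓ and k be the remainders of a and b modulo r. Then every permutation of order r fixes some such partition if and only if r ≤ a and one of the following holds: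 ℓ = 0; or k = 0 and ℓ = 1; or ℓ and k are non-zero, k·ℓ < r, and either b < r or (k + r)·ℓ ≤ k·a + r. -/
theorem result (a b : ℕ) (ha : 2 ≤ a) (hb : 2 ≤ b) (r : ℕ) (hr : r.Prime)
    (hrd : r ∣ (a * b).factorial / (a.factorial ^ b * b.factorial)) :
    (∀ σ : Equiv.Perm (Fin (a * b)), orderOf σ = r →
        ∃ f : Fin (a * b) → Fin b, (∀ j : Fin b, Nat.card {x : Fin (a * b) // f x = j} = a) ∧
          ∃ π : Equiv.Perm (Fin b), ∀ x : Fin (a * b), f (σ x) = π (f x)) ↔
      (r ≤ a ∧ (a % r = 0 ∨ (b % r = 0 ∧ a % r = 1) ∨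
        (a % r ≠ 0 ∧ b % r ≠ 0 ∧ (b % r) * (a % r) < r ∧ (b < r ∨ (b % r + r) * (a % r) ≤ (b % r) * a + r)))) := by
  have hrn : r ≤ a * b := by
    have h1 := Nat.uniformBell_mul_eq b (n := a) (by omega)
    rw [mul_comm b a, mul_assoc] at h1
    exact hr.dvd_factorial.1 (hrd.trans (Nat.div_dvd_of_dvd (Dvd.intro_left _ h1)))
  have hr0 := hr.pos
  have e1 := Nat.div_add_mod a r
  have e2 := Nat.div_add_mod b r
  have l1 := Nat.mod_lt a hr0
  have l2 := Nat.mod_lt b hr0
  have step : (∀ σ : Equiv.Perm (Fin (a * b)), orderOf σ = r →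
        ∃ f : Fin (a * b) → Fin b, (∀ j : Fin b, Nat.card {x : Fin (a * b) // f x = j} = a) ∧
          ∃ π : Equiv.Perm (Fin b), ∀ x : Fin (a * b), f (σ x) = π (f x)) ↔
      ∀ c, 1 ≤ c → r * c ≤ a * b → ∃ u, r * u ≤ b ∧ u * a ≤ c ∧ c ≤ u * a + (b - r * u) * (a / r) := by
    constructor
    · intro h c h1 h2
      obtain ⟨σ, k1, k2, -⟩ := H98.AltDer.exists_replicate (Ω := Fin (a * b)) hr h1 (by simpa using h2)
      obtain ⟨f, hf, π, hπ⟩ := h σ k1
      exact good_of_fix (by omega) hr (by rw [← k1, pow_orderOf_eq_one]) k2 hf hπ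
    · intro h σ hσ
      have h1 : σ ^ r = 1 := by rw [← hσ, pow_orderOf_eq_one]
      obtain ⟨c, hc⟩ := dvd_card_support hr h1
      have h2 : 1 ≤ c := by
        rcases Nat.eq_zero_or_pos c with rfl | h0
        · rw [mul_zero, card_support_eq_zero] at hc
          rw [hc, orderOf_one] at hσ
          exact absurd hσ hr.one_lt.ne
        · exact h0
      obtain ⟨u, k1, k2, k3⟩ := h c h2 (by rw [← hc]; simpa using card_le_univ σ.support)
      exact fix_of_good hr h1 hc k1 k2 k3
  rw [step]
  generalize a / r = q at *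
  generalize a % r = l at *
  generalize b / r = p at *
  generalize b % r = k at *
  subst e1 e2
  have up : ∀ u, r * u ≤ r * p + k → u ≤ p ∧
      u * (r * q + l) + (r * p + k - r * u) * q = (r * p + k) * q + u * l := fun u hu => by
    refine ⟨?_, ?_⟩
    · by_contra h
      have : r * (p + 1) ≤ r * u := Nat.mul_le_mul_left r (by omega)
      rw [mul_add] at this
      omega
    · obtain ⟨d, hd⟩ := Nat.exists_eq_add_of_le hu
      rw [hd, Nat.add_sub_cancel_left]
      ring
  have cond : (k + r) * l ≤ k * (r * q + l) + r ↔ l ≤ k * q + 1 := by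
    rw [show (k + r) * l = k * l + r * l by ring,
      show k * (r * q + l) + r = k * l + r * (k * q + 1) by ring, Nat.add_le_add_iff_left,
      Nat.mul_le_mul_left_iff hr0]
  rw [cond]
  constructor
  · intro h
    have hq : 1 ≤ q := by
      obtain ⟨u, k1, k2, k3⟩ := h 1 le_rfl (by omega)
      obtain rfl : u = 0 := by
        rcases Nat.eq_zero_or_pos u with h0 | h0
        · exact h0
        · have := Nat.mul_le_mul h0 ha
          omega
      rcases Nat.eq_zero_or_pos q with rfl | h0
      · simp at k3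
      · exact h0
    have hA : k * l < r := by
      by_contra hA
      obtain ⟨u, k1, k2, k3⟩ := h ((r * p + k) * q + p * l + 1) (by omega) (by nlinarith)
      obtain ⟨k4, k5⟩ := up u k1
      have := Nat.mul_le_mul_right l k4
      omega
    have hB : r * p + k < r ∨ l ≤ k * q + 1 := by
      by_contra hB
      push Not at hB
      obtain ⟨p, rfl⟩ : ∃ p', p = p' + 1 := ⟨p - 1, by
        rcases Nat.eq_zero_or_pos p with rfl | h0 <;> omega⟩
      obtain ⟨u, k1, k2, k3⟩ := h ((r * (p + 1) + k) * q + p * l + 1) (by omega) (by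
        have := Nat.mul_le_mul_left r (show k * q + 1 ≤ l by omega)
        nlinarith [Nat.zero_le (k * l), Nat.zero_le (r * q * k)])
      obtain ⟨k4, k5⟩ := up u k1
      rcases eq_or_lt_of_le k4 with rfl | h0
      · nlinarith
      · have := Nat.mul_le_mul_right l (show u ≤ p by omega)
        omega
    refine ⟨by nlinarith, ?_⟩
    by_cases hl : l = 0
    · exact Or.inl hl
    by_cases hk : k = 0
    · subst hk
      refine Or.inr (Or.inl ⟨rfl, ?_⟩)
      rcases Nat.eq_zero_or_pos p with rfl | h0
      · omega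
      · have := Nat.mul_le_mul_left r h0
        omega
    · exact Or.inr (Or.inr ⟨hl, hk, hA, hB⟩)
  · rintro ⟨-, h⟩ c h1 h2
    have hA : k * l < r := by
      rcases h with rfl | ⟨rfl, -⟩ | h
      · simpa using hr0
      · simpa using hr0
      · exact h.2.2.1
    have hB : p = 0 ∨ l ≤ k * q + 1 := by
      rcases h with rfl | ⟨rfl, rfl⟩ | ⟨-, -, -, h | h⟩
      · exact Or.inr (by omega)
      · exact Or.inr (by omega)
      · left
        rcases Nat.eq_zero_or_pos p with h0 | h0
        · exact h0
        · have := Nat.mul_le_mul_left r h0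
          omega
      · exact Or.inr h
    have hmax : c ≤ (r * p + k) * q + p * l := by
      by_contra hc
      have := Nat.mul_le_mul_left r (show (r * p + k) * q + p * l + 1 ≤ c by omega)
      nlinarith
    by_cases h3 : p * (r * q + l) ≤ c
    · exact ⟨p, by omega, h3, by rw [(up p (by omega)).2]; exact hmax⟩
    · have ha0 : 0 < r * q + l := by omega
      have h4 := Nat.div_add_mod c (r * q + l)
      have h5 := Nat.mod_lt c ha0
      have h6 : c / (r * q + l) < p := (Nat.div_lt_iff_lt_mul ha0).2 (by omega)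
      have h7 : r * (c / (r * q + l)) ≤ r * p + k := by
        have := Nat.mul_le_mul_left r h6.le
        omega
      refine ⟨c / (r * q + l), h7, by rw [mul_comm]; omega, ?_⟩
      rw [(up _ h7).2]
      generalize c / (r * q + l) = u at *
      have h8 := Nat.mul_le_mul_left (r * q) (show u + 1 ≤ p by omega)
      have h9 : l ≤ k * q + 1 := by omega
      nlinarith

end Cfsg.Agent.S3575
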