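import Cfsg.Statements.S3589
import Cfsg.Agent.H30.Spec8C

set_option autoImplicit false
open Cfsg

namespace Cfsg.Agent.S3589

/-- Let F be a finite field of characteristic 2 and let a, b ∈ F make the binary form z₁² + a z₁z₂ + b z₂² anisotropic. Then the symplectic group PSp(8,F) (= Sp(8,F)) and the full isometry group of the non-singular quadratic form x₁y₁ + x₂y₂ + x₃y₃ + (z₁² + a z₁z₂ + b z₂²) of minus type in dimension 8 have the same set of element orders. -/
theorem result {F : Type*} [Field F] [Fintype F]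
    [CharP F 2] (a b : F) (han : ∀ z₁ z₂ : F, z₁ ^ 2 + a * z₁ * z₂ + b * z₂ ^ 2 = 0 → z₁ = 0 ∧ z₂ = 0) :
    Set.range (orderOf : Cfsg.PSp 4 F → ℕ) = Set.range (orderOf : ↥(Cfsg.isometryGroup F (Cfsg.quadFormMinus 3 F a b)) → ℕ) := by
  let L := AlgebraicClosure F
  have : CharP L 2 := charP_of_injective_algebraMap (algebraMap F _).injective 2
  have hQ := H30.qMinus_nondegenerate 3 han
  rw [← H30.coe_qMinus]
  ext m
  constructor
  · rintro ⟨g, rfl⟩
    obtain ⟨s, h1, h2⟩ := (H76.models_psp F L 2 4).out_ok g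
    obtain ⟨N, h3, ⟨A, x, h4⟩, -⟩ := H30.Spec8.upper h1
    obtain ⟨e⟩ := A.exists_equiv (m := 3) han
    refine H76.exists_orderOf_eq_of_dvd ((H30.isoEquiv _).symm (H30.OCongr e x)) ?_
    rw [MulEquiv.orderOf_eq, MulEquiv.orderOf_eq]
    exact (h2 N h3).trans h4
  · rintro ⟨g, rfl⟩
    obtain ⟨x, hx⟩ := H30.Spec8.exists_psp (m := 4)
      ((H30.Spec8.fadm_isometry (L := L) hQ g).cast (by decide))
    refine H76.exists_orderOf_eq_of_dvd x (orderOf_dvd_of_pow_eq_one (Subtype.ext ?_))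
    exact (H76.pow_eq_one_iff_ok L 2 _ _).2 hx

end Cfsg.Agent.S3589
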