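import Cfsg.Statements.S3590
import Cfsg.Agent.H30.Spec8C
import Cfsg.Agent.H57.Spec

set_option autoImplicit false
open Cfsg

namespace Cfsg.Agent.S3590

open H76 H30 H30.Spec8 Polynomial QuadraticMap

section Aux

variable {F : Type*} [Field F] [Fintype F] [CharP F 2] {L : Type*} [Field L] [CharP L 2]

theorem merge [DecidableEq L] {n : ℕ} {s : Multiset (Lˣ × ℕ)}
    (hs : FAdm Even (Fintype.card F : ℤ) n s) (hw : 0 < wt (s.filter fun x => x.1 = 1)) :
    FAdm Even (Fintype.card F : ℤ) n
      ((s.filter fun x => ¬ x.1 = 1) + {(1, wt (s.filter fun x => x.1 = 1))}) := by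
  have h1 : ∀ Q : ℤ, (s.filter fun x => x.1 = 1).map (frob Q) = s.filter fun x => x.1 = 1 :=
    fun Q => (Multiset.map_congr rfl fun x hx => by
      rw [frob, (Multiset.mem_filter.1 hx).2, one_zpow, ← (Multiset.mem_filter.1 hx).2]
      rfl).trans (Multiset.map_id _)
  have h3 : FAdm Even (Fintype.card F : ℤ) (wt (s.filter fun x => x.1 = 1))
      (s.filter fun x => x.1 = 1) :=
    ⟨⟨fun x hx => hs.adm.pos x (Multiset.mem_filter.1 hx).1, h1 _, rfl⟩, h1 _,
      fun α hα e he => by
        have : Even ((s.filter fun x => x.1 = 1).count (α, e)) := by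
          rw [Multiset.count_filter]
          split_ifs
          · convert hs.par α hα e he
          · exact Even.zero
        convert this⟩
  have h4 := Multiset.filter_add_not (fun x : Lˣ × ℕ => x.1 = 1) s
  obtain ⟨h5, h6⟩ := FAdm.of_add (h4.symm ▸ hs) h3
  obtain ⟨m, j, -, -, h7, -⟩ := split h3
  exact (h5.add (fadm_single (one_zpow _) (one_pow 2) hw ⟨m + j, by omega⟩)).cast (by omega)

theorem succ_le_wt {T : Type*} {u : Multiset (T × ℕ)} (hpos : ∀ x ∈ u, 0 < x.2)
    (he : Even (Multiset.card u)) {x : T × ℕ} (hx : x ∈ u) : x.2 + 1 ≤ wt u := by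
  obtain ⟨t, rfl⟩ := Multiset.exists_cons_of_mem hx
  have ht : t ≠ 0 := by
    rintro rfl
    simp at he
  obtain ⟨y, hy⟩ := Multiset.exists_mem_of_ne_zero ht
  have h1 := le_wt_of_mem hy
  have h2 := hpos y (Multiset.mem_cons_of_mem hy)
  have h3 : wt (x ::ₘ t) = x.2 + wt t := by simp [wt]
  omega

theorem card_filter_eq {T : Type*} (P : T → Prop) [DecidablePred P] (u : Multiset T) :
    Multiset.card (u.filter P) = (u.map fun x => if P x then 1 else 0).sum := by
  induction u using Multiset.induction_on with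
  | empty => simp
  | cons a u ih =>
    rw [Multiset.filter_cons, Multiset.map_cons, Multiset.sum_cons, Multiset.card_add, ih]
    split_ifs <;> simp

variable [Algebra F L] [IsAlgClosed L] {ι : Type} [Fintype ι] [DecidableEq ι] {Q : QuadraticForm F (ι → F)}

omit [CharP F 2] [CharP L 2] in
theorem even_card [DecidableEq L] (hQ : (polarBilin Q).Nondegenerate) (hι : Even (Fintype.card ι))
    (g : isometryGroup F ⇑Q) (hg : dickson hQ (isoEquiv Q g) = 1) :
    Even (Multiset.card ((ujord L (g : GL ι F)).filter fun x => x.1 = 1)) := by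
  have h1 := sum_jord_add_rank (L := L) ((g : GL ι F) : Matrix ι ι F) 1 1
  have h2 : (((g : GL ι F) : Matrix ι ι F).map (algebraMap F L) - (1 : L) • (1 : Matrix ι ι L)) ^ 1
      = (((g : GL ι F) : Matrix ι ι F) - 1).map (algebraMap F L) := by
    rw [pow_one, one_smul, Matrix.map_sub _ (map_sub _), Matrix.map_one _ (map_zero _) (map_one _)]
  have h3 : (((g : GL ι F) : Matrix ι ι F) - 1).rank = Module.finrank F (movSp (isoEquiv Q g)) := by
    rw [Matrix.rank, ← Matrix.toLin'_apply', map_sub, Matrix.toLin'_one]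
    rfl
  rw [dickson_apply, neg_one_pow_eq_one_iff_even (by decide)] at hg
  rw [h2, rank_map, h3, ← dval_ujord, dval, Multiset.map_map, Multiset.map_congr rfl
    (g := fun x : Lˣ × ℕ => if x.1 = 1 then 1 else 0), ← card_filter_eq] at h1
  · rw [Nat.even_iff] at hg hι ⊢
    omega
  · intro x hx
    have := pos_of_mem_ujord hx
    simp only [Function.comp_apply, Units.val_eq_one]
    split_ifs
    · omega
    · rfl

end Aux

/-- Let F be a finite field of characteristic 2. Then PSp(8,F) is not determined by its set of element orders, not even up to finitely many groups: for every bound there is a finite group of larger order with exactly the same set of element orders as PSp(8,F). -/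
theorem result {F : Type*} [Field F] [Fintype F]
    [CharP F 2] (M : ℕ) :
    ∃ (H : Type) (_ : Group H) (_ : Fintype H), M < Fintype.card H ∧ Set.range (orderOf : H → ℕ) = Set.range (orderOf : Cfsg.PSp 4 F → ℕ) := by
  obtain ⟨ζ, han⟩ := H79.exists_aniso F
  let L := AlgebraicClosure F
  have : CharP L 2 := charP_of_injective_algebraMap (algebraMap F _).injective 2
  have hQ := qMinus_nondegenerate 3 han
  let G₀ : Subgroup (isometryGroup F ⇑(qMinus F 3 1 ζ)) :=
    ((dickson hQ).comp (isoEquiv (qMinus F 3 1 ζ)).toMonoidHom).ker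
  let ρ := (isometryGroup F ⇑(qMinus F 3 1 ζ)).subtype.comp G₀.subtype
  let φ := (MulAutMultiplicative (((Fin 3 ⊕ Fin 3) ⊕ Fin 2) → F)).symm.toMonoidHom.comp
    ((DistribMulAction.toAddAut (LinearMap.GeneralLinearGroup F (((Fin 3 ⊕ Fin 3) ⊕ Fin 2) → F))
      (((Fin 3 ⊕ Fin 3) ⊕ Fin 2) → F)).comp (Matrix.GeneralLinearGroup.toLin.toMonoidHom.comp ρ))
  have hpow := S2517.semidirect_pow ρ φ fun _ _ => rfl
  have : Finite (Multiplicative (((Fin 3 ⊕ Fin 3) ⊕ Fin 2) → F) ⋊[φ] G₀) :=
    Finite.of_equiv _ SemidirectProduct.equivProd.symm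
  have key : Set.range (orderOf : Multiplicative (((Fin 3 ⊕ Fin 3) ⊕ Fin 2) → F) ⋊[φ] G₀ → ℕ) =
      Set.range (orderOf : PSp 4 F → ℕ) := by
    ext m
    constructor
    · rintro ⟨x, rfl⟩
      classical
      have hs := (fadm_isometry (L := L) hQ x.right.1).cast (by decide : _ = 2 * 4)
      have hpos := hs.adm.pos
      have hK : ∃ g : PSp 4 F, OK 2 (ujord L (ρ x.right)) (orderOf g) ∧
          ∀ y ∈ ujord L (ρ x.right), y.1 = 1 → 2 ^ Nat.clog 2 (y.2 + 1) ∣ orderOf g := by
        rcases Nat.eq_zero_or_pos (wt ((ujord L (ρ x.right)).filter fun x => x.1 = 1)) with h | h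
        · obtain ⟨g, hg⟩ := exists_psp hs
          refine ⟨g, hg, fun y hy hy1 => ?_⟩
          have h1 := le_wt_of_mem (Multiset.mem_filter.2 ⟨hy, hy1⟩ :
            y ∈ (ujord L (ρ x.right)).filter fun x => x.1 = 1)
          have h2 := hpos y hy
          omega
        · obtain ⟨g, hg⟩ := exists_psp (merge hs h)
          have h3 : ∀ y ∈ ujord L (ρ x.right), y.1 = 1 →
              2 ^ Nat.clog 2 (y.2 + 1) ∣ orderOf g := fun y hy hy1 =>
            (pow_dvd_pow 2 (Nat.clog_mono_right 2 (succ_le_wt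
              (fun z hz => hpos z (Multiset.mem_filter.1 hz).1)
              (even_card hQ (by decide) x.right.1 x.right.2)
              (Multiset.mem_filter.2 ⟨hy, hy1⟩)))).trans
              (hg _ (Multiset.mem_add.2 (Or.inr (Multiset.mem_singleton_self _)))).2
          refine ⟨g, fun y hy => ?_, h3⟩
          by_cases hy1 : y.1 = 1
          · exact ⟨by rw [hy1, one_pow],
              (pow_dvd_pow 2 (Nat.clog_mono_right 2 (Nat.le_succ _))).trans (h3 y hy hy1)⟩
          · exact hg y (Multiset.mem_add.2 (Or.inl (Multiset.mem_filter.2 ⟨hy, hy1⟩)))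
      obtain ⟨g, h4, h3⟩ := hK
      refine H76.exists_orderOf_eq_of_dvd g (orderOf_dvd_of_pow_eq_one ?_)
      generalize orderOf g = K at h3 h4
      refine (hpow x K).2 ⟨Subtype.ext (Subtype.ext ((pow_eq_one_iff_ok L 2 _ _).2 h4)), ?_⟩
      rw [(aeval_eq_zero_iff_jord (L := L) _ _).2, Matrix.zero_mulVec]
      rw [← dval_ujord, forall_mem_dval]
      intro y hy
      have hy0 := pos_of_mem_ujord hy
      simp only [Polynomial.map_sum, Polynomial.map_pow, map_X]
      by_cases hy1 : y.1 = 1
      · rw [hy1, Units.val_one, ← mul_dvd_mul_iff_right (X_sub_C_ne_zero 1), S2517.hgeom,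
          ← pow_succ, X_sub_C_pow_dvd_X_pow_sub_C 2 one_ne_zero (Nat.add_one_pos _)]
        exact ⟨one_pow _, h3 y hy hy1⟩
      · refine (IsCoprime.pow_left (isCoprime_X_sub_C_of_isUnit_sub (b := 1)
          (sub_ne_zero.2 fun h => hy1 (Units.ext h)).isUnit)).dvd_of_dvd_mul_right ?_
        rw [S2517.hgeom, X_sub_C_pow_dvd_X_pow_sub_C 2 y.1.ne_zero hy0]
        exact ⟨by rw [← Units.val_pow_eq_pow_val, (h4 y hy).1, Units.val_one], (h4 y hy).2⟩
    · rintro ⟨g, rfl⟩
      obtain ⟨s, h1, h2⟩ := (models_psp F L 2 4).out_ok g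
      obtain ⟨N, h3, -, A, x, v, h4, h5⟩ := upper h1
      obtain ⟨e⟩ := A.exists_equiv (m := 3) han
      let y : G₀ := ⟨(isoEquiv _).symm (OCongr e x), by
        change dickson hQ (isoEquiv _ ((isoEquiv _).symm _)) = 1
        rw [MulEquiv.apply_symm_apply, dickson_OCongr e A.nd hQ, h4]⟩
      refine H76.exists_orderOf_eq_of_dvd
        (⟨Multiplicative.ofAdd (e v), y⟩ :
          Multiplicative (((Fin 3 ⊕ Fin 3) ⊕ Fin 2) → F) ⋊[φ] G₀) ((h2 N h3).trans ?_)
      obtain ⟨h6, h7⟩ := (hpow ⟨Multiplicative.ofAdd (e v), y⟩ _).1 (pow_orderOf_eq_one _)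
      generalize orderOf (⟨Multiplicative.ofAdd (e v), y⟩ :
          Multiplicative (((Fin 3 ⊕ Fin 3) ⊕ Fin 2) → F) ⋊[φ] G₀) = K at h6 h7
      refine h5 K ?_ ?_
      · apply (OCongr e).injective
        apply (isoEquiv _).symm.injective
        rw [map_pow, map_pow, map_one, map_one]
        exact congrArg Subtype.val h6
      · apply e.injective
        rw [map_zero, ← h7, map_sum, map_sum, Matrix.sum_mulVec]
        refine Finset.sum_congr rfl fun i _ => ?_
        change e _ = _
        rw [← OCongr_apply', ← isoEquiv_symm_mulVec, map_pow, map_pow, map_pow, aeval_X]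
        rfl
  rw [← key]
  refine H57.exists_large_isospectral_of_solvable
    (SemidirectProduct.rightHom (φ := φ)).ker (fun h => ?_) ?_ M
  · have h1 : (SemidirectProduct.inl (Multiplicative.ofAdd fun _ => 1) :
        Multiplicative (((Fin 3 ⊕ Fin 3) ⊕ Fin 2) → F) ⋊[φ] G₀) ∈
        (SemidirectProduct.rightHom (φ := φ)).ker := by simp
    rw [h, Subgroup.mem_bot, ← map_one SemidirectProduct.inl] at h1
    exact one_ne_zero (congrFun (congrArg Multiplicative.toAdd
      (SemidirectProduct.inl_injective h1)) (.inr 0))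
  · rw [← SemidirectProduct.range_inl_eq_ker_rightHom]
    exact Group.isSolvable_of_surjective (MonoidHom.rangeRestrict_surjective _)

end Cfsg.Agent.S3590
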