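import Cfsg.Statements.S3641
import Cfsg.Agent.H29.Tori
import Cfsg.Agent.H29.Subfield
import Cfsg.Agent.H61.Sharp3Even
import Cfsg.Agent.H61.PrimeKer
import Cfsg.Agent.H3.Primitive
import Cfsg.Agent.H62.ExtPrim
import Cfsg.Agent.S0989

set_option autoImplicit false
open Cfsg

namespace Cfsg.Agent.S3641

open MulAction
open scoped MatrixGroups Pointwise

theorem ker_le_normalizer {G H : Type*} [Group G] [Finite G] [Group H] (f : G →* H)
    (hf : Function.Surjective f) (p : ℕ) [Fact p.Prime]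
    (h : Nat.card (Sylow p G) ≤ Nat.card (Sylow p H)) (P : Sylow p G) :
    f.ker ≤ Subgroup.normalizer ((P : Subgroup G) : Set G) := by
  have hb : Function.Bijective (Sylow.mapSurjective hf : Sylow p G → Sylow p H) :=
    (Sylow.mapSurjective_surjective hf p).bijective_of_nat_card_le h
  intro k hk
  apply Sylow.smul_eq_iff_mem_normalizer.1
  apply hb.1
  apply Sylow.ext
  rw [Sylow.coe_mapSurjective, Sylow.coe_mapSurjective, Sylow.coe_subgroup_smul]
  ext y
  constructor
  · rintro ⟨_, ⟨x, hx, rfl⟩, rfl⟩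
    exact ⟨x, hx, by simp [MonoidHom.mem_ker.1 hk]⟩
  · rintro ⟨x, hx, rfl⟩
    exact ⟨_, ⟨x, hx, rfl⟩, by simp [MonoidHom.mem_ker.1 hk]⟩

theorem le_card_sylow {X : Type*} [Group X] [Finite X] (H L D S : Subgroup X) [L.Normal]
    (hL : L ≤ H) (hLi : L.index = 2) (hD : ¬ D ≤ L) (p : ℕ) [Fact p.Prime] (hS : IsPGroup p S)
    (hi : ¬ p ∣ S.relIndex H) (hSH : S ≤ H)
    (hn : ∀ y ∈ H, (∀ s ∈ S, y * s * y⁻¹ ∈ S) → y ∈ D) : D.index ≤ Nat.card (Sylow p H) := by
  let P : Sylow p H := (hS.comap_subtype (K := H)).toSylow hi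
  rw [P.card_eq_index_normalizer]
  have h1 : Subgroup.normalizer ((P : Subgroup H) : Set H) ≤ D.subgroupOf H := by
    intro y hy
    exact hn y y.2 fun s hs => (Subgroup.mem_normalizer_iff.1 hy ⟨s, hSH hs⟩).1 hs
  refine le_trans ?_ (Nat.le_of_dvd (Nat.pos_of_ne_zero Subgroup.index_ne_zero_of_finite)
    (Subgroup.index_dvd_of_le h1))
  have h2 : L ⊔ D = ⊤ := by
    have h3 := Subgroup.index_dvd_of_le (le_sup_left : L ≤ L ⊔ D)
    rw [hLi] at h3
    rcases (Nat.dvd_prime Nat.prime_two).1 h3 with h | h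
    · exact Subgroup.index_eq_one.1 h
    · have h4 := Subgroup.relIndex_mul_index (le_sup_left : L ≤ L ⊔ D)
      rw [h, hLi] at h4
      have h5 : L.relIndex (L ⊔ D) = 1 := by omega
      exact absurd (le_sup_right.trans (Subgroup.relIndex_eq_one.1 h5)) hD
  have h3 : D.relIndex L = D.index := by
    have h4 := Subgroup.relIndex_mul_index (inf_le_left : D ⊓ L ≤ D)
    have h5 := Subgroup.relIndex_mul_index (inf_le_right : D ⊓ L ≤ L)
    rw [Subgroup.inf_relIndex_left, ← Subgroup.relIndex_sup_left D L, h2,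
      Subgroup.relIndex_top_right, hLi] at h4
    rw [Subgroup.inf_relIndex_right, hLi] at h5
    omega
  rw [← h3]
  exact Subgroup.relIndex_le_of_le_right hL Subgroup.index_ne_zero_of_finite

open H29 in
theorem pgl_sylow {K : Type*} [Field K] [Finite K] (hK : Nat.card K = 17) (H : Subgroup PGL(2, K))
    (hL : Lsub K ≤ H) : 153 ≤ Nat.card (Sylow 2 H) ∧ 136 ≤ Nat.card (Sylow 3 H) := by
  haveI := finite_PGL2 (F := K)
  haveI : Fact (Nat.Prime 3) := ⟨Nat.prime_three⟩
  have hodd : Odd (Nat.card K) := by rw [hK]; decide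
  have hX : Nat.card PGL(2, K) = 4896 := by rw [card_PGL2, hK]
  have hLi := index_L_of_odd hodd
  have hgen : ∀ (T : Subgroup PGL(2, K)), IsCyclic T → ∃ c ∈ T, orderOf c = Nat.card T := by
    intro T hT
    obtain ⟨c, hc⟩ := IsCyclic.exists_ofOrder_eq_natCard (α := T)
    exact ⟨c, c.2, by rw [Subgroup.orderOf_coe, hc]⟩
  constructor
  · obtain ⟨T, D, hT⟩ := exists_isSplitTorus' K
    have hT' : IsTorus T D := Or.inl hT
    have h1 : Nat.card T = 16 := by rw [hT.card, hK]
    have h2 : Nat.card D = 32 := by rw [hT'.card_D, h1]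
    have h3 : D.index = 153 := by
      have := D.index_mul_card
      rw [h2, hX] at this
      omega
    have hD : ¬ D ≤ Lsub K := fun h => hT'.not_le_L hodd (hT'.le.trans h)
    rw [← h3]
    refine le_card_sylow H (Lsub K) D (D ⊓ H) hL hLi hD 2
      ((IsPGroup.of_card (n := 5) (by rw [h2]; rfl)).to_inf_left) ?_ inf_le_right ?_
    · rw [Subgroup.inf_relIndex_right]
      have h4 := Subgroup.relIndex_mul_index (inf_le_left : D ⊓ H ≤ D)
      have h5 := Subgroup.relIndex_mul_index (inf_le_right : D ⊓ H ≤ H)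
      rw [Subgroup.inf_relIndex_right] at h5
      rw [Subgroup.inf_relIndex_left, h3] at h4
      have h6 := Subgroup.index_dvd_of_le hL
      rw [hLi] at h6
      rcases (Nat.dvd_prime Nat.prime_two).1 h6 with h | h
      · rw [Subgroup.index_eq_one] at h
        rw [h, Subgroup.relIndex_top_right, h3]
        decide
      · have h7 : H = Lsub K := by
          have h8 := Subgroup.relIndex_mul_index hL
          rw [h, hLi] at h8
          exact le_antisymm (Subgroup.relIndex_eq_one.1 (by omega)) hL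
        have h8 : H.relIndex D ∣ 2 := by
          rw [h7]
          exact (Subgroup.relIndex_dvd_index_of_normal _ _).trans (dvd_of_eq hLi)
        rcases (Nat.dvd_prime Nat.prime_two).1 h8 with h9 | h9
        · exact absurd (h7 ▸ Subgroup.relIndex_eq_one.1 h9) hD
        · rw [h9] at h4
          rw [h] at h5
          omega
    · intro y _ hy
      obtain ⟨c, hc, hco⟩ := hgen T hT'.isCyclic
      rw [h1] at hco
      have h4 : ∀ k : ℕ, 0 < k → k < 16 → c ^ k ≠ 1 := fun k h0 hk =>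
        pow_ne_one_of_lt_orderOf h0.ne' (hco ▸ hk)
      have h5 := hy (c * c) ⟨hT'.le (T.mul_mem hc hc), hL (mul_self_mem_L c)⟩
      refine hT'.ti (T.mul_mem hc hc) (by rw [← pow_two]; exact h4 2 (by omega) (by omega)) ?_
      by_contra h6
      apply h4 4 (by omega) (by omega)
      have h7 := hT'.invol h5.1 h6
      rw [← conj_eq_one_iff (a := y), ← h7, show c ^ 4 = c * c * (c * c) by
        simp only [pow_succ, pow_zero, one_mul, mul_assoc]]
      group
  · obtain ⟨T, D, hT⟩ := exists_isNonsplitTorus K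
    have hT' : IsTorus T D := Or.inr hT
    have h1 : Nat.card T = 18 := by rw [hT.card, hK]
    have h2 : Nat.card D = 36 := by rw [hT'.card_D, h1]
    have h3 : D.index = 136 := by
      have := D.index_mul_card
      rw [h2, hX] at this
      omega
    have hD : ¬ D ≤ Lsub K := fun h => hT'.not_le_L hodd (hT'.le.trans h)
    obtain ⟨c, hc, hco⟩ := hgen T hT'.isCyclic
    rw [h1] at hco
    have h4 : orderOf (c * c) = 9 := by rw [← pow_two, orderOf_pow, hco]; rfl
    have h5 : Subgroup.zpowers (c * c) ≤ H := Subgroup.zpowers_le.2 (hL (mul_self_mem_L c))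
    have h6 : Nat.card (Subgroup.zpowers (c * c)) = 9 := by rw [Nat.card_zpowers, h4]
    rw [← h3]
    refine le_card_sylow H (Lsub K) D (Subgroup.zpowers (c * c)) hL hLi hD 3
      (IsPGroup.of_card (n := 2) h6) ?_ h5 ?_
    · intro h7
      have h8 := (Subgroup.zpowers (c * c)).index_mul_card
      rw [h6, hX, ← Subgroup.relIndex_mul_index h5] at h8
      obtain ⟨k, hk⟩ := h7
      rw [hk, mul_assoc 3] at h8
      omega
    · intro y _ hy
      refine hT'.ti (T.mul_mem hc hc) (fun h => ?_)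
        (Subgroup.zpowers_le.2 (T.mul_mem hc hc) (hy _ (Subgroup.mem_zpowers _)))
      rw [h, orderOf_one] at h4
      omega

theorem zass_of_card {G : Type*} [Group G] [Finite G] [Fact (Nat.Prime 17)]
    (h18 : Nat.card (Sylow 17 G) = 18) :
    ∃ d : ℕ, d ∣ 16 ∧ Nat.card (toPermHom G (Sylow 17 G)).range = (17 + 1) * 17 * d := by
  classical
  haveI := Fintype.ofFinite (Sylow 17 G)
  obtain ⟨P⟩ : Nonempty (Sylow 17 G) := inferInstance
  set φ := toPermHom G (Sylow 17 G) with hφ
  haveI : Nontrivial (Sylow 17 G) := Finite.one_lt_card_iff_nontrivial.1 (by omega)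
  have hP1 : (P : Subgroup G).map φ ≠ ⊥ := by
    intro h
    obtain ⟨Q, hQ⟩ := exists_ne P
    apply hQ
    have : Q ∈ fixedPoints (P : Subgroup G) (Sylow 17 G) := by
      intro g
      have h1 : φ g = 1 := Subgroup.mem_bot.1 (h ▸ ⟨g, g.2, rfl⟩)
      exact congrArg (fun σ : Equiv.Perm (Sylow 17 G) => σ Q) h1
    rw [IsPGroup.sylow_mem_fixedPoints_iff P.isPGroup'] at this
    exact Sylow.ext (P.is_maximal' Q.isPGroup' this)
  obtain ⟨R, hR⟩ := (P.isPGroup'.map φ).exists_le_sylow
  have hcard : Fintype.card (Sylow 17 G) = 17 + 1 := by rw [← Nat.card_eq_fintype_card, h18]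
  have hN := S0989.result 17 (Or.inr hcard) R
  have hR17 : Nat.card R ∣ 17 := by
    obtain ⟨n, hn⟩ := R.isPGroup'.exists_card_eq
    have h1 := Subgroup.card_dvd_of_le (Subgroup.le_normalizer (H := R.1))
    rw [hN, hn] at h1
    rw [hn]
    exact Nat.Coprime.dvd_of_dvd_mul_right (Nat.Coprime.pow_left n (by norm_num)) h1
  have hPR : (P : Subgroup G).map φ = R ∧ Nat.card R = 17 := by
    rcases (Nat.dvd_prime (by norm_num)).1 ((Subgroup.card_dvd_of_le hR).trans hR17) with h | h
    · exact absurd (Subgroup.card_eq_one.1 h) hP1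
    · have h2 := Nat.le_of_dvd (by norm_num) hR17
      have h3 := Subgroup.card_le_of_le hR
      exact ⟨Subgroup.eq_of_le_of_card_ge hR (by omega), by omega⟩
  set M := (Subgroup.normalizer ((P : Subgroup G) : Set G)).map φ with hM
  have h1 : Nat.card M ∣ 17 * 16 := by
    rw [← hN, ← hPR.1]
    exact Subgroup.card_dvd_of_le (Subgroup.le_normalizer_map φ)
  have h2 : 17 ∣ Nat.card M := by
    refine (dvd_of_eq hPR.2.symm).trans ?_
    rw [← hPR.1]
    exact Subgroup.card_dvd_of_le (Subgroup.map_mono Subgroup.le_normalizer)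
  obtain ⟨d, hd⟩ := h2
  refine ⟨d, Nat.dvd_of_mul_dvd_mul_left (by norm_num) (hd ▸ h1), ?_⟩
  have h3 : M.relIndex φ.range = 18 := by
    have hk : φ.ker ≤ Subgroup.normalizer ((P : Subgroup G) : Set G) := by
      intro k hk
      apply Sylow.smul_eq_iff_mem_normalizer.1
      exact congrArg (fun σ : Equiv.Perm (Sylow 17 G) => σ P) (MonoidHom.mem_ker.1 hk)
    rw [hM, MonoidHom.range_eq_map, Subgroup.relIndex_map_map, sup_eq_left.2 hk, top_sup_eq,
      Subgroup.relIndex_top_right]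
    exact P.card_eq_index_normalizer.symm.trans h18
  rw [← H3.card_mul_relIndex (Subgroup.map_le_range φ _), ← hM, h3, hd]
  ring

theorem exists_hom {G : Type*} [Group G] [Finite G] [Fact (Nat.Prime 17)]
    (h18 : Nat.card (Sylow 17 G) = 18) :
    ∃ (K : Type) (_ : Field K) (_ : Fintype K), Fintype.card K = 17 ∧ ∃ f : G →* PGL(2, K),
      f.ker = (toPermHom G (Sylow 17 G)).ker ∧ (f.range = ⊤ ∨ f.range = H29.Lsub K) := by
  obtain ⟨d, hd, hcard⟩ := zass_of_card h18
  set φ := toPermHom G (Sylow 17 G) with hφ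
  haveI : IsPretransitive φ.range (Sylow 17 G) := ⟨fun P Q => by
    obtain ⟨g, hg⟩ := exists_smul_eq G P Q
    exact ⟨⟨φ g, g, rfl⟩, hg⟩⟩
  have hf : ∀ g : φ.range, (∀ a : Sylow 17 G, g • a = a) → g = 1 := fun g hg =>
    Subtype.ext (Equiv.ext hg)
  have hd16 := Nat.le_of_dvd (by norm_num) hd
  have hZ : H61.IsZ φ.range (Sylow 17 G) := H61.isZ_of_prime_kernel hf (p := 17) (by norm_num)
    (H61.exists_isKer_of_prime hf (by norm_num) h18 hcard (by omega))
  haveI : Nontrivial (Sylow 17 G) := Finite.one_lt_card_iff_nontrivial.1 (by omega)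
  obtain ⟨o, w, ho⟩ := exists_pair_ne (Sylow 17 G)
  have hst : Nat.card (H61.stab2 φ.range w o) = d := by
    have := hZ.card_eq ho.symm
    rw [hcard, h18] at this
    omega
  by_cases h16 : d = 16
  · obtain ⟨K, _, _, hK, ⟨e⟩⟩ := (hZ.isSharp3_of_card ho.symm (by omega)).iso_PGL_of_odd_exponent
      (p := 17) (f := 1) (by norm_num) (by norm_num) (by decide) h18
    refine ⟨K, _, _, hK, e.toMonoidHom.comp φ.rangeRestrict, ?_, Or.inl ?_⟩
    · rw [MonoidHom.ker_comp_of_injective _ _ e.injective, MonoidHom.ker_rangeRestrict]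
    · exact MonoidHom.range_eq_top.2 (e.surjective.comp φ.rangeRestrict_surjective)
  by_cases h1 : d = 1
  · exfalso
    obtain ⟨N, hN, hNt, hNr⟩ := hZ.exists_regular_normal_of_not_zass (fun h => by
      obtain ⟨g, hg, a, b, hab, ha, hb⟩ := h.2.2.2.1
      have h2 := hZ.card_eq hab
      rw [hcard, h18, h1] at h2
      have h3 : H61.stab2 φ.range a b = ⊥ := Subgroup.card_eq_one.1 (by omega)
      exact hg (Subgroup.mem_bot.1 (h3 ▸ H61.mem_stab2.2 ⟨ha, hb⟩)))
    have hN18 : Nat.card N = 18 := by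
      rw [H62.card_eq_card_mul_card_stabilizer (G := N) w, hNr, Subgroup.card_bot, h18]
    have hreg : ∀ x ∈ N, x • w = w → x = 1 := by
      intro x hx h
      have h5 : (⟨x, hx⟩ : N) ∈ stabilizer N w := h
      rw [hNr w, Subgroup.mem_bot] at h5
      exact congrArg Subtype.val h5
    haveI : Fact (Nat.Prime 3) := ⟨Nat.prime_three⟩
    obtain ⟨x, hx⟩ := exists_prime_orderOf_dvd_card' (G := N) 2 (by rw [hN18]; decide)
    obtain ⟨y, hy⟩ := exists_prime_orderOf_dvd_card' (G := N) 3 (by rw [hN18]; decide)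
    rw [← Subgroup.orderOf_coe] at hx hy
    obtain ⟨g, hg1, hg2⟩ := hZ.trans w (x.1 • w) w (y.1 • w)
      (fun h => by rw [hreg _ x.2 h.symm, orderOf_one] at hx; omega)
      (fun h => by rw [hreg _ y.2 h.symm, orderOf_one] at hy; omega)
    have h4 : y.1⁻¹ * (g * x * g⁻¹) = 1 := by
      apply hreg _ (N.mul_mem (N.inv_mem y.2) (hN.conj_mem _ x.2 g))
      rw [mul_smul, mul_smul, mul_smul, inv_smul_eq_iff.2 hg1.symm, hg2, inv_smul_smul]
    rw [inv_mul_eq_one.1 h4, show orderOf (g * x * g⁻¹) = orderOf x.1 from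
      (MulAut.conj g).orderOf_eq _] at hy
    omega
  have hev : Even d ∧ 2 * d ≤ 16 := by
    clear hst hcard
    interval_cases d <;> simp_all <;> decide
  obtain ⟨⟨K, _, _, -, hK, ⟨e⟩⟩, -⟩ := hZ.iso_PSL_of_even ho (hst ▸ hev.1) (by omega)
  refine ⟨K, _, _, by omega, (H29.Lsub K).subtype.comp
    ((e.trans (H29.pslEquiv K)).toMonoidHom.comp φ.rangeRestrict), ?_, Or.inr ?_⟩
  · rw [MonoidHom.ker_comp_of_injective _ _ (Subgroup.subtype_injective _),
      MonoidHom.ker_comp_of_injective _ _ (MulEquiv.injective _), MonoidHom.ker_rangeRestrict]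
  · have hs : Function.Surjective ((e.trans (H29.pslEquiv K)).toMonoidHom.comp φ.rangeRestrict) :=
      (e.trans (H29.pslEquiv K)).surjective.comp φ.rangeRestrict_surjective
    rw [MonoidHom.range_comp, MonoidHom.range_eq_top.2 hs, ← MonoidHom.range_eq_map,
      Subgroup.range_subtype]

theorem not_dvd_card_sylow {G : Type*} [Group G] [Finite G] [Fact (Nat.Prime 17)] (r : ℕ)
    [hr : Fact r.Prime] (hr2 : r ≠ 2) (hr17 : r ≠ 17) (hlt : Nat.card (Sylow r G) < 289)
    (h : ∀ (Q : Sylow r G) (P : Sylow 17 G), (Q : Subgroup G) ≤ Subgroup.normalizer ((P : Subgroup G) : Set G)) :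
    ¬ 17 ∣ Nat.card (Sylow r G) := by
  obtain ⟨P⟩ : Nonempty (Sylow 17 G) := inferInstance
  obtain ⟨Q⟩ : Nonempty (Sylow r G) := inferInstance
  have h1 := H3.card_modEq_card_inf_centralizer Q.isPGroup' (h Q P)
  set C := (P : Subgroup G) ⊓ Subgroup.centralizer ((Q : Subgroup G) : Set G) with hC
  have h2 := H3.card_mul_relIndex (inf_le_left : C ≤ P)
  have hNC : (P : Subgroup G) ⊓ Subgroup.normalizer ((Q : Subgroup G) : Set G) ≤ C := by
    rintro x ⟨hx1, hx2⟩
    refine ⟨hx1, fun y hy => ?_⟩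
    have h3 : y * x * y⁻¹ * x⁻¹ ∈ (P : Subgroup G) ⊓ Q := by
      constructor
      · exact Subgroup.mul_mem _ ((Subgroup.mem_normalizer_iff.1 (h Q P hy) x).1 hx1)
          (Subgroup.inv_mem _ hx1)
      · have := Subgroup.mul_mem _ hy ((Subgroup.mem_normalizer_iff.1 hx2 _).1 (Subgroup.inv_mem _ hy))
        rw [← mul_assoc, ← mul_assoc] at this
        exact this
    rw [disjoint_iff.1 (IsPGroup.disjoint_of_ne 17 r hr17.symm _ _ P.isPGroup' Q.isPGroup'),
      Subgroup.mem_bot, mul_inv_eq_one, mul_inv_eq_iff_eq_mul] at h3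
    exact h3
  have h3 : C.relIndex P ≤ Nat.card (Sylow r G) := by
    rw [Q.card_eq_index_normalizer, ← Subgroup.relIndex_top_right]
    refine le_trans (Subgroup.relIndex_le_of_le_left hNC Subgroup.index_ne_zero_of_finite) ?_
    rw [Subgroup.inf_relIndex_left]
    exact Subgroup.relIndex_le_of_le_right le_top Subgroup.index_ne_zero_of_finite
  obtain ⟨n, hn⟩ := P.isPGroup'.index (C.subgroupOf P)
  have hn' : C.relIndex P = 17 ^ n := hn
  have hn2 : n < 2 := (Nat.pow_lt_pow_iff_right (by norm_num : 1 < 17)).1 (by omega)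
  interval_cases n
  · rw [pow_zero, Subgroup.relIndex_eq_one] at hn'
    rw [Q.card_eq_index_normalizer]
    intro hd
    refine P.not_dvd_index (hd.trans (Subgroup.index_dvd_of_le ?_))
    exact hn'.trans (inf_le_right.trans (Subgroup.centralizer_le_normalizer _))
  · exfalso
    rw [← h2, hn', pow_one] at h1
    have h4 : r ∣ Nat.card C * 16 := by
      have := (Nat.modEq_iff_dvd' (Nat.le_mul_of_pos_right _ (by norm_num))).1 h1.symm
      rwa [show Nat.card C * 17 - Nat.card C = Nat.card C * 16 by omega] at this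
    obtain ⟨m, hm⟩ := (P.isPGroup'.to_le (inf_le_left : C ≤ P)).exists_card_eq
    rcases (Nat.Prime.dvd_mul hr.out).1 h4 with h5 | h5
    · rw [hm] at h5
      exact hr17 ((Nat.prime_dvd_prime_iff_eq hr.out (by norm_num)).1 (hr.out.dvd_of_dvd_pow h5))
    · exact hr2 ((Nat.prime_dvd_prime_iff_eq hr.out Nat.prime_two).1
        (hr.out.dvd_of_dvd_pow (n := 4) h5))

theorem eq_bot_of_le_normalizer {G : Type*} [Group G] [Finite G] (hZ : Subgroup.center G = ⊥)
    (K : Subgroup G) [hK : K.Normal]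
    (h : ∀ (p : ℕ) [Fact p.Prime] (P : Sylow p G), p ∣ Nat.card G →
      K ≤ Subgroup.normalizer ((P : Subgroup G) : Set G)) : K = ⊥ := by
  by_contra hne
  obtain ⟨r, hr, hrd⟩ := Nat.exists_prime_and_dvd (fun h => hne (Subgroup.card_eq_one.1 h))
  haveI := Fact.mk hr
  have hrG := hrd.trans (Subgroup.card_subgroup_dvd_card K)
  obtain ⟨x, hx⟩ := exists_prime_orderOf_dvd_card' r hrd
  have hxp : IsPGroup r (Subgroup.zpowers (x : G)) :=
    IsPGroup.of_card (n := 1) (by rw [Nat.card_zpowers, Subgroup.orderOf_coe, hx, pow_one])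
  obtain ⟨P, hP⟩ := hxp.exists_le_sylow
  have hKP : ∀ Q : Sylow r G, K ⊓ P ≤ Q := by
    intro Q
    have h1 : IsPGroup r ↥((K ⊓ P) ⊔ (Q : Subgroup G)) :=
      P.isPGroup'.to_inf_right.to_sup_of_normal_right' Q.isPGroup' (inf_le_left.trans (h r Q hrG))
    rw [← Q.is_maximal' h1 le_sup_right]
    exact le_sup_left
  have hn : (K ⊓ P : Subgroup G).Normal := ⟨fun y hy g => ⟨hK.conj_mem y hy.1 g, by
    have := hKP (g⁻¹ • P) hy
    rw [Sylow.coe_subgroup_smul, Subgroup.mem_pointwise_smul_iff_inv_smul_mem] at this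
    have h5 : g * y * g⁻¹ ∈ (P : Subgroup G) := by simpa using this
    exact h5⟩⟩
  have h1 := H3.inf_centralizer_ne_bot_of_isNilpotent P.isPGroup'.isNilpotent
    (inf_le_right : K ⊓ P ≤ P) (by rw [Subgroup.normalizer_eq_top]; exact le_top) (by
      intro h
      have : (x : G) ∈ K ⊓ P := ⟨x.2, hP (Subgroup.mem_zpowers _)⟩
      rw [h, Subgroup.mem_bot] at this
      rw [← Subgroup.orderOf_coe, this, orderOf_one] at hx
      exact hr.one_lt.ne hx)
  obtain ⟨⟨z, hz⟩, hz1⟩ := Subgroup.ne_bot_iff_exists_ne_one.1 h1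
  apply hz1
  have h2 : (Subgroup.centralizer {z}).index = 1 := by
    by_contra h3
    obtain ⟨s, hs, hsd⟩ := Nat.exists_prime_and_dvd h3
    haveI := Fact.mk hs
    by_cases hsr : s = r
    · subst hsr
      refine P.not_dvd_index (hsd.trans (Subgroup.index_dvd_of_le fun y hy => ?_))
      rintro _ rfl
      exact (hz.2 y hy).symm
    · obtain ⟨S⟩ : Nonempty (Sylow s G) := inferInstance
      refine S.not_dvd_index (hsd.trans (Subgroup.index_dvd_of_le fun y hy => ?_))
      intro w hw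
      rw [Set.mem_singleton_iff.1 hw]
      have h4 : z * y * z⁻¹ * y⁻¹ ∈ (S : Subgroup G) ⊓ P := by
        constructor
        · exact Subgroup.mul_mem _ ((Subgroup.mem_normalizer_iff.1
            (h s S (hsd.trans (Subgroup.index_dvd_card _)) hz.1.1) y).1 hy) (Subgroup.inv_mem _ hy)
        · have := Subgroup.mul_mem _ hz.1 (hn.conj_mem _ (Subgroup.inv_mem _ hz.1) y)
          simpa [mul_assoc] using this.2
      rw [disjoint_iff.1 (IsPGroup.disjoint_of_ne s r hsr _ _ S.isPGroup' P.isPGroup'),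
        Subgroup.mem_bot, mul_inv_eq_one, mul_inv_eq_iff_eq_mul] at h4
      exact h4
  rw [Subgroup.index_eq_one] at h2
  have h3 : z ∈ Subgroup.center G := by
    rw [Subgroup.mem_center_iff]
    intro g
    have : g ∈ Subgroup.centralizer {z} := h2 ▸ Subgroup.mem_top g
    exact (this z rfl).symm
  rw [hZ] at h3
  exact Subtype.ext h3

/-- Let G be a finite group with trivial centre whose set of Sylow numbers (numbers of Sylow r-subgroups, r over the prime divisors of its order) is exactly {18, 136, 153}. Then G is isomorphic to PSL(2, 17) or to PGL(2, 17). -/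
theorem result {G : Type*} [Group G] [Finite G] (hZ : Subgroup.center G = ⊥) (hNS : {c : ℕ | ∃ r : ℕ, r.Prime ∧ r ∣ Nat.card G ∧ c = Nat.card (Sylow r G)} = ({18, 136, 153} : Set ℕ))
    {F : Type*} [Field F] [Fintype F] (hF : Fintype.card F = 17) :
    Nonempty (G ≃* Matrix.ProjectiveSpecialLinearGroup (Fin 2) F) ∨ Nonempty (G ≃* (GL (Fin 2) F ⧸ Subgroup.center (GL (Fin 2) F))) := by
  haveI : Fact (Nat.Prime 17) := ⟨by norm_num⟩
  haveI : Fact (Nat.Prime 3) := ⟨Nat.prime_three⟩
  have hcases : ∀ r : ℕ, r.Prime → r ∣ Nat.card G →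
      (r = 17 ∧ Nat.card (Sylow r G) = 18) ∨ ((r = 3 ∨ r = 5) ∧ Nat.card (Sylow r G) = 136) ∨
      ((r = 2 ∨ r = 19) ∧ Nat.card (Sylow r G) = 153) := by
    intro r hr hd
    haveI := Fact.mk hr
    have h1 : Nat.card (Sylow r G) ∈ ({18, 136, 153} : Set ℕ) := hNS ▸ ⟨r, hr, hd, rfl⟩
    have h2 := (Nat.modEq_iff_dvd' Nat.card_pos).1 (card_sylow_modEq_one r G).symm
    rcases h1 with h | h | h
    · rw [h] at h2
      exact Or.inl ⟨(Nat.prime_dvd_prime_iff_eq hr (by norm_num)).1 h2, h⟩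
    · rw [h] at h2
      refine Or.inr (Or.inl ⟨?_, h⟩)
      rcases (Nat.Prime.dvd_mul hr (m := 3 ^ 3) (n := 5)).1 h2 with h3 | h3
      · exact Or.inl ((Nat.prime_dvd_prime_iff_eq hr (by norm_num)).1 (hr.dvd_of_dvd_pow h3))
      · exact Or.inr ((Nat.prime_dvd_prime_iff_eq hr (by norm_num)).1 h3)
    · rw [Set.mem_singleton_iff] at h
      rw [h] at h2
      refine Or.inr (Or.inr ⟨?_, h⟩)
      rcases (Nat.Prime.dvd_mul hr (m := 2 ^ 3) (n := 19)).1 h2 with h3 | h3
      · exact Or.inl ((Nat.prime_dvd_prime_iff_eq hr (by norm_num)).1 (hr.dvd_of_dvd_pow h3))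
      · exact Or.inr ((Nat.prime_dvd_prime_iff_eq hr (by norm_num)).1 h3)
  have h18 : Nat.card (Sylow 17 G) = 18 := by
    obtain ⟨r, hr, hd, h⟩ : 18 ∈ {c : ℕ | ∃ r : ℕ, r.Prime ∧ r ∣ Nat.card G ∧ c = Nat.card (Sylow r G)} :=
      hNS ▸ Or.inl rfl
    rcases hcases r hr hd with ⟨rfl, h1⟩ | ⟨-, h1⟩ | ⟨-, h1⟩
    · exact h1
    · omega
    · omega
  have h18d : 18 ∣ Nat.card G := by
    obtain ⟨P⟩ : Nonempty (Sylow 17 G) := inferInstance
    rw [← h18, P.card_eq_index_normalizer]
    exact Subgroup.index_dvd_card _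
  have h2 : Nat.card (Sylow 2 G) = 153 := by
    rcases hcases 2 Nat.prime_two (Dvd.dvd.trans (by decide) h18d) with h | h | h <;> omega
  have h3 : Nat.card (Sylow 3 G) = 136 := by
    rcases hcases 3 Nat.prime_three (Dvd.dvd.trans (by decide) h18d) with h | h | h <;> omega
  obtain ⟨K, _, _, hK, f, hker, hrange⟩ := exists_hom h18
  have hK' : Nat.card K = 17 := by rw [Nat.card_eq_fintype_card, hK]
  haveI := H29.finite_PGL2 (F := K)
  have hL : H29.Lsub K ≤ f.range := by
    rcases hrange with h | h <;> rw [h]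
    exact le_top
  obtain ⟨hs2, hs3⟩ := pgl_sylow hK' _ hL
  have hk17 : ∀ P : Sylow 17 G, f.ker ≤ Subgroup.normalizer ((P : Subgroup G) : Set G) := by
    intro P k hk
    rw [hker] at hk
    apply Sylow.smul_eq_iff_mem_normalizer.1
    exact congrArg (fun σ : Equiv.Perm (Sylow 17 G) => σ P) (MonoidHom.mem_ker.1 hk)
  have hno : ∀ r : ℕ, r.Prime → (r = 5 ∨ r = 19) → Nat.card (Sylow r G) < 289 →
      ¬ 17 ∣ Nat.card (Sylow r G) := by
    intro r hr h519 hlt
    haveI := Fact.mk hr
    refine not_dvd_card_sylow r (by omega) (by omega) hlt fun Q P => le_trans ?_ (hk17 P)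
    rw [← Subgroup.map_eq_bot_iff]
    obtain ⟨n, hn⟩ := (Q.isPGroup'.map f).exists_card_eq
    have h4 := Subgroup.card_subgroup_dvd_card ((Q : Subgroup G).map f)
    rw [H29.card_PGL2, hK', hn] at h4
    rcases n with _ | n
    · exact Subgroup.card_eq_one.1 hn
    · have := (dvd_pow_self r (Nat.succ_ne_zero n)).trans h4
      rcases h519 with rfl | rfl <;> omega
  have hbot : f.ker = ⊥ := by
    apply eq_bot_of_le_normalizer hZ
    intro p _ P hp
    rcases hcases p Fact.out hp with ⟨rfl, -⟩ | ⟨rfl | rfl, h⟩ | ⟨rfl | rfl, h⟩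
    · exact hk17 P
    · rw [← MonoidHom.ker_rangeRestrict]
      exact ker_le_normalizer _ f.rangeRestrict_surjective 3 (by omega) P
    · exact absurd (by rw [h]; decide) (hno 5 (by norm_num) (Or.inl rfl) (by omega))
    · rw [← MonoidHom.ker_rangeRestrict]
      exact ker_le_normalizer _ f.rangeRestrict_surjective 2 (by omega) P
    · exact absurd (by rw [h]; decide) (hno 19 (by norm_num) (Or.inr rfl) (by omega))
  have e0 := MonoidHom.ofInjective ((MonoidHom.ker_eq_bot_iff f).1 hbot)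
  have eF : K ≃+* F := FiniteField.ringEquivOfCardEq (hK.trans hF.symm)
  rcases hrange with h | h
  · exact Or.inr ⟨((e0.trans (MulEquiv.subgroupCongr h)).trans Subgroup.topEquiv).trans
      (H29.pglCongr eF)⟩
  · exact Or.inl ⟨((e0.trans (MulEquiv.subgroupCongr h)).trans (H29.pslEquiv K).symm).trans
      (H29.pslCongr eF)⟩

end Cfsg.Agent.S3641
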