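import Cfsg.Statements.S3643
import Cfsg.Agent.H58.DegM12
import Cfsg.Agent.H80.SchurHopf
import Cfsg.Agent.S2034
import Cfsg.Agent.S2060
import Cfsg.Agent.S4429
import Cfsg.Agent.S0228

set_option autoImplicit false
open Cfsg

namespace Cfsg.Agent.S3643

open H24 H58.DG in
theorem prod_of_M11 {G : Type*} [Group G] [Finite G] (L : Subgroup G) [L.Normal]
    (hL : commutator L = ⊤) (e : L ⧸ Subgroup.center L ≃* Spor.M11) :
    Nonempty (G ≃* Subgroup.centralizer (L : Set G) × Spor.M11) := by
  have hz : Subgroup.center L = ⊥ := by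
    have hk : (e.toMonoidHom.comp (QuotientGroup.mk' (Subgroup.center L))).ker =
        Subgroup.center L := by
      rw [← MonoidHom.comap_ker, (MonoidHom.ker_eq_bot_iff _).2 e.injective,
        MonoidHom.comap_bot, QuotientGroup.ker_mk']
    obtain ⟨f, hf⟩ := H80.exists_surjective_ker_of_stem S2034.result
      (ξ := e.toMonoidHom.comp (QuotientGroup.mk' (Subgroup.center L)))
      ⟨e.surjective.comp (QuotientGroup.mk'_surjective _), hk.le, hL ▸ le_top⟩
    have h1 := Nat.card_le_card_of_surjective f hf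
    rw [hk] at h1
    rw [← Subgroup.card_le_one_iff_eq_bot]
    simpa using h1
  obtain ⟨e0⟩ := nonempty_equiv_quot (L := L) (by
    rw [Subgroup.card_eq_card_quotient_mul_card_subgroup (Subgroup.center L), hz,
      Subgroup.card_bot, mul_one])
  have e1 := e0.trans e
  have hcomm : ∀ (a : Subgroup.centralizer (L : Set G)) (b : L),
      Commute ((Subgroup.centralizer (L : Set G)).subtype a) (L.subtype b) := fun a b =>
    (Subgroup.mem_centralizer_iff.1 a.2 b b.2).symm
  have hbij : Function.Bijective (MonoidHom.noncommCoprod _ _ hcomm) := by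
    constructor
    · rw [injective_iff_map_eq_one]
      rintro ⟨a, b⟩ h
      have h1 : (a : G) * b = 1 := h
      have h2 : b ∈ Subgroup.center L := Subgroup.mem_center_iff.2 fun c => Subtype.ext (by
        have h3 : (b : G) = (a : G)⁻¹ := eq_inv_of_mul_eq_one_right h1
        have h4 := Subgroup.mem_centralizer_iff.1 (Subgroup.inv_mem _ a.2) c c.2
        simpa [h3] using h4)
      rw [hz, Subgroup.mem_bot] at h2
      subst h2
      have h3 : a = 1 := Subtype.ext (by simpa using h1)
      rw [h3]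
      rfl
    · intro g
      have hs : Subsingleton (Out Spor.M11) := (Nat.card_eq_one_iff_unique.1 S2060.result).1
      obtain ⟨m, hm⟩ : (e1.symm.trans ((MulAut.conjNormal g : MulAut L).trans e1) :
          MulAut Spor.M11) ∈ Inn Spor.M11 :=
        (QuotientGroup.eq_one_iff _).1 (Subsingleton.elim _ _)
      have h1 : ∀ x : L, g * x * g⁻¹ = e1.symm m * x * (e1.symm m : G)⁻¹ := fun x => by
        have h2 := DFunLike.congr_fun hm (e1 x)
        simp only [MulAut.conj_apply, MulEquiv.trans_apply, MulEquiv.symm_apply_apply] at h2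
        have h3 := congrArg (fun y => (e1.symm y : G)) h2
        simpa using h3.symm
      refine ⟨(⟨g * (e1.symm m : G)⁻¹, Subgroup.mem_centralizer_iff.2 fun x hx => ?_⟩,
        e1.symm m), by simp⟩
      have h2 := h1 ((e1.symm m)⁻¹ * ⟨x, hx⟩ * e1.symm m)
      simp only [Subgroup.coe_mul, Subgroup.coe_inv] at h2
      calc x * (g * (e1.symm m : G)⁻¹) =
          (e1.symm m * ((e1.symm m : G)⁻¹ * x * e1.symm m) * (e1.symm m : G)⁻¹) * g *
            (e1.symm m : G)⁻¹ := by group
        _ = _ := by rw [← h2]; group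
  exact ⟨(MulEquiv.ofBijective _ hbij).symm.trans (MulEquiv.prodCongr (MulEquiv.refl _) e1)⟩

/-- Let G be a finite group of the same order as the Mathieu group M₁₂ whose character degree graph equals that of M₁₂ (same primes dividing some irreducible complex character degree, same pairs of distinct primes whose product divides some degree). Then G is isomorphic to M₁₂ or to the direct product of the alternating group of degree 4 with M₁₁. -/
theorem result {G : Type*} [Group G] [Finite G] (hcard : Nat.card G = Nat.card ↥Cfsg.Spor.M12) (hΔ : Cfsg.degreePrimes G = Cfsg.degreePrimes ↥Cfsg.Spor.M12 ∧ Cfsg.degreeGraph G = Cfsg.degreeGraph ↥Cfsg.Spor.M12) :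
    Nonempty (G ≃* ↥Cfsg.Spor.M12) ∨ Nonempty (G ≃* alternatingGroup (Fin 4) × ↥Cfsg.Spor.M11) := by
  have hG : Nat.card G = 95040 := hcard.trans H74.card_M12
  have := H74.simple_M12
  have := Fintype.ofFinite Spor.M12
  obtain ⟨c55, d0, hd0, h33⟩ := H58.DG.cd_M12 H74.card_M12
  have : Fact (Nat.Prime 11) := ⟨by norm_num⟩
  obtain ⟨L, _, hL⟩ := H58.DG.exists_qs (G := G) (p := 11) (m := 8640) (by rw [hG]) (by norm_num)
    (hG ▸ H13.M12.noFpf11) (hΔ.1 ▸ H58.DG.mem_primes (by norm_num) c55 (by norm_num))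
  have := hL.simple
  have := Fintype.ofFinite (L ⧸ Subgroup.center L)
  have h1 := H58.DG.card_eq_mul L
  rw [hG] at h1
  rcases H58.DG.orders11 hL.ncomm hL.dvd (h1 ▸ dvd_mul_right _ _) with h | h | h
  · exfalso
    obtain ⟨d, hd, h55⟩ := H58.DG.exists_of_adj (hΔ.2 ▸ H58.DG.adj_of (r := 5) (s := 11)
      (by norm_num) (by norm_num) (by norm_num) c55 (by norm_num) : (degreeGraph G).Adj 5 11)
    have hi : L.index ∣ 2 ^ 4 * 3 ^ 2 := ⟨Nat.card (Subgroup.center L), by
      rw [h] at h1; rw [mul_comm L.index]; omega⟩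
    have := H12.isSolvable_of_card_dvd_pow_mul_pow (G := G ⧸ L) (by norm_num) (by norm_num) hi
    obtain ⟨k, hk, -, h2, h3⟩ := H58.DG.exists_under L hd
    have h4 : 5 * 11 ∣ k := (Nat.Coprime.coprime_dvd_right hi (by norm_num)).dvd_of_dvd_mul_left
      (h55.trans h2)
    have h5 := Nat.le_of_dvd (H24.pos_of_mem_cd hk) h4
    rw [h] at h3
    nlinarith
  · right
    obtain ⟨e⟩ := H13.isoM11_of_isM11 (G := L ⧸ Subgroup.center L) ⟨hL.simple, h⟩
    obtain ⟨f⟩ := prod_of_M11 L hL.perf e
    have hK : Nat.card (Subgroup.centralizer (L : Set G)) = 12 := by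
      have := Nat.card_congr f.toEquiv
      rw [Nat.card_prod, H74.card_M11, hG] at this
      omega
    obtain ⟨d, hd, h33'⟩ := H58.DG.exists_of_adj (hΔ.2 ▸ H58.DG.adj_of (r := 3) (s := 11)
      (by norm_num) (by norm_num) (by norm_num) hd0 h33 : (degreeGraph G).Adj 3 11)
    rw [H24.cd_eq_of_mulEquiv f] at hd
    obtain ⟨χ, hχ, rfl⟩ := H24.mem_cd.1 hd
    obtain ⟨φ, ψ, hφ, hψ, rfl⟩ := H11.exists_eq_prod_mul hχ
    have h2 : charDegree (fun x : Subgroup.centralizer (L : Set G) × Spor.M11 => φ x.1 * ψ x.2) =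
        charDegree φ * charDegree ψ := H24.deg_eq (by
      rw [Nat.cast_mul, ← H24.irr_deg hφ, ← H24.irr_deg hψ]; rfl)
    have h3 := H24.deg_dvd_card hφ
    rw [h2] at h33'
    rw [hK] at h3
    have h4 : 11 ∣ charDegree ψ := (Nat.Coprime.coprime_dvd_right h3 (by norm_num)).dvd_of_dvd_mul_left
      ((dvd_mul_left 11 3).trans h33')
    have h5 : ¬ 3 ∣ charDegree ψ := by
      have := H74.simple_M11
      have h6 := (S4429.result H74.card_M11).2 (charDegree ψ)
      have h7 : 0 < Nat.card {χ : IrrCharacter Spor.M11 // charDegree χ.1 = charDegree ψ} :=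
        @Nat.card_pos _ ⟨⟨⟨ψ, hψ⟩, rfl⟩⟩ inferInstance
      rw [h6] at h7
      split_ifs at h7 <;> omega
    have h6 : 3 ∣ charDegree φ :=
      ((Nat.prime_three.dvd_mul).1 ((dvd_mul_right 3 11).trans h33')).resolve_right h5
    have h7 := H24.deg_sq_le_index_center hφ
    have h8 := Nat.le_of_dvd (H24.deg_pos hφ) h6
    obtain ⟨e'⟩ := S0228.result hK fun z hz hc => by
      have h9 := (Subgroup.center _).card_mul_index.trans hK
      have h10 := hz ▸ Subgroup.orderOf_dvd_natCard _ hc
      have h11 := Nat.le_of_dvd Nat.card_pos h10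
      nlinarith
    exact ⟨f.trans (MulEquiv.prodCongr e' (MulEquiv.refl _))⟩
  · left
    obtain ⟨e⟩ := H58.DG.equiv_of_card_eq L (h.trans hG.symm)
    obtain ⟨e'⟩ := H13.isoM12_of_isM12 (G := L ⧸ Subgroup.center L) ⟨hL.simple, h⟩
    exact ⟨e.trans e'⟩

end Cfsg.Agent.S3643
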