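import Cfsg.Statements.S4774
import Cfsg.Agent.H77.PSL2Chars

set_option autoImplicit false
open Cfsg

namespace Cfsg.Agent.S4774

open Cfsg.Agent.H77

/-- Let F be a finite field of odd characteristic t with q > 5 elements and let S be isomorphic to PSL(2,F) or to SL(2,F). Then the vertices of the character degree graph of S are the primes dividing q(q²−1); the prime t is adjacent to no vertex; two distinct primes dividing q² − 1 are adjacent exactly when one of them is 2, or both divide q + 1, or both divide q − 1. -/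
theorem result (F : Type*) [Field F] [Fintype F] (t : ℕ) [Fact t.Prime] [CharP F t] (ht : t ≠ 2) (q : ℕ) (hq : Fintype.card F = q) (h5 : 5 < q) {S : Type*} [Group S] [Finite S] (hS : Nonempty (S ≃* Matrix.ProjectiveSpecialLinearGroup (Fin 2) F) ∨ Nonempty (S ≃* Matrix.SpecialLinearGroup (Fin 2) F)) : Cfsg.degreePrimes S = {r : ℕ | r.Prime ∧ r ∣ q * (q ^ 2 - 1)} ∧ ∀ r s : ℕ, (Cfsg.degreeGraph S).Adj r s ↔ (r ≠ s ∧ r.Prime ∧ s.Prime ∧ r ∣ q ^ 2 - 1 ∧ s ∣ q ^ 2 - 1 ∧ (r = 2 ∨ s = 2 ∨ (r ∣ q + 1 ∧ s ∣ q + 1) ∨ (r ∣ q - 1 ∧ s ∣ q - 1))) := by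
  subst hq
  set q := Fintype.card F with hq
  have htp : t.Prime := Fact.out
  obtain ⟨n, -, hn⟩ := FiniteField.card F t
  have hodd : q % 2 = 1 := by
    rw [hq, hn]; exact Nat.odd_iff.mp ((htp.odd_of_ne_two ht).pow)
  have hcd : ∀ d ∈ Cfsg.charDegrees S, d = q ∨ d ∣ q + 1 ∨ d ∣ q - 1 := by
    intro d hd
    have : d ∈ Cfsg.charDegrees (SL2 F) := by
      rcases hS with ⟨⟨e⟩⟩ | ⟨⟨e⟩⟩
      · exact psl_cd_subset (Cfsg.Agent.H24.cd_eq_of_mulEquiv e ▸ hd)
      · exact Cfsg.Agent.H24.cd_eq_of_mulEquiv e ▸ hd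
    rcases sl_cd_cases this with rfl | rfl | rfl | rfl | ⟨-, rfl | rfl⟩
    · exact Or.inr (Or.inl (one_dvd _))
    · exact Or.inl rfl
    · exact Or.inr (Or.inl dvd_rfl)
    · exact Or.inr (Or.inr dvd_rfl)
    · exact Or.inr (Or.inl (Nat.div_dvd_of_dvd (by omega)))
    · exact Or.inr (Or.inr (Nat.div_dvd_of_dvd (by omega)))
  have hmem : ∀ d ∈ Cfsg.charDegrees (PSL2 F), d ∈ Cfsg.charDegrees S := by
    intro d hd
    rcases hS with ⟨⟨e⟩⟩ | ⟨⟨e⟩⟩
    · exact Cfsg.Agent.H24.cd_eq_of_mulEquiv e ▸ hd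
    · exact Cfsg.Agent.H24.cd_eq_of_mulEquiv e ▸ psl_cd_subset hd
  have m0 : q ∈ Cfsg.charDegrees S := hmem _ q_mem_psl_cd
  have m1 : q + 1 ∈ Cfsg.charDegrees S := hmem _ (q_add_one_mem_psl_cd fun h => by
    have h' := Nat.le_of_dvd four_pos h; omega)
  have m2 : q - 1 ∈ Cfsg.charDegrees S := hmem _ (q_sub_one_mem_psl_cd fun h => by
    have := Nat.le_of_dvd four_pos h; omega)
  have hq2 : ∀ r : ℕ, r.Prime → r ∣ q → r = t := fun r hr h =>
    (Nat.prime_dvd_prime_iff_eq hr htp).mp (hr.dvd_of_dvd_pow (by rw [← hn]; exact h))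
  have e1 : 2 ∣ q + 1 := by omega
  have e2 : 2 ∣ q - 1 := by omega
  constructor
  · ext r
    simp only [Cfsg.degreePrimes, Set.mem_ofPred_eq, sq_sub_one_eq]
    refine and_congr_right fun hr => ⟨?_, fun h => ?_⟩
    · rintro ⟨d, hd, h⟩
      rcases hcd d hd with rfl | h' | h'
      · exact h.mul_right _
      · exact ((h.trans h').mul_left _).mul_left _
      · exact ((h.trans h').mul_right _).mul_left _
    · rcases (Nat.Prime.dvd_mul hr).mp h with h | h
      · exact ⟨_, m0, h⟩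
      · rcases (Nat.Prime.dvd_mul hr).mp h with h | h
        · exact ⟨_, m2, h⟩
        · exact ⟨_, m1, h⟩
  · intro r s
    rw [sq_sub_one_eq]
    refine and_congr_right fun hne => and_congr_right fun hr => and_congr_right fun hs => ⟨?_, ?_⟩
    · rintro ⟨d, hd, h⟩
      have h1 := (Dvd.intro _ rfl).trans h
      have h3 := (Dvd.intro_left _ rfl).trans h
      rcases hcd d hd with rfl | h' | h'
      · exact absurd ((hq2 r hr h1).trans (hq2 s hs h3).symm) hne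
      · exact ⟨(h1.trans h').mul_left _, (h3.trans h').mul_left _,
          Or.inr (Or.inr (Or.inl ⟨h1.trans h', h3.trans h'⟩))⟩
      · exact ⟨(h1.trans h').mul_right _, (h3.trans h').mul_right _,
          Or.inr (Or.inr (Or.inr ⟨h1.trans h', h3.trans h'⟩))⟩
    · have hc : Nat.Coprime r s := (Nat.coprime_primes hr hs).mpr hne
      rintro ⟨d1, d2, rfl | rfl | ⟨h1, h3⟩ | ⟨h1, h3⟩⟩
      · rcases (Nat.Prime.dvd_mul hs).mp d2 with h | h
        · exact ⟨_, m2, hc.mul_dvd_of_dvd_of_dvd e2 h⟩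
        · exact ⟨_, m1, hc.mul_dvd_of_dvd_of_dvd e1 h⟩
      · rcases (Nat.Prime.dvd_mul hr).mp d1 with h | h
        · exact ⟨_, m2, hc.mul_dvd_of_dvd_of_dvd h e2⟩
        · exact ⟨_, m1, hc.mul_dvd_of_dvd_of_dvd h e1⟩
      · exact ⟨_, m1, hc.mul_dvd_of_dvd_of_dvd h1 h3⟩
      · exact ⟨_, m2, hc.mul_dvd_of_dvd_of_dvd h1 h3⟩

end Cfsg.Agent.S4774
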