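import Cfsg.Statements.S4775
import Cfsg.Agent.H39.SzTable

set_option autoImplicit false
open Cfsg

namespace Cfsg.Agent.S4775

/-- Let F be a finite field with q = 2^(2m+1) ≥ 8 elements and let S be isomorphic to the Suzuki group over F. Then the vertices of the character degree graph of S are 2 and the primes dividing (q − 1)(q² + 1); the primes dividing (q − 1)(q² + 1) are pairwise adjacent, and 2 is adjacent exactly to the primes dividing q − 1. -/
theorem result (F : Type*) [Field F] [Fintype F] (m : ℕ) (hm : 1 ≤ m) (q : ℕ) (hq : Fintype.card F = q) (hqm : q = 2 ^ (2 * m + 1)) {S : Type*} [Group S] [Finite S] (hS : Nonempty (S ≃* ↥(Cfsg.Lie.Sz F (2 ^ (m + 1))))) : Cfsg.degreePrimes S = {r : ℕ | r.Prime ∧ (r = 2 ∨ r ∣ (q - 1) * (q ^ 2 + 1))} ∧ ∀ r s : ℕ, (Cfsg.degreeGraph S).Adj r s ↔ (r ≠ s ∧ r.Prime ∧ s.Prime ∧ ((r ∣ (q - 1) * (q ^ 2 + 1) ∧ s ∣ (q - 1) * (q ^ 2 + 1)) ∨ (r = 2 ∧ s ∣ q - 1) ∨ (s = 2 ∧ r ∣ q - 1))) := by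
  classical
  obtain ⟨e⟩ := hS
  have hF : Fintype.card F = 2 ^ (2 * m + 1) := hq.trans hqm
  have := H39.szField_of_card hm hF
  let M := (H39.lieModel hF).comap e
  have := Fintype.ofFinite S
  obtain ⟨C, hs⟩ := M.nonempty_ctx hm (by rw [Nat.card_eq_fintype_card, hF])
  have hcd := fun d => C.mem_cd_iff (d := d)
  have hH := M.card_H
  have hc := C.card
  rw [Nat.card_eq_fintype_card (α := F), hq] at hH hc
  have h1 := C.card₁
  have h2 := C.card₂
  rw [hH] at hcd
  generalize Nat.card C.A₁ = a at *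
  generalize Nat.card C.A₂ = b at *
  have hab : q ^ 2 + 1 = a * b := by
    zify at h1 h2 hc ⊢
    have : (b : ℤ) = 2 * C.s ^ 2 + 1 - 2 * C.s := by linarith
    rw [hc, h1, this]; ring
  have h4 : 4 * C.s ^ 4 + 1 = a * b := by rw [← hab, hc]; ring
  rw [h4] at hcd
  rw [hab]
  have hs2 : ∀ r : ℕ, r.Prime → r ∣ C.s → r = 2 := fun r hr h =>
    (Nat.prime_dvd_prime_iff_eq hr Nat.prime_two).mp (hr.dvd_of_dvd_pow (hs ▸ h))
  have hs4 : ∀ r : ℕ, r.Prime → r ∣ 4 * C.s ^ 4 → r = 2 := fun r hr h => by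
    rcases (Nat.Prime.dvd_mul hr).mp h with h | h
    · exact (Nat.prime_dvd_prime_iff_eq hr Nat.prime_two).mp
        (hr.dvd_of_dvd_pow (n := 2) h)
    · exact hs2 r hr (hr.dvd_of_dvd_pow h)
  have h2s : 2 ∣ C.s := hs ▸ dvd_pow_self 2 (by omega)
  generalize q - 1 = h at *
  have m1 : 4 * C.s ^ 4 ∈ charDegrees S := by simp [hcd]
  have m2 : a * b ∈ charDegrees S := by simp [hcd]
  have m3 : h * b ∈ charDegrees S := by simp [hcd]
  have m4 : h * a ∈ charDegrees S := by simp [hcd]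
  have m5 : C.s * h ∈ charDegrees S := by simp [hcd]
  constructor
  · ext r
    simp only [Cfsg.degreePrimes, Set.mem_ofPred_eq]
    refine and_congr_right fun hr => ⟨?_, ?_⟩
    · rintro ⟨d, hd, h⟩
      rcases (hcd d).mp hd with rfl | rfl | rfl | rfl | rfl | rfl
      · exact Or.inr (h.trans (one_dvd _))
      · exact Or.inl (hs4 r hr h)
      · exact Or.inr (h.mul_left _)
      · exact Or.inr (h.trans (Nat.mul_dvd_mul_left _ (Dvd.intro_left _ rfl)))
      · exact Or.inr (h.trans (Nat.mul_dvd_mul_left _ (Dvd.intro _ rfl)))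
      · rcases (Nat.Prime.dvd_mul hr).mp h with h | h
        · exact Or.inl (hs2 r hr h)
        · exact Or.inr (h.mul_right _)
    · rintro (rfl | h)
      · exact ⟨_, m5, h2s.mul_right _⟩
      · rcases (Nat.Prime.dvd_mul hr).mp h with h | h
        · exact ⟨_, m3, h.mul_right _⟩
        · exact ⟨_, m2, h⟩
  · intro r s
    refine and_congr_right fun hne => and_congr_right fun hr => and_congr_right fun hs => ⟨?_, ?_⟩
    · rintro ⟨d, hd, h⟩
      have h1 := (Dvd.intro _ rfl).trans h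
      have h3 := (Dvd.intro_left _ rfl).trans h
      rcases (hcd d).mp hd with rfl | rfl | rfl | rfl | rfl | rfl
      · exact absurd (Nat.dvd_one.mp h1) hr.one_lt.ne'
      · exact absurd ((hs4 r hr h1).trans (hs4 s hs h3).symm) hne
      · exact Or.inl ⟨h1.mul_left _, h3.mul_left _⟩
      · exact Or.inl ⟨h1.trans (Nat.mul_dvd_mul_left _ (Dvd.intro_left _ rfl)),
          h3.trans (Nat.mul_dvd_mul_left _ (Dvd.intro_left _ rfl))⟩
      · exact Or.inl ⟨h1.trans (Nat.mul_dvd_mul_left _ (Dvd.intro _ rfl)),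
          h3.trans (Nat.mul_dvd_mul_left _ (Dvd.intro _ rfl))⟩
      · rcases (Nat.Prime.dvd_mul hr).mp h1 with h1 | h1 <;>
          rcases (Nat.Prime.dvd_mul hs).mp h3 with h3 | h3
        · exact absurd ((hs2 r hr h1).trans (hs2 s hs h3).symm) hne
        · exact Or.inr (Or.inl ⟨hs2 r hr h1, h3⟩)
        · exact Or.inr (Or.inr ⟨hs2 s hs h3, h1⟩)
        · exact Or.inl ⟨h1.mul_right _, h3.mul_right _⟩
    · have hc : Nat.Coprime r s := (Nat.coprime_primes hr hs).mpr hne
      have key : ∀ d ∈ charDegrees S, r ∣ d → s ∣ d → ∃ d ∈ charDegrees S, r * s ∣ d :=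
        fun d hd h1 h3 => ⟨d, hd, hc.mul_dvd_of_dvd_of_dvd h1 h3⟩
      rintro (⟨h1, h3⟩ | ⟨rfl, h3⟩ | ⟨rfl, h3⟩)
      · simp only [Nat.Prime.dvd_mul hr, Nat.Prime.dvd_mul hs] at h1 h3
        rcases h1 with h1 | h1 | h1 <;> rcases h3 with h3 | h3 | h3
        · exact key _ m3 (h1.mul_right _) (h3.mul_right _)
        · exact key _ m4 (h1.mul_right _) (h3.mul_left _)
        · exact key _ m3 (h1.mul_right _) (h3.mul_left _)
        · exact key _ m4 (h1.mul_left _) (h3.mul_right _)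
        · exact key _ m2 (h1.mul_right _) (h3.mul_right _)
        · exact key _ m2 (h1.mul_right _) (h3.mul_left _)
        · exact key _ m3 (h1.mul_left _) (h3.mul_right _)
        · exact key _ m2 (h1.mul_left _) (h3.mul_right _)
        · exact key _ m2 (h1.mul_left _) (h3.mul_left _)
      · exact key _ m5 (h2s.mul_right _) (h3.mul_left _)
      · exact key _ m5 (h3.mul_left _) (h2s.mul_right _)

end Cfsg.Agent.S4775
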