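import Cfsg.Statements.S4812
import Cfsg.Agent.H77.PSL2Chars

set_option autoImplicit false
open Cfsg

namespace Cfsg.Agent.S4812

open Cfsg.Agent.H77

/-- Let F be a finite field of characteristic 2 with q ≥ 4 elements and let S be isomorphic to PSL(2,F) or to SL(2,F). Then the vertices of the character degree graph of S are the primes dividing q(q²−1), and two distinct primes are adjacent exactly when both divide q + 1 or both divide q − 1; so the graph has the three connected components {2}, the primes dividing q + 1 and the primes dividing q − 1, each complete. -/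
theorem result (F : Type*) [Field F] [Fintype F] [CharP F 2] (q : ℕ) (hq : Fintype.card F = q) (h4 : 4 ≤ q) {S : Type*} [Group S] [Finite S] (hS : Nonempty (S ≃* Matrix.ProjectiveSpecialLinearGroup (Fin 2) F) ∨ Nonempty (S ≃* Matrix.SpecialLinearGroup (Fin 2) F)) : Cfsg.degreePrimes S = {r : ℕ | r.Prime ∧ r ∣ q * (q ^ 2 - 1)} ∧ ∀ r s : ℕ, (Cfsg.degreeGraph S).Adj r s ↔ (r ≠ s ∧ r.Prime ∧ s.Prime ∧ ((r ∣ q + 1 ∧ s ∣ q + 1) ∨ (r ∣ q - 1 ∧ s ∣ q - 1))) := by
  subst hq
  set q := Fintype.card F with hq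
  obtain ⟨n, -, hn⟩ := FiniteField.card F 2
  have h2 : 2 ∣ q := by rw [hq, hn]; exact dvd_pow_self 2 n.ne_zero
  have hcd : ∀ d ∈ Cfsg.charDegrees S, d = 1 ∨ d = q ∨ d = q + 1 ∨ d = q - 1 := by
    intro d hd
    have : d ∈ Cfsg.charDegrees (SL2 F) := by
      rcases hS with ⟨⟨e⟩⟩ | ⟨⟨e⟩⟩
      · exact psl_cd_subset (Cfsg.Agent.H24.cd_eq_of_mulEquiv e ▸ hd)
      · exact Cfsg.Agent.H24.cd_eq_of_mulEquiv e ▸ hd
    have := sl_cd_cases this
    omega
  have hmem : ∀ d ∈ Cfsg.charDegrees (PSL2 F), d ∈ Cfsg.charDegrees S := by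
    intro d hd
    rcases hS with ⟨⟨e⟩⟩ | ⟨⟨e⟩⟩
    · exact Cfsg.Agent.H24.cd_eq_of_mulEquiv e ▸ hd
    · exact Cfsg.Agent.H24.cd_eq_of_mulEquiv e ▸ psl_cd_subset hd
  have m0 : q ∈ Cfsg.charDegrees S := hmem _ q_mem_psl_cd
  have m1 : q + 1 ∈ Cfsg.charDegrees S := hmem _ (q_add_one_mem_psl_cd fun h => by
    have h' := Nat.le_of_dvd four_pos h
    have : Fintype.card F - 1 = 3 := by omega
    rw [this] at h; omega)
  have m2 : q - 1 ∈ Cfsg.charDegrees S := hmem _ (q_sub_one_mem_psl_cd fun h => by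
    have := Nat.le_of_dvd four_pos h; omega)
  have hq2 : ∀ r : ℕ, r.Prime → r ∣ q → r = 2 := fun r hr h =>
    (Nat.prime_dvd_prime_iff_eq hr Nat.prime_two).mp (hr.dvd_of_dvd_pow (by rw [← hn]; exact h))
  constructor
  · ext r
    simp only [Cfsg.degreePrimes, Set.mem_ofPred_eq, sq_sub_one_eq]
    refine and_congr_right fun hr => ⟨?_, fun h => ?_⟩
    · rintro ⟨d, hd, h⟩
      rcases hcd d hd with rfl | rfl | rfl | rfl
      · exact h.trans (one_dvd _)
      · exact h.mul_right _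
      · exact (h.mul_left _).mul_left _
      · exact (h.mul_right _).mul_left _
    · rcases (Nat.Prime.dvd_mul hr).mp h with h | h
      · exact ⟨_, m0, h⟩
      · rcases (Nat.Prime.dvd_mul hr).mp h with h | h
        · exact ⟨_, m2, h⟩
        · exact ⟨_, m1, h⟩
  · intro r s
    refine and_congr_right fun hne => and_congr_right fun hr => and_congr_right fun hs => ⟨?_, ?_⟩
    · rintro ⟨d, hd, h⟩
      have h1 := (Dvd.intro _ rfl).trans h
      have h3 := (Dvd.intro_left _ rfl).trans h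
      rcases hcd d hd with rfl | rfl | rfl | rfl
      · exact absurd (Nat.dvd_one.mp h1) hr.one_lt.ne'
      · exact absurd ((hq2 r hr h1).trans (hq2 s hs h3).symm) hne
      · exact Or.inl ⟨h1, h3⟩
      · exact Or.inr ⟨h1, h3⟩
    · have hc : Nat.Coprime r s := (Nat.coprime_primes hr hs).mpr hne
      rintro (⟨h1, h3⟩ | ⟨h1, h3⟩)
      · exact ⟨_, m1, hc.mul_dvd_of_dvd_of_dvd h1 h3⟩
      · exact ⟨_, m2, hc.mul_dvd_of_dvd_of_dvd h1 h3⟩

end Cfsg.Agent.S4812
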