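import Cfsg.Statements.S3669
import Cfsg.Agent.S3378
import Cfsg.Agent.S4811
import Cfsg.Agent.S4812
import Cfsg.Agent.S0252

set_option autoImplicit false
open Cfsg

namespace Cfsg.Agent.S3669


/-- The character degree graph of a finite group has as vertices the primes dividing some irreducible complex character degree, two distinct primes being joined when their product divides some irreducible character degree; two groups have the same character degree graph when they have the same vertices and the same joined pairs. A finite group of order 60 with the same character degree graph as the alternating group A₅ (whose character degrees are 1, 3, 4, 5, so the graph has vertices 2, 3, 5 and no edges) is isomorphic to A₅. -/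
theorem result {G : Type*} [Group G] [Finite G] (hcard : Nat.card G = 60)
    (hΓ : Cfsg.degreePrimes G = Cfsg.degreePrimes (alternatingGroup (Fin 5)) ∧ Cfsg.degreeGraph G = Cfsg.degreeGraph (alternatingGroup (Fin 5))) : Nonempty (G ≃* alternatingGroup (Fin 5)) := by
  refine S3378.equiv_A5 hcard fun hs => ?_
  have h2 := S4811.result (G := G)
  haveI : Fact (Nat.Prime 2) := ⟨Nat.prime_two⟩
  letI : Fintype (GaloisField 2 2) := Fintype.ofFinite _
  have hF : Fintype.card (GaloisField 2 2) = 4 := by
    rw [← Nat.card_eq_fintype_card, GaloisField.card 2 2 (by norm_num)]; norm_num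
  obtain ⟨e⟩ := S0252.result hF
  obtain ⟨hp, hadj⟩ := S4812.result (GaloisField 2 2) 4 hF le_rfl
    (S := alternatingGroup (Fin 5)) (Or.inl ⟨e.symm⟩)
  rw [← hΓ.1] at hp
  rw [← hΓ.2] at hadj
  have hno : ∀ r s, ¬ (Cfsg.degreeGraph G).Adj r s := by
    intro r s h
    obtain ⟨hne, hr, hs', h1 | h1⟩ := (hadj r s).1 h
    · exact hne (((Nat.prime_dvd_prime_iff_eq hr (by norm_num)).1 h1.1).trans
        ((Nat.prime_dvd_prime_iff_eq hs' (by norm_num)).1 h1.2).symm)
    · exact hne (((Nat.prime_dvd_prime_iff_eq hr (by norm_num)).1 h1.1).trans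
        ((Nat.prime_dvd_prime_iff_eq hs' (by norm_num)).1 h1.2).symm)
  have hbot : (Cfsg.degreeGraph G).induce (Cfsg.degreePrimes G) = ⊥ := by
    ext a b
    simp only [SimpleGraph.comap_adj, SimpleGraph.bot_adj, iff_false]
    exact hno _ _
  rw [hbot] at h2
  have hfin : (Cfsg.degreePrimes G).Finite := by
    rw [hp]
    exact (Set.finite_le_nat 60).subset fun r hr => Nat.le_of_dvd (by norm_num) hr.2
  haveI : Finite (Cfsg.degreePrimes G) := hfin
  have m2 : 2 ∈ Cfsg.degreePrimes G := by rw [hp]; exact ⟨by norm_num, by norm_num⟩
  have m3 : 3 ∈ Cfsg.degreePrimes G := by rw [hp]; exact ⟨by norm_num, by norm_num⟩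
  have m5 : 5 ∈ Cfsg.degreePrimes G := by rw [hp]; exact ⟨by norm_num, by norm_num⟩
  let f : Fin 3 → (⊥ : SimpleGraph (Cfsg.degreePrimes G)).ConnectedComponent :=
    fun i => SimpleGraph.connectedComponentMk _ (![⟨2, m2⟩, ⟨3, m3⟩, ⟨5, m5⟩] i)
  have hf : Function.Injective f := by
    intro i j hij
    have := SimpleGraph.reachable_bot.1 (SimpleGraph.ConnectedComponent.exact hij)
    have h3 := congrArg Subtype.val this
    fin_cases i <;> fin_cases j <;> simp_all
  have := Nat.card_le_card_of_injective f hf
  simp at this
  omega

end Cfsg.Agent.S3669
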