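import Cfsg.Statements.S3680
import Cfsg.Agent.S0721
import Cfsg.Agent.S0550
import Cfsg.Agent.H3.Fitting

set_option autoImplicit false
open Cfsg

namespace Cfsg.Agent.S3680

/-- The socle of a finite primitive permutation group. Let a finite group G act faithfully and primitively on a set Ω, and let N be the subgroup generated by the minimal normal subgroups of G. Then either N is an elementary abelian p-group for some prime p and acts regularly on Ω (transitively with trivial point stabilizers), or N is isomorphic to a direct product of m ≥ 1 copies of a non-abelian simple group. -/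
theorem result {G Ω : Type*} [Group G] [Finite G] [MulAction G Ω] [FaithfulSMul G Ω] [Finite Ω]
    (hprim : MulAction.IsPreprimitive G Ω) (N : Subgroup G)
    (hN : N = sSup {V : Subgroup G | V.Normal ∧ V ≠ ⊥ ∧ ∀ M : Subgroup G, M.Normal → M ≤ V → M = ⊥ ∨ M = V}) :
    (∃ p : ℕ, p.Prime ∧ IsMulCommutative N ∧ (∀ x : N, x ^ p = 1) ∧
      MulAction.IsPretransitive N Ω ∧ ∀ ω : Ω, MulAction.stabilizer N ω = ⊥) ∨
    (∃ (T : Type) (_ : Group T) (m : ℕ), 1 ≤ m ∧ IsSimpleGroup T ∧ ¬ IsMulCommutative T ∧ Nonempty (N ≃* (Fin m → T))) := by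
  classical
  by_cases hG : Subsingleton G
  · left
    refine ⟨2, Nat.prime_two, ⟨⟨fun _ _ => Subsingleton.elim _ _⟩⟩, fun _ => Subsingleton.elim _ _,
      ⟨fun x y => ?_⟩, fun _ => Subsingleton.elim _ _⟩
    obtain ⟨g, rfl⟩ := MulAction.exists_smul_eq G x y
    exact ⟨1, by rw [one_smul, Subsingleton.elim g 1, one_smul]⟩
  rw [not_subsingleton_iff_nontrivial] at hG
  have hΩ : Nontrivial Ω := by
    by_contra hc
    rw [not_nontrivial_iff_subsingleton] at hc
    obtain ⟨g, hg⟩ := exists_ne (1 : G)
    exact hg (eq_of_smul_eq_smul (α := Ω) fun _ => Subsingleton.elim _ _)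
  obtain ⟨a, -⟩ := exists_pair_ne Ω
  have hK : IsCoatom (MulAction.stabilizer G a) :=
    MulAction.IsPreprimitive.isCoatom_stabilizer_of_isPreprimitive G a
  have hcore : (MulAction.stabilizer G a).normalCore = ⊥ := by
    rw [eq_bot_iff]
    intro n hn
    rw [Subgroup.mem_bot]
    refine eq_of_smul_eq_smul (α := Ω) fun b => ?_
    obtain ⟨g, rfl⟩ := MulAction.exists_smul_eq G a b
    have h1 : (g⁻¹ * n * g⁻¹⁻¹) • a = a := hn g⁻¹
    rw [inv_inv, mul_smul, mul_smul, inv_smul_eq_iff] at h1
    rw [one_smul, h1]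
  obtain ⟨A, hAn, hA, hAmin⟩ := Cfsg.Agent.H3.exists_minimal_normal G
  obtain ⟨T, iT, m, hT, hm, ⟨e⟩⟩ := Cfsg.Agent.S0721.result A hA hAmin
  have hTc : ¬ IsMulCommutative A → ¬ IsMulCommutative T := by
    intro hnab h
    apply hnab
    exact ⟨⟨fun x y => e.injective (by
      rw [map_mul, map_mul]; funext i; exact h.is_comm.comm _ _)⟩⟩
  by_cases hu : ∀ B : Subgroup G, B.Normal → B ≠ ⊥ →
      (∀ M : Subgroup G, M.Normal → M ≤ B → M = ⊥ ∨ M = B) → B = A
  · have hNA : N = A := by
      rw [hN]
      apply le_antisymm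
      · exact sSup_le fun B hB => (hu B hB.1 hB.2.1 hB.2.2).le
      · exact le_sSup ⟨hAn, hA, hAmin⟩
    subst hNA
    by_cases hc : IsMulCommutative N
    · left
      obtain ⟨-, p, hp, hpx⟩ := Cfsg.Agent.H3.minimal_normal_elementary N
        (isSolvable_of_comm hc.is_comm.comm) hA hAmin
      have htr : MulAction.IsPretransitive N Ω := by
        apply MulAction.IsQuasiPreprimitive.isPretransitive_of_normal
        intro h
        apply hA
        rw [eq_bot_iff]
        intro n hn
        rw [Subgroup.mem_bot]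
        refine eq_of_smul_eq_smul (α := Ω) fun b => ?_
        have : b ∈ MulAction.fixedPoints N Ω := h ▸ Set.mem_univ b
        rw [one_smul]
        exact this ⟨n, hn⟩
      refine ⟨p, hp, hc, fun x => Subtype.ext (hpx x x.2), htr, fun ω => ?_⟩
      rw [eq_bot_iff]
      intro n hn
      rw [Subgroup.mem_bot]
      apply Subtype.ext
      refine eq_of_smul_eq_smul (α := Ω) fun b => ?_
      obtain ⟨g, rfl⟩ := MulAction.exists_smul_eq N ω b
      have h1 : n • ω = ω := hn
      change n • g • ω = (1 : N) • g • ω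
      rw [one_smul, ← mul_smul, hc.is_comm.comm, mul_smul, h1]
    · exact Or.inr ⟨T, iT, m, hm, hT, hTc hc, ⟨e⟩⟩
  · push Not at hu
    obtain ⟨B, hBn, hB, hBmin, hBA⟩ := hu
    obtain ⟨h1, h2, -, -, hnab, ⟨eAB⟩, -⟩ :=
      Cfsg.Agent.S0550.result _ hK hcore A B hA hB hAmin hBmin hBA.symm
    have hNA : N = A ⊔ B := by
      rw [hN]
      apply le_antisymm
      · refine sSup_le fun C hC => ?_
        by_cases hCA : C = A
        · rw [hCA]; exact le_sup_left
        · haveI := hC.1
          obtain ⟨-, h3, -⟩ :=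
            Cfsg.Agent.S0550.result _ hK hcore A C hA hC.2.1 hAmin hC.2.2 (Ne.symm hCA)
          rw [← h3, h2]; exact le_sup_right
      · exact sup_le (le_sSup ⟨hAn, hA, hAmin⟩) (le_sSup ⟨hBn, hB, hBmin⟩)
    have hdisj : Disjoint A B := by
      rw [disjoint_iff]
      rcases hAmin (A ⊓ B) inferInstance inf_le_left with h | h
      · exact h
      · exfalso
        rcases hBmin A hAn (h ▸ inf_le_right) with h' | h'
        · exact hA h'
        · exact hBA h'.symm
    have hcomm : ∀ (x : A) (y : B), Commute (A.subtype x) (B.subtype y) := fun x y =>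
      Subgroup.commute_of_normal_of_disjoint A B hAn hBn hdisj x y x.2 y.2
    let f : A × B →* G := MonoidHom.noncommCoprod A.subtype B.subtype hcomm
    have hf : Function.Injective f := by
      rw [injective_iff_map_eq_one]
      rintro ⟨x, y⟩ hxy
      have h3 : (x : G) * y = 1 := hxy
      have h4 : (x : G) ∈ B := by
        rw [eq_inv_of_mul_eq_one_left h3]; exact B.inv_mem y.2
      have h5 : (x : G) = 1 := (Subgroup.disjoint_def.1 hdisj) x.2 h4
      rw [h5, one_mul] at h3
      exact Prod.ext (Subtype.ext h5) (Subtype.ext h3)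
    have hr : f.range = N := by
      rw [hNA, MonoidHom.noncommCoprod_range, Subgroup.range_subtype, Subgroup.range_subtype]
    right
    refine ⟨T, iT, m + m, by omega, hT, hTc hnab, ⟨?_⟩⟩
    refine (MulEquiv.subgroupCongr hr.symm).trans ((MonoidHom.ofInjective hf).symm.trans
      ((MulEquiv.prodCongr e (eAB.symm.trans e)).trans ?_))
    exact (MulEquiv.ofBijective (M := Fin m ⊕ Fin m → T)
      (MonoidHom.prod (MonoidHom.pi fun i => Pi.evalMonoidHom _ (Sum.inl i))
        (MonoidHom.pi fun i => Pi.evalMonoidHom _ (Sum.inr i)))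
      (Equiv.sumArrowEquivProdArrow (Fin m) (Fin m) T).bijective).symm.trans
      (MulEquiv.arrowCongr finSumFinEquiv (MulEquiv.refl T))

end Cfsg.Agent.S3680
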