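import Cfsg.Statements.S3687
import Cfsg.Agent.H36.AltAm
import Cfsg.Agent.S3682
import Cfsg.Agent.H62.Suborbit2
import Cfsg.Agent.H33.ThompsonWielandt

set_option autoImplicit false
open Cfsg

namespace Cfsg.Agent.S3687

section
open Subgroup Equiv MulAction H36.AltQ
open scoped Pointwise

theorem range_mem {Y : Type*} [Group Y] {d e : ℕ} (f : Y →* Perm (Fin d)) (θ : Y →* Perm (Fin e))
    (h1 : ∀ τ ∈ alternatingGroup (Fin d), ∃ m, f m = τ ∧ θ m = 1)
    (h2 : ∀ τ ∈ alternatingGroup (Fin e), ∃ m, f m = 1 ∧ θ m = τ) (m : Y) (p : Perm (Fin d))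
    (q : Perm (Fin e)) (hp : Perm.sign p = Perm.sign (f m)) (hq : Perm.sign q = Perm.sign (θ m)) :
    (p, q) ∈ (f.prod θ).range := by
  obtain ⟨a, ha, ha'⟩ := h1 (p * (f m)⁻¹) (by rw [Perm.mem_alternatingGroup, map_mul, hp]; simp)
  obtain ⟨b, hb, hb'⟩ := h2 (q * (θ m)⁻¹) (by rw [Perm.mem_alternatingGroup, map_mul, hq]; simp)
  refine ⟨a * b * m, ?_⟩
  simp [ha, ha', hb, hb']

theorem iso_cases {Y : Type*} [Group Y] {d e : ℕ} (hd : 2 ≤ d) (f : Y →* Perm (Fin d))
    (θ : Y →* Perm (Fin e)) (h0 : ∀ m, f m = 1 → θ m = 1 → m = 1)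
    (h1 : ∀ τ ∈ alternatingGroup (Fin d), ∃ m, f m = τ ∧ θ m = 1)
    (h2 : ∀ τ ∈ alternatingGroup (Fin e), ∃ m, f m = 1 ∧ θ m = τ) :
    (f.range ≤ alternatingGroup (Fin d) → θ.range ≤ alternatingGroup (Fin e) →
      Nonempty (Y ≃* alternatingGroup (Fin d) × alternatingGroup (Fin e))) ∧
    (f.range = ⊤ → Nonempty (Y ≃* Perm (Fin d) × Perm (Fin e)) ∨
      Nonempty (Y ≃* Perm (Fin d) × alternatingGroup (Fin e)) ∨
      Nonempty (Y ≃* ((Perm.sign.comp (MonoidHom.fst (Perm (Fin d)) (Perm (Fin e)))) *
         (Perm.sign.comp (MonoidHom.snd (Perm (Fin d)) (Perm (Fin e))))).ker)) := by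
  have hinj : Function.Injective (f.prod θ) := by
    rw [injective_iff_map_eq_one]
    intro m hm
    exact h0 m (congrArg Prod.fst hm) (congrArg Prod.snd hm)
  let E := MonoidHom.ofInjective hinj
  refine ⟨fun ha hb => ?_, fun ht => ?_⟩
  · have : (f.prod θ).range = (alternatingGroup (Fin d)).prod (alternatingGroup (Fin e)) := by
      apply le_antisymm
      · rintro _ ⟨m, rfl⟩
        exact ⟨ha ⟨m, rfl⟩, hb ⟨m, rfl⟩⟩
      · rintro ⟨p, q⟩ ⟨hp, hq⟩
        exact range_mem f θ h1 h2 1 p q (by simpa using hp) (by simpa using hq)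
    exact ⟨(E.trans (MulEquiv.subgroupCongr this)).trans (prodEquiv _ _)⟩
  haveI : Nontrivial (Fin d) := Fin.nontrivial_iff_two_le.mpr hd
  obtain ⟨τ, hτ⟩ := Perm.sign_surjective (Fin d) (-1)
  obtain ⟨m₀, hm₀⟩ : τ ∈ f.range := ht ▸ mem_top τ
  have hs₀ : Perm.sign (f m₀) = -1 := by rw [hm₀, hτ]
  by_cases hc : ∃ m, Perm.sign (f m) = 1 ∧ Perm.sign (θ m) = -1
  · left
    obtain ⟨m₁, ha, hb⟩ := hc
    have : (f.prod θ).range = ⊤ := by
      rw [eq_top_iff]
      rintro ⟨p, q⟩ -
      rcases Int.units_eq_one_or (Perm.sign p) with hp | hp <;>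
        rcases Int.units_eq_one_or (Perm.sign q) with hq | hq <;>
        rcases Int.units_eq_one_or (Perm.sign (θ m₀)) with hr | hr
      · exact range_mem f θ h1 h2 1 p q (by simpa using hp) (by simpa using hq)
      · exact range_mem f θ h1 h2 1 p q (by simpa using hp) (by simpa using hq)
      · exact range_mem f θ h1 h2 m₁ p q (by rw [hp, ha]) (by rw [hq, hb])
      · exact range_mem f θ h1 h2 m₁ p q (by rw [hp, ha]) (by rw [hq, hb])
      · exact range_mem f θ h1 h2 m₀ p q (by rw [hp, hs₀]) (by rw [hq, hr])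
      · exact range_mem f θ h1 h2 (m₀ * m₁) p q (by simp [hp, hs₀, ha]) (by simp [hq, hr, hb])
      · exact range_mem f θ h1 h2 (m₀ * m₁) p q (by simp [hp, hs₀, ha]) (by simp [hq, hr, hb])
      · exact range_mem f θ h1 h2 m₀ p q (by rw [hp, hs₀]) (by rw [hq, hr])
    exact ⟨(E.trans (MulEquiv.subgroupCongr this)).trans topEquiv⟩
  right
  have hc' : ∀ m, Perm.sign (f m) = 1 → Perm.sign (θ m) = 1 := fun m hm =>
    (Int.units_eq_one_or _).resolve_right fun h => hc ⟨m, hm, h⟩
  rcases Int.units_eq_one_or (Perm.sign (θ m₀)) with hr | hr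
  · left
    have : (f.prod θ).range = (⊤ : Subgroup (Perm (Fin d))).prod (alternatingGroup (Fin e)) := by
      apply le_antisymm
      · rintro _ ⟨m, rfl⟩
        refine ⟨mem_top _, ?_⟩
        show Perm.sign (θ m) = 1
        rcases Int.units_eq_one_or (Perm.sign (f m)) with hp | hp
        · exact hc' m hp
        · have := hc' (m * m₀) (by simp [hp, hs₀])
          simpa [hr] using this
      · rintro ⟨p, q⟩ ⟨-, hq⟩
        have hq' : Perm.sign q = 1 := hq
        rcases Int.units_eq_one_or (Perm.sign p) with hp | hp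
        · exact range_mem f θ h1 h2 1 p q (by simpa using hp) (by simpa using hq')
        · exact range_mem f θ h1 h2 m₀ p q (by rw [hp, hs₀]) (by rw [hq', hr])
    exact ⟨((E.trans (MulEquiv.subgroupCongr this)).trans (prodEquiv _ _)).trans
      (MulEquiv.prodCongr topEquiv (MulEquiv.refl _))⟩
  · right
    have : (f.prod θ).range = ((Perm.sign.comp (MonoidHom.fst (Perm (Fin d)) (Perm (Fin e)))) *
         (Perm.sign.comp (MonoidHom.snd (Perm (Fin d)) (Perm (Fin e))))).ker := by
      apply le_antisymm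
      · rintro _ ⟨m, rfl⟩
        show Perm.sign (f m) * Perm.sign (θ m) = 1
        rcases Int.units_eq_one_or (Perm.sign (f m)) with hp | hp
        · rw [hp, hc' m hp, mul_one]
        · have := hc' (m * m₀) (by simp [hp, hs₀])
          rw [map_mul, map_mul, hr] at this
          have h3 : Perm.sign (θ m) = -1 := by
            rcases Int.units_eq_one_or (Perm.sign (θ m)) with h | h
            · rw [h] at this; simp at this
            · exact h
          rw [hp, h3]; simp
      · rintro ⟨p, q⟩ hpq
        have hpq' : Perm.sign p * Perm.sign q = 1 := hpq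
        rcases Int.units_eq_one_or (Perm.sign p) with hp | hp <;>
          rcases Int.units_eq_one_or (Perm.sign q) with hq | hq
        · exact range_mem f θ h1 h2 1 p q (by simpa using hp) (by simpa using hq)
        · rw [hp, hq] at hpq'; simp at hpq'
        · rw [hp, hq] at hpq'; simp at hpq'
        · exact range_mem f θ h1 h2 m₀ p q (by rw [hp, hs₀]) (by rw [hq, hr])
    exact ⟨E.trans (MulEquiv.subgroupCongr this)⟩

noncomputable def ff {G Ω : Type*} [Group G] [MulAction G Ω] (a b : Ω) {d : ℕ}
    (e : orbit (stabilizer G a) b ≃ Fin d) : stabilizer G a →* Perm (Fin d) :=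
  e.permCongrHom.toMonoidHom.comp (toPermHom (stabilizer G a) (orbit (stabilizer G a) b))

theorem ff_index {G Ω : Type*} [Group G] [MulAction G Ω] (a b : Ω) {d : ℕ}
    (e : orbit (stabilizer G a) b ≃ Fin d) :
    (ff a b e).range.index = (toPermHom (stabilizer G a) (orbit (stabilizer G a) b)).range.index := by
  rw [ff, MonoidHom.range_comp]
  exact index_map_of_bijective e.permCongrHom.bijective _

theorem ff_ker {G Ω : Type*} [Group G] [MulAction G Ω] (a b : Ω) {d : ℕ}
    (e : orbit (stabilizer G a) b ≃ Fin d) (m : stabilizer G a) :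
    ff a b e m = 1 ↔ (m : G) ∈ H62.coreIn (stabilizer G a) (stabilizer G a ⊓ stabilizer G b) := by
  rw [← H62.mem_ker_suborbit_iff, ff, MonoidHom.comp_apply, MulEquiv.coe_toMonoidHom,
    MulEquiv.map_eq_one_iff, MonoidHom.mem_ker]

theorem ff_loc {G Ω : Type*} [Group G] [MulAction G Ω] (a b : Ω) {d : ℕ}
    (e : orbit (stabilizer G a) b ≃ Fin d) (h : alternatingGroup (Fin d) ≤ (ff a b e).range) :
    Loc d (stabilizer G a) (stabilizer G a ⊓ stabilizer G b)
      (H62.coreIn (stabilizer G a) (stabilizer G a ⊓ stabilizer G b)) (ff a b e)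
      (e ⟨b, mem_orbit_self b⟩) := by
  refine ⟨H62.coreIn_le_left _ _, inf_le_left, h, ff_ker a b e, fun m => ?_⟩
  simp only [ff, MonoidHom.comp_apply, MulEquiv.coe_toMonoidHom, permCongrHom_coe, permCongr_apply,
    symm_apply_apply, EmbeddingLike.apply_eq_iff_eq, toPermHom_apply, toPerm_apply, Subtype.ext_iff]
  exact ⟨fun h => ⟨m.2, h⟩, fun h => h.2⟩

theorem hc_of {G : Type*} [Group G] {M E : Subgroup G} (hE : E ≤ M) (h : H62.coreIn M E = ⊥) (y : G)
    (hy : ∀ m ∈ M, y ∈ MulAut.conj m • E) : y = 1 := by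
  rw [← mem_bot, ← h, H62.mem_coreIn]
  refine ⟨hE (by simpa using hy 1 (one_mem _)), fun m hm => ?_⟩
  have := H8.mem_conj_smul.mp (hy m⁻¹ (M.inv_mem hm))
  rwa [inv_inv] at this

end

/-- Let a finite group G act faithfully and primitively on a set Ω, let a and b be points such that the orbit Δ of b under the stabilizer H of a has d ≥ 6 elements, and suppose that the permutation group induced by H on Δ contains the alternating group of Δ (the image of H in the symmetric group of Δ has index at most 2) while H does not act faithfully on Δ. Then either H induces exactly the alternating group of Δ and H is isomorphic to the direct product of the alternating groups of degrees d and d - 1; or H induces the full symmetric group of Δ and H is isomorphic to one of: the direct product of the symmetric groups of degrees d and d - 1, the direct product of the symmetric group of degree d with the alternating group of degree d - 1, or the subgroup of the direct product of the symmetric groups of degrees d and d - 1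 consisting of the pairs of permutations with equal signs. -/
theorem result {G Ω : Type*} [Group G] [Finite G] [MulAction G Ω] [FaithfulSMul G Ω] [Finite Ω]
    (hprim : MulAction.IsPreprimitive G Ω) (a b : Ω) (d : ℕ) (hd : Nat.card (MulAction.orbit (MulAction.stabilizer G a) b) = d) (h6 : 6 ≤ d)
    (halt : (MulAction.toPermHom (MulAction.stabilizer G a) (MulAction.orbit (MulAction.stabilizer G a) b)).range.index ≤ 2)
    (hunf : ¬ Function.Injective (MulAction.toPermHom (MulAction.stabilizer G a) (MulAction.orbit (MulAction.stabilizer G a) b))) :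
    ((MulAction.toPermHom (MulAction.stabilizer G a) (MulAction.orbit (MulAction.stabilizer G a) b)).range.index = 2 ∧
      Nonempty (MulAction.stabilizer G a ≃* alternatingGroup (Fin d) × alternatingGroup (Fin (d - 1)))) ∨
    ((MulAction.toPermHom (MulAction.stabilizer G a) (MulAction.orbit (MulAction.stabilizer G a) b)).range = ⊤ ∧
      (Nonempty (MulAction.stabilizer G a ≃* Equiv.Perm (Fin d) × Equiv.Perm (Fin (d - 1))) ∨
       Nonempty (MulAction.stabilizer G a ≃* Equiv.Perm (Fin d) × alternatingGroup (Fin (d - 1))) ∨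
       Nonempty (MulAction.stabilizer G a ≃* ((Equiv.Perm.sign.comp (MonoidHom.fst (Equiv.Perm (Fin d)) (Equiv.Perm (Fin (d - 1))))) *
         (Equiv.Perm.sign.comp (MonoidHom.snd (Equiv.Perm (Fin d)) (Equiv.Perm (Fin (d - 1)))))).ker))) := by
  classical
  haveI : Finite (MulAction.orbit (MulAction.stabilizer G a) b) := inferInstance
  have hne := H62.stabilizer_ne_of_two_le (G := G) a b (by omega)
  have hab : a ≠ b := fun h => hne (by rw [h])
  haveI : Nontrivial Ω := ⟨⟨a, b, hab⟩⟩
  obtain ⟨σ, hσ⟩ := MulAction.exists_smul_eq G a b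
  have hd' : Nat.card (MulAction.orbit (MulAction.stabilizer G b) a) = d := by
    rw [← H62.relIndex_inf_stabilizer, inf_comm, H62.relIndex_inf_stabilizer', hd]
  let e := Finite.equivFinOfCardEq hd
  let e' := Finite.equivFinOfCardEq hd'
  haveI : Nontrivial (Fin d) := Fin.nontrivial_iff_two_le.mpr (by omega)
  have hl1 := ff_loc a b e (Equiv.Perm.alternatingGroup_le_of_index_le_two (by rw [ff_index]; exact halt))
  have hs := (congrArg (MulAction.stabilizer G) hσ.symm).trans
    ((MulAction.stabilizer_smul_eq_stabilizer_map_conj σ a).trans (H8.map_conj_eq_smul _ _))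
  have hgen : ∀ N : Subgroup G, N ≤ MulAction.stabilizer G a →
      MulAction.stabilizer G a ≤ Subgroup.normalizer (N : Set G) →
      MulAction.stabilizer G b ≤ Subgroup.normalizer (N : Set G) → N = ⊥ := fun N h1 h2 h3 =>
    H33.eq_bot_of_le_normalizer (MulAction.IsPreprimitive.isCoatom_stabilizer_of_isPreprimitive G a)
      (H62.stabilizer_normalCore_eq_bot a)
      (MulAction.IsPreprimitive.isCoatom_stabilizer_of_isPreprimitive G b) hne h1 h2 h3
  have hl2 := ff_loc b a e' (H36.AltQ.alt_le_range (by omega) hs hgen hl1.aq _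
    (fun m hm => (H62.coreIn_le_right _ _ ((ff_ker b a e' m).mp hm)).2))
  rw [inf_comm (MulAction.stabilizer G b)] at hl2
  have hA : H36.AltQ.Am d _ _ _ _ _ σ := ⟨h6, hs, fun N h1 => hgen N (h1.trans inf_le_left), ⟨_, _, hl1⟩,
    ⟨_, _, hl2⟩, fun h0 => hunf (by
      rw [injective_iff_map_eq_one]
      intro m hm
      have := (H62.mem_ker_suborbit_iff a b m).mp hm
      rw [h0] at this
      exact Subtype.ext this)⟩
  have hE : H62.coreIn (MulAction.stabilizer G a) (MulAction.stabilizer G a ⊓ MulAction.stabilizer G b) ⊓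
      H62.coreIn (MulAction.stabilizer G b) (MulAction.stabilizer G a ⊓ MulAction.stabilizer G b) = ⊥ := by
    rcases S3682.tw_dichotomy hprim a b d hd (by omega) with (h | h) | ⟨p, hp, h1, h2, -⟩
    · exact hA.E1 (hc_of (inf_le_left.trans hA.a1.1) h)
    · rw [inf_comm] at h ⊢
      exact hA.symm.E1 (hc_of (inf_le_left.trans hA.a2.1) h)
    · exact absurd (hA.no_p hp h2 ((H62.coreIn_le_right _ _).trans inf_le_left)
        (H62.le_normalizer_coreIn _ _)) h1
  obtain ⟨θ, h0, h1, h2, h3⟩ := hA.theta hE hl1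
  obtain ⟨c1, c2⟩ := iso_cases (by omega) _ θ h0 h1 h2
  have hi := ff_index a b e
  have hpos : (ff a b e).range.index ≠ 0 := Subgroup.index_ne_zero_of_finite
  by_cases hi2 : (ff a b e).range.index = 2
  · left
    exact ⟨hi ▸ hi2, c1 (Equiv.Perm.eq_alternatingGroup_of_index_eq_two hi2).le (h3 hi2)⟩
  · right
    have hi1 : (ff a b e).range.index = 1 := by omega
    exact ⟨Subgroup.index_eq_one.mp (hi ▸ hi1), c2 (Subgroup.index_eq_one.mp hi1)⟩

end Cfsg.Agent.S3687
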