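import Cfsg.Statements.S3693
import Cfsg.Agent.S3682
import Cfsg.Agent.H62.Suborbit2

set_option autoImplicit false
open Cfsg

namespace Cfsg.Agent.S3693

/-- Let a finite group G act faithfully and primitively on a set Ω, let a and b be points such that the orbit Δ of b under the stabilizer H of a has length d ≥ 2, and consider the permutation group induced on Δ by the elements of H fixing b. If that induced group has trivial Fitting subgroup (no non-trivial nilpotent normal subgroup), then the two-point stabilizer of a and b has trivial Fitting subgroup and the order of H divides d! · ((d - 1)!)^d. -/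
theorem result {G Ω : Type*} [Group G] [Finite G] [MulAction G Ω] [FaithfulSMul G Ω] [Finite Ω]
    (hprim : MulAction.IsPreprimitive G Ω) (a b : Ω) (d : ℕ) (hd : Nat.card (MulAction.orbit (MulAction.stabilizer G a) b) = d) (h2 : 2 ≤ d)
    (hF : Cfsg.fittingSubgroup ↥(((MulAction.stabilizer G b).subgroupOf (MulAction.stabilizer G a)).map (MulAction.toPermHom (MulAction.stabilizer G a) (MulAction.orbit (MulAction.stabilizer G a) b))) = ⊥) :
    Cfsg.fittingSubgroup ↥(MulAction.stabilizer G a ⊓ MulAction.stabilizer G b) = ⊥ ∧
      Nat.card (MulAction.stabilizer G a) ∣ Nat.factorial d * (Nat.factorial (d - 1)) ^ d := by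
  have hab : a ≠ b := fun h => H62.stabilizer_ne_of_two_le (G := G) a b (hd ▸ h2) (by rw [h])
  have h1 : ∀ p : ℕ, p.Prime → pCoreOf p (MulAction.stabilizer G a ⊓ MulAction.stabilizer G b) = ⊥ :=
    fun p hp => H62.pCoreOf_inf_eq_bot_of_fitting a b hab p hp (H3.fitting_eq_bot_iff.1 hF p hp)
  refine ⟨H3.fitting_eq_bot_iff.2 fun p hp => ?_, ?_⟩
  · rw [← H84.pCoreOf_subgroupOf, h1 p hp, Subgroup.bot_subgroupOf]
  · rcases S3682.tw_dichotomy hprim a b d hd h2 with h | ⟨p, hp, hne, hP, -⟩
    · exact S3682.card_dvd_of_bot a b d hd h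
    · exfalso
      apply hne
      rw [eq_bot_iff, ← h1 p hp]
      refine H84.le_pCoreOf ((H62.coreIn_le_right _ _).trans (inf_le_left.trans (H62.coreIn_le_right _ _)))
        (inf_le_left.trans (H62.le_normalizer_coreIn _ _)) hP

end Cfsg.Agent.S3693
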