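import Cfsg.Statements.S3758
import Cfsg.Agent.H93.ZC
import Cfsg.Agent.S0518
import Cfsg.Agent.S3224
import Cfsg.Agent.H77.Syl2

set_option autoImplicit false
open Cfsg

namespace Cfsg.Agent.S3758

open Cfsg Subgroup H72 Equiv
open scoped Pointwise

theorem s4_facts :
    (∀ x : Perm (Fin 4), x = 1 ∨ (x = swap 0 1 * swap 2 3 ∨ x = swap 0 2 * swap 1 3 ∨
      x = swap 0 1 * swap 2 3 * (swap 0 2 * swap 1 3)) ∨
      ∃ g, (x * (g * x * g⁻¹)) ^ 3 = 1 ∧ x * (g * x * g⁻¹) ≠ 1) ∧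
    (∀ x : Perm (Fin 4), (x = swap 0 1 * swap 2 3 ∨ x = swap 0 2 * swap 1 3 ∨
      x = swap 0 1 * swap 2 3 * (swap 0 2 * swap 1 3)) →
      (∃ g, g * x * g⁻¹ = swap 0 1 * swap 2 3) ∧ ∃ g, g * x * g⁻¹ = swap 0 2 * swap 1 3) ∧
    (∀ x : Perm (Fin 4), x * (swap 0 1 * swap 2 3) = swap 0 1 * swap 2 3 * x →
      x * (swap 0 2 * swap 1 3) = swap 0 2 * swap 1 3 * x →
      x = 1 ∨ x = swap 0 1 * swap 2 3 ∨ x = swap 0 2 * swap 1 3 ∨
      x = swap 0 1 * swap 2 3 * (swap 0 2 * swap 1 3)) := by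
  refine ⟨?_, ?_, ?_⟩ <;> decide +kernel

theorem sylow_of_S4 {K : Type*} [Group K] [Finite K] {M : Subgroup K} (hM : IsTwoLocal M)
    (e : M ≃* Perm (Fin 4)) (R : Sylow 2 K) :
    (∃ n : ℕ, 2 ≤ n ∧ Nonempty (R ≃* DihedralGroup n)) ∨ IsQuasiDihedral R := by
  obtain ⟨T, hT, hT1, rfl⟩ := hM
  obtain ⟨f1, f2, f3⟩ := s4_facts
  set a0 : Perm (Fin 4) := swap 0 1 * swap 2 3 with ha0
  set b0 : Perm (Fin 4) := swap 0 2 * swap 1 3 with hb0
  let φ : Perm (Fin 4) →* K := (normalizer (T : Set K)).subtype.comp e.symm.toMonoidHom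
  have hφ : Function.Injective φ := Subtype.val_injective.comp e.symm.injective
  have hsurj : ∀ x ∈ normalizer (T : Set K), ∃ y, φ y = x := fun x hx => ⟨e ⟨x, hx⟩, by simp [φ]⟩
  have hN : ∀ y, φ y ∈ normalizer (T : Set K) := fun y => (e.symm y).2
  have hconj : ∀ x g, φ x ∈ T → φ (g * x * g⁻¹) ∈ T := fun x g hx => by
    rw [map_mul, map_mul, map_inv]
    exact (mem_normalizer_iff.1 (hN g) _).1 hx
  have hI0 : Inv2 a0 b0 := ⟨by decide, by decide, by decide, by decide, by decide, by decide⟩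
  have hI : Inv2 (φ a0) (φ b0) := ⟨by rw [← map_mul, hI0.sa, map_one], by rw [← map_mul, hI0.sb, map_one],
    fun h => hI0.na (hφ (by rw [h, map_one])), fun h => hI0.nb (hφ (by rw [h, map_one])),
    fun h => hI0.ne (hφ h), by rw [← map_mul, hI0.comm, map_mul]⟩
  have key : ∀ x, φ x ∈ T → x = 1 ∨ x = a0 ∨ x = b0 ∨ x = a0 * b0 := fun x hx => by
    rcases f1 x with h | h | ⟨g, h3, h1⟩
    · exact Or.inl h
    · exact Or.inr h
    · refine absurd (hφ ((H8.eq_one_of_mem_of_coprime hT (g := φ (x * (g * x * g⁻¹)))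
        (by rw [map_mul]; exact T.mul_mem hx (hconj x g hx)) ?_).trans (map_one φ).symm)) h1
      rw [orderOf_injective φ hφ]
      exact Nat.Coprime.coprime_dvd_left (orderOf_dvd_of_pow_eq_one h3) (by norm_num)
  obtain ⟨x, hxT, hx1⟩ := (Subgroup.bot_or_exists_ne_one T).resolve_left hT1
  obtain ⟨y, rfl⟩ := hsurj x (le_normalizer hxT)
  obtain ⟨⟨g, hg⟩, g', hg'⟩ := f2 y ((key y hxT).resolve_left fun h => hx1 (by rw [h, map_one]))
  have haT : φ a0 ∈ T := hg ▸ hconj y g hxT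
  have hbT : φ b0 ∈ T := hg' ▸ hconj y g' hxT
  have hmem : ∀ y, y = 1 ∨ y = a0 ∨ y = b0 ∨ y = a0 * b0 → φ y ∈ four (φ a0) (φ b0) := fun y hy => by
    rw [hI.mem_iff]
    rcases hy with rfl | rfl | rfl | rfl <;> simp
  have hT4 : T = four (φ a0) (φ b0) := le_antisymm (fun x hx => by
    obtain ⟨y, rfl⟩ := hsurj x (le_normalizer hx)
    exact hmem y (key y hx)) (four_le haT hbT)
  have hC : ∀ x, x * φ a0 = φ a0 * x → x * φ b0 = φ b0 * x → x ∈ four (φ a0) (φ b0) := by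
    intro x ha hb
    have hx : x ∈ normalizer (T : Set K) := centralizer_le_normalizer _ fun t ht => by
      rw [SetLike.mem_coe, hT4, hI.mem_iff] at ht
      rcases ht with rfl | rfl | rfl | rfl
      · simp
      · exact ha.symm
      · exact hb.symm
      · rw [mul_assoc, ← hb, ← mul_assoc, ← ha, mul_assoc]
    obtain ⟨y, rfl⟩ := hsurj x hx
    exact hmem y (f3 y (hφ (by rw [map_mul φ y, map_mul φ a0, ha]))
      (hφ (by rw [map_mul φ y, map_mul φ b0, hb])))
  obtain ⟨R', hR'⟩ := hT.exists_le_sylow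
  have h8 : 8 ∣ Nat.card R' := by
    refine (H8.isSylowIn_top R').card_eq ▸ (pow_dvd_pow 2 ?_ : 2 ^ 3 ∣ _)
    refine (Nat.prime_two.pow_dvd_iff_le_factorization Nat.card_pos.ne').1 ?_
    rw [card_top]
    refine dvd_trans ?_ (card_subgroup_dvd_card (normalizer (T : Set K)))
    rw [Nat.card_congr e.toEquiv, Nat.card_perm]
    simp
    decide
  generalize φ a0 = a at *
  generalize φ b0 = b at *
  obtain ⟨z, hzR, hz1, hzc⟩ := H5.exists_ne_one_mem_centralizer_of_isPGroup R'.isPGroup' R'.isPGroup'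
    (fun h => hT1 (le_bot_iff.1 (h ▸ hR'))) le_normalizer
  have hz := hC z (hzc a (hR' haT)).symm (hzc b (hR' hbT)).symm
  obtain ⟨u, hu2, huT, hu⟩ : ∃ u, orderOf u = 2 ∧ u ∈ T ∧ ∀ r ∈ (R' : Subgroup K), r * u = u * r →
      r * a = a * r ∧ r * b = b * r := by
    rcases ((hI.mem_iff z).1 hz).resolve_left hz1 with rfl | rfl | rfl
    · exact ⟨b, ord2 hI.sb hI.nb, hbT, fun r hr h => ⟨hzc r hr, h⟩⟩
    · exact ⟨a, ord2 hI.sa hI.na, haT, fun r hr h => ⟨h, hzc r hr⟩⟩
    · refine ⟨a, ord2 hI.sa hI.na, haT, fun r hr h => ⟨h, mul_left_cancel (a := a) ?_⟩⟩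
      rw [← mul_assoc, ← h, mul_assoc, hzc r hr, mul_assoc]
  have hc4 : Nat.card (centralizer ({⟨u, hR' huT⟩} : Set (R' : Subgroup K))) = 4 := by
    have : centralizer ({⟨u, hR' huT⟩} : Set (R' : Subgroup K)) = T.subgroupOf R' := by
      ext r
      rw [mem_c1, mem_subgroupOf, Subtype.ext_iff]
      refine ⟨fun h => hT4 ▸ hC r (hu r r.2 h).1 (hu r r.2 h).2, fun h => ?_⟩
      rw [hT4] at h huT
      have := congrArg Subtype.val (hI.klein.isMulCommutative.is_comm.comm (⟨r, h⟩ : four a b) ⟨u, huT⟩)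
      exact this
    rw [this, Nat.card_congr (subgroupOfEquivOfLe hR').toEquiv, hT4, hI.card]
  have ε := Sylow.equiv R' R
  rcases S3224.result R'.isPGroup' ⟨u, hR' huT⟩ (by rwa [orderOf_mk]) hc4 with ⟨n, ⟨d⟩⟩ | h | h
  · refine Or.inl ⟨n, ?_, ⟨ε.symm.trans d⟩⟩
    have h1 := Nat.card_congr d.toEquiv
    rw [DihedralGroup.nat_card] at h1
    have h2 := Nat.le_of_dvd Nat.card_pos h8
    omega
  · exact Or.inr (H77.isQuasiDihedral_of_mulEquiv ε h)
  · rw [h] at h8
    exact absurd h8 (by decide)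

/-- Let G be a finite group of even order in which every 2-local subgroup is solvable and C_G(Ω₁(Z(S))) ≤ N_G(S) for every Sylow 2-subgroup S, and suppose O_{2'}(G) = 1 = O₂(G). Fix a Sylow 2-subgroup S, put Z = Ω₁(Z(S)), H = O²(G) (generated by the elements of odd order) and R = S ∩ H. Then one of the following holds: H has a strongly embedded subgroup; R is dihedral (of order at least 4) or semidihedral; Z ∩ R has order 2 and is weakly closed in R with respect to H; or Z has order 4 and is exactly the subgroup generated by the involutions of R. -/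
theorem result {G : Type*} [Group G] [Finite G] (heven : Even (Nat.card G)) (hN : ∀ L : Subgroup G, Cfsg.IsTwoLocal L → Group.IsSolvable L) (hZ : ∀ S : Sylow 2 G, Subgroup.centralizer (Cfsg.omegaOne 2 ((S : Subgroup G) ⊓ Subgroup.centralizer ((S : Subgroup G) : Set G)) : Set G) ≤ Subgroup.normalizer ((S : Subgroup G) : Set G)) (hO' : Cfsg.pPrimeCore 2 G = ⊥) (hO : Cfsg.pCore 2 G = ⊥) (S : Sylow 2 G) : (∃ M : Subgroup ↥(Cfsg.pResidual 2 G), Cfsg.IsStronglyEmbedded M) ∨ ((∃ n : ℕ, 2 ≤ n ∧ Nonempty (↥((S : Subgroup G) ⊓ Cfsg.pResidual 2 G) ≃* DihedralGroup n)) ∨ Cfsg.IsQuasiDihedral ↥((S : Subgroup G) ⊓ Cfsg.pResidual 2 G)) ∨ (Nat.card ↥(Cfsg.omegaOne 2 ((S : Subgroup G) ⊓ Subgroup.centralizer ((S : Subgroup G) : Set G)) ⊓ Cfsg.pResidual 2 G) = 2 ∧ ∀ h ∈ Cfsg.pResidual 2 G, ∀ z ∈ Cfsg.omegaOne 2 ((S : Subgroup G) ⊓ Subgroup.centralizer ((S : Subgroup G) : Set G)) ⊓ Cfsg.pResidual 2 G, h * z * h⁻¹ ∈ (S : Subgroup G) → h * z * h⁻¹ ∈ Cfsg.omegaOne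 2 ((S : Subgroup G) ⊓ Subgroup.centralizer ((S : Subgroup G) : Set G))) ∨ (Nat.card ↥(Cfsg.omegaOne 2 ((S : Subgroup G) ⊓ Subgroup.centralizer ((S : Subgroup G) : Set G))) = 4 ∧ Cfsg.omegaOne 2 ((S : Subgroup G) ⊓ Cfsg.pResidual 2 G) = Cfsg.omegaOne 2 ((S : Subgroup G) ⊓ Subgroup.centralizer ((S : Subgroup G) : Set G))) := by
  have hC : ∀ t : G, orderOf t = 2 → Group.IsSolvable (centralizer ({t} : Set G)) := fun t ht => by
    have := hN _ ⟨zpowers t, H55.isPGroup_zpowers (q := 2) (by rw [← ht, pow_orderOf_eq_one]),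
      zpowers_ne_bot.2 (fun h => by simp [h] at ht), rfl⟩
    exact Group.isSolvable_of_isSolvable_injective
      (inclusion_injective (show centralizer ({t} : Set G) ≤ normalizer (zpowers t : Set G) by
        rw [← H52.centralizer_zpowers]; exact centralizer_le_normalizer _))
  rcases H93.ZC_main heven hC hO' hO S rfl rfl (hZ S) with h | h | h | h
  · exact Or.inl h
  · exact Or.inr (Or.inr (Or.inl h))
  · exact Or.inr (Or.inr (Or.inr h))
  obtain ⟨z, hzH, hz1, hzZ⟩ := H93.exists_central_involution heven hO' hO S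
  have hn := H93.normal_sup_omegaZ S
  have hZL : omegaOne 2 ((S : Subgroup G) ⊓ centralizer ((S : Subgroup G) : Set G)) ≤
      pResidual 2 G ⊔ omegaOne 2 ((S : Subgroup G) ⊓ centralizer ((S : Subgroup G) : Set G)) :=
    le_sup_right
  have hHL : pResidual 2 G ≤
      pResidual 2 G ⊔ omegaOne 2 ((S : Subgroup G) ⊓ centralizer ((S : Subgroup G) : Set G)) :=
    le_sup_left
  generalize pResidual 2 G ⊔ omegaOne 2 ((S : Subgroup G) ⊓ centralizer ((S : Subgroup G) : Set G)) = L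
    at h hn hZL hHL
  have hres : pResidual 2 L = closure {g : L | Odd (orderOf g)} := by
    unfold pResidual
    simp only [Nat.coprime_two_right]
  rcases S0518.result h (by rw [← H3.pCore_subgroupOf_eq, hO, bot_subgroupOf])
    (fun N ⟨T, hT, hT1, hNT⟩ => by
      have := hN _ ⟨T.map L.subtype, hT.map _, fun e => hT1 ((map_eq_bot_iff_of_injective _
        L.subtype_injective).1 e), rfl⟩
      exact Group.isSolvable_of_isSolvable_injective (f := (L.subtype.comp N.subtype).codRestrict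
        (normalizer ((T.map L.subtype : Subgroup G) : Set G)) fun x =>
          le_normalizer_map L.subtype ⟨x, hNT ▸ x.2, rfl⟩)
        fun a b hab => by
          have := congrArg (fun x : normalizer ((T.map L.subtype : Subgroup G) : Set G) => (x : G)) hab
          exact Subtype.ext (Subtype.ext this))
    (fun S0 c hc => by
      obtain ⟨g, hgL, hg⟩ := (H8.isSylowIn_inf_normal S L).exists_conj_eq (H8.isSylowIn_map_subtype S0)
      have hmem : ∀ x : L, x ∈ (S0 : Subgroup L) ↔ g⁻¹ * x * g ∈ (S : Subgroup G) := fun x => by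
        rw [← mem_map_iff_mem L.subtype_injective, ← hg, H8.mem_conj_smul, mem_inf]
        exact ⟨fun h => h.1, fun h => ⟨h, L.mul_mem (L.mul_mem (L.inv_mem hgL) x.2) hgL⟩⟩
      have h1 : g⁻¹ * c * g ∈ normalizer ((S : Subgroup G) : Set G) := hZ S fun w hw => by
        obtain ⟨hwS, hwc, hw2⟩ := H93.mem_omegaZ.1 hw
        have h2 := hc ⟨g * w * g⁻¹, hn.conj_mem w (hZL hw) g⟩ ⟨(hmem _).2 (by simpa [mul_assoc] using hwS),
          Subtype.ext (by simpa [pow_two] using conj_sq hw2 g), fun s hs => Subtype.ext (by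
            have := hwc _ ((hmem s).1 hs)
            calc (s : G) * (g * w * g⁻¹) = g * (g⁻¹ * s * g * w) * g⁻¹ := by group
              _ = g * w * g⁻¹ * s := by rw [this]; group)⟩
        have h3 : g * w * g⁻¹ * c = c * (g * w * g⁻¹) := congrArg Subtype.val h2
        calc w * (g⁻¹ * c * g) = g⁻¹ * (g * w * g⁻¹ * c) * g := by group
          _ = g⁻¹ * c * g * w := by rw [h3]; group
      refine mem_norm fun x hx => (hmem _).2 ?_
      have := (mem_normalizer_iff.1 h1 _).1 ((hmem x).1 hx)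
      simpa [mul_assoc] using this)
    _ hres with ⟨M, hM⟩ | ⟨M, -, -, hM, -, ⟨e⟩, -⟩
  · exact Or.inl (H93.SE_residual hHL hzH (ord2 (H93.mem_omegaZ.1 hzZ).2.2 hz1) hM)
  refine Or.inr (Or.inl ?_)
  let ψ : pResidual 2 L →* G := L.subtype.comp (pResidual 2 L).subtype
  have hψ : Function.Injective ψ := Subtype.val_injective.comp Subtype.val_injective
  obtain ⟨R⟩ : Nonempty (Sylow 2 (pResidual 2 L)) := inferInstance
  have hR := (H8.isSylowIn_top R).map ψ
  rw [show (⊤ : Subgroup (pResidual 2 L)).map ψ = pResidual 2 G by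
    rw [← map_map, ← MonoidHom.range_eq_map, range_subtype, H8.map_subtype_pResidual_of_le hHL]] at hR
  obtain ⟨g, -, hg⟩ := hR.exists_conj_eq (H8.isSylowIn_inf_normal S (pResidual 2 G))
  have ε : R ≃* ↥((S : Subgroup G) ⊓ pResidual 2 G) :=
    ((equivMapOfInjective _ ψ hψ).trans (equivSMul (MulAut.conj g) _)).trans (MulEquiv.subgroupCongr hg)
  rcases sylow_of_S4 hM.1 e R with ⟨n, hn, ⟨d⟩⟩ | h
  · exact Or.inl ⟨n, hn, ⟨ε.symm.trans d⟩⟩
  · exact Or.inr (H77.isQuasiDihedral_of_mulEquiv ε h)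

end Cfsg.Agent.S3758
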