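import Cfsg.Statements.S3806
import Cfsg.Agent.H90.MaxClassPow

set_option autoImplicit false
open Cfsg

namespace Cfsg.Agent.S3806

/-- Let p be a prime and S a finite p-group of order pⁿ (n ≥ 2) of maximal nilpotency class n − 1 whose sectional p-rank is exactly k (every section has p-rank at most k, and some section has p-rank k). If p ≥ k + 2 then the order of S is at most p^(2k). -/
theorem result {S : Type*} [Group S] [Finite S] (p : ℕ) [Fact p.Prime] (hS : IsPGroup p S) [Group.IsNilpotent S]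
    (n : ℕ) (hn : 2 ≤ n) (hcard : Nat.card S = p ^ n) (hmax : Group.nilpotencyClass S = n - 1)
    (k : ℕ) (hk : 1 ≤ k) (hsr : Cfsg.SectionalPRankLE p k S ∧ ¬ Cfsg.SectionalPRankLE p (k - 1) S)
    (hpk : k + 2 ≤ p) : Nat.card S ≤ p ^ (2 * k) := by
  have hp : p.Prime := Fact.out
  have h := H90.maxCl_of_nilpotencyClass hn hcard hmax
  rw [hcard]
  refine Nat.pow_le_pow_right hp.pos (not_lt.1 fun hlt => ?_)
  have key : ∀ H N : Subgroup S, N.Normal → N ≤ H → ⁅H, H⁆ ≤ N → (∀ x ∈ H, x ^ p ∈ N) →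
      Nat.card H ≤ p ^ k * Nat.card N := fun H N _ hN h1 h2 => by
    have h3 := hsr.1 H (N.subgroupOf H) ⊤ ⟨⟨?_⟩⟩ ?_
    · rw [Subgroup.card_top] at h3
      rw [Subgroup.card_eq_card_quotient_mul_card_subgroup (N.subgroupOf H),
        Nat.card_congr (Subgroup.subgroupOfEquivOfLe hN).toEquiv]
      exact Nat.mul_le_mul_right _ h3
    · rintro ⟨a, -⟩ ⟨b, -⟩
      obtain ⟨a, rfl⟩ := QuotientGroup.mk_surjective a
      obtain ⟨b, rfl⟩ := QuotientGroup.mk_surjective b
      refine Subtype.ext (QuotientGroup.eq.2 ?_)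
      simpa [commutatorElement_def, mul_assoc, Subgroup.mem_subgroupOf] using
        h1 (Subgroup.commutator_mem_commutator (H.inv_mem b.2) (H.inv_mem a.2))
    · rintro a -
      obtain ⟨a, rfl⟩ := QuotientGroup.mk_surjective a
      exact (QuotientGroup.eq_one_iff (a ^ p)).2 (h2 a a.2)
  rcases hk.eq_or_lt with rfl | hk
  · have := key ⊤ _ inferInstance le_top le_rfl fun x _ => h.pow_mem_one (by omega) x
    rw [Subgroup.card_top, hcard, show ⁅(⊤ : Subgroup S), ⊤⁆ = Subgroup.lowerCentralSeries ⊤ 1 from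
      rfl, h.card_lcs le_rfl, ← pow_add, Nat.pow_le_pow_iff_right hp.one_lt] at this
    omega
  · obtain ⟨y, hy, hy'⟩ := SetLike.not_le_iff_exists.1 (h.not_lcs_le (i := k - 1) (by omega))
    have := key _ (Subgroup.lowerCentralSeries ⊤ (2 * k)) inferInstance
      (Subgroup.lowerCentralSeries_antitone _ (by omega : k - 1 ≤ 2 * k))
      ((H90.CycMod.commutator_le_lcs ⟨y, hy, h.le_zpowers_sup (by omega) hy hy'⟩ le_rfl).trans
        (Subgroup.lowerCentralSeries_antitone _ (by omega)))
      fun x hx => Subgroup.lowerCentralSeries_antitone _ (by omega)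
        (h.pow_mem_lcs_add (by omega) x hx)
    rw [h.card_lcs (by omega), h.card_lcs (by omega), ← pow_add,
      Nat.pow_le_pow_iff_right hp.one_lt] at this
    omega
end Cfsg.Agent.S3806
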