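import Cfsg.Statements.S3866
import Mathlib

set_option autoImplicit false
open Cfsg

namespace Cfsg.Agent.S3866

/-- Let A be a commutative normal subgroup of the finite group G with G generated by A and an element x. Then a ↦ x a x⁻¹ a⁻¹ is a surjective homomorphism from A onto the commutator subgroup of G whose kernel is the centralizer of x in A; in particular the commutator subgroup has order equal to the index in A of that centralizer. -/
theorem result {G : Type*} [Group G] [Finite G] (A : Subgroup G) [A.Normal] (hA : IsMulCommutative A) (x : G) (hgen : A ⊔ Subgroup.zpowers x = ⊤) : (∀ a ∈ A, x * a * x⁻¹ * a⁻¹ ∈ commutator G) ∧ (∀ c ∈ commutator G, ∃ a ∈ A, x * a * x⁻¹ * a⁻¹ = c) ∧ (∀ a ∈ A, ∀ b ∈ A, x * (a * b) * x⁻¹ * (a * b)⁻¹ = (x * a * x⁻¹ * a⁻¹) * (x * b * x⁻¹ * b⁻¹)) ∧ Nat.card (commutator G) * Nat.card ↥(A ⊓ Subgroup.centralizer ({x} : Set G)) = Nat.card A := by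
  have hAc : ∀ a ∈ A, ∀ b ∈ A, a * b = b * a := fun a ha b hb =>
    congrArg Subtype.val (hA.is_comm.comm (⟨a, ha⟩ : A) ⟨b, hb⟩)
  have hN : A.Normal := inferInstance
  have hmul : ∀ a ∈ A, ∀ b ∈ A, x * (a * b) * x⁻¹ * (a * b)⁻¹ =
      (x * a * x⁻¹ * a⁻¹) * (x * b * x⁻¹ * b⁻¹) := by
    intro a ha b hb
    have h1 : a⁻¹ * (x * b * x⁻¹ * b⁻¹) = (x * b * x⁻¹ * b⁻¹) * a⁻¹ :=
      hAc _ (A.inv_mem ha) _ (A.mul_mem (hN.conj_mem b hb x) (A.inv_mem hb))
    calc x * (a * b) * x⁻¹ * (a * b)⁻¹ = x * a * x⁻¹ * ((x * b * x⁻¹ * b⁻¹) * a⁻¹) := by group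
      _ = x * a * x⁻¹ * (a⁻¹ * (x * b * x⁻¹ * b⁻¹)) := by rw [h1]
      _ = _ := by group
  let φ : A →* G :=
    { toFun := fun a => x * a * x⁻¹ * (a : G)⁻¹
      map_one' := by simp
      map_mul' := fun a b => hmul a a.2 b b.2 }
  have hφA : φ.range ≤ A := by
    rintro _ ⟨a, rfl⟩
    exact A.mul_mem (hN.conj_mem a a.2 x) (A.inv_mem a.2)
  have hRn : φ.range.Normal := by
    rw [← Subgroup.normalizer_eq_top_iff, eq_top_iff, ← hgen, sup_le_iff]
    constructor
    · intro a ha
      refine Subgroup.mem_normalizer_fintype ?_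
      intro r hr
      have : a * r * a⁻¹ = r := by
        rw [hAc a ha r (hφA hr)]; group
      rw [this]; exact hr
    · rw [Subgroup.zpowers_le]
      refine Subgroup.mem_normalizer_fintype ?_
      rintro _ ⟨a, rfl⟩
      refine ⟨⟨x * a * x⁻¹, hN.conj_mem a a.2 x⟩, ?_⟩
      show x * (x * a * x⁻¹) * x⁻¹ * (x * a * x⁻¹)⁻¹ = x * (x * a * x⁻¹ * (a : G)⁻¹) * x⁻¹
      group
  have hcomm : commutator G = φ.range := by
    apply le_antisymm
    · rw [← Subgroup.Normal.quotient_commutative_iff_commutator_le]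
      let π := QuotientGroup.mk' φ.range
      have hxa : ∀ a ∈ A, π x * π a = π a * π x := by
        intro a ha
        have : π (x * a * x⁻¹ * a⁻¹) = 1 := by
          rw [← MonoidHom.mem_ker, QuotientGroup.ker_mk']
          exact ⟨⟨a, ha⟩, rfl⟩
        simp only [map_mul, map_inv] at this
        calc π x * π a = (π x * π a * (π x)⁻¹ * (π a)⁻¹) * (π a * π x) := by group
          _ = _ := by rw [this, one_mul]
      have key : ∀ y : G, (∀ a ∈ A, π a * π y = π y * π a) → π x * π y = π y * π x →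
          π y ∈ Subgroup.center (G ⧸ φ.range) := by
        intro y h1 h2
        have : (Subgroup.centralizer {π y}).comap π = ⊤ := by
          rw [eq_top_iff, ← hgen, sup_le_iff, Subgroup.zpowers_le]
          refine ⟨fun a ha => ?_, ?_⟩
          · rw [Subgroup.mem_comap, Subgroup.mem_centralizer_singleton_iff]
            exact h1 a ha
          · rw [Subgroup.mem_comap, Subgroup.mem_centralizer_singleton_iff]
            exact h2
        rw [Subgroup.mem_center_iff]
        intro g
        obtain ⟨g, rfl⟩ := QuotientGroup.mk'_surjective φ.range g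
        have hg : g ∈ (Subgroup.centralizer {π y}).comap π := this ▸ Subgroup.mem_top g
        rwa [Subgroup.mem_comap, Subgroup.mem_centralizer_singleton_iff] at hg
      have hc : (Subgroup.center (G ⧸ φ.range)).comap π = ⊤ := by
        rw [eq_top_iff, ← hgen, sup_le_iff, Subgroup.zpowers_le]
        refine ⟨fun a ha => key a (fun b hb => ?_) (hxa a ha), key x (fun a ha => (hxa a ha).symm) rfl⟩
        rw [← map_mul, ← map_mul, hAc b hb a ha]
      refine ⟨⟨fun a b => ?_⟩⟩
      obtain ⟨b, rfl⟩ := QuotientGroup.mk'_surjective φ.range b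
      have hb : b ∈ (Subgroup.center (G ⧸ φ.range)).comap π := hc ▸ Subgroup.mem_top b
      exact (Subgroup.mem_center_iff.mp hb) a
    · rintro _ ⟨a, rfl⟩
      exact Subgroup.commutator_mem_commutator (Subgroup.mem_top x) (Subgroup.mem_top (a : G))
  refine ⟨fun a ha => ?_, fun c hc => ?_, hmul, ?_⟩
  · exact Subgroup.commutator_mem_commutator (Subgroup.mem_top x) (Subgroup.mem_top (a : G))
  · rw [hcomm] at hc
    obtain ⟨a, rfl⟩ := hc
    exact ⟨a, a.2, rfl⟩
  · rw [hcomm]
    have hker : φ.ker = (A ⊓ Subgroup.centralizer ({x} : Set G)).subgroupOf A := by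
      ext a
      rw [MonoidHom.mem_ker, Subgroup.mem_subgroupOf, Subgroup.mem_inf,
        Subgroup.mem_centralizer_singleton_iff]
      show x * a * x⁻¹ * (a : G)⁻¹ = 1 ↔ _
      constructor
      · intro h
        refine ⟨a.2, ?_⟩
        calc (a : G) * x = 1 * (a * x) := by group
          _ = x * a * x⁻¹ * (a : G)⁻¹ * (a * x) := by rw [h]
          _ = x * a := by group
      · rintro ⟨-, h⟩
        rw [← h]; group
    rw [← φ.ker.card_mul_index, Subgroup.index_ker, mul_comm, hker]
    congr 1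
    exact (Nat.card_congr (Subgroup.subgroupOfEquivOfLe inf_le_left).toEquiv).symm

end Cfsg.Agent.S3866
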