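import Cfsg.Statements.S3807
import Mathlib
import Cfsg.Agent.H89.PBasic
import Cfsg.Agent.S3866

set_option autoImplicit false
open Cfsg

namespace Cfsg.Agent.S3807

open Subgroup in
theorem center_le_of_abelian {S : Type*} [Group S] {p : ℕ} (hp : p.Prime)
    (hna : ¬ IsMulCommutative S) {B : Subgroup S} (hB : IsMulCommutative B) (hBi : B.index = p) :
    center S ≤ B := by
  by_contra h
  have htop := H89.sup_eq_top_of_index_prime hp hBi h
  apply hna
  have : center S = ⊤ := by
    rw [eq_top_iff, ← htop, sup_le_iff]
    refine ⟨fun b hb => ?_, le_rfl⟩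
    have h2 : centralizer {b} = ⊤ := by
      rw [eq_top_iff, ← htop, sup_le_iff]
      refine ⟨fun a ha => mem_centralizer_singleton_iff.mpr
        (H89.comm_of_isMulCommutative hB ha hb), center_le_centralizer _⟩
    rw [mem_center_iff]
    intro g
    exact mem_centralizer_singleton_iff.mp (h2 ▸ mem_top g)
  exact ⟨⟨fun a b => mem_center_iff.mp (this ▸ mem_top b) a⟩⟩

/-- Let S be a non-abelian finite p-group with an abelian subgroup A of index p. Then [S : Z(S)] = p·#[S,S], and either [S,S] has order p, S/Z(S) is elementary abelian of order p², and S has exactly p + 1 abelian subgroups of index p; or [S,S] has order at least p² and A is the only abelian subgroup of index p in S. -/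
theorem result {S : Type*} [Group S] [Finite S] (p : ℕ) [Fact p.Prime] (hS : IsPGroup p S) (hna : ¬ IsMulCommutative S)
    (A : Subgroup S) (hA : IsMulCommutative ↥A) (hAi : A.index = p) :
    (Subgroup.center S).index = p * Nat.card (commutator S) ∧
      ((Nat.card (commutator S) = p ∧ Cfsg.IsElementaryAbelian p (⊤ : Subgroup (S ⧸ Subgroup.center S)) ∧
          Nat.card (S ⧸ Subgroup.center S) = p ^ 2 ∧
          Nat.card {B : Subgroup S // IsMulCommutative ↥B ∧ B.index = p} = p + 1) ∨
        (p ^ 2 ≤ Nat.card (commutator S) ∧ ∀ B : Subgroup S, IsMulCommutative ↥B → B.index = p → B = A)) := by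
  have hp : p.Prime := Fact.out
  have hAn : A.Normal := H89.normal_of_index_prime hS hAi
  have hAtop : A ≠ ⊤ := (H89.isCoatom_of_index_prime hp hAi).1
  obtain ⟨x, hx⟩ : ∃ x, x ∉ A := by
    by_contra h
    push Not at h
    exact hAtop (eq_top_iff.mpr fun x _ => h x)
  have hgen := H89.sup_zpowers_eq_top_of_index_prime hp hAi hx
  have hZA := center_le_of_abelian hp hna hA hAi
  have hZ : A ⊓ Subgroup.centralizer {x} = Subgroup.center S := by
    refine le_antisymm ?_ (le_inf hZA (Subgroup.center_le_centralizer _))
    rintro a ⟨ha, hax⟩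
    have h2 : Subgroup.centralizer {a} = ⊤ := by
      rw [eq_top_iff, ← hgen, sup_le_iff, Subgroup.zpowers_le]
      exact ⟨fun b hb => Subgroup.mem_centralizer_singleton_iff.mpr
        (H89.comm_of_isMulCommutative hA hb ha), Subgroup.mem_centralizer_singleton_iff.mpr
        (Subgroup.mem_centralizer_singleton_iff.mp hax).symm⟩
    rw [Subgroup.mem_center_iff]
    intro g
    exact Subgroup.mem_centralizer_singleton_iff.mp (h2 ▸ Subgroup.mem_top g)
  have h1 := (S3866.result A hA x hgen).2.2.2
  rw [hZ] at h1
  have hidx : (Subgroup.center S).index = p * Nat.card (commutator S) := by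
    have h2 := (Subgroup.center S).card_mul_index
    rw [← A.card_mul_index, hAi, ← h1] at h2
    have h3 : 0 < Nat.card (Subgroup.center S) := Nat.card_pos
    apply Nat.eq_of_mul_eq_mul_left h3
    rw [h2]; ring
  refine ⟨hidx, ?_⟩
  by_cases hc : Nat.card (commutator S) = p
  · left
    have hq : Nat.card (S ⧸ Subgroup.center S) = p ^ 2 := by
      rw [← Subgroup.index_eq_card, hidx, hc, pow_two]
    have hnc : ¬ IsCyclic (S ⧸ Subgroup.center S) := fun h =>
      hna (isMulCommutative_of_isCyclic_quotient_center_self S)
    have hexp := (not_isCyclic_iff_exponent_eq_prime hp hq).mp hnc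
    have hpow : ∀ a : S ⧸ Subgroup.center S, a ^ p = 1 := fun a => hexp ▸ Monoid.pow_exponent_eq_one a
    have hcomm := IsPGroup.isMulCommutative_of_card_eq_prime_sq hq
    refine ⟨hc, ⟨H89.isMulCommutative_of_comm fun a _ b _ => hcomm.is_comm.comm a b,
      fun a _ => hpow a⟩, hq, ?_⟩
    have e : {B : Subgroup S // IsMulCommutative ↥B ∧ B.index = p} ≃
        {H : Subgroup (S ⧸ Subgroup.center S) // Nat.card H = p} :=
      { toFun := fun B => ⟨B.1.map (QuotientGroup.mk' _), by
          have h2 : (B.1.map (QuotientGroup.mk' (Subgroup.center S))).index = p := by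
            rw [Subgroup.index_map_eq _ (QuotientGroup.mk'_surjective _), B.2.2]
            rw [QuotientGroup.ker_mk']
            exact center_le_of_abelian hp hna B.2.1 B.2.2
          have h3 := (B.1.map (QuotientGroup.mk' (Subgroup.center S))).card_mul_index
          rw [h2, hq, pow_two] at h3
          exact Nat.eq_of_mul_eq_mul_right hp.pos h3⟩
        invFun := fun H => ⟨H.1.comap (QuotientGroup.mk' _), by
          constructor
          · have : IsCyclic H.1 := isCyclic_of_prime_card H.2
            refine MonoidHom.isMulCommutative_of_isCyclic_of_ker_le_center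
              ((QuotientGroup.mk' (Subgroup.center S)).subgroupComap H.1) ?_
            intro a ha
            have ha' : (a : S) ∈ Subgroup.center S := by
              rw [← QuotientGroup.eq_one_iff]
              exact congrArg Subtype.val ha
            rw [Subgroup.mem_center_iff]
            intro g
            exact Subtype.ext (Subgroup.mem_center_iff.mp ha' g)
          · rw [Subgroup.index_comap_of_surjective _ (QuotientGroup.mk'_surjective _)]
            have h3 := H.1.card_mul_index
            rw [H.2, hq, pow_two] at h3
            exact Nat.eq_of_mul_eq_mul_left hp.pos h3⟩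
        left_inv := fun B => Subtype.ext (by
          refine Subgroup.comap_map_eq_self ?_
          rw [QuotientGroup.ker_mk']
          exact center_le_of_abelian hp hna B.2.1 B.2.2)
        right_inv := fun H => Subtype.ext
          (Subgroup.map_comap_eq_self_of_surjective (QuotientGroup.mk'_surjective _) _) }
    rw [Nat.card_congr e]
    have h3 := H89.card_subgroups_prime_mul (G := S ⧸ Subgroup.center S) (p := p)
    have h4 : Nat.card {g : S ⧸ Subgroup.center S // orderOf g = p} = p ^ 2 - 1 := by
      classical
      have e2 : {g : S ⧸ Subgroup.center S // orderOf g = p} ≃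
          {g : S ⧸ Subgroup.center S // g ≠ 1} := Equiv.subtypeEquivRight fun g =>
        ⟨fun h h1 => by rw [h1, orderOf_one] at h; exact hp.one_lt.ne h,
          fun h => orderOf_eq_prime (hpow g) h⟩
      rw [Nat.card_congr e2]
      have := Fintype.ofFinite (S ⧸ Subgroup.center S)
      rw [Nat.card_eq_fintype_card, Fintype.card_subtype_compl, Fintype.card_subtype_eq,
        ← Nat.card_eq_fintype_card, hq]
    have h5 : p ^ 2 - 1 = (p + 1) * (p - 1) := by simpa using Nat.sq_sub_sq p 1
    rw [h4, h5] at h3
    exact Nat.eq_of_mul_eq_mul_right (Nat.sub_pos_of_lt hp.one_lt) h3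
  · right
    obtain ⟨k, hk⟩ := IsPGroup.iff_card.mp (hS.to_subgroup (commutator S))
    have hk0 : k ≠ 0 := by
      rintro rfl
      rw [pow_zero, Subgroup.card_eq_one, commutator_eq_bot_iff] at hk
      exact hna hk
    have hk1 : k ≠ 1 := by
      rintro rfl
      exact hc (by simpa using hk)
    have hle : p ^ 2 ≤ Nat.card (commutator S) := by
      rw [hk]
      exact Nat.pow_le_pow_right hp.pos (by omega)
    refine ⟨hle, fun B hB hBi => ?_⟩
    by_contra hne
    have hBA : ¬ B ≤ A := fun h => by
      rcases H89.eq_or_eq_top_of_index_prime hp hBi h with h2 | h2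
      · exact hne h2.symm
      · exact hAtop h2
    have htop := H89.sup_eq_top_of_index_prime hp hAi hBA
    have hZ2 : A ⊓ B ≤ Subgroup.center S := by
      rintro a ⟨ha, hb⟩
      have h2 : Subgroup.centralizer {a} = ⊤ := by
        rw [eq_top_iff, ← htop, sup_le_iff]
        exact ⟨fun b hb => Subgroup.mem_centralizer_singleton_iff.mpr
          (H89.comm_of_isMulCommutative hA hb ha), fun c hc =>
          Subgroup.mem_centralizer_singleton_iff.mpr (H89.comm_of_isMulCommutative hB hc hb)⟩
      rw [Subgroup.mem_center_iff]
      intro g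
      exact Subgroup.mem_centralizer_singleton_iff.mp (h2 ▸ Subgroup.mem_top g)
    have h5 := (Subgroup.index_antitone hZ2).trans Subgroup.index_inf_le
    rw [hidx, hAi, hBi] at h5
    have h6 := Nat.le_of_mul_le_mul_left h5 hp.pos
    have := hp.one_lt
    nlinarith

end Cfsg.Agent.S3807
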