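import Cfsg.Statements.S3808
import Mathlib
import Cfsg.Agent.H89.PBasic

set_option autoImplicit false
open Cfsg

namespace Cfsg.Agent.S3808

/-- Let S be a finite p-group with an extraspecial subgroup Q of index p. Then either Z(S) = Z(Q), or S = Q·Z(S) and Z(S) has order p². -/
theorem result {S : Type*} [Group S] [Finite S] (p : ℕ) [Fact p.Prime] (hS : IsPGroup p S) (Q : Subgroup S) (hQ : Cfsg.IsExtraspecial p ↥Q) (hQi : Q.index = p) :
    Subgroup.center S = (Subgroup.center ↥Q).map Q.subtype ∨
      (Q ⊔ Subgroup.center S = ⊤ ∧ Nat.card (Subgroup.center S) = p ^ 2) := by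
  have hp : p.Prime := Fact.out
  have hQn : Q.Normal := H89.normal_of_index_prime hS hQi
  have hZn : ((Subgroup.center Q).map Q.subtype).Normal := inferInstance
  have hZc : Nat.card ((Subgroup.center Q).map Q.subtype) = p := by
    rw [Subgroup.card_map_of_injective Q.subtype_injective, hQ.2]
  have hle := H89.le_center_of_normal_of_card_prime hS hZc
  have hinf : Q ⊓ Subgroup.center S = (Subgroup.center Q).map Q.subtype := by
    refine le_antisymm ?_ (le_inf (Subgroup.map_subtype_le _) hle)
    rintro z ⟨hzQ, hz⟩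
    refine ⟨⟨z, hzQ⟩, ?_, rfl⟩
    exact Subgroup.mem_center_iff.mpr fun g => Subtype.ext (Subgroup.mem_center_iff.mp hz g)
  by_cases h : Subgroup.center S ≤ Q
  · left
    rw [← hinf, inf_eq_right.mpr h]
  · right
    have htop := H89.sup_eq_top_of_index_prime hp hQi h
    refine ⟨htop, ?_⟩
    have h1 := H89.card_mul_relIndex (inf_le_right : Q ⊓ Subgroup.center S ≤ Subgroup.center S)
    rw [Subgroup.inf_relIndex_right, ← Subgroup.relIndex_sup_left, htop,
      Subgroup.relIndex_top_right, hinf, hZc, hQi] at h1
    rw [← h1, pow_two]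

end Cfsg.Agent.S3808
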