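import Cfsg.Statements.S3809
import Mathlib
import Cfsg.Agent.H89.XSBasic

set_option autoImplicit false
open Cfsg

namespace Cfsg.Agent.S3809

/-- Let S be a finite p-group with an extraspecial subgroup of index p. Then S has order p^(2+2n) for some n ≥ 1, derived length at most 3, and exponent dividing p³. -/
theorem result {S : Type*} [Group S] [Finite S] (p : ℕ) [Fact p.Prime] (hS : IsPGroup p S) (Q : Subgroup S) (hQ : Cfsg.IsExtraspecial p ↥Q) (hQi : Q.index = p) :
    (∃ n : ℕ, 1 ≤ n ∧ Nat.card S = p ^ (2 + 2 * n)) ∧ derivedSeries S 3 = ⊥ ∧ ∀ x : S, x ^ (p ^ 3) = 1 := by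
  obtain ⟨z, hz⟩ := H89.XS.of_isExtraspecial hQ
  refine ⟨?_, ?_, fun x => ?_⟩
  · obtain ⟨n, hn, hc⟩ := H89.exists_card_of_isExtraspecial hQ
    refine ⟨n, hn, ?_⟩
    rw [← Q.card_mul_index, hc, hQi]
    ring
  · have h1 : derivedSeries S 1 ≤ Q := H89.commutator_le_of_index_prime hS hQi
    have h2 : derivedSeries S 2 ≤ Subgroup.zpowers (z : S) := by
      refine (Subgroup.commutator_mono h1 h1).trans ?_
      rw [Subgroup.commutator_le]
      intro a ha b hb
      obtain ⟨k, hk⟩ := hz.comm_mem ⟨a, ha⟩ ⟨b, hb⟩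
      exact ⟨k, congrArg Subtype.val hk⟩
    rw [eq_bot_iff]
    refine (Subgroup.commutator_mono h2 h2).trans (le_of_eq ?_)
    rw [Subgroup.commutator_self_eq_bot_iff]
    infer_instance
  · obtain ⟨k, hk⟩ := hz.pow_mem ⟨x ^ p, H89.pow_mem_of_index_prime hS hQi x⟩
    have h1 : (z : S) ^ k = (x ^ p) ^ p := congrArg Subtype.val hk
    have h2 : (z : S) ^ p = 1 := congrArg Subtype.val hz.pow_eq_one
    rw [show p ^ 3 = p * p * p by ring, pow_mul, pow_mul, ← h1, ← zpow_natCast, ← zpow_mul,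
      mul_comm, zpow_mul, zpow_natCast, h2, one_zpow]

end Cfsg.Agent.S3809
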