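import Cfsg.Statements.S3810
import Mathlib
import Cfsg.Agent.H89.PNormal
import Cfsg.Agent.S3807

set_option autoImplicit false
open Cfsg

namespace Cfsg.Agent.S3810

/-- Let S be a finite p-group with an extraspecial subgroup of index p. Then S has an abelian subgroup of index p if and only if S has order p⁴. -/
theorem result {S : Type*} [Group S] [Finite S] (p : ℕ) [Fact p.Prime] (hS : IsPGroup p S) (Q : Subgroup S) (hQ : Cfsg.IsExtraspecial p ↥Q) (hQi : Q.index = p) :
    (∃ A : Subgroup S, IsMulCommutative ↥A ∧ A.index = p) ↔ Nat.card S = p ^ 4 := by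
  have hp : p.Prime := Fact.out
  constructor
  · rintro ⟨A, hA, hAi⟩
    have hQ' : Nat.card (commutator Q) = p := by rw [hQ.1.2.2, hQ.2]
    have hna : ¬ IsMulCommutative Q := by
      intro h
      rw [commutator_eq_bot, Subgroup.card_bot] at hQ'
      exact hp.one_lt.ne hQ'
    have hAn := H89.normal_of_index_prime hS hAi
    have hQA : ¬ Q ≤ A := fun h => hna (H89.isMulCommutative_of_le hA h)
    have hi : (A.subgroupOf Q).index = p := by
      change A.relIndex Q = p
      rw [← Subgroup.relIndex_sup_left, H89.sup_eq_top_of_index_prime hp hAi hQA,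
        Subgroup.relIndex_top_right, hAi]
    have hc : IsMulCommutative (A.subgroupOf Q) := H89.isMulCommutative_of_comm fun a ha b hb =>
      Subtype.ext (H89.comm_of_isMulCommutative hA ha hb)
    have h1 := (S3807.result p hQ.1.1 hna _ hc hi).1
    rw [← Q.card_mul_index, ← (Subgroup.center Q).card_mul_index, h1, hQ', hQ.2, hQi]
    ring
  · intro h
    obtain ⟨B, -, hB, hBc⟩ := H89.exists_abelian_card_cube hS (h ▸ dvd_rfl)
    refine ⟨B, hB, ?_⟩
    have := B.card_mul_index
    rw [hBc, h, pow_succ p 3] at this
    exact Nat.eq_of_mul_eq_mul_left (pow_pos hp.pos 3) this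

end Cfsg.Agent.S3810
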