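import Cfsg.Statements.S3811
import Cfsg.Agent.H88.FpfCore

set_option autoImplicit false
open Cfsg

namespace Cfsg.Agent.S3811

open Cfsg.Agent.H63 Cfsg.Agent.H67 Cfsg.Agent.H69 Cfsg.Agent.H88 Subgroup
open scoped IsMulCommutative commutatorElement

universe u

/-- the normaliser tower -/
def tw {X : Type*} [Group X] (E : Subgroup X) : ℕ → Subgroup X
  | 0 => E
  | i + 1 => N[tw E i]

theorem tw_succ {X : Type*} [Group X] (E : Subgroup X) (i : ℕ) : tw E (i + 1) = N[tw E i] := rfl

theorem tw_mono {X : Type*} [Group X] (E : Subgroup X) : Monotone (tw E) :=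
  monotone_nat_of_le_succ fun _ => Subgroup.le_normalizer

theorem chain {X : Type*} [Group X] [Finite X] {p : ℕ} (hp : p.Prime) (hX : IsPGroup p X)
    {E : Subgroup X} : ∀ i, (∀ j < i, (tw E j).relIndex (tw E (j + 1)) = p) →
    ∀ L, E ≤ L → tw E i ≤ L ∨ ∃ j < i, L = tw E j := by
  intro i
  induction i with
  | zero => exact fun _ L hL => Or.inl hL
  | succ i ih =>
    intro h L hL
    rcases ih (fun j hj => h j (by omega)) L hL with h1 | ⟨j, hj, h1⟩
    · rcases h1.eq_or_lt with h2 | h2
      · exact Or.inr ⟨i, by omega, h2.symm⟩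
      · left
        have h3 := lt_inf_normalizer_of_isNilpotent
          (isNilpotent_of_isPGroup hp (hX.to_subgroup L)) h2
        have h4 := maximalIn_of_prime_relIndex (tw_mono E (Nat.le_succ i)) (h i (by omega) ▸ hp)
        rcases h4.2 _ h3.le inf_le_right with h5 | h5
        · exact absurd h5 h3.ne'
        · exact h5.ge.trans inf_le_left
    · exact Or.inr ⟨j, by omega, h1⟩

theorem relIndex_cent1_lt {Y : Type*} [Group Y] [Finite Y] {N K : Subgroup Y} (hN : N ≤ N[K]) {a : Y}
    (ha : a ∈ K) (h1 : a ≠ 1) : C1[a].relIndex N < Nat.card K := by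
  let f : N ⧸ C1[a].subgroupOf N → {k : K // k ≠ 1} := fun q =>
    ⟨⟨(q.out : Y) * a * (q.out : Y)⁻¹, conj_mem_of_mem_normalizer (hN q.out.2) ha⟩, fun h => h1 (by
      simpa using congrArg Subtype.val h)⟩
  have hf : Function.Injective f := by
    intro q r h
    have e : (q.out : Y) * a * (q.out : Y)⁻¹ = (r.out : Y) * a * (r.out : Y)⁻¹ :=
      congrArg (fun k : {k : K // k ≠ 1} => (k.1 : Y)) h
    rw [← q.out_eq, ← r.out_eq]
    apply QuotientGroup.eq.2
    rw [mem_subgroupOf, mem_centralizer_singleton_iff]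
    simp only [coe_mul, coe_inv]
    calc (q.out : Y)⁻¹ * r.out * a = (q.out : Y)⁻¹ * (r.out * a * (r.out : Y)⁻¹) * r.out := by group
      _ = _ := by rw [← e]; group
  have h2 := Nat.card_le_card_of_injective f hf
  have h3 : Nat.card {k : K // k ≠ 1} < Nat.card K := Finite.card_subtype_lt (x := 1) (by simp)
  exact h2.trans_lt h3

theorem class_eq {X : Type*} [Group X] [Finite X] {p : ℕ} (hp : p.Prime) (hX : IsPGroup p X)
    {K : Subgroup X} (hK : K ≠ ⊥) :
    Group.nilpotencyClass K = Group.nilpotencyClass (K /ᵍ Z[K]) + 1 := by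
  have := isNilpotent_of_isPGroup hp (hX.to_subgroup K)
  have := (Subgroup.nontrivial_iff_ne_bot K).2 hK
  have hn : K ≤ N[Z[K]] := Subgroup.le_normalizer.trans (normalizer_le_normalizer_center K)
  have e := quoEquiv hn (center K) (by
    rw [← map_center_subtype, Subgroup.subgroupOf, Subgroup.comap_map_eq_self_of_injective
      K.subtype_injective])
  have := quo_isNilpotent Z[K] (inferInstance : Group.IsNilpotent K)
  rw [Group.nilpotencyClass_eq_quotient_center_plus_one]
  congr 1
  exact le_antisymm (Group.nilpotencyClass_le_of_surjective e.symm.toMonoidHom e.symm.surjective)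
    (Group.nilpotencyClass_le_of_surjective e.toMonoidHom e.surjective)

theorem class_one {X : Type*} [Group X] [Finite X] {K : Subgroup X} (h : IsMulCommutative K) (hK : K ≠ ⊥) :
    Group.nilpotencyClass K = 1 := by
  have := isNilpotent_of_isMulCommutative' h
  have := (Subgroup.nontrivial_iff_ne_bot K).2 hK
  refine le_antisymm (Group.IsNilpotent.nilpotencyClass_le_one_iff.2 h) ?_
  by_contra h0
  have : Group.nilpotencyClass K = 0 := by omega
  exact not_subsingleton K (Group.nilpotencyClass_zero_iff_subsingleton.1 this)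

theorem main {p : ℕ} (hp : p.Prime) : ∀ (n : ℕ) (X : Type u) [Group X] [Finite X], Nat.card X = n →
    IsPGroup p X → ∀ E : Subgroup X, IsMulCommutative E → C[E] ≤ E → E.relIndex N[E] = p →
    ∀ i, tw E i ≠ ⊤ → (tw E i).relIndex (tw E (i + 1)) = p ∧ Group.nilpotencyClass (tw E i) = i + 1 ∧
      ⁅N[E], N[E]⁆ ≤ C[tw E i] := by
  have := Fact.mk hp
  intro n
  induction n using Nat.strong_induction_on with
  | _ n IH =>
  intro X _ _ hn hX E hE hC hN i
  have hEC : E ≤ C[E] := le_centralizer_iff_isMulCommutative.2 hE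
  have hE0 : E ≠ ⊥ := by
    rintro rfl
    rw [centralizer_bot, top_le_iff] at hC
    rw [hC, Subgroup.relIndex_top_left] at hN
    exact hp.one_lt.ne hN
  have hXE : ⁅N[E], N[E]⁆ ≤ E := by
    rw [← quo_isMulCommutative_iff le_rfl]
    have : IsCyclic (N[E] /ᵍ E) := H69.isCyclic_of_prime_card' (by rw [card_quo le_rfl, hN]; exact hp)
    infer_instance
  induction i using Nat.strong_induction_on with
  | _ i ih =>
  intro hi
  rcases i with _ | i
  · exact ⟨hN, class_one hE hE0, hXE.trans hEC⟩
  have hne : ∀ j ≤ i + 1, tw E j ≠ ⊤ := fun j hj h => hi (top_le_iff.1 (h ▸ tw_mono E hj))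
  have hrel : ∀ j < i + 1, (tw E j).relIndex (tw E (j + 1)) = p := fun j hj =>
    (ih j hj (hne j hj.le)).1
  set M := tw E i with hM
  set K := tw E (i + 1) with hK
  have hKM : K = N[M] := rfl
  have hMK : M ≤ K := Subgroup.le_normalizer
  have hEM : E ≤ M := tw_mono E (Nat.zero_le i)
  have hA1 : N[E] ≤ K := tw_mono E (show 1 ≤ i + 1 by omega)
  have hKN : K < N[K] := by
    have := lt_inf_normalizer_of_isNilpotent (isNilpotent_of_isPGroup hp (hX.to_subgroup ⊤))
      (lt_top_iff_ne_top.2 hi)
    rwa [top_inf_eq] at this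
  obtain ⟨g, hgN, hgK⟩ := SetLike.exists_of_lt hKN
  have hMg : cj g M ≤ K := cj_le_of_mem_normalizer hgN hMK
  have hgen : K ≤ E ⊔ cj g M := by
    rcases chain hp hX (i + 1) hrel _ (le_sup_left : E ≤ E ⊔ cj g M) with h | ⟨j, hj, h⟩
    · exact h
    · exact absurd (mem_normalizer_of_cj_le (le_sup_right.trans (h.le.trans
        (tw_mono E (by omega))))) hgK
  have hXM : ⁅N[E], N[E]⁆ ≤ M := hXE.trans hEM
  have hXU : ⁅N[E], N[E]⁆ ≤ Z[M] := le_inf hXM (ih i (by omega) (hne i (by omega))).2.2
  have hc : ⁅N[E], N[E]⁆ ≤ C[K] := by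
    have e1 : cj g Z[M] = Z[cj g M] := by rw [cj_inf, cj_centralizer]
    by_cases hU : Z[cj g M] ≤ E
    · have h1 : K ≤ C[Z[cj g M]] := hgen.trans (sup_le (hEC.trans (centralizer_anti hU))
        (le_centralizer_iff.1 inf_le_right))
      rw [← e1, ← cj_centralizer, ← cj_eq_self hgN, cj_le_cj_iff] at h1
      exact hXU.trans (le_centralizer_iff.1 h1)
    · have h1 : N[E] ≤ E ⊔ Z[cj g M] := by
        rcases chain hp hX 1 (fun j hj => hrel j (by omega)) _
          (le_sup_left : E ≤ E ⊔ Z[cj g M]) with h | ⟨j, hj, h⟩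
        · exact h
        · obtain rfl : j = 0 := by omega
          exact absurd (le_sup_right.trans h.le) hU
      have h2 : K ≤ N[Z[cj g M]] := by
        refine le_trans ?_ (normalizer_le_normalizer_center _)
        rw [← cj_normalizer, ← hKM, cj_eq_self hgN]
      have h3 : ⁅N[E], N[E]⁆ ≤ Z[cj g M] := by
        refine (commutator_mono h1 h1).trans ?_
        rw [← quo_isMulCommutative_iff (sup_le ((hEM.trans hMK).trans h2) Subgroup.le_normalizer),
          sup_quo_right ((hEM.trans hMK).trans h2)]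
        exact quo_isMulCommutative _ hE
      refine le_trans ?_ (centralizer_anti hgen)
      rw [H67.centralizer_sup]
      exact le_inf (hXE.trans hEC) (h3.trans inf_le_right)
  set Z := Z[K] with hZ
  have hK0 : K ≠ ⊥ := fun h => hE0 (eq_bot_iff.2 ((hEM.trans hMK).trans h.le))
  have hZ0 : Z ≠ ⊥ := center_ne_bot_of_isPGroup hp (hX.to_subgroup K) hK0
  have hZE : Z ≤ E := (inf_le_right.trans (centralizer_anti (hEM.trans hMK))).trans hC
  have hNZ : N[K] ≤ N[Z] := normalizer_le_normalizer_center K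
  have hKZ : K ≤ N[Z] := Subgroup.le_normalizer.trans hNZ
  have hXZ : ⁅N[E], N[E]⁆ ≤ Z := le_inf (hXM.trans hMK) hc
  have hA1c : IsMulCommutative (N[E] /ᵍ Z) := quo_isMulCommutative_of_der_le hXZ
  have hY : IsPGroup p (Coset Z) := by
    have := quo_isPGroup Z (hX.to_subgroup ⊤)
    rw [top_quo] at this
    exact this.of_equiv Subgroup.topEquiv
  have hZK : Z ≤ K := inf_le_left
  rcases i with _ | i
  · -- `K = N(E)`
    have hME : M = E := rfl
    have hKE : K = N[E] := rfl
    have hEg : ¬ cj g E ≤ E := fun h => hgK (mem_normalizer_of_cj_le h)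
    have hZe : Z = E ⊓ cj g E := by
      refine le_antisymm (le_inf hZE ?_) (le_inf (inf_le_left.trans hMK) ?_)
      · rw [← cj_eq_self (hNZ hgN), cj_le_cj_iff]; exact hZE
      · refine le_trans ?_ (centralizer_anti hgen)
        rw [H67.centralizer_sup]
        refine inf_le_inf hEC ?_
        rw [hME, ← cj_centralizer, cj_le_cj_iff]
        exact hEC
    have hEE : E ⊔ cj g E = K := le_antisymm (sup_le hMK hMg) hgen
    have hZi : Z.relIndex E = p := by
      have a1 := card_sup_mul_card_inf' (H := E) (K := cj g E) hMg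
      rw [hEE, ← hZe, card_cj, ← card_mul_relIndex hMK, hME, hKE, hN, ← card_mul_relIndex hZE] at a1
      have a2 : 0 < Nat.card Z := Nat.card_pos
      have a3 : 0 < Z.relIndex E := Nat.pos_of_ne_zero Subgroup.index_ne_zero_of_finite
      have : Nat.card Z * Z.relIndex E * Nat.card Z * p =
          Nat.card Z * Z.relIndex E * Nat.card Z * Z.relIndex E := by linarith
      exact (Nat.eq_of_mul_eq_mul_left (by positivity) this).symm
    have hEZ : E ≤ N[Z] := hMK.trans hKZ
    have hcE : Nat.card (E /ᵍ Z) = p := by rw [card_quo hEZ, hZi]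
    have hcK : Nat.card (K /ᵍ Z) = p ^ 2 := by
      rw [card_quo hKZ, ← Subgroup.relIndex_mul_relIndex Z E K hZE hMK, hZi, hKE, hN, pow_two]
    obtain ⟨a, haE, ha1, haz⟩ := exists_zpowers_eq_of_prime_card (hcE ▸ hp)
    have h1 := relIndex_cent1_lt (N := N[K] /ᵍ Z) (K := K /ᵍ Z) (quo_norm _ _)
      (quo_mono Z hMK haE) ha1
    have h2 : C1[a] ⊓ N[K] /ᵍ Z = K /ᵍ Z := by
      refine le_antisymm (inf_le_left.trans ?_) (le_inf ?_ (quo_mono Z Subgroup.le_normalizer))
      · rw [cent_eq_cent1_of_prime_card (hcE ▸ hp) haE ha1, hKE, quo_normG ⟨hZE, hEZ⟩]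
        exact le_normalizer_of_le_centralizer le_rfl
      · exact (le_centralizer_iff_isMulCommutative.2 hA1c).trans
          (centralizer_le_centralizer_singleton (quo_mono Z Subgroup.le_normalizer haE))
    rw [← Subgroup.inf_relIndex_right, h2, hcK, relIndex_quo_eq hZK hNZ] at h1
    obtain ⟨k, hk⟩ := (hX.to_subgroup N[K]).index (K.subgroupOf N[K])
    change K.relIndex N[K] = _ at hk
    have hk2 : k < 2 := (Nat.pow_lt_pow_iff_right hp.one_lt).1 (hk ▸ h1)
    have hk0 : k ≠ 0 := by
      rintro rfl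
      exact hKN.not_ge (Subgroup.relIndex_eq_one.1 hk)
    obtain rfl : k = 1 := by omega
    refine ⟨hk.trans (pow_one p), ?_, hc⟩
    rw [class_eq hp hX hK0, class_one (K := K /ᵍ Z) hA1c (by
      intro h
      rw [h, Subgroup.card_bot] at hcK
      exact (Nat.one_lt_pow two_ne_zero hp.one_lt).ne hcK)]
  · have hA2 : N[N[E]] ≤ K := tw_mono E (show 2 ≤ i + 1 + 1 by omega)
    have hZA : Z ⊴ N[E] := ⟨hZE.trans Subgroup.le_normalizer, hA1.trans hKZ⟩
    have hr1 : N[E].relIndex N[N[E]] = p := hrel 1 (by omega)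
    have hr2 : (N[E] /ᵍ Z).relIndex N[N[E] /ᵍ Z] = p := by
      rw [← quo_normG hZA, relIndex_quo_eq hZA.1 (hA2.trans hKZ), hr1]
    have hsc : C[N[E] /ᵍ Z] ≤ N[E] /ᵍ Z := by
      rcases (maximalIn_of_prime_relIndex Subgroup.le_normalizer (hr2 ▸ hp)).2 _
        (le_centralizer_iff_isMulCommutative.2 hA1c) (le_normalizer_of_le_centralizer le_rfl) with h | h
      · exact h.le
      · exfalso
        have h1 := h.ge
        rw [← quo_normG hZA, quo_cents_iff (hA2.trans hKZ) hZA.2] at h1
        have h2 : N[N[E]] ≤ N[E] := le_norm_of_commutator_le_right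
          ((commutator_mono le_rfl Subgroup.le_normalizer).trans (h1.trans hZE))
        exact hp.one_lt.ne' (hr1.symm.trans (Subgroup.relIndex_eq_one.2 h2))
    have htw : ∀ j ≤ i + 1 + 1, tw (N[E] /ᵍ Z) j = tw E (j + 1) /ᵍ Z := by
      intro j
      induction j with
      | zero => exact fun _ => rfl
      | succ j ihj =>
        intro hj
        rw [tw_succ, ihj (by omega), ← quo_normG ⟨hZE.trans (tw_mono E (Nat.zero_le _)),
          (tw_mono E (show j + 1 ≤ i + 1 + 1 by omega)).trans hKZ⟩]
        rfl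
    have hlt : Nat.card (Coset Z) < n := by
      rw [← hn, ← Subgroup.card_top (G := Coset Z), ← norm_quo]
      exact (card_quo_lt ⟨Subgroup.le_normalizer, le_rfl⟩ hZ0).trans_le (card_le_card_group _)
    have hlt2 : K /ᵍ Z < N[K] /ᵍ Z := (quo_lt_quo_iff ⟨hZK, hKZ⟩ ⟨hZK.trans hKN.le, hNZ⟩).2 hKN
    obtain ⟨h1, h2, -⟩ := IH _ hlt (Coset Z) rfl hY _ hA1c hsc hr2 (i + 1) (by
      rw [htw _ (by omega)]
      exact hlt2.ne_top)
    rw [htw _ (by omega), htw _ le_rfl] at h1
    rw [htw _ (by omega)] at h2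
    refine ⟨?_, ?_, hc⟩
    · rw [← h1]
      exact (relIndex_quo_eq hZK hNZ).symm
    · rw [class_eq hp hX hK0]
      exact congrArg (· + 1) h2

/-- Let P be a finite p-group and E an abelian subgroup of P that contains its centralizer, has index p in its normalizer, and has index at least p² in P. Then the subgroups of P containing E are totally ordered by inclusion, each proper one has index p in its normalizer (so they form the normalizer tower of E, with all steps of index p), and the i-th member of the tower above E has nilpotency class i + 1 whenever it is a proper subgroup of P. -/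
theorem result {P : Type*} [Group P] [Finite P] (p : ℕ) [Fact p.Prime] (hP : IsPGroup p P)
    (E : Subgroup P) (hEab : IsMulCommutative ↥E) (hC : Subgroup.centralizer (E : Set P) ≤ E)
    (hN : (E.subgroupOf (Subgroup.normalizer (E : Set P))).index = p) (hidx : p ^ 2 ≤ E.index) :
    (∀ K L : Subgroup P, E ≤ K → E ≤ L → K ≤ L ∨ L ≤ K) ∧
      (∀ K : Subgroup P, E ≤ K → K ≠ ⊤ → (K.subgroupOf (Subgroup.normalizer (K : Set P))).index = p) ∧
      ∀ (i : ℕ) (K : Subgroup P) [Group.IsNilpotent ↥K], E ≤ K → K ≠ ⊤ → K.index * p ^ i = E.index →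
        Group.nilpotencyClass ↥K = i + 1 := by
  classical
  have hp : p.Prime := Fact.out
  have H := main hp _ P rfl hP E hEab hC hN
  have hidx' : ∀ i, (∀ j < i, tw E j ≠ ⊤) → E.relIndex (tw E i) = p ^ i := by
    intro i
    induction i with
    | zero => exact fun _ => Subgroup.relIndex_self E
    | succ i ih =>
      intro h
      rw [← Subgroup.relIndex_mul_relIndex E (tw E i) _ (tw_mono E (Nat.zero_le i))
        (tw_mono E (Nat.le_succ i)), ih fun j hj => h j (by omega), (H i (h i (by omega))).1, pow_succ]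
  have hex : ∃ n, tw E n = ⊤ := by
    by_contra hc
    push Not at hc
    have h1 := hidx' (Nat.card P) fun j _ => hc j
    have h2 : E.relIndex (tw E (Nat.card P)) ≤ Nat.card P :=
      (Nat.le_of_dvd Nat.card_pos (Subgroup.relIndex_dvd_card _ _)).trans (Subgroup.card_le_card_group _)
    exact absurd (h1 ▸ h2) (Nat.lt_pow_self hp.one_lt).not_ge
  have hall : ∀ L, E ≤ L → ∃ j, L = tw E j := by
    intro L hL
    rcases chain hp hP (Nat.find hex) (fun j hj => (H j (Nat.find_min hex hj)).1) L hL with h | ⟨j, -, h⟩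
    · exact ⟨_, le_antisymm (le_top.trans (Nat.find_spec hex).ge) h⟩
    · exact ⟨j, h⟩
  refine ⟨fun K L hK hL => ?_, fun K hK hne => ?_, fun i K _ hK hne hi => ?_⟩
  · obtain ⟨i, rfl⟩ := hall K hK
    obtain ⟨j, rfl⟩ := hall L hL
    exact (le_total i j).imp (fun h => tw_mono E h) (fun h => tw_mono E h)
  · obtain ⟨i, rfl⟩ := hall K hK
    exact (H i hne).1
  · obtain ⟨j, rfl⟩ := hall K hK
    have h1 := hidx' j fun k hk h => hne (top_le_iff.1 (h ▸ tw_mono E hk.le))
    rw [← Subgroup.relIndex_mul_index hK, h1, mul_comm] at hi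
    have h2 := Nat.eq_of_mul_eq_mul_right (Nat.pos_of_ne_zero Subgroup.index_ne_zero_of_finite) hi
    obtain rfl := Nat.pow_right_injective hp.two_le h2
    exact (H i hne).2.1

end Cfsg.Agent.S3811
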