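import Cfsg.Statements.S3835
import Cfsg.Agent.H98.AltSyl
import Cfsg.Agent.H54.Qd

set_option autoImplicit false
open Cfsg

namespace Cfsg.Agent.S3835

open H98 H98.AltS H54 H54.Aff Equiv Equiv.Perm

variable {p : ℕ} [Fact p.Prime]

theorem comm_of_lt {α : Type} [Fintype α] [DecidableEq α] (h : Fintype.card α < p ^ 2)
    {Q : Subgroup (Perm α)} (hQ : IsPGroup p Q) {x y : Perm α} (hx : x ∈ Q) (hy : y ∈ Q) :
    x * y = y * x := by
  have hp := (Fact.out : p.Prime).pos
  obtain ⟨e⟩ := exists_model (p := p) α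
  obtain ⟨R, hR⟩ := exists_sylIn p (⊤ : Subgroup (Perm (Fin (Fintype.card α / p))))
  obtain ⟨g, -, hg⟩ := (sylIn_SS (β := Fin (Fintype.card α % p))
    (by simpa using Nat.mod_lt _ hp) hR).exists_conj_le le_top (hQ.map e.permCongrHom.toMonoidHom)
  have hR' := card_of_sylIn_perm hR
  rw [Fintype.card_fin, padicValNat.eq_zero_of_not_dvd (by
    rw [(Fact.out : p.Prime).dvd_factorial, not_le, Nat.div_lt_iff_lt_mul hp, ← sq]
    exact h), pow_zero, Subgroup.card_eq_one] at hR'
  have h2 : ∀ x ∈ Q, g * e.permCongrHom x * g⁻¹ ∈ EE p _ _ := fun x hx => by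
    obtain ⟨π, hπ, b, h2⟩ := map_conj_le_iff.1 hg _ ⟨x, hx, rfl⟩
    rw [show π = 1 from Subgroup.mem_bot.1 (hR' ▸ hπ), map_one, one_mul] at h2
    exact ⟨b, h2.symm⟩
  obtain ⟨a, ha⟩ := h2 x hx
  obtain ⟨b, hb⟩ := h2 y hy
  have := ee_comm (β := Fin (Fintype.card α % p)) a b
  rw [ha, hb, conj_mul, conj_mul, ← map_mul, ← map_mul] at this
  exact e.permCongrHom.injective (mul_left_cancel (mul_right_cancel this))

variable (p) in
/-- The affine action on the plane. -/
def act : Cfsg.qd p →* Perm (ZMod p × ZMod p) :=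
  MonoidHom.toHomPerm
    { toFun := fun M x => (a M * x.1 + b M * x.2 + e M, c M * x.1 + d M * x.2 + f M)
      map_one' := by funext x; simp; rfl
      map_mul' := fun M N => by
        funext x
        change _ = (a M * (a N * x.1 + b N * x.2 + e N) + b M * (c N * x.1 + d N * x.2 + f N) + e M,
          c M * (a N * x.1 + b N * x.2 + e N) + d M * (c N * x.1 + d N * x.2 + f N) + f M)
        simp only [a_mul, b_mul, c_mul, d_mul, e_mul, f_mul]
        congr 1 <;> ring }

theorem act_injective : Function.Injective (act p) := by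
  rw [injective_iff_map_eq_one]
  intro M hM
  have h : ∀ x : ZMod p × ZMod p,
      (a M * x.1 + b M * x.2 + e M, c M * x.1 + d M * x.2 + f M) = x := fun x =>
    congrArg (fun σ : Perm (ZMod p × ZMod p) => σ x) hM
  have h0 := h (0, 0)
  have h1 := h (1, 0)
  have h2 := h (0, 1)
  simp only [mul_zero, mul_one, add_zero, zero_add, Prod.mk.injEq] at h0 h1 h2
  rw [h0.1, h0.2, add_zero, add_zero] at h1 h2
  exact Aff.ext h1.1 h2.1 h1.2 h2.2 h0.1 h0.2

theorem isPGroup_U : IsPGroup p (U (Cfsg.qd p)) := IsPGroup.of_card (by rw [card_U, Nat.card_zmod])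

theorem sign_act (hp : p ≠ 2) (M : Cfsg.qd p) : sign (act p M) = 1 := by
  have h1 : ∀ b e f, sign (act p (un _ b e f)) = 1 := fun b e f => by
    obtain ⟨k, hk⟩ := isPGroup_U ⟨_, un_mem_U b e f⟩
    exact sign_of_pow hp (k := k) (by rw [← map_pow, show un _ b e f ^ _ = 1 from
      congrArg Subtype.val hk, map_one])
  have h2 : ∀ c, sign (act p (mk _ 1 0 c 1 0 0 (by ring))) = 1 := fun c => by
    have : mk (Cfsg.qd p) 1 0 c 1 0 0 (by ring) * mk _ 0 1 (-1) 0 0 0 (by ring) =
        mk _ 0 1 (-1) 0 0 0 (by ring) * un _ (-c) 0 0 := by apply Aff.ext <;> simp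
    have := congrArg (fun x => sign (act p x)) this
    simpa [h1] using this
  have h3 : ∀ M : Cfsg.qd p, c M ≠ 0 → sign (act p M) = 1 := fun M h => by
    have : M = un _ ((a M - 1) / c M) (e M) (f M) * mk _ 1 0 (c M) 1 0 0 (by ring) *
        un _ ((d M - 1) / c M) 0 0 := by
      apply Aff.ext <;> simp <;> field_simp
      · ring
      · linear_combination -det_eq M
      · ring
    rw [this]
    simp [h1, h2]
  by_cases h : c M = 0
  · have := h3 (mk _ 1 0 1 1 0 0 (by ring) * M) (by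
      have := det_eq M
      rw [h, mul_zero, sub_zero] at this
      simpa [h] using left_ne_zero_of_mul_eq_one this)
    simpa [h2] using this
  · exact h3 M h

theorem not_involves {n : ℕ} (h : n < p ^ 2) :
    ¬ Cfsg.Involves ↥(Cfsg.qd p) ↥(alternatingGroup (Fin n)) := by
  rintro ⟨K, R, _, ⟨φ⟩⟩
  obtain ⟨T, hT⟩ := exists_sylIn p (⊤ : Subgroup K)
  have h1 := hT.map (φ.toMonoidHom.comp (QuotientGroup.mk' _))
  rw [← MonoidHom.range_eq_map, MonoidHom.range_eq_top.2
    (φ.surjective.comp (QuotientGroup.mk'_surjective _))] at h1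
  obtain ⟨g, -, hg⟩ := h1.exists_conj_le le_top isPGroup_U
  obtain ⟨x, hx, ex⟩ := map_conj_le_iff.1 hg _ (un_mem_U 1 0 0)
  obtain ⟨y, hy, ey⟩ := map_conj_le_iff.1 hg _ (un_mem_U 0 0 1)
  have h2 : x * y = y * x := Subtype.ext (Subtype.ext (comm_of_lt (by simpa using h)
    (hT.isPGroup.map ((alternatingGroup _).subtype.comp K.subtype)) ⟨x, hx, rfl⟩ ⟨y, hy, rfl⟩))
  have h3 := congrArg (φ.toMonoidHom.comp (QuotientGroup.mk' _)) h2
  rw [map_mul, map_mul, ex, ey, conj_mul, conj_mul, un_mul, un_mul] at h3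
  simpa using (un_inj (mul_left_cancel (mul_right_cancel h3))).2.1

/-- Let p be an odd prime and n a natural number. The alternating group of degree n has a subgroup isomorphic to Qd(p) (the natural semidirect product of an elementary abelian group of order p² by SL₂(p)) if and only if n ≥ p²; and if n < p² then Qd(p) is not even involved in it. -/
theorem result {p : ℕ} [Fact p.Prime] (hp : p ≠ 2) (n : ℕ) : ((∃ H : Subgroup (alternatingGroup (Fin n)), Nonempty (↥H ≃* ↥(Cfsg.qd p))) ↔ p ^ 2 ≤ n) ∧ (n < p ^ 2 → ¬ Cfsg.Involves ↥(Cfsg.qd p) ↥(alternatingGroup (Fin n))) := by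
  refine ⟨⟨fun ⟨H, ⟨φ⟩⟩ => by_contra fun h => not_involves (not_le.1 h) ⟨H, ⊥, by
    rw [Subgroup.bot_subgroupOf]; infer_instance, ⟨((QuotientGroup.quotientMulEquivOfEq
      (Subgroup.bot_subgroupOf H)).trans QuotientGroup.quotientBot).trans φ⟩⟩, fun h => ?_⟩,
    not_involves⟩
  obtain ⟨e⟩ : Nonempty ((ZMod p × ZMod p) ⊕ Fin (n - p ^ 2) ≃ Fin n) :=
    Fintype.card_eq.1 (by simp [← sq, h])
  let ψ : Cfsg.qd p →* Perm (Fin n) := e.permCongrHom.toMonoidHom.comp
    ((Perm.sumCongrHom _ _).comp ((MonoidHom.inl _ _).comp (act p)))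
  have h1 : Function.Injective ψ := e.permCongrHom.injective.comp (Perm.sumCongrHom_injective.comp
    ((Prod.mk_left_injective 1).comp act_injective))
  let ψ' := ψ.codRestrict (alternatingGroup _) fun M => by simp [ψ, sign_act hp]
  exact ⟨ψ'.range, ⟨(ψ'.ofInjective fun x y hxy => h1 (congrArg Subtype.val hxy)).symm⟩⟩

end Cfsg.Agent.S3835
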