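import Cfsg.Statements.S3839
import Cfsg.Agent.H96.PStab
import Cfsg.Agent.H96.Nilp

set_option autoImplicit false
open Cfsg

namespace Cfsg.Agent.S3839

open Cfsg.FusionSystem Cfsg.Agent.H97 Cfsg.Agent.H98 Cfsg.Agent.H96


/-- A Frobenius normal p-complement criterion relative to a strongly closed subgroup. Let G be a finite group, S a Sylow p-subgroup and D a subgroup of S strongly closed in S with respect to G. Then G has a normal p-complement if and only if N_G(U) has a normal p-complement for every subgroup U of D with C_D(U) ≤ U. -/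
theorem result {G : Type*} [Group G] [Finite G] {p : ℕ} [Fact p.Prime] (S : Sylow p G) (D : Subgroup G) (hD : Cfsg.IsStronglyClosed D (S : Subgroup G)) : Cfsg.HasNormalPComplement p G ↔ ∀ U : Subgroup G, U ≤ D → D ⊓ Subgroup.centralizer (U : Set G) ≤ U → Cfsg.HasNormalPComplement p ↥(Subgroup.normalizer (U : Set G)) := by
  refine ⟨fun h U _ _ => H8.HasNormalPComplement.subgroup h _, fun h => ?_⟩
  set F := groupFusionSystem (S : Subgroup G) with hF
  have hsat : F.IsSaturated p := group_isSaturated S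
  have hS := S.isPGroup'
  have hDs : F.StronglyClosed D := stronglyClosed_iff.2 ⟨hD.1, fun P f hf x hx hxD => by
    obtain ⟨-, h1, g, e⟩ := mor_group_iff.1 hf
    have h2 := h1 x hx
    rw [e x hx] at h2 ⊢
    exact hD.2 x hxD g h2⟩
  refine hasNormalPComplement_of_nil (isRealizedBy_group (S : Subgroup G)) S
    (Subgroup.range_subtype _).symm (nil_of_pGroups hS hsat fun P hP => ?_)
  have hcr : F.IsCentric P ∧ F.IsRadical p P := by
    rcases hP with rfl | hP
    · exact ⟨isCentric_top F, isRadical_top hS hsat⟩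
    · exact ⟨(isEssential_iff.1 hP).1, isRadical_of_isEssential hS hP⟩
  have hPS : P ≤ S := hcr.1.1
  have hPp := hS.to_le hPS
  have hnD : ∀ g ∈ Subgroup.normalizer (P : Set G), ∀ x ∈ P ⊓ D, g * x * g⁻¹ ∈ P ⊓ D :=
    fun g hg x hx => ⟨H96.conj_mem_of_mem_normalizer hg hx.1,
      hD.2 x hx.2 g (hPS (H96.conj_mem_of_mem_normalizer hg hx.1))⟩
  have hN : Subgroup.normalizer (P : Set G) ≤ Subgroup.normalizer ((P ⊓ D : Subgroup G) : Set G) :=
    fun g hg => mem_normalizer_of_conj_mem (hnD g hg)
  have hSD := le_normalizer_of_stronglyClosed hDs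
  have hC : D ⊓ Subgroup.centralizer ((P ⊓ D : Subgroup G) : Set G) ≤ P := by
    refine le_of_conjAut_mem_pCoreIn hS hcr.1 hcr.2 (inf_le_left.trans hD.1) (fun x hx => ?_)
      fun s hs hsn => ?_
    · exact H51.normalizer_inf_normalizer_le_inf _ _ ⟨hSD (hPS hx),
        H51.normalizer_le_normalizer_centralizer' _ (hN (Subgroup.le_normalizer hx))⟩
    · refine mem_pCoreIn_of_fix_of_comm hPp _ (Q := D)
        (fun α hα x hx hxD => ext_mem_of_stronglyClosed hDs hPS hα hx hxD)
        (autInducedBy_le_autGroup F hPS le_rfl (conjAut_mem_autInducedBy (hD.1 hs.1) hsn))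
        (fun x hx hxD => ?_) fun x hx => ?_
      · rw [ext_conjAut hsn hx]; exact mem_centralizer_conj.1 hs.2 x ⟨hx, hxD⟩
      · rw [ext_conjAut hsn hx]; exact comm_mem_of_normalizes hs.1 (hSD (hPS hx))
  have h1 := H8.HasNormalPComplement.mono (h (P ⊓ D) inf_le_right
    (le_inf hC inf_le_left)) hN
  rw [group_autGroup hPS]
  refine isPGroup_of_forall fun α hα => ?_
  obtain ⟨g, -, e⟩ := mem_autInducedBy_iff.1 hα
  have hg := mem_normalizer_of_ext e
  obtain ⟨k, hk⟩ := H83.coprime_orderOf_pow_ppow (p := p) g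
  refine ⟨k, ?_⟩
  obtain rfl : α = conjAut P hg := aut_ext fun z hz => (e z hz).trans (ext_conjAut hg hz).symm
  have h2 := H8.HasNormalPComplement.mem_centralizer h1
    (Q := P.subgroupOf (Subgroup.normalizer (P : Set G))) hPp.comap_subtype (g := ⟨g, hg⟩ ^ p ^ k)
    (Subgroup.le_normalizer_of_normal (Subgroup.mem_top _))
    (by rw [← Subgroup.orderOf_coe]; exact hk)
  rw [conjAut, ← map_pow]
  refine aut_eq_one fun x hx => (ext_conjAut (Subgroup.pow_mem _ hg _) hx).trans ?_
  exact congrArg Subtype.val (mem_centralizer_conj.1 h2 ⟨x, Subgroup.le_normalizer hx⟩ hx)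

end Cfsg.Agent.S3839
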