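import Cfsg.Statements.S3857
import Cfsg.Agent.H5.Semiregular
import Cfsg.Agent.H3.Fitting
import Cfsg.Agent.H5.Supersolvable
import Cfsg.Agent.H5.Frobenius

set_option autoImplicit false
open Cfsg

namespace Cfsg.Agent.S3857

def Disc (A : Set ℕ) (X : Type*) [Group X] : Prop :=
  ∀ a ∈ A, ∀ b ∉ A, a.Prime → b.Prime → ∀ g : X, orderOf g ≠ a * b

def Num (A : Set ℕ) (n : ℕ) : Prop := ∀ p : ℕ, p.Prime → p ∣ n → p ∈ A

theorem Num.of_dvd {A : Set ℕ} {m n : ℕ} (h : Num A n) (hd : m ∣ n) : Num A m :=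
  fun p hp h1 => h p hp (h1.trans hd)

theorem Num.mul {A : Set ℕ} {m n : ℕ} (h : Num A m) (h' : Num A n) : Num A (m * n) :=
  fun p hp h1 => ((Nat.Prime.dvd_mul hp).mp h1).elim (h p hp) (h' p hp)

theorem Num.coprime {A : Set ℕ} {m n : ℕ} (h : Num A m) (h' : Num Aᶜ n) : m.Coprime n :=
  Nat.coprime_of_dvd fun p hp h1 h2 => h' p hp h2 (h p hp h1)

theorem Disc.compl {A : Set ℕ} {X : Type*} [Group X] (h : Disc A X) : Disc Aᶜ X :=
  fun a ha b hb h1 h2 g => by rw [mul_comm]; exact h b (not_not.mp hb) a ha h2 h1 g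

theorem Disc.sub {A : Set ℕ} {X : Type*} [Group X] (h : Disc A X) (K : Subgroup X) : Disc A K :=
  fun a ha b hb h1 h2 g => by rw [← Subgroup.orderOf_coe]; exact h a ha b hb h1 h2 g

theorem Disc.quot {A : Set ℕ} {X : Type*} [Group X] [Finite X] (h : Disc A X) (K : Subgroup X)
    [K.Normal] : Disc A (X ⧸ K) := by
  intro a ha b hb h1 h2 g hg
  obtain ⟨g, rfl⟩ := QuotientGroup.mk'_surjective K g
  have h3 : a * b ∣ orderOf g := hg ▸ orderOf_map_dvd _ g
  exact h a ha b hb h1 h2 _ (orderOf_pow_orderOf_div (orderOf_pos g).ne' h3)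

theorem Disc.not_commute {A : Set ℕ} {X : Type*} [Group X] [Finite X] (h : Disc A X) {a b : ℕ}
    (ha : a ∈ A) (hb : b ∉ A) (h1 : a.Prime) (h2 : b.Prime) {x y : X} (hx : a ∣ orderOf x)
    (hy : b ∣ orderOf y) (hc : Commute x y) : False := by
  have a1 := orderOf_pow_orderOf_div (orderOf_pos x).ne' hx
  have a2 := orderOf_pow_orderOf_div (orderOf_pos y).ne' hy
  apply h a ha b hb h1 h2 (x ^ (orderOf x / a) * y ^ (orderOf y / b))
  rw [(hc.pow_pow _ _).orderOf_mul_eq_mul_orderOf_of_coprime (by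
    rw [a1, a2]; exact (Nat.coprime_primes h1 h2).mpr (fun e => hb (e ▸ ha))), a1, a2]

theorem Disc.frob {A : Set ℕ} {X : Type*} [Group X] [Finite X] (h : Disc A X) (N : Subgroup X)
    [N.Normal] (h1 : N ≠ ⊥) (h2 : N ≠ ⊤) (h3 : Num A (Nat.card N)) (h4 : Num Aᶜ N.index) :
    ∃ C : Subgroup X, N.IsComplement' C ∧ Cfsg.IsFrobeniusComplement C ∧
      Cfsg.frobeniusKernel C = N ∧ ∀ h ∈ C, h ≠ 1 → N ⊓ Subgroup.centralizer {h} = ⊥ := by
  obtain ⟨C, hC⟩ := Subgroup.exists_right_complement'_of_coprime (h3.coprime h4)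
  have hCb : C ≠ ⊥ := by
    rintro rfl
    exact h2 (by simpa using hC.sup_eq_top)
  have hf : ∀ h ∈ C, h ≠ 1 → N ⊓ Subgroup.centralizer {h} = ⊥ := by
    intro c hc hc1
    rw [eq_bot_iff]
    intro k hk
    by_contra hk1
    obtain ⟨a, ha, hak⟩ := Nat.exists_prime_and_dvd (fun e => hk1 (orderOf_eq_one_iff.mp e))
    obtain ⟨b, hb, hbc⟩ := Nat.exists_prime_and_dvd (fun e => hc1 (orderOf_eq_one_iff.mp e))
    refine h.not_commute (h3 a ha (hak.trans (Subgroup.orderOf_dvd_natCard N hk.1)))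
      (h4 b hb ?_) ha hb hak hbc (Subgroup.mem_centralizer_singleton_iff.mp hk.2)
    rw [hC.symm.index_eq_card]
    exact hbc.trans (Subgroup.orderOf_dvd_natCard C hc)
  have hF := (H5.frob_iff_fpf N C hC h1 hCb).mpr hf
  exact ⟨C, hC, hF, (H5.coe_eq_frobeniusKernel_of_isComplement' hC hF).symm, hf⟩

theorem main {G : Type*} [Group G] [Finite G] (hsol : Group.IsSolvable G) (A : Set ℕ)
    (hD : Disc A G) {b : ℕ} (hb : b ∉ A) (hbp : b.Prime) (hbG : b ∣ Nat.card G) {r : ℕ} (hr : r ∈ A)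
    (hrp : r.Prime) (hO : Cfsg.pCore r G ≠ ⊥) :
    (∃ C : Subgroup G, Cfsg.IsFrobeniusComplement C) ∨
    (∃ (H K : Subgroup G) (_ : H.Normal), K.Normal ∧ H < K ∧
      (∃ C : Subgroup ↥K, Cfsg.IsFrobeniusComplement C ∧ Cfsg.frobeniusKernel C = (H.subgroupOf K : Set ↥K)) ∧
      (∃ C : Subgroup (G ⧸ H), Cfsg.IsFrobeniusComplement C ∧ Cfsg.frobeniusKernel C = (K.map (QuotientGroup.mk' H) : Set (G ⧸ H)))) := by
  have hpg : ∀ (X : Type _) [Group X] [Finite X] (p : ℕ), p.Prime → p ∈ A → IsPGroup p X →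
      Num A (Nat.card X) := by
    intro X _ _ p hp hpA hX q hq hqd
    have := Fact.mk hp
    obtain ⟨k, hk⟩ := IsPGroup.iff_card.mp hX
    rw [hk] at hqd
    rwa [(Nat.prime_dvd_prime_iff_eq hq hp).mp (hq.dvd_of_dvd_pow hqd)]
  obtain ⟨H, hOH, hH⟩ := Finite.exists_le_maximal
    (p := fun N : Subgroup G => N.Normal ∧ Num A (Nat.card N)) (a := Cfsg.pCore r G)
    ⟨inferInstance, hpg _ r hrp hr (H3.pCore_isPGroup r G)⟩
  have hHn := hH.1.1
  have hHb : H ≠ ⊥ := fun e => hO (le_bot_iff.mp (e ▸ hOH))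
  have hHt : H ≠ ⊤ := by
    rintro rfl
    exact hb (hH.1.2 b hbp (by simpa using hbG))
  by_cases hidx : Num Aᶜ H.index
  · obtain ⟨C, -, hC, -⟩ := hD.frob H hHb hHt hH.1.2 hidx
    exact Or.inl ⟨C, hC⟩
  right
  obtain ⟨a, hap, haH, haA⟩ : ∃ a : ℕ, a.Prime ∧ a ∣ H.index ∧ a ∈ A := by
    by_contra hcon
    push Not at hcon
    exact hidx hcon
  have hnt : Nontrivial (G ⧸ H) := QuotientGroup.nontrivial_iff.mpr hHt
  set F := Cfsg.fittingSubgroup (G ⧸ H) with hF
  have hFn : F.Normal := H3.fitting_normal _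
  have hFnil : Group.IsNilpotent F := H3.fitting_isNilpotent _
  have hFb : F ≠ ⊥ := H3.fitting_ne_bot _
  have hFA : Num Aᶜ (Nat.card F) := by
    intro p hp hpd hpA
    have := Fact.mk hp
    have h1 : Cfsg.pCore p (G ⧸ H) = ⊥ := by
      have h2 := hH.2 (y := (Cfsg.pCore p (G ⧸ H)).comap (QuotientGroup.mk' H)) ⟨inferInstance, by
        rw [H3.card_comap_mk']
        exact hH.1.2.mul (hpg _ p hp hpA (H3.pCore_isPGroup p _))⟩ (QuotientGroup.le_comap_mk' H _)
      rw [eq_bot_iff]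
      intro x hx
      obtain ⟨x, rfl⟩ := QuotientGroup.mk'_surjective H x
      exact (QuotientGroup.eq_one_iff _).mpr (h2 hx)
    have := H3.not_dvd_relIndex_pCore_fitting (G := G ⧸ H) (p := p)
    rw [h1, Subgroup.relIndex_bot_left] at this
    exact this hpd
  set K := F.comap (QuotientGroup.mk' H) with hK
  have hKF : K.map (QuotientGroup.mk' H) = F :=
    Subgroup.map_comap_eq_self_of_surjective (QuotientGroup.mk'_surjective H) F
  have hHK : H < K := by
    refine lt_of_le_of_ne (QuotientGroup.le_comap_mk' H _) fun e => hFb ?_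
    rw [← hKF, ← e, Subgroup.map_eq_bot_iff, QuotientGroup.ker_mk']
  have hidxK : (H.subgroupOf K).index = Nat.card F := by
    rw [← hKF, H3.card_map_mk']; rfl
  have hsb : H.subgroupOf K ≠ ⊥ := by
    rw [Ne, Subgroup.subgroupOf_eq_bot, disjoint_iff, inf_of_le_left hHK.le]; exact hHb
  obtain ⟨L, hL1, hL2, hL3, hL4⟩ := (hD.sub K).frob (H.subgroupOf K) hsb
    (fun e => hHK.not_ge (Subgroup.subgroupOf_eq_top.mp e)) (by
      rw [H3.card_subgroupOf, inf_of_le_left hHK.le]; exact hH.1.2) (hidxK ▸ hFA)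
  refine ⟨H, K, hHn, inferInstance, hHK, ⟨L, hL2, hL3⟩, ?_⟩
  -- `L ≃ F`
  let f : L →* F := ((QuotientGroup.mk' H).comp (K.subtype.comp L.subtype)).codRestrict F
    (fun x => x.1.2)
  have hfi : Function.Injective f := by
    rw [injective_iff_map_eq_one]
    intro x hx
    have h1 : QuotientGroup.mk' H x.1.1 = 1 := congrArg Subtype.val hx
    have h2 : x.1.1 ∈ H := (QuotientGroup.eq_one_iff _).mp h1
    exact Subtype.ext (Subgroup.disjoint_def.mp hL1.disjoint h2 x.2)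
  have hfb : Function.Bijective f := by
    rw [Nat.bijective_iff_injective_and_card]
    exact ⟨hfi, by rw [← hL1.symm.index_eq_card, hidxK]⟩
  let e := MulEquiv.ofBijective f hfb
  let _ := H5.conjAction L (H.subgroupOf K) Subgroup.le_normalizer_of_normal
  have hs : H5.Semireg L (H.subgroupOf K) := H5.semireg_conjAction _ hL4
  have hnt' : Nontrivial (H.subgroupOf K) := (Subgroup.nontrivial_iff_ne_bot _).mpr hsb
  have hDq := hD.quot H
  obtain ⟨x, hx⟩ : ∃ x : G ⧸ H, orderOf x = a := by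
    have := Fact.mk hap
    exact exists_prime_orderOf_dvd_card' a haH
  have hodd : ¬ 2 ∣ Nat.card F := by
    intro h2
    obtain ⟨t, ht⟩ := exists_prime_orderOf_dvd_card' 2 h2
    have huniq : ∀ s : F, orderOf s = 2 → s = t := by
      intro s hs'
      apply e.symm.injective
      exact hs.involution_unique (by rw [MulEquiv.orderOf_eq, ht]) (by rw [MulEquiv.orderOf_eq, hs'])
    have h3 := huniq ⟨x * t * x⁻¹, hFn.conj_mem _ t.2 x⟩ (by
      rw [← Subgroup.orderOf_coe, ← ht, ← Subgroup.orderOf_coe]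
      exact (MulAut.conj x).orderOf_eq (t : G ⧸ H))
    have h4 : x * t * x⁻¹ = t := congrArg Subtype.val h3
    exact hDq.not_commute haA (hFA 2 Nat.prime_two h2) hap Nat.prime_two (x := x) (y := t)
      (by rw [hx]) (by rw [Subgroup.orderOf_coe, ht]) (mul_inv_eq_iff_eq_mul.mp h4)
  have hLZ : IsZGroup L := hs.isZGroup_of_odd (by rwa [Nat.card_congr e.toEquiv])
  have hFZ : IsZGroup F := IsZGroup.of_surjective (f := f) hfb.2
  have hFc : IsCyclic F := inferInstance
  have hcomm : commutator (G ⧸ H) ≤ F :=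
    (H5.commutator_le_centralizer_of_isCyclic F).trans (H3.centralizer_fitting_le _)
  have hab : IsMulCommutative ((G ⧸ H) ⧸ F) :=
    Subgroup.Normal.quotient_commutative_iff_commutator_le.mpr hcomm
  have haF : a ∣ F.index := by
    have h1 : a ∣ Nat.card F * F.index := by rw [F.card_mul_index]; exact haH
    exact ((Nat.Prime.dvd_mul hap).mp h1).resolve_left fun h => hFA a hap h haA
  have hFt : F ≠ ⊤ := by
    intro e
    rw [e, Subgroup.index_top] at haF
    exact hap.one_lt.ne' (Nat.dvd_one.mp haF)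
  obtain ⟨C, -, hC1, hC2, -⟩ := hDq.compl.frob F hFb hFt hFA (by
    intro q hq hqd
    rw [compl_compl]
    by_contra hqA
    have := Fact.mk hap
    have := Fact.mk hq
    obtain ⟨u, hu⟩ := exists_prime_orderOf_dvd_card' (G := (G ⧸ H) ⧸ F) a haF
    obtain ⟨v, hv⟩ := exists_prime_orderOf_dvd_card' (G := (G ⧸ H) ⧸ F) q hqd
    exact (hDq.quot F).not_commute haA hqA hap hq (x := u) (y := v) (by rw [hu]) (by rw [hv])
      (mul_comm' u v))
  exact ⟨C, hC1, by rw [hC2, hKF]⟩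

/-- A finite solvable group whose prime graph (prime divisors of the order, two distinct primes joined when there is an element of order their product) is disconnected is a Frobenius group or a 2-Frobenius group (it has normal subgroups H < K with K a Frobenius group with kernel H and G/H a Frobenius group with kernel K/H). -/
theorem result {G : Type*} [Group G] [Finite G] (hsol : Group.IsSolvable G)
    (hdisc : (∃ A : Set ℕ, (∃ a ∈ A, a.Prime ∧ a ∣ Nat.card G) ∧ (∃ b ∉ A, b.Prime ∧ b ∣ Nat.card G) ∧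
      ∀ a ∈ A, ∀ b ∉ A, a.Prime → b.Prime → a ∣ Nat.card G → b ∣ Nat.card G → ¬ ∃ g : G, orderOf g = a * b)) :
    (∃ C : Subgroup G, Cfsg.IsFrobeniusComplement C) ∨
    (∃ (H K : Subgroup G) (_ : H.Normal), K.Normal ∧ H < K ∧
      (∃ C : Subgroup ↥K, Cfsg.IsFrobeniusComplement C ∧ Cfsg.frobeniusKernel C = (H.subgroupOf K : Set ↥K)) ∧
      (∃ C : Subgroup (G ⧸ H), Cfsg.IsFrobeniusComplement C ∧ Cfsg.frobeniusKernel C = (K.map (QuotientGroup.mk' H) : Set (G ⧸ H)))) := by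
  obtain ⟨A, ⟨a, ha, hap, haG⟩, ⟨b, hb, hbp, hbG⟩, h⟩ := hdisc
  have hD : Disc A G := by
    intro a ha b hb h1 h2 g hg
    have := orderOf_dvd_natCard g
    rw [hg] at this
    exact h a ha b hb h1 h2 ((Dvd.intro _ rfl).trans this) ((Dvd.intro_left _ rfl).trans this) ⟨g, hg⟩
  have hnt : Nontrivial G := by
    rw [← Finite.one_lt_card_iff_nontrivial]
    exact lt_of_lt_of_le hap.one_lt (Nat.le_of_dvd Nat.card_pos haG)
  obtain ⟨r, hrp, hO⟩ : ∃ r : ℕ, r.Prime ∧ Cfsg.pCore r G ≠ ⊥ := by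
    by_contra hcon
    push Not at hcon
    exact H3.fitting_ne_bot G (H3.fitting_eq_bot_iff.mpr hcon)
  by_cases hr : r ∈ A
  · exact main hsol A hD hb hbp hbG hr hrp hO
  · exact main hsol Aᶜ hD.compl (not_not.mpr ha) hap haG hr hrp hO

end Cfsg.Agent.S3857
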