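import Cfsg.Statements.S3862
import Cfsg.Agent.H8.Fusion

set_option autoImplicit false
open Cfsg

namespace Cfsg.Agent.S3862

open Subgroup

/-- If every 2-element of the finite group G that is conjugate to its inverse lies in the centre of G, then G has a normal 2-complement. -/
theorem result {G : Type*} [Group G] [Finite G] (h : ∀ x : G, (∃ j : ℕ, orderOf x = 2 ^ j) → IsConj x x⁻¹ → x ∈ Subgroup.center G) : Cfsg.HasNormalPComplement 2 G := by
  refine H8.hasNormalPComplement_of_forall_centralizes fun Q hQ g hg hc => ?_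
  have key : ∀ k : ℕ, ∀ x ∈ Q, x ^ 2 ^ k = 1 → g * x * g⁻¹ = x := by
    intro k
    induction k with
    | zero => intro x _ hx; simp_all
    | succ k ih =>
      intro x hx h1
      have h2 := ih (x ^ 2) (pow_mem hx 2) (by rwa [← pow_mul, ← pow_succ'])
      set u := x⁻¹ * (g * x * g⁻¹) with hu
      have h3 : g * x * g⁻¹ = x * u := by rw [hu]; group
      have h4 : x⁻¹ * u * x⁻¹⁻¹ = u⁻¹ := by
        rw [← conj_pow, h3, sq, sq] at h2
        calc x⁻¹ * u * x⁻¹⁻¹ = x⁻¹ * x⁻¹ * (x * u * (x * u)) * u⁻¹ := by group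
          _ = u⁻¹ := by rw [h2]; group
      have h5 : u ∈ Q := mul_mem (inv_mem hx) ((mem_normalizer_iff.1 hg x).1 hx)
      obtain ⟨j, hj⟩ := IsPGroup.iff_orderOf.1 hQ ⟨u, h5⟩
      have h6 := mem_center_iff.1 (h u ⟨j, by rw [← hj, orderOf_mk]⟩ (isConj_iff.2 ⟨_, h4⟩))
      have h7 : u⁻¹ = u := by rw [← h4, h6, inv_inv, inv_mul_cancel_right]
      have h8 : g ^ 2 ∈ centralizer ({x} : Set G) := by
        rw [mem_centralizer_singleton_iff]
        calc g ^ 2 * x = g * (g * x * g⁻¹) * g := by rw [sq]; group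
          _ = (g * x * g⁻¹) * (g * u) * g := by nth_rw 1 [h3]; group
          _ = x * (u * u⁻¹) * g * g := by rw [h3, h6 g, h7]; group
          _ = x * g ^ 2 := by rw [sq]; group
      have h9 : g ∈ centralizer ({x} : Set G) :=
        zpowers_le.2 h8 (mem_zpowers_pow_iff.2 (Nat.Coprime.symm hc))
      rw [mem_centralizer_singleton_iff.1 h9, mul_inv_cancel_right]
  intro x hx
  obtain ⟨k, hk⟩ := hQ ⟨x, hx⟩
  have := key k x hx (congrArg Subtype.val hk)
  rw [mul_inv_eq_iff_eq_mul] at this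
  exact this.symm

end Cfsg.Agent.S3862
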