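import Cfsg.Statements.S3863
import Mathlib

set_option autoImplicit false
open Cfsg

namespace Cfsg.Agent.S3863

theorem pow_odd_inverts {G : Type*} [Group G] {t x : G} (h : t * x * t⁻¹ = x⁻¹) {m : ℕ}
    (hm : Odd m) : t ^ m * x * (t ^ m)⁻¹ = x⁻¹ := by
  have h2 : t * x⁻¹ * t⁻¹ = x := by
    have := congrArg (·⁻¹) h
    simpa [mul_assoc] using this
  have hsq : ∀ k : ℕ, (t ^ 2) ^ k * x * ((t ^ 2) ^ k)⁻¹ = x := by
    intro k
    induction k with
    | zero => simp
    | succ k ih =>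
      calc (t ^ 2) ^ (k + 1) * x * ((t ^ 2) ^ (k + 1))⁻¹
          = t * (t * ((t ^ 2) ^ k * x * ((t ^ 2) ^ k)⁻¹) * t⁻¹) * t⁻¹ := by group
        _ = x := by rw [ih, h, h2]
  obtain ⟨k, rfl⟩ := hm
  calc t ^ (2 * k + 1) * x * (t ^ (2 * k + 1))⁻¹
      = t * ((t ^ 2) ^ k * x * ((t ^ 2) ^ k)⁻¹) * t⁻¹ := by group
    _ = x⁻¹ := by rw [hsq, h]

/-- Let x be an element of the finite group G that is conjugate to its inverse. Then some 2-element conjugates x to its inverse; if the conjugacy class of x has odd size then x ^ 2 = 1; and x lies in, and is conjugate to its inverse inside, every normal subgroup of odd index. -/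
theorem result {G : Type*} [Group G] [Finite G] (x : G) (hx : IsConj x x⁻¹) : (∃ t : G, (∃ j : ℕ, orderOf t = 2 ^ j) ∧ t * x * t⁻¹ = x⁻¹) ∧ (Odd (Subgroup.centralizer ({x} : Set G)).index → x ^ 2 = 1) ∧ ∀ (N : Subgroup G) [N.Normal], Odd N.index → ∃ hxN : x ∈ N, IsConj (⟨x, hxN⟩ : N) (⟨x, hxN⟩ : N)⁻¹ := by
  obtain ⟨t, ht⟩ := isConj_iff.mp hx
  refine ⟨?_, ?_, ?_⟩
  · obtain ⟨j, m, hm, hjm⟩ := Nat.exists_eq_two_pow_mul_odd (orderOf_pos t).ne'
    refine ⟨t ^ m, ⟨j, ?_⟩, pow_odd_inverts ht hm⟩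
    rw [orderOf_pow' t hm.pos.ne', hjm, Nat.gcd_mul_left_left, Nat.mul_div_cancel _ hm.pos]
  · intro hodd
    set C := Subgroup.centralizer ({x} : Set G) with hC
    have htN : t ∈ Subgroup.normalizer (C : Set G) := by
      refine Subgroup.mem_normalizer_fintype ?_
      intro c hc
      have hc' : c * x = x * c := Subgroup.mem_centralizer_singleton_iff.mp hc
      show t * c * t⁻¹ ∈ C
      rw [hC, Subgroup.mem_centralizer_singleton_iff]
      have h1 : t * c * t⁻¹ * x⁻¹ = x⁻¹ * (t * c * t⁻¹) := by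
        rw [← ht]
        calc t * c * t⁻¹ * (t * x * t⁻¹) = t * (c * x) * t⁻¹ := by group
          _ = t * (x * c) * t⁻¹ := by rw [hc']
          _ = _ := by group
      calc t * c * t⁻¹ * x = x * (x⁻¹ * (t * c * t⁻¹)) * x := by group
        _ = x * (t * c * t⁻¹ * x⁻¹) * x := by rw [h1]
        _ = _ := by group
    have h1 := Subgroup.pow_index_mem (C.subgroupOf (Subgroup.normalizer (C : Set G))) ⟨t, htN⟩
    have h2 : t ^ (C.relIndex (Subgroup.normalizer (C : Set G))) ∈ C := h1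
    have hodd' : Odd (C.relIndex (Subgroup.normalizer (C : Set G))) :=
      hodd.of_dvd_nat (Subgroup.relIndex_dvd_index_of_le Subgroup.le_normalizer)
    have h3 := pow_odd_inverts ht hodd'
    rw [hC, Subgroup.mem_centralizer_singleton_iff] at h2
    rw [h2, mul_inv_cancel_right] at h3
    rw [pow_two]
    nth_rewrite 1 [h3]
    exact inv_mul_cancel x
  · intro N hN hodd
    have hs := pow_odd_inverts ht hodd
    have hsN : t ^ N.index ∈ N := Subgroup.pow_index_mem N t
    set s := t ^ N.index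
    have hx2 : x ^ 2 ∈ N := by
      have h1 : x ^ 2 = (x * s * x⁻¹) * s⁻¹ := by
        have h2 : s * x⁻¹ * s⁻¹ = x := by
          have := congrArg (·⁻¹) hs
          simpa [mul_assoc] using this
        calc x ^ 2 = x * x := pow_two x
          _ = x * (s * x⁻¹ * s⁻¹) := by rw [h2]
          _ = _ := by group
      rw [h1]
      exact N.mul_mem (hN.conj_mem s hsN x) (N.inv_mem hsN)
    have hxN : x ∈ N := by
      obtain ⟨k, hk⟩ := hodd
      have h1 : x ^ N.index ∈ N := Subgroup.pow_index_mem N x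
      have : x = x ^ N.index * ((x ^ 2) ^ k)⁻¹ := by rw [hk]; group
      rw [this]
      exact N.mul_mem h1 (N.inv_mem (N.pow_mem hx2 k))
    refine ⟨hxN, isConj_iff.mpr ⟨⟨s, hsN⟩, Subtype.ext hs⟩⟩

end Cfsg.Agent.S3863
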