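import Cfsg.Statements.S3869
import Cfsg.Agent.H94.MinNonClosed

set_option autoImplicit false
open Cfsg

namespace Cfsg.Agent.S3869

/-- Let p and q be distinct primes and G a finite non-abelian group with a normal elementary abelian q-subgroup A that is a minimal normal subgroup of G and has index p. Then A has order q^e with e the multiplicative order of q modulo p, and G is minimal non-p-closed: its Sylow p-subgroups are not normal, while in every proper subgroup and in every proper quotient of G the Sylow p-subgroups are normal. -/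
theorem result {G : Type*} [Group G] [Finite G] {p q : ℕ} [Fact p.Prime] (hq : q.Prime) (hpq : q ≠ p)
    (hna : ¬ IsMulCommutative G) (A : Subgroup G) [A.Normal] (hA : Cfsg.IsElementaryAbelian q A) (hidx : A.index = p)
    (hmin : ∀ B : Subgroup G, B.Normal → B ≤ A → B = ⊥ ∨ B = A) :
    Nat.card ↥A = q ^ orderOf (q : ZMod p) ∧ ¬ Cfsg.IsPClosed p G ∧ (∀ H : Subgroup G, H ≠ ⊤ → Cfsg.IsPClosed p ↥H) ∧
      ∀ (N : Subgroup G) [N.Normal], N ≠ ⊥ → Cfsg.IsPClosed p (G ⧸ N) := by
  have hp : p.Prime := Fact.out
  have : Fact q.Prime := ⟨hq⟩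
  have hAc := hA.1
  have hidx' : A.index.Prime := hidx ▸ hp
  have hcard := H94.card_eq_of_minimal_normal_index_prime hq hpq hna A hA hidx hmin
  have hAπ : H2.IsPiNum {p}ᶜ (Nat.card A) := by
    rw [hcard]; exact H2.isPiNum_prime_pow hq hpq _
  have hpp : H2.IsPiNum {p} p := by simpa using H2.isPiNum_prime_pow hp (Set.mem_singleton p) 1
  refine ⟨hcard, fun h => ?_, fun H hH => ?_, fun N _ hN => ?_⟩
  · obtain ⟨t, ht⟩ := exists_prime_orderOf_dvd_card' (G := G) p (hidx ▸ A.index_dvd_card)
    have htA : t ∉ A := fun h => H94.isPiNum_orderOf_of_mem hAπ h p hp (by rw [ht]) rfl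
    refine hna (H94.isMulCommutative_of_index_prime hidx' htA ?_)
    exact (H94.isPClosed_iff_piClosed.1 h).piHom A t hAπ (ht ▸ hpp)
      (by rw [Subgroup.normalizer_eq_top]; trivial)
  · rw [H94.isPClosed_iff_piClosed]
    by_cases hle : H ≤ A
    · exact H94.piClosed_of_card_compl (hAπ.of_dvd (Subgroup.card_dvd_of_le hle))
    have htop : A ⊔ H = ⊤ := (H94.isCoatom_of_index_prime hidx').2 _ (left_lt_sup.2 hle)
    have hn : (A ⊓ H).Normal := by
      refine H1.normal_of_top_le_normalizer ?_
      rw [← htop, sup_le_iff]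
      refine ⟨le_trans ?_ (Subgroup.centralizer_le_normalizer _), ?_⟩
      · exact (Subgroup.le_centralizer A).trans
          (Subgroup.centralizer_le (by exact_mod_cast inf_le_left))
      · exact H4.le_normalizer_inf (by rw [Subgroup.normalizer_eq_top]; exact le_top)
          Subgroup.le_normalizer
    rcases hmin _ hn inf_le_left with h | h
    · refine H94.piClosed_of_card (hpp.of_dvd ?_)
      rw [← H1.card_inf_mul_relIndex A H, h, Subgroup.card_bot, one_mul, ← hidx]
      exact Subgroup.relIndex_dvd_index_of_normal A H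
    · exact absurd (by rw [← htop, sup_eq_right.2 (inf_eq_left.1 h)]) hH
  · rw [H94.isPClosed_iff_piClosed]
    rcases hmin (A ⊓ N) inferInstance inf_le_left with h | h
    · exfalso
      obtain ⟨⟨t, ht⟩, ht1⟩ := (Subgroup.ne_bot_iff_exists_ne_one).1 hN
      have htA : t ∉ A := fun hA' => by
        have : t ∈ A ⊓ N := ⟨hA', ht⟩
        rw [h, Subgroup.mem_bot] at this
        exact ht1 (Subtype.ext this)
      refine hna (H94.isMulCommutative_of_index_prime hidx' htA ?_)
      rw [Subgroup.mem_centralizer_iff]
      intro a ha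
      exact Subgroup.commute_of_normal_of_disjoint A N inferInstance inferInstance
        (disjoint_iff.2 h) a t ha ht
    · refine H94.piClosed_of_card (hpp.of_dvd ?_)
      rw [← hidx]
      exact Subgroup.index_dvd_of_le (inf_eq_left.1 h)

end Cfsg.Agent.S3869
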