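import Cfsg.Statements.S3870
import Cfsg.Agent.H90.Basic

set_option autoImplicit false
open Cfsg

namespace Cfsg.Agent.S3870

/-- Let G be a finite simple group whose Sylow p-subgroups are not normal but such that every proper subgroup of G has a normal Sylow p-subgroup. Then any two distinct Sylow p-subgroups of G intersect trivially, and for every Sylow p-subgroup P the normalizer of every non-identity subgroup of P lies in the normalizer of P. -/
theorem result {G : Type*} [Group G] [Finite G] [IsSimpleGroup G] {p : ℕ} [Fact p.Prime]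
    (hnc : ¬ Cfsg.IsPClosed p G) (hsub : ∀ H : Subgroup G, H ≠ ⊤ → Cfsg.IsPClosed p ↥H) :
    (∀ P Q : Sylow p G, P ≠ Q → (P : Subgroup G) ⊓ (Q : Subgroup G) = ⊥) ∧
      ∀ (P : Sylow p G) (R : Subgroup G), R ≤ P → R ≠ ⊥ →
        Subgroup.normalizer (R : Set G) ≤ Subgroup.normalizer ((P : Subgroup G) : Set G) := by
  have hTI : ∀ P Q : Sylow p G, P ≠ Q → (P : Subgroup G) ⊓ (Q : Subgroup G) = ⊥ := by
    suffices h : ∀ D : Subgroup G, ∀ P Q : Sylow p G, (P : Subgroup G) ⊓ (Q : Subgroup G) = D →
        P ≠ Q → D = ⊥ from fun P Q hne => h _ P Q rfl hne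
    intro D
    induction D using WellFoundedGT.induction with
    | ind D ih =>
    intro P Q hD hne
    by_contra hD0
    have hlt : ∀ P Q : Sylow p G, (P : Subgroup G) ⊓ (Q : Subgroup G) = D → P ≠ Q →
        D < (P : Subgroup G) := by
      intro P Q hD hne
      refine lt_of_le_of_ne (hD ▸ inf_le_left) fun h => hne (Sylow.ext ?_)
      have h1 : (P : Subgroup G) ≤ Q := by rw [← h, ← hD]; exact inf_le_right
      exact (P.3 Q.isPGroup' h1).symm
    have hN : Subgroup.normalizer (D : Set G) ≠ ⊤ := by
      intro h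
      rcases (Subgroup.normalizer_eq_top_iff.1 h).eq_bot_or_eq_top with h1 | h1
      · exact hD0 h1
      · exact (hlt P Q hD hne).not_ge (h1 ▸ le_top)
    let S : Sylow p (Subgroup.normalizer (D : Set G)) := Sylow.nonempty.some
    have hS : (S : Subgroup (Subgroup.normalizer (D : Set G))).Normal := hsub _ hN S
    obtain ⟨T, hT⟩ := S.exists_comap_subtype_eq
    have key : ∀ P : Sylow p G, D < (P : Subgroup G) → P = T := by
      intro P hDP
      by_contra hne'
      have hnil := P.isPGroup'.isNilpotent
      have h1 : D.subgroupOf P < ⊤ := by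
        rw [lt_top_iff_ne_top, Ne, Subgroup.subgroupOf_eq_top]
        exact hDP.not_ge
      have h2 := Group.normalizerCondition_of_isNilpotent _ h1
      have h3 : ∀ x ∈ (P : Subgroup G), x ∈ Subgroup.normalizer (D : Set G) →
          x ∈ (T : Subgroup G) := by
        intro x hx hxN
        obtain ⟨k, hk⟩ := P.isPGroup' ⟨x, hx⟩
        have hk' : x ^ p ^ k = 1 := congrArg Subtype.val hk
        have := H90.mem_sylow_of_mem_normalizer S (x := ⟨x, hxN⟩) (k := k) (Subtype.ext hk')
          ((Subgroup.normalizer_eq_top_iff.2 hS).ge (Subgroup.mem_top _))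
        rw [← hT] at this
        exact this
      obtain ⟨x, hx1, hx2⟩ := SetLike.exists_of_lt h2
      rw [← Subgroup.subgroupOf_normalizer_eq hDP.le] at hx1
      have h4 : D < (P : Subgroup G) ⊓ (T : Subgroup G) := by
        refine lt_of_le_of_ne (fun y hy => ⟨hDP.le hy, h3 y (hDP.le hy)
          (Subgroup.le_normalizer hy)⟩) fun h => hx2 ?_
        change (x : G) ∈ D
        rw [h]
        exact ⟨x.2, h3 x x.2 hx1⟩
      exact (bot_le.trans_lt h4).ne' (ih _ h4 P T rfl hne')
    exact hne ((key P (hlt P Q hD hne)).trans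
      (key Q (hlt Q P (by rw [inf_comm, hD]) hne.symm)).symm)
  refine ⟨hTI, ?_⟩
  intro P R hRP hR g hg
  change _ ∈ Subgroup.normalizer (P : Set G)
  rw [← Sylow.smul_eq_iff_mem_normalizer]
  by_contra hne
  apply hR
  rw [eq_bot_iff, ← hTI _ _ hne]
  refine le_inf ?_ hRP
  rw [H90.sylow_coe_smul, ← H90.map_conj_eq_self_iff.2 hg]
  exact Subgroup.map_mono hRP

end Cfsg.Agent.S3870
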