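import Cfsg.Statements.S3872
import Cfsg.Agent.H90.Basic2
import Cfsg.Agent.H90.Regular
import Cfsg.Agent.S0063

set_option autoImplicit false
open Cfsg

namespace Cfsg.Agent.S3872

/-- Say that a finite group is p-exponent closed when its elements of order dividing p form a subgroup. Let G be a finite p-group that is not p-exponent closed, but all of whose proper subgroups and proper quotients are. Then G is generated by two elements, has nilpotency class at least p, has exponent p², has cyclic center, and has order at least p^(p+1). -/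
theorem result {G : Type*} [Group G] [Finite G] {p : ℕ} [Fact p.Prime] (hG : IsPGroup p G)
    (hnc : ¬ (∃ H : Subgroup G, (H : Set G) = {g : G | g ^ p = 1})) (hsub : ∀ K : Subgroup G, K ≠ ⊤ → (∃ H : Subgroup ↥K, (H : Set ↥K) = {g : ↥K | g ^ p = 1}))
    (hquo : ∀ (N : Subgroup G) [N.Normal], N ≠ ⊥ → (∃ H : Subgroup (G ⧸ N), (H : Set (G ⧸ N)) = {g : (G ⧸ N) | g ^ p = 1})) :
    (∃ x y : G, Subgroup.closure ({x, y} : Set G) = ⊤) ∧ (⊤ : Subgroup G).lowerCentralSeries (p - 1) ≠ ⊥ ∧
      Monoid.exponent G = p ^ 2 ∧ IsCyclic ↥(Subgroup.center G) ∧ p ^ (p + 1) ≤ Nat.card G := by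
  have hpp : p.Prime := Fact.out
  obtain ⟨x, y, hx, hy, hxy⟩ : ∃ x y : G, x ^ p = 1 ∧ y ^ p = 1 ∧ (x * y) ^ p ≠ 1 := by
    by_contra h
    push Not at h
    exact hnc ⟨{ carrier := {g | g ^ p = 1}
                 one_mem' := one_pow p
                 mul_mem' := fun {a b} ha hb => h a b ha hb
                 inv_mem' := fun {a} (ha : a ^ p = 1) =>
                   show a⁻¹ ^ p = 1 by rw [inv_pow, ha, inv_one] }, rfl⟩
  have hgen : Subgroup.closure ({x, y} : Set G) = ⊤ := by
    by_contra h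
    obtain ⟨H, hH⟩ := hsub _ h
    have h1 : (⟨x, H90.left_mem_closure_pair x y⟩ : Subgroup.closure ({x, y} : Set G)) ∈ H := by
      rw [← SetLike.mem_coe, hH]; exact Subtype.ext hx
    have h2 : (⟨y, H90.right_mem_closure_pair x y⟩ : Subgroup.closure ({x, y} : Set G)) ∈ H := by
      rw [← SetLike.mem_coe, hH]; exact Subtype.ext hy
    have h3 := H.mul_mem h1 h2
    rw [← SetLike.mem_coe, hH] at h3
    exact hxy (congrArg Subtype.val h3)
  have hcl : (⊤ : Subgroup G).lowerCentralSeries (p - 1) ≠ ⊥ := fun h =>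
    hxy ((H90.weakReg_of_class_lt hG h).mul_pow_eq_one_one hx hy)
  have hN : ∀ (N : Subgroup G) [N.Normal], N ≠ ⊥ → ∀ g : G, g ^ p ∈ N := by
    intro N _ hN g
    obtain ⟨H, hH⟩ := hquo N hN
    have h1 : Subgroup.closure ({x, y} : Set G) ≤ H.comap (QuotientGroup.mk' N) := by
      apply H90.closure_pair_le
      · rw [Subgroup.mem_comap, ← SetLike.mem_coe, hH, Set.mem_ofPred_eq, ← map_pow, hx, map_one]
      · rw [Subgroup.mem_comap, ← SetLike.mem_coe, hH, Set.mem_ofPred_eq, ← map_pow, hy, map_one]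
    have h2 := h1 (hgen ▸ Subgroup.mem_top g)
    rwa [Subgroup.mem_comap, ← SetLike.mem_coe, hH, Set.mem_ofPred_eq, ← map_pow,
      QuotientGroup.mk'_apply, QuotientGroup.eq_one_iff] at h2
  have hcen : ∀ z ∈ Subgroup.center G, (Subgroup.zpowers z).Normal := by
    intro z hz
    refine ⟨fun a ha g => ?_⟩
    have : a ∈ Subgroup.center G := (Subgroup.zpowers_le.2 hz) ha
    rwa [Subgroup.mem_center_iff.1 this g, mul_inv_cancel_right]
  have hnt : (⊤ : Subgroup G) ≠ ⊥ := by
    intro h
    exact hxy (Subgroup.mem_bot.1 (h ▸ Subgroup.mem_top _))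
  obtain ⟨z, -, hz, hzo⟩ := H7.exists_mem_center_orderOf hG hnt
  have hz1 : z ≠ 1 := by
    rintro rfl
    rw [orderOf_one] at hzo
    exact hpp.one_lt.ne hzo
  have hp2 : ∀ g : G, (g ^ p) ^ p = 1 := by
    intro g
    have := hcen z hz
    have h1 := hN (Subgroup.zpowers z) (by simpa using hz1) g
    have h2 := (Subgroup.zpowers z).orderOf_dvd_natCard h1
    rw [Nat.card_zpowers, hzo] at h2
    exact orderOf_dvd_iff_pow_eq_one.1 h2
  refine ⟨⟨x, y, hgen⟩, hcl, ?_, ?_, ?_⟩
  · have h1 : Monoid.exponent G ∣ p ^ 2 := Monoid.exponent_dvd_of_forall_pow_eq_one fun g => by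
      rw [pow_two, pow_mul, hp2]
    obtain ⟨k, hk, h2⟩ := (Nat.dvd_prime_pow hpp).1 h1
    rcases hk.lt_or_eq with hk | rfl
    · exfalso
      apply hxy
      rw [← orderOf_dvd_iff_pow_eq_one]
      refine (Monoid.order_dvd_exponent _).trans ?_
      rw [h2]
      simpa using pow_dvd_pow p (show k ≤ 1 by omega)
    · exact h2
  · refine H90.isCyclic_of_comm_of_omega inferInstance (hG.to_subgroup _)
      (Subgroup.zpowers ((x * y) ^ p)) (by rw [Nat.card_zpowers, orderOf_eq_prime (hp2 _) hxy]) ?_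
    intro w hw hw1
    by_cases hw0 : w = 1
    · rw [hw0]; exact Subgroup.one_mem _
    have := hcen w hw
    rw [H90.zpowers_eq_of_mem_of_pow_prime hw1 (hN (Subgroup.zpowers w) (by simpa using hw0) (x * y))
      hxy]
    exact Subgroup.mem_zpowers _
  · obtain ⟨n, hn⟩ := IsPGroup.iff_card.1 hG
    have := hG.isNilpotent
    rw [hn]
    apply Nat.pow_le_pow_right hpp.pos
    rw [Ne, Subgroup.lowerCentralSeries_eq_bot_iff_nilpotencyClass_le, not_le] at hcl
    have h2 := hpp.two_le
    by_cases h1 : 1 < n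
    · have := S0063.result p n hn h1
      omega
    · have : IsCyclic G := isCyclic_of_card_dvd_prime (p := p)
        (by rw [hn]; simpa using pow_dvd_pow p (not_lt.1 h1))
      have := (Group.IsNilpotent.nilpotencyClass_le_one_iff (G := G)).2 inferInstance
      omega

end Cfsg.Agent.S3872
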