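import Cfsg.Statements.S3873
import Cfsg.Agent.H94.MinNonClosed

set_option autoImplicit false
open Cfsg

namespace Cfsg.Agent.S3873

/-- Say that a finite group is p-exponent closed when its elements of order dividing p form a subgroup. Let G be a finite group that is not p-exponent closed, but all of whose proper subgroups and proper quotients are, and suppose G is neither simple nor a p-group. Then there is a prime q ≠ p such that G has order p · q^e, where e is the multiplicative order of q modulo p, and G has a normal elementary abelian subgroup of order q^e that is a minimal normal subgroup of G. -/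
theorem result {G : Type*} [Group G] [Finite G] {p : ℕ} [Fact p.Prime]
    (hnc : ¬ (∃ H : Subgroup G, (H : Set G) = {g : G | g ^ p = 1})) (hsub : ∀ K : Subgroup G, K ≠ ⊤ → (∃ H : Subgroup ↥K, (H : Set ↥K) = {g : ↥K | g ^ p = 1}))
    (hquo : ∀ (N : Subgroup G) [N.Normal], N ≠ ⊥ → (∃ H : Subgroup (G ⧸ N), (H : Set (G ⧸ N)) = {g : (G ⧸ N) | g ^ p = 1}))
    (hns : ¬ IsSimpleGroup G) (hnp : ¬ IsPGroup p G) :
    ∃ q : ℕ, q.Prime ∧ q ≠ p ∧ Nat.card G = p * q ^ orderOf (q : ZMod p) ∧
      ∃ A : Subgroup G, A.Normal ∧ Nat.card ↥A = q ^ orderOf (q : ZMod p) ∧ Cfsg.IsElementaryAbelian q A ∧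
        ∀ B : Subgroup G, B.Normal → B ≤ A → B = ⊥ ∨ B = A := by
  have hp : p.Prime := Fact.out
  have hnt : Nontrivial G := by
    by_contra h
    rw [not_nontrivial_iff_subsingleton] at h
    exact hnp (IsPGroup.of_card (n := 0) (by rw [Nat.card_of_subsingleton (1 : G), pow_zero]))
  -- `G` is generated by its elements of order dividing `p`
  have hgen : ∀ K : Subgroup G, (∀ g : G, g ^ p = 1 → g ∈ K) → K = ⊤ := by
    intro K hK
    by_contra hne
    obtain ⟨H, hH⟩ := hsub K hne
    refine hnc ⟨H.map K.subtype, Set.ext fun g => ⟨?_, fun hg => ?_⟩⟩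
    · rintro ⟨x, hx, rfl⟩
      have : x ∈ (H : Set K) := hx
      rw [hH] at this
      exact congrArg Subtype.val this
    · refine ⟨⟨g, hK g hg⟩, ?_, rfl⟩
      rw [hH]
      exact Subtype.ext hg
  have hexp : ∀ (N : Subgroup G) [N.Normal], N ≠ ⊥ → ∀ z : G ⧸ N, z ^ p = 1 := by
    intro N _ hN z
    obtain ⟨H, hH⟩ := hquo N hN
    have := hgen (H.comap (QuotientGroup.mk' N)) fun g hg => by
      rw [Subgroup.mem_comap, ← SetLike.mem_coe, hH, Set.mem_setOf_eq, ← map_pow, hg, map_one]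
    obtain ⟨g, rfl⟩ := QuotientGroup.mk'_surjective N z
    have h1 : g ∈ H.comap (QuotientGroup.mk' N) := by rw [this]; trivial
    rwa [Subgroup.mem_comap, ← SetLike.mem_coe, hH] at h1
  have hpg : ∀ (N : Subgroup G) [N.Normal], N ≠ ⊥ → IsPGroup p (G ⧸ N) :=
    fun N _ hN z => ⟨1, by rw [pow_one]; exact hexp N hN z⟩
  obtain ⟨N, hN, hN1, hN2⟩ : ∃ N : Subgroup G, N.Normal ∧ N ≠ ⊥ ∧ N ≠ ⊤ := by
    by_contra hc
    push Not at hc
    exact hns ⟨fun N hN => or_iff_not_imp_left.2 (hc N hN)⟩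
  obtain ⟨M, hM, hM1, hMN, hmin⟩ := H2.exists_minimal_normal_le N hN1
  have hM2 : M ≠ ⊤ := fun h => hN2 (top_le_iff.1 (h ▸ hMN))
  have hMp : ¬ IsPGroup p M := fun h => hnp (by
    have := (hpg M hM1).to_subgroup ⊤
    have h2 := this.comap_of_ker_isPGroup (QuotientGroup.mk' M) (by rwa [QuotientGroup.ker_mk'])
    rw [Subgroup.comap_top] at h2
    exact h2.of_equiv Subgroup.topEquiv)
  -- `M` has no element of order `p`
  have hM3 : ∀ g ∈ M, g ^ p = 1 → g = 1 := by
    obtain ⟨H, hH⟩ := hsub M hM2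
    have hmem : ∀ g, g ∈ H.map M.subtype ↔ g ∈ M ∧ g ^ p = 1 := by
      intro g
      constructor
      · rintro ⟨x, hx, rfl⟩
        have : x ∈ (H : Set M) := hx
        rw [hH] at this
        exact ⟨x.2, congrArg Subtype.val this⟩
      · rintro ⟨h1, h2⟩
        refine ⟨⟨g, h1⟩, ?_, rfl⟩
        rw [hH]
        exact Subtype.ext h2
    have hn : (H.map M.subtype).Normal := ⟨fun a ha g => by
      rw [hmem] at ha ⊢
      exact ⟨hM.conj_mem a ha.1 g, by rw [conj_pow, ha.2, mul_one, mul_inv_cancel]⟩⟩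
    rcases hmin _ hn (Subgroup.map_subtype_le H) with h | h
    · intro g hg hg'
      have := (hmem g).2 ⟨hg, hg'⟩
      rwa [h, Subgroup.mem_bot] at this
    · exact absurd (fun x => ⟨1, Subtype.ext (by
        rw [pow_one]; exact ((hmem x).1 (h.symm ▸ x.2)).2)⟩) hMp
  have hMπ : H2.IsPiNum {p}ᶜ (Nat.card M) := by
    rw [H94.isPiNum_compl_singleton_iff hp]
    intro hd
    obtain ⟨x, hx⟩ := exists_prime_orderOf_dvd_card' p hd
    have := hM3 x x.2 (by rw [← hx, ← Subgroup.orderOf_coe, pow_orderOf_eq_one])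
    rw [← Subgroup.orderOf_coe, this, orderOf_one] at hx
    exact hp.one_lt.ne hx
  have hpel : ∀ g : G, H2.IsPiNum {p} (orderOf g) ↔ g ^ p = 1 := by
    intro g
    constructor
    · intro hg
      have h1 : g ^ p ∈ M := by
        rw [← QuotientGroup.eq_one_iff, QuotientGroup.mk_pow]; exact hexp M hM1 _
      exact orderOf_eq_one_iff.1 ((hg.of_dvd (orderOf_pow_dvd p)).eq_one
        (H94.isPiNum_orderOf_of_mem hMπ h1))
    · intro hg
      have : H2.IsPiNum {p} p := by simpa using H2.isPiNum_prime_pow hp (Set.mem_singleton p) 1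
      exact this.of_dvd (orderOf_dvd_of_pow_eq_one hg)
  refine H94.min_non_closed ?_ (fun H hH => ?_) (fun N _ hN => ?_) hns
  · rintro ⟨K, hK⟩
    exact hnc ⟨K, Set.ext fun g => (hK g).trans (hpel g)⟩
  · obtain ⟨K, hK⟩ := hsub H hH
    refine ⟨K, fun x => ?_⟩
    rw [← SetLike.mem_coe, hK, ← Subgroup.orderOf_coe, hpel, Set.mem_setOf_eq, Subtype.ext_iff]
    rfl
  · exact H94.piClosed_of_card (H2.isPiNum_card_of_isPGroup hp rfl (hpg N hN))

end Cfsg.Agent.S3873
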