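import Cfsg.Statements.S3875
import Cfsg.Agent.H67.Hall
import Cfsg.Agent.H63.BG1
import Cfsg.Agent.H57.Spec
import Cfsg.Agent.H28.PSL2Small
import Cfsg.Agent.S0999
import Cfsg.Agent.H26.SLBasic

set_option autoImplicit false
open Cfsg

namespace Cfsg.Agent.S3875

open Subgroup Cfsg.Agent.H63 Cfsg.Agent.H67

theorem simple_or_index {H : Type} [Group H] [Finite H] {p : ℕ} [hp : Fact p.Prime] (P : Sylow p H)
    (hP : ¬ (P : Subgroup H).Normal) (hsub : ∀ K : Subgroup H, K ≠ ⊤ → IsPClosed p K)
    (hquo : ∀ (N : Subgroup H) [N.Normal], N ≠ ⊥ → IsPClosed p (H ⧸ N)) :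
    IsSimpleGroup H ∨ ∃ r k : ℕ, r.Prime ∧ (P : Subgroup H).index = r ^ k := by
  have hPs := syl_top P
  have hNP : N[(P : Subgroup H)] ≠ ⊤ := fun e => hP (normalizer_eq_top_iff.1 e)
  have hsub' : ∀ K : Subgroup H, K ≠ ⊤ → ∀ R, IsSyl p R K → K ≤ N[R] := fun K hK R hR => by
    obtain ⟨S, rfl⟩ := syl_iff_exists_sylow.1 hR
    haveI := hsub K hK S
    have h := ((normalIn_top_iff.2 this).map K.subtype).norm
    rwa [← MonoidHom.range_eq_map, range_subtype] at h
  have ha : ∀ (N : Subgroup H) [N.Normal], N ≠ ⊥ → (P : Subgroup H) ⊔ N = ⊤ := fun N _ hN => by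
    by_contra hne
    have h1 := hquo N hN (P.mapSurjective (QuotientGroup.mk'_surjective N))
    have h2 : ((P : Subgroup H) ⊔ N).Normal := by
      have := h1.comap (QuotientGroup.mk' N)
      rwa [Sylow.coe_mapSurjective, comap_map_eq, QuotientGroup.ker_mk'] at this
    have h3 := hall_of_le hPs (le_sup_left : (P : Subgroup H) ≤ (P : Subgroup H) ⊔ N) le_top
    have h4 := frattini_arg (normalIn_top_iff.2 h2) h3
    exact hNP (eq_top_iff.2 (h4.ge.trans (sup_le (hsub' _ hne _ h3) inf_le_right)))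
  by_cases hs : IsSimpleGroup H
  · exact Or.inl hs
  right
  have hnt : Nontrivial H := by
    by_contra hn
    haveI := not_nontrivial_iff_subsingleton.1 hn
    exact hP ((Subsingleton.elim (⊤ : Subgroup H) P) ▸ inferInstance)
  obtain ⟨N, hN, hN1, hN2⟩ : ∃ N : Subgroup H, N.Normal ∧ N ≠ ⊥ ∧ N ≠ ⊤ := by
    by_contra hn
    push Not at hn
    exact hs ⟨fun N hN => or_iff_not_imp_left.2 (hn N hN)⟩
  have hD : IsSyl p ((P : Subgroup H) ⊓ N) N := hall_inf_normal hPs (normalIn_top_iff.2 hN)
  have hD0 : (P : Subgroup H) ⊓ N = ⊥ := by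
    by_contra hne
    haveI : ((P : Subgroup H) ⊓ N).Normal := normalizer_eq_top_iff.1 (eq_top_iff.2
      ((ha N hN1).ge.trans (sup_le (le_normalizer_inf le_normalizer (by
        rw [normalizer_eq_top]; exact le_top)) (hsub' N hN2 _ hD))))
    have := ha _ hne
    rw [sup_eq_left.2 inf_le_left] at this
    exact hP (this ▸ inferInstance)
  have hcop : (Nat.card (P : Subgroup H)).Coprime (Nat.card N) := by
    obtain ⟨k, hk⟩ := IsPGroup.iff_card.1 P.isPGroup'
    have := syl_not_dvd hD
    rw [hD0, relIndex_bot_left] at this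
    rw [hk]
    exact Nat.Coprime.pow_left _ ((Nat.Prime.coprime_iff_not_dvd hp.out).2 this)
  by_contra hn
  push Not at hn
  refine hNP (eq_top_iff.2 ((ha N hN1).ge.trans (sup_le le_normalizer
    (le_of_forall_syl_le fun r hr _ => ?_))))
  haveI := Fact.mk hr
  obtain ⟨R, hR, hPR⟩ := coprime_syl_exists r (A := (P : Subgroup H)) (K := N)
    (by rw [normalizer_eq_top]; exact le_top) hcop
    (Or.inl (haveI := P.isPGroup'.isNilpotent; inferInstance))
  refine ⟨R, hR, le_sup_right.trans (hsub' (P ⊔ R) (fun e => ?_) _ (hall_of_le hPs le_sup_left le_top))⟩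
  obtain ⟨k, hk⟩ := IsPGroup.iff_card.1 (syl_isPGroup hR)
  have h1 := card_sup_of_inf_eq_bot (Or.inl hPR)
    (eq_bot_iff.2 ((inf_le_inf_left _ hR.1).trans hD0.le))
  rw [e, card_top, ← (P : Subgroup H).card_mul_index, hk] at h1
  exact hn r k hr (Nat.eq_of_mul_eq_mul_left Nat.card_pos h1)

theorem card_psl {F : Type} [Field F] [Fintype F] {q : ℕ} (hF : Fintype.card F = q) (hq : Odd q) :
    Nat.card (Matrix.ProjectiveSpecialLinearGroup (Fin 2) F) = q * (q ^ 2 - 1) / 2 := by
  have h := H28.card_PSL2 hF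
  obtain ⟨c, rfl⟩ := hq
  rw [Nat.gcd_eq_left ⟨c, by omega⟩] at h
  omega

/-- Let p be an odd prime and let m be the least prime power congruent to 1 modulo p. Then the least order of a finite group whose Sylow p-subgroups are not normal is the smaller of p · m and p(p² − 1)/2: every finite group whose Sylow p-subgroups are not normal has at least that order, and some group of exactly that order has non-normal Sylow p-subgroups. -/
theorem result (p : ℕ) [Fact p.Prime] (hp : p ≠ 2) (m : ℕ) (hm : IsPrimePow m) (hm1 : m % p = 1)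
    (hleast : ∀ k : ℕ, IsPrimePow k → k % p = 1 → m ≤ k) :
    (∀ (H : Type) [Group H] [Finite H], ¬ Cfsg.IsPClosed p H → min (p * m) (p * (p ^ 2 - 1) / 2) ≤ Nat.card H) ∧
      ∃ (H : Type) (_ : Group H) (_ : Finite H), Nat.card H = min (p * m) (p * (p ^ 2 - 1) / 2) ∧ ¬ Cfsg.IsPClosed p H := by
  have hpp : p.Prime := Fact.out
  have hodd : Odd p := hpp.odd_of_ne_two hp
  have h2p := hpp.two_le
  refine ⟨fun H _ _ => ?_, ?_⟩
  · induction hn : Nat.card H using Nat.strong_induction_on generalizing H with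
    | _ n ih =>
    intro hc
    subst hn
    by_contra hlt
    rw [not_le] at hlt
    obtain ⟨P, hP⟩ := not_forall.1 hc
    have hP1 : (P : Subgroup H) ≠ ⊥ := fun e => hP (e ▸ inferInstance)
    have hpP : p ∣ Nat.card (P : Subgroup H) :=
      P.isPGroup'.card_eq_or_dvd.resolve_left fun e => hP1 (card_eq_one.1 e)
    rcases simple_or_index P hP (fun K hK => by
        by_contra h
        have h1 : Nat.card K < Nat.card H := by
          rw [← card_top (G := H)]; exact card_lt_of_lt (lt_top_iff_ne_top.2 hK)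
        have := ih _ h1 K _ inferInstance rfl h
        omega) (fun N _ hN => by
        by_contra h
        have h1 : Nat.card (H ⧸ N) < Nat.card H := by
          rw [card_eq_card_quotient_mul_card_subgroup N]
          exact lt_mul_of_one_lt_right Nat.card_pos ((one_lt_card_iff_ne_bot N).2 hN)
        have := ih _ h1 (H ⧸ N) _ inferInstance rfl h
        omega) with hs | ⟨r, k, hr, hk⟩
    · have hlt' : Nat.card H < p * (p ^ 2 - 1) / 2 := hlt.trans_le (min_le_right _ _)
      have hsq : p * (p ^ 2 - 1) ≤ p ^ 3 :=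
        (Nat.mul_le_mul_left p (Nat.sub_le _ _)).trans_eq (by ring)
      rcases S0999.result (G := H) (fun h => hP (by
          exact ⟨fun x hx g => by rwa [h.isMulCommutative.is_comm.comm g x, mul_inv_cancel_right]⟩))
        p hpp (hpP.trans (card_subgroup_dvd_card _)) (by omega) with
        ⟨F, _, _, hF, -, ⟨e⟩⟩ | ⟨j, F, _, _, hF, hj, h3, ⟨e⟩⟩
      · rw [Nat.card_congr e.toEquiv, card_psl hF hodd] at hlt'
        omega
      · have h1 := H28.card_PSL2 hF
        rw [← Nat.card_congr e.toEquiv] at h1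
        obtain ⟨c, hc⟩ : 2 ∣ 2 ^ j := dvd_pow_self 2 (by rintro rfl; omega)
        rw [hc] at h1 hj
        rw [(Nat.coprime_two_left.2 ⟨c - 1, by omega⟩ : Nat.gcd 2 (2 * c - 1) = 1), one_mul] at h1
        subst hj
        obtain ⟨c, rfl⟩ : ∃ d, c = d + 2 := ⟨c - 2, by omega⟩
        have e1 : (2 * (c + 2)) ^ 2 - 1 = 4 * c * c + 16 * c + 15 :=
          Nat.sub_eq_of_eq_add (by ring)
        have e2 : (2 * (c + 2) + 1) ^ 2 - 1 = 2 * (2 * c * c + 10 * c + 12) :=
          Nat.sub_eq_of_eq_add (by ring)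
        rw [h1, e1, e2, mul_left_comm, Nat.mul_div_cancel_left _ two_pos] at hlt'
        nlinarith [Nat.zero_le (c * c), Nat.zero_le (c * c * c)]
    · have h1 := card_sylow_modEq_one p H
      rw [P.card_eq_index_normalizer] at h1
      have h2 : N[(P : Subgroup H)].index ∣ r ^ k := hk ▸ index_dvd_of_le le_normalizer
      obtain ⟨j, -, hj⟩ := (Nat.dvd_prime_pow hr).1 h2
      have h3 : j ≠ 0 := by
        rintro rfl
        exact hP (normalizer_eq_top_iff.1 (index_eq_one.1 hj))
      have h4 := hleast _ (hj ▸ (hr.isPrimePow.pow h3)) (by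
        rw [show N[(P : Subgroup H)].index % p = 1 % p from h1, Nat.mod_eq_of_lt hpp.one_lt])
      have h5 := Nat.le_of_dvd Nat.card_pos (hpP.trans (card_dvd_of_le
        (le_normalizer : (P : Subgroup H) ≤ N[(P : Subgroup H)])))
      have h6 := Nat.mul_le_mul h5 h4
      rw [card_mul_index] at h6
      omega
  · rcases le_or_gt (p * m) (p * (p ^ 2 - 1) / 2) with hle | hlt
    · obtain ⟨r, k, hr, hk, rfl⟩ := (isPrimePow_nat_iff m).1 hm
      haveI := Fact.mk hr
      letI := Fintype.ofFinite (GaloisField r k)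
      have hF : Nat.card (GaloisField r k) = r ^ k := GaloisField.card r k hk.ne'
      obtain ⟨ζ, hζ⟩ := exists_prime_orderOf_dvd_card' (G := (GaloisField r k)ˣ) p (by
        rw [Nat.card_units, hF]
        exact (Nat.modEq_iff_dvd' (Nat.one_le_pow _ _ hr.pos)).1
          (show 1 % p = r ^ k % p by rw [hm1, Nat.mod_eq_of_lt hpp.one_lt]))
      refine ⟨H57.Aff (zpowers ζ) (GaloisField r k), inferInstance, inferInstance, ?_, fun hc => ?_⟩
      · rw [H57.Aff.card_aff, hF, Nat.card_zpowers, hζ, min_eq_left hle, mul_comm]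
      · let a : H57.Aff (zpowers ζ) (GaloisField r k) := H57.Aff.inr ⟨ζ, mem_zpowers ζ⟩
        let t : H57.Aff (zpowers ζ) (GaloisField r k) := ⟨1, 1⟩
        have ha : IsPGroup p (zpowers a) := IsPGroup.of_card (n := 1) (by
          rw [Nat.card_zpowers, orderOf_injective _ H57.Aff.inr_injective, ← orderOf_coe, pow_one]
          exact hζ)
        obtain ⟨P, hP⟩ := ha.exists_le_sylow
        have h1 := hP (mem_zpowers a)
        have h2 : t * a * t⁻¹ * a⁻¹ ∈ (P : Subgroup _) :=
          mul_mem ((hc P).conj_mem _ h1 t) (inv_mem h1)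
        obtain ⟨j, hj⟩ := P.isPGroup' ⟨_, h2⟩
        have h3 : (t * a * t⁻¹ * a⁻¹) ^ r = 1 := H57.Aff.pow_eq_one_of_mem_ker
          (fun v => by rw [nsmul_eq_mul, CharP.cast_eq_zero, zero_mul]) _ (by
            rw [H57.Aff.mem_ker_proj]; simp [t])
        have hrp : r ≠ p := by
          rintro rfl
          rw [Nat.mod_eq_zero_of_dvd (dvd_pow_self r hk.ne')] at hm1
          omega
        have h4 : t * a * t⁻¹ * a⁻¹ = 1 := orderOf_eq_one_iff.1 (Nat.eq_one_of_dvd_coprimes
          (((Nat.coprime_primes hr hpp).2 hrp).pow_right j) (orderOf_dvd_of_pow_eq_one h3)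
          (orderOf_dvd_of_pow_eq_one (congrArg Subtype.val hj)))
        have h5 := congrArg H57.Aff.v (mul_inv_eq_iff_eq_mul.1 (mul_inv_eq_one.1 h4))
        have h6 : (ζ : GaloisField r k) = 1 := by
          simpa [t, a, H57.Aff.inr, Subgroup.smul_def, Units.smul_def] using h5.symm
        rw [Units.val_eq_one.1 h6, orderOf_one] at hζ
        omega
    · have h3 : 3 < p := by
        by_contra h
        obtain rfl : p = 3 := by omega
        have := hleast 4 ((isPrimePow_nat_iff 4).2 ⟨2, 2, Nat.prime_two, by norm_num, by norm_num⟩) rfl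
        omega
      have hc := card_psl (ZMod.card p) hodd
      refine ⟨Matrix.ProjectiveSpecialLinearGroup (Fin 2) (ZMod p), inferInstance, inferInstance,
        by rw [hc, min_eq_right hlt.le], fun hcl => ?_⟩
      obtain ⟨P⟩ : Nonempty (Sylow p (Matrix.ProjectiveSpecialLinearGroup (Fin 2) (ZMod p))) :=
        inferInstance
      obtain ⟨c, hc'⟩ := hodd
      have e1 : p ^ 2 - 1 = 2 * (2 * (c * c + c)) := Nat.sub_eq_of_eq_add (by rw [hc']; ring)
      rw [e1, mul_left_comm, Nat.mul_div_cancel_left _ two_pos] at hc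
      haveI : IsSimpleGroup (Matrix.ProjectiveSpecialLinearGroup (Fin 2) (ZMod p)) :=
        H26.psl_isSimpleGroup (Or.inr ⟨2, fun h => by
          have := Nat.le_of_dvd two_pos ((ZMod.natCast_eq_zero_iff 2 p).1 (by exact_mod_cast h))
          omega, fun h => by
          have := Nat.le_of_dvd three_pos ((ZMod.natCast_eq_zero_iff 3 p).1 (by
            push_cast; linear_combination h))
          omega⟩)
      rcases (hcl P).eq_bot_or_eq_top with e | e
      · exact P.ne_bot_of_dvd_card (hc ▸ dvd_mul_right _ _) e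
      · obtain ⟨j, hj⟩ := IsPGroup.iff_card.1 P.isPGroup'
        rw [e, card_top, hc] at hj
        have : 2 ∣ p ^ j := hj ▸ ⟨p * (c * c + c), by ring⟩
        exact hp ((Nat.prime_dvd_prime_iff_eq Nat.prime_two hpp).1
          (Nat.prime_two.dvd_of_dvd_pow this)).symm

end Cfsg.Agent.S3875
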