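import Cfsg.Statements.S3889
-- import your own Cfsg.Agent.* helpers here

set_option autoImplicit false
open Cfsg

namespace Cfsg.Agent.S3889

/-- A finite abelian group that is the union of a family of proper subgroups any two of which intersect trivially is elementary abelian: its exponent is a prime. -/
theorem result {G : Type*} [CommGroup G] [Finite G] (𝓑 : Set (Subgroup G)) (hprop : ∀ B ∈ 𝓑, B ≠ ⊤)
    (hcov : ∀ g : G, ∃ B ∈ 𝓑, g ∈ B) (hdisj : ∀ B ∈ 𝓑, ∀ C ∈ 𝓑, B ≠ C → B ⊓ C = ⊥) :
    (Monoid.exponent G).Prime := by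
  obtain ⟨B₁, hB₁, -⟩ := hcov 1
  have hnt : Nontrivial G := by
    by_contra h
    rw [not_nontrivial_iff_subsingleton] at h
    exact hprop B₁ hB₁ (Subsingleton.elim _ _)
  have hc : Nat.card G ≠ 1 := (Finite.one_lt_card).ne'
  obtain ⟨p, hp, hpd⟩ := Nat.exists_prime_and_dvd hc
  haveI := Fact.mk hp
  obtain ⟨a, ha⟩ := exists_prime_orderOf_dvd_card' p hpd
  have ha1 : a ≠ 1 := by
    rintro rfl
    rw [orderOf_one] at ha
    exact hp.one_lt.ne ha
  have hap : a ^ p = 1 := by rw [← ha]; exact pow_orderOf_eq_one a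
  obtain ⟨A, hA, haA⟩ := hcov a
  have key : ∀ g, g ∉ A → g ^ p = 1 := by
    intro g hg
    by_contra hgp
    obtain ⟨B, hB, hgB⟩ := hcov g
    obtain ⟨C, hC, hgC⟩ := hcov (g * a)
    have hBC : B = C := by
      by_contra hne
      have h1 : g ^ p ∈ B ⊓ C := by
        refine ⟨B.pow_mem hgB p, ?_⟩
        have := C.pow_mem hgC p
        rwa [mul_pow, hap, mul_one] at this
      rw [hdisj B hB C hC hne] at h1
      exact hgp h1
    subst hBC
    have haB : a ∈ B := by
      have := B.mul_mem (B.inv_mem hgB) hgC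
      simpa using this
    have hAB : A = B := by
      by_contra hne
      have h1 : a ∈ A ⊓ B := ⟨haA, haB⟩
      rw [hdisj A hA B hB hne] at h1
      exact ha1 h1
    exact hg (hAB ▸ hgB)
  obtain ⟨g, hg⟩ : ∃ g, g ∉ A := by
    by_contra h
    push Not at h
    exact hprop A hA (by rw [eq_top_iff]; exact fun x _ => h x)
  have all : ∀ x : G, x ^ p = 1 := by
    intro x
    by_cases hx : x ∈ A
    · have h1 : x * g ∉ A := fun h => hg (by simpa using A.mul_mem (A.inv_mem hx) h)
      have h2 := key _ h1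
      rwa [mul_pow, key g hg, mul_one] at h2
    · exact key x hx
  have hdvd : Monoid.exponent G ∣ p := Monoid.exponent_dvd_of_forall_pow_eq_one all
  rcases (Nat.dvd_prime hp).1 hdvd with h | h
  · exfalso
    have := Monoid.pow_exponent_eq_one a
    rw [h, pow_one] at this
    exact ha1 this
  · rwa [h]

end Cfsg.Agent.S3889
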