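import Cfsg.Statements.S3890
import Cfsg.Agent.H90.NilCover

set_option autoImplicit false
open Cfsg

namespace Cfsg.Agent.S3890

/-- A cover of a group is a finite set of proper subgroups whose union is the whole group; it is minimal when no cover has fewer members, and nilpotent when all its members are nilpotent. Let G be a finite group with trivial center admitting a nilpotent minimal cover 𝓐, and let P be an abelian Sylow p-subgroup of G that is not normal. Then either P is elementary abelian of order greater than p, or P is a Sylow p-subgroup of some member A of 𝓐, the normalizer N of P is a maximal subgroup of G, N meets each of its conjugates by elements outside N in a subgroup of order prime to p, and the centralizer of P equals A. -/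
theorem result {G : Type*} [Group G] [Finite G] (hZ : Subgroup.center G = ⊥) (𝓐 : Finset (Subgroup G))
    (h𝓐 : ((∀ A ∈ 𝓐, A ≠ ⊤) ∧ (∀ g : G, ∃ A ∈ 𝓐, g ∈ A)) ∧ (∀ 𝓑 : Finset (Subgroup G), (∀ A ∈ 𝓑, A ≠ ⊤) ∧ (∀ g : G, ∃ A ∈ 𝓑, g ∈ A) → 𝓐.card ≤ 𝓑.card) ∧ (∀ A ∈ 𝓐, Group.IsNilpotent ↥A)) {p : ℕ} [Fact p.Prime] (P : Sylow p G) (hab : IsMulCommutative ↥(P : Subgroup G))
    (hnn : ¬ (P : Subgroup G).Normal) :
    (Cfsg.IsElementaryAbelian p (P : Subgroup G) ∧ p < Nat.card ↥(P : Subgroup G)) ∨
    (∃ A ∈ 𝓐, (P : Subgroup G) ≤ A ∧ ¬ p ∣ ((P : Subgroup G).subgroupOf A).index ∧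
      IsCoatom (Subgroup.normalizer ((P : Subgroup G) : Set G)) ∧
      (∀ g : G, g ∉ Subgroup.normalizer ((P : Subgroup G) : Set G) →
        ¬ p ∣ Nat.card ↥(Subgroup.normalizer ((P : Subgroup G) : Set G) ⊓
          (Subgroup.normalizer ((P : Subgroup G) : Set G)).map (MulAut.conj g).toMonoidHom)) ∧
      Subgroup.centralizer ((P : Subgroup G) : Set G) = A) := by
  by_cases hall : ∀ Q : Sylow p G, ∃ A ∈ 𝓐, (Q : Subgroup G) ≤ A
  · right
    obtain ⟨h1, h2, h3, h4⟩ := H90.cover_main hZ h𝓐 hab hnn hall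
    have hle : (P : Subgroup G) ≤ Subgroup.centralizer ((P : Subgroup G) : Set G) :=
      fun x hx => Subgroup.mem_centralizer_iff.2 fun y hy => H90.sylow_comm_of_comm hab P hy hx
    refine ⟨_, h1 P, hle, ?_, h3, ?_, rfl⟩
    · exact (P.subtype hle).not_dvd_index
    · intro g hg hd
      obtain ⟨x, hx⟩ := exists_prime_orderOf_dvd_card' p hd
      have hx1 : (x : G) ≠ 1 := by
        intro h
        rw [(Subtype.ext h : x = 1), orderOf_one] at hx
        exact (Fact.out : p.Prime).one_lt.ne hx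
      have hxp : (x : G) ^ p ^ 1 = 1 := by
        have := congrArg Subtype.val (pow_orderOf_eq_one x)
        rw [hx] at this
        rw [pow_one]; exact this
      have h5 : (x : G) ∈ (P : Subgroup G) := H90.mem_sylow_of_mem_normalizer P hxp x.2.1
      have h6 : (x : G) ∈ ((g • P : Sylow p G) : Subgroup G) := by
        rw [H90.mem_sylow_smul]
        refine H90.mem_sylow_of_mem_normalizer P (k := 1) ?_ (H90.mem_map_conj.1 x.2.2)
        have h7 : g⁻¹ * x * g = g⁻¹ * x * g⁻¹⁻¹ := by rw [inv_inv]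
        rw [h7, conj_pow, hxp, mul_one, mul_inv_cancel]
      exact hg (Sylow.smul_eq_iff_mem_normalizer.1 (h2 _ _ _ hx1 h6 h5))
  · left
    rw [not_forall] at hall
    obtain ⟨Q, hQ⟩ := hall
    obtain ⟨h1, h2⟩ := H90.cover_elementary hZ h𝓐 hab Q hQ
    refine ⟨⟨hab, h1⟩, ?_⟩
    by_contra h
    apply h2
    obtain ⟨n, hn⟩ := IsPGroup.iff_card.1 P.isPGroup'
    have h3 : n ≤ 1 := by
      rw [hn, not_lt] at h
      exact (Nat.pow_le_pow_iff_right (Fact.out : p.Prime).one_lt).1 (by rwa [pow_one])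
    exact isCyclic_of_card_dvd_prime (p := p) (by rw [hn]; simpa using pow_dvd_pow p h3)

end Cfsg.Agent.S3890
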