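import Cfsg.Statements.S3892
import Cfsg.Agent.H88.Tower

set_option autoImplicit false
open Cfsg

namespace Cfsg.Agent.S3892

open Cfsg.Agent.H63 Cfsg.Agent.H67 Cfsg.Agent.H69 Cfsg.Agent.H88 Subgroup Equiv

/-- a nilpotent subgroup containing an element generating a Sylow subgroup of prime order centralises it -/
theorem comm_of_nilp {G : Type*} [Group G] [Finite G] {p : ℕ} (hp : p.Prime) {x : G}
    (hx : orderOf x = p) (hG : ¬ p ^ 2 ∣ Nat.card G) {A : Subgroup G} (hA : Group.IsNilpotent A)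
    (hxA : x ∈ A) : ∀ a ∈ A, a * x = x * a := by
  have := Fact.mk hp
  let y : A := ⟨x, hxA⟩
  have hy : orderOf y = p := by rw [← hx]; exact (Subgroup.orderOf_coe y).symm
  have hc : Nat.card (zpowers y) = p := by rw [Nat.card_zpowers, hy]
  have hP : IsPGroup p (zpowers y) := IsPGroup.of_card (n := 1) (by rw [hc, pow_one])
  obtain ⟨S, hS⟩ := hP.exists_le_sylow
  have hSn : (S : Subgroup A).Normal := inferInstance
  obtain ⟨k, hk⟩ := S.isPGroup'.exists_card_eq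
  have hk1 : k ≤ 1 := by
    by_contra h
    apply hG
    have h1 : p ^ 2 ∣ Nat.card S := by rw [hk]; exact pow_dvd_pow _ (by omega)
    exact h1.trans ((Subgroup.card_subgroup_dvd_card _).trans (Subgroup.card_subgroup_dvd_card A))
  have hSe : zpowers y = (S : Subgroup A) := by
    apply Subgroup.eq_of_le_of_card_ge hS
    rw [hc, hk]
    calc p ^ k ≤ p ^ 1 := Nat.pow_le_pow_right hp.pos hk1
      _ = p := pow_one p
  have hn : (zpowers y).Normal := hSe ▸ hSn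
  have hne : zpowers y ≠ ⊥ := by
    intro h
    rw [h, Subgroup.card_bot] at hc
    exact hp.one_lt.ne hc
  have h1 : zpowers y ⊓ Subgroup.center A ≠ ⊥ := by
    have := inf_center_ne_bot_of_isNilpotent (K := (⊤ : Subgroup A)) (H := zpowers y)
      (Group.nilpotent_of_mulEquiv Subgroup.topEquiv.symm) ⟨le_top, by
        rw [Subgroup.normalizer_eq_top]⟩ hne
    intro h
    apply this
    rw [eq_bot_iff, ← h]
    refine inf_le_inf_left _ fun z hz => ?_
    rw [Subgroup.mem_center_iff]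
    intro g
    exact (hz.2 g (Subgroup.mem_top g))
  have h2 : zpowers y ⊓ Subgroup.center A = zpowers y := by
    exact inf_eq_left.2 (le_of_prime_card_of_inf_ne_bot (hc ▸ hp) h1)
  have h3 : y ∈ Subgroup.center A := (h2.ge (mem_zpowers y)).2
  intro a ha
  have := Subgroup.mem_center_iff.1 h3 ⟨a, ha⟩
  exact congrArg Subtype.val this

theorem no_cover {G : Type*} [Group G] [Finite G] {p : ℕ} (hp : p.Prime) {x y : G}
    (hx : orderOf x = p) (hy : orderOf y = p) (hG : ¬ p ^ 2 ∣ Nat.card G) (hxy : x * y ≠ y * x)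
    (M : Subgroup G) (hM : M ≠ ⊤) (hxM : ∀ a, a * x = x * a → a ∈ M)
    (hyM : ∀ a, a * y = y * a → a ∈ M) :
    ¬ ∃ 𝓐 : Finset (Subgroup G), ((∀ A ∈ 𝓐, A ≠ ⊤) ∧ (∀ g : G, ∃ A ∈ 𝓐, g ∈ A)) ∧ (∀ 𝓑 : Finset (Subgroup G), (∀ A ∈ 𝓑, A ≠ ⊤) ∧ (∀ g : G, ∃ A ∈ 𝓑, g ∈ A) → 𝓐.card ≤ 𝓑.card) ∧ (∀ A ∈ 𝓐, Group.IsNilpotent ↥A) := by
  classical
  rintro ⟨𝓐, ⟨h1, h2⟩, hmin, hnil⟩
  obtain ⟨A, hA, hxA⟩ := h2 x
  obtain ⟨B, hB, hyB⟩ := h2 y
  have hAM : A ≤ M := fun a ha => hxM a (comm_of_nilp hp hx hG (hnil A hA) hxA a ha)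
  have hBM : B ≤ M := fun a ha => hyM a (comm_of_nilp hp hy hG (hnil B hB) hyB a ha)
  have hAB : A ≠ B := by
    rintro rfl
    exact hxy (comm_of_nilp hp hy hG (hnil A hA) hyB x hxA)
  have := hmin (insert M ((𝓐.erase A).erase B)) ⟨?_, ?_⟩
  · have h3 := Finset.card_insert_le M ((𝓐.erase A).erase B)
    have hB' : B ∈ 𝓐.erase A := Finset.mem_erase.2 ⟨hAB.symm, hB⟩
    have h4 := Finset.card_erase_add_one hB'
    have h5 := Finset.card_erase_add_one hA
    omega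
  · intro C hC
    rcases Finset.mem_insert.1 hC with rfl | hC
    · exact hM
    · exact h1 C (Finset.mem_of_mem_erase (Finset.mem_of_mem_erase hC))
  · intro g
    obtain ⟨C, hC, hg⟩ := h2 g
    by_cases hCA : C = A
    · exact ⟨M, Finset.mem_insert_self _ _, hAM (hCA ▸ hg)⟩
    by_cases hCB : C = B
    · exact ⟨M, Finset.mem_insert_self _ _, hBM (hCB ▸ hg)⟩
    exact ⟨C, Finset.mem_insert_of_mem (Finset.mem_erase.2 ⟨hCB, Finset.mem_erase.2 ⟨hCA, hC⟩⟩), hg⟩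

theorem not_sq_dvd_factorial {p n : ℕ} (hp : p.Prime) (h : n < 2 * p) : ¬ p ^ 2 ∣ n.factorial := by
  have := Fact.mk hp
  have h2 := hp.two_le
  have hl : Nat.log p n < 2 := Nat.log_lt_of_lt_pow' (by norm_num) (by nlinarith)
  rw [hp.pow_dvd_factorial_iff hl]
  simp only [show Finset.Ico 1 2 = {1} from rfl, Finset.sum_singleton, pow_one]
  have : n / p < 2 := (Nat.div_lt_iff_lt_mul hp.pos).2 h
  omega

theorem big {n : ℕ} (hn : 6 ≤ n) {G : Type*} [Group G] [Finite G] (f : G →* Perm (Fin n))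
    (hf : Function.Injective f) (hr : ∀ σ : Perm (Fin n), Perm.sign σ = 1 → ∃ g, f g = σ) :
    ¬ ∃ 𝓐 : Finset (Subgroup G), ((∀ A ∈ 𝓐, A ≠ ⊤) ∧ (∀ g : G, ∃ A ∈ 𝓐, g ∈ A)) ∧ (∀ 𝓑 : Finset (Subgroup G), (∀ A ∈ 𝓑, A ≠ ⊤) ∧ (∀ g : G, ∃ A ∈ 𝓑, g ∈ A) → 𝓐.card ≤ 𝓑.card) ∧ (∀ A ∈ 𝓐, Group.IsNilpotent ↥A) := by
  classical
  obtain ⟨p, hp, h1, h2⟩ := Nat.exists_prime_lt_and_le_two_mul (n / 2) (by omega)
  have hodd : Odd p := hp.odd_of_ne_two (by omega)
  have hp5 : 5 ≤ p := by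
    obtain ⟨k, hk⟩ := hodd
    omega
  have hpn : p < n := by
    obtain ⟨k, hk⟩ := hodd
    omega
  obtain ⟨σ, hσ⟩ := (Perm.exists_with_cycleType_iff (Fin n) (m := {p})).2
    ⟨by simp; omega, by simp; omega⟩
  have hcyc : σ.IsCycle := Perm.card_cycleType_eq_one.1 (by rw [hσ]; rfl)
  have hsupp : σ.support.card = p := by
    rw [← Perm.sum_cycleType, hσ]; simp
  have hord : orderOf σ = p := by rw [hcyc.orderOf, hsupp]
  have hsign : Perm.sign σ = 1 := by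
    rw [hcyc.sign, hsupp, hodd.neg_one_pow]; simp
  obtain ⟨a, ha, -⟩ := id hcyc
  have hpow : ∀ k, 0 < k → k < p → (σ ^ k) a ≠ a := by
    intro k hk hk' h
    have := (hcyc.pow_eq_one_iff' ha).2 h
    have := Nat.le_of_dvd hk (hord ▸ orderOf_dvd_of_pow_eq_one this)
    omega
  have h2a : σ (σ a) ≠ a := by simpa [pow_succ] using hpow 2 (by omega) (by omega)
  have h3a : σ (σ (σ a)) ≠ a := by simpa [pow_succ] using hpow 3 (by omega) (by omega)
  have h2b : σ (σ a) ≠ σ a := fun h => ha (σ.injective h)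
  set τ := Equiv.swap a (σ a) with hτ
  set ρ := τ * σ * τ⁻¹ with hρ
  have hρo : orderOf ρ = p := by
    rw [← hord, hρ]
    exact (SemiconjBy.orderOf_eq τ (by simp [SemiconjBy])).symm
  have hρs : Perm.sign ρ = 1 := by
    rw [hρ, map_mul, map_mul, hsign, map_inv]; simp
  have hρa : ρ a = σ (σ a) := by
    simp only [hρ, hτ, Equiv.swap_inv, Perm.coe_mul, Function.comp, Equiv.swap_apply_left]
    exact Equiv.swap_apply_of_ne_of_ne h2a h2b
  have hρb : ρ (σ a) = a := by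
    simp [hρ, hτ]
  have hmem : ∀ ω, ρ ω = ω ↔ σ ω = ω := by
    intro ω
    by_cases e1 : ω = a
    · subst e1
      rw [hρa]; exact ⟨fun h => absurd h h2a, fun h => absurd h ha⟩
    by_cases e2 : ω = σ a
    · subst e2
      rw [hρb]; exact ⟨fun h => absurd h.symm ha, fun h => absurd h h2b⟩
    have e3 : τ ω = ω := Equiv.swap_apply_of_ne_of_ne e1 e2
    have e4 : ρ ω = τ (σ ω) := by
      simp only [hρ, hτ, Equiv.swap_inv, Perm.coe_mul, Function.comp]
      rw [← hτ, e3]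
    rw [e4]
    constructor
    · intro h
      exact τ.injective (h.trans e3.symm)
    · intro h
      rw [h, e3]
  obtain ⟨x, hx⟩ := hr σ hsign
  obtain ⟨y, hy⟩ := hr ρ hρs
  let M : Subgroup G :=
    { carrier := {g | ∀ ω, σ (f g ω) = f g ω ↔ σ ω = ω}
      one_mem' := by intro ω; simp
      mul_mem' := by
        intro g h hg hh ω
        rw [map_mul, Perm.mul_apply, hg, hh]
      inv_mem' := by
        intro g hg ω
        have := hg (f g⁻¹ ω)
        rw [← Perm.mul_apply (f g), ← map_mul, mul_inv_cancel, map_one, Perm.one_apply] at this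
        exact this.symm }
  refine no_cover hp (x := x) (y := y) ?_ ?_ ?_ ?_ M ?_ ?_ ?_
  · rw [← hord, ← hx, orderOf_injective f hf]
  · rw [← hρo, ← hy, orderOf_injective f hf]
  · intro h
    apply not_sq_dvd_factorial hp (n := n) (by omega)
    have := Subgroup.card_dvd_of_injective f hf
    rw [Nat.card_perm, Nat.card_fin] at this
    exact h.trans this
  · intro h
    have := congrArg (fun g => f g a) h
    simp only [map_mul, hx, hy, Perm.mul_apply, hρa, hρb] at this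
    exact h3a this
  · obtain ⟨c, hc⟩ : ∃ c, c ∉ σ.support := by
      by_contra h
      push Not at h
      have : σ.support = Finset.univ := Finset.eq_univ_iff_forall.2 h
      rw [this, Finset.card_univ, Fintype.card_fin] at hsupp
      omega
    have hc' : σ c = c := Perm.notMem_support.1 hc
    have hca : a ≠ c := fun h => ha (h ▸ hc')
    have hcb : σ a ≠ c := fun h => h2b (by rw [h, hc'])
    obtain ⟨g, hg⟩ := hr (Equiv.swap (σ a) c * Equiv.swap a (σ a)) (by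
      rw [map_mul, Perm.sign_swap hcb, Perm.sign_swap (Ne.symm ha)]; simp)
    intro hM
    have : g ∈ M := hM ▸ Subgroup.mem_top g
    have := this a
    rw [hg] at this
    simp only [Perm.mul_apply, Equiv.swap_apply_left] at this
    exact ha (this.1 hc')
  · intro g hg ω
    have := congrArg (fun g => f g ω) hg
    simp only [map_mul, hx, Perm.mul_apply] at this
    rw [← this]
    exact (f g).injective.eq_iff
  · intro g hg ω
    have := congrArg (fun g => f g ω) hg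
    simp only [map_mul, hy, Perm.mul_apply] at this
    rw [← hmem, ← hmem, ← this]
    exact (f g).injective.eq_iff

theorem alt_ne_top {n : ℕ} (hn : 2 ≤ n) : alternatingGroup (Fin n) ≠ ⊤ := by
  intro h
  have : Equiv.swap (⟨0, by omega⟩ : Fin n) ⟨1, by omega⟩ ∈ alternatingGroup (Fin n) :=
    h ▸ Subgroup.mem_top _
  rw [Perm.mem_alternatingGroup, Perm.sign_swap (by simp)] at this
  exact absurd this (by decide)

theorem S4 : ¬ ∃ 𝓐 : Finset (Subgroup (Perm (Fin 4))), ((∀ A ∈ 𝓐, A ≠ ⊤) ∧ (∀ g : (Perm (Fin 4)), ∃ A ∈ 𝓐, g ∈ A)) ∧ (∀ 𝓑 : Finset (Subgroup (Perm (Fin 4))), (∀ A ∈ 𝓑, A ≠ ⊤) ∧ (∀ g : (Perm (Fin 4)), ∃ A ∈ 𝓑, g ∈ A) → 𝓐.card ≤ 𝓑.card) ∧ (∀ A ∈ 𝓐, Group.IsNilpotent ↥A) := by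
  have := Fact.mk Nat.prime_three
  refine no_cover Nat.prime_three (x := Equiv.swap 0 1 * Equiv.swap 1 2)
    (y := Equiv.swap 0 1 * Equiv.swap 1 3) (orderOf_eq_prime (by decide) (by decide))
    (orderOf_eq_prime (by decide) (by decide)) ?_ (by decide) (alternatingGroup (Fin 4))
    (alt_ne_top (by norm_num)) ?_ ?_
  · rw [Nat.card_perm, Nat.card_fin]; decide
  · simp only [Perm.mem_alternatingGroup]; decide +kernel
  · simp only [Perm.mem_alternatingGroup]; decide +kernel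

theorem S5 : ¬ ∃ 𝓐 : Finset (Subgroup (Perm (Fin 5))), ((∀ A ∈ 𝓐, A ≠ ⊤) ∧ (∀ g : (Perm (Fin 5)), ∃ A ∈ 𝓐, g ∈ A)) ∧ (∀ 𝓑 : Finset (Subgroup (Perm (Fin 5))), (∀ A ∈ 𝓑, A ≠ ⊤) ∧ (∀ g : (Perm (Fin 5)), ∃ A ∈ 𝓑, g ∈ A) → 𝓐.card ≤ 𝓑.card) ∧ (∀ A ∈ 𝓐, Group.IsNilpotent ↥A) := by
  have := Fact.mk Nat.prime_five
  refine no_cover Nat.prime_five (x := Equiv.swap 0 1 * Equiv.swap 1 2 * Equiv.swap 2 3 * Equiv.swap 3 4)
    (y := Equiv.swap 0 2 * Equiv.swap 1 2 * Equiv.swap 1 3 * Equiv.swap 3 4) (orderOf_eq_prime (by decide) (by decide))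
    (orderOf_eq_prime (by decide) (by decide)) ?_ (by decide) (alternatingGroup (Fin 5))
    (alt_ne_top (by norm_num)) ?_ ?_
  · rw [Nat.card_perm, Nat.card_fin]; decide
  · simp only [Perm.mem_alternatingGroup]; decide +kernel
  · simp only [Perm.mem_alternatingGroup]; decide +kernel

theorem A5 : ¬ ∃ 𝓐 : Finset (Subgroup (alternatingGroup (Fin 5))), ((∀ A ∈ 𝓐, A ≠ ⊤) ∧ (∀ g : (alternatingGroup (Fin 5)), ∃ A ∈ 𝓐, g ∈ A)) ∧ (∀ 𝓑 : Finset (Subgroup (alternatingGroup (Fin 5))), (∀ A ∈ 𝓑, A ≠ ⊤) ∧ (∀ g : (alternatingGroup (Fin 5)), ∃ A ∈ 𝓑, g ∈ A) → 𝓐.card ≤ 𝓑.card) ∧ (∀ A ∈ 𝓐, Group.IsNilpotent ↥A) := by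
  have := Fact.mk Nat.prime_three
  have hx : Equiv.swap 0 1 * Equiv.swap 1 2 ∈ alternatingGroup (Fin 5) := by
    rw [Perm.mem_alternatingGroup]; decide
  have hy : Equiv.swap 0 1 * Equiv.swap 1 3 ∈ alternatingGroup (Fin 5) := by
    rw [Perm.mem_alternatingGroup]; decide
  have hz : Equiv.swap 0 1 * Equiv.swap 1 4 ∈ alternatingGroup (Fin 5) := by
    rw [Perm.mem_alternatingGroup]; decide
  have e1 : orderOf (Equiv.swap 0 1 * Equiv.swap 1 2 : Perm (Fin 5)) = 3 :=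
    orderOf_eq_prime (by decide) (by decide)
  have e2 : orderOf (Equiv.swap 0 1 * Equiv.swap 1 3 : Perm (Fin 5)) = 3 :=
    orderOf_eq_prime (by decide) (by decide)
  have e3 : (Equiv.swap 0 1 * Equiv.swap 1 2 : Perm (Fin 5)) * (Equiv.swap 0 1 * Equiv.swap 1 3) ≠
      (Equiv.swap 0 1 * Equiv.swap 1 3) * (Equiv.swap 0 1 * Equiv.swap 1 2) := by decide
  have e4 : (Equiv.swap 0 1 * Equiv.swap 1 4 : Perm (Fin 5)) 4 ≠ 4 := by decide
  have e5 : ∀ a : Perm (Fin 5), Perm.sign a = 1 → a * (Equiv.swap 0 1 * Equiv.swap 1 2) =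
      (Equiv.swap 0 1 * Equiv.swap 1 2) * a → a 4 = 4 := by decide +kernel
  have e6 : ∀ a : Perm (Fin 5), Perm.sign a = 1 → a * (Equiv.swap 0 1 * Equiv.swap 1 3) =
      (Equiv.swap 0 1 * Equiv.swap 1 3) * a → a 4 = 4 := by decide +kernel
  refine no_cover Nat.prime_three (x := ⟨_, hx⟩) (y := ⟨_, hy⟩)
    ((Subgroup.orderOf_mk _ _).trans e1) ((Subgroup.orderOf_mk _ _).trans e2)
    ?_ (fun h => e3 (congrArg Subtype.val h))
    ((MulAction.stabilizer (Perm (Fin 5)) (4 : Fin 5)).subgroupOf _) ?_ ?_ ?_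
  · intro h
    have := h.trans (Subgroup.card_subgroup_dvd_card _)
    rw [Nat.card_perm, Nat.card_fin] at this
    revert this; decide
  · intro h
    have : (⟨_, hz⟩ : alternatingGroup (Fin 5)) ∈
        (MulAction.stabilizer (Perm (Fin 5)) (4 : Fin 5)).subgroupOf (alternatingGroup (Fin 5)) :=
      h ▸ Subgroup.mem_top _
    rw [Subgroup.mem_subgroupOf, MulAction.mem_stabilizer_iff] at this
    exact e4 this
  · rintro ⟨a, ha⟩ h
    rw [Subgroup.mem_subgroupOf, MulAction.mem_stabilizer_iff]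
    exact e5 a (Perm.mem_alternatingGroup.1 ha) (congrArg Subtype.val h)
  · rintro ⟨a, ha⟩ h
    rw [Subgroup.mem_subgroupOf, MulAction.mem_stabilizer_iff]
    exact e6 a (Perm.mem_alternatingGroup.1 ha) (congrArg Subtype.val h)

/-- A cover of a group is a finite set of proper subgroups whose union is the whole group; it is minimal when no cover has fewer members, and nilpotent when all its members are nilpotent. The alternating groups of degree at least 5 and the symmetric groups of degree at least 4 have no nilpotent minimal cover. -/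
theorem result (n : ℕ) :
    (5 ≤ n → ¬ ∃ 𝓐 : Finset (Subgroup ↥(alternatingGroup (Fin n))), ((∀ A ∈ 𝓐, A ≠ ⊤) ∧ (∀ g : ↥(alternatingGroup (Fin n)), ∃ A ∈ 𝓐, g ∈ A)) ∧ (∀ 𝓑 : Finset (Subgroup ↥(alternatingGroup (Fin n))), (∀ A ∈ 𝓑, A ≠ ⊤) ∧ (∀ g : ↥(alternatingGroup (Fin n)), ∃ A ∈ 𝓑, g ∈ A) → 𝓐.card ≤ 𝓑.card) ∧ (∀ A ∈ 𝓐, Group.IsNilpotent ↥A)) ∧
    (4 ≤ n → ¬ ∃ 𝓐 : Finset (Subgroup (Equiv.Perm (Fin n))), ((∀ A ∈ 𝓐, A ≠ ⊤) ∧ (∀ g : (Equiv.Perm (Fin n)), ∃ A ∈ 𝓐, g ∈ A)) ∧ (∀ 𝓑 : Finset (Subgroup (Equiv.Perm (Fin n))), (∀ A ∈ 𝓑, A ≠ ⊤) ∧ (∀ g : (Equiv.Perm (Fin n)), ∃ A ∈ 𝓑, g ∈ A) → 𝓐.card ≤ 𝓑.card) ∧ (∀ A ∈ 𝓐, Group.IsNilpotent ↥A)) := by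
  constructor
  · intro hn
    rcases hn.eq_or_lt with rfl | hn
    · exact A5
    · exact big hn (alternatingGroup (Fin n)).subtype (Subgroup.subtype_injective _)
        (fun σ hσ => ⟨⟨σ, Equiv.Perm.mem_alternatingGroup.2 hσ⟩, rfl⟩)
  · intro hn
    rcases hn.eq_or_lt with rfl | hn
    · exact S4
    rcases (Nat.succ_le_of_lt hn).eq_or_lt with rfl | hn
    · exact S5
    · exact big hn (MonoidHom.id _) Function.injective_id (fun σ _ => ⟨σ, rfl⟩)

end Cfsg.Agent.S3892
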