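import Cfsg.Statements.S3893
import Cfsg.Agent.H39.SzPart

set_option autoImplicit false
open Cfsg

namespace Cfsg.Agent.S3893

open scoped Pointwise in
theorem aux {G : Type*} [Group G] {F : Type*} [Field F] [H39.SzField F] (S : H39.Model G F) :
    ¬ ∃ 𝓐 : Finset (Subgroup G), ((∀ A ∈ 𝓐, A ≠ ⊤) ∧ (∀ g : G, ∃ A ∈ 𝓐, g ∈ A)) ∧
      (∀ 𝓑 : Finset (Subgroup G), (∀ A ∈ 𝓑, A ≠ ⊤) ∧ (∀ g : G, ∃ A ∈ 𝓑, g ∈ A) → 𝓐.card ≤ 𝓑.card) ∧
      (∀ A ∈ 𝓐, Group.IsNilpotent ↥A) := by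
  rintro ⟨𝓐, ⟨-, h2⟩, h3, h4⟩
  have := H39.SzField.finite F
  have := S.finite
  have h8 := H39.SzField.eight_le F
  let 𝓣 : Set (Subgroup G) := {A | ∃ x, S.IsFree x ∧ A = Subgroup.centralizer {x}}
  let 𝓗 : Set (Subgroup G) := {A | ∃ g : G, A = MulAut.conj g • S.H}
  let 𝓟 : Set (Subgroup G) := Set.range fun P : S.Pt => MulAction.stabilizer G P
  have key : ∀ x : G, x ≠ 1 → Odd (orderOf x) → Subgroup.centralizer {x} ∈ 𝓐 := by
    intro x hx ho
    have := S.isCyclic_centralizer_of_odd hx ho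
    obtain ⟨c, hc⟩ := H39.exists_zpowers_eq (Subgroup.centralizer {x})
    have hc1 : c ≠ 1 := by
      rintro rfl
      apply hx
      have : x ∈ Subgroup.zpowers (1 : G) := by
        rw [hc, Subgroup.mem_centralizer_singleton_iff]
      simpa using this
    have hcx : c ∈ Subgroup.centralizer {x} := hc ▸ Subgroup.mem_zpowers c
    obtain ⟨A, hA, hcA⟩ := h2 c
    have := h4 A hA
    obtain ⟨z, hz, hz1, hle⟩ := H39.exists_center_ne_one (A := A) (fun e => hc1 (by simpa [e] using hcA))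
    have hzx : z ∈ Subgroup.centralizer {x} := by
      rw [← S.centralizer_eq_of_odd hx ho hc1 hcx, Subgroup.mem_centralizer_singleton_iff]
      exact (Subgroup.mem_centralizer_singleton_iff.mp (hle hcA)).symm
    rw [S.centralizer_eq_of_odd hx ho hz1 hzx] at hle
    rw [le_antisymm (show Subgroup.centralizer {x} ≤ A by rw [← hc]; simpa using hcA) hle]
    exact hA
  obtain ⟨k, hk⟩ := H39.SzField.exists_unit_ne F
  have hH : ∀ g, (S.twist g).h k ≠ 1 := fun g e => hk ((S.twist g).h_eq_one_iff.mp e)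
  have hsub : 𝓣 ∪ 𝓗 ⊆ 𝓐 := by
    rintro A (⟨x, hx, rfl⟩ | ⟨g, rfl⟩)
    · exact key x hx.ne_one hx.odd_orderOf
    · rw [← S.twist_H, ← (S.twist g).centralizer_of_mem_H ((S.twist g).h_mem_H k) (hH g)]
      exact key _ (hH g) ((S.twist g).odd_orderOf_of_mem_H ((S.twist g).h_mem_H k))
  have hdisj : Disjoint 𝓣 𝓗 := by
    rw [Set.disjoint_left]
    rintro A ⟨x, hx, rfl⟩ ⟨g, hg⟩
    rw [← S.twist_H] at hg
    exact (S.twist g).not_isFree_of_mem_B ((S.twist g).H_le_B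
      (hg ▸ Subgroup.mem_centralizer_singleton_iff.mpr rfl)) ((S.isFree_twist g).mpr hx)
  have c1 := Set.ncard_le_ncard hsub
  rw [Set.ncard_union_eq hdisj, Set.ncard_coe_finset] at c1
  have c2 : 2 * 𝓗.ncard = Nat.card F ^ 2 * (Nat.card F ^ 2 + 1) := by
    rw [H39.ncard_conjugates, S.two_mul_index_normalizer_H]
  have c3 : 𝓟.ncard ≤ Nat.card F ^ 2 + 1 := by
    rw [← S.card_Pt, ← Set.ncard_univ, show 𝓟 = _ from Set.image_univ.symm]
    exact Set.ncard_image_le (Set.toFinite _)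
  have c4 := h3 (Set.toFinite (𝓣 ∪ 𝓟)).toFinset ⟨?_, ?_⟩
  · rw [← Set.ncard_eq_toFinset_card] at c4
    have c5 := Set.ncard_union_le 𝓣 𝓟
    have c6 : 64 ≤ Nat.card F ^ 2 := by nlinarith
    nlinarith
  · intro A hA
    rw [Set.Finite.mem_toFinset] at hA
    rcases hA with ⟨x, hx, rfl⟩ | ⟨P, rfl⟩
    · intro e
      exact S.not_isFree_of_mem_B (S.h_mem_B k) (hx.of_mem_centralizer
        (fun e => hk (S.h_eq_one_iff.mp e)) (e ▸ Subgroup.mem_top _))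
    · intro e
      obtain ⟨Q, hQ⟩ := exists_ne P
      obtain ⟨g, rfl⟩ := MulAction.exists_smul_eq G P Q
      exact hQ (show g ∈ MulAction.stabilizer G P from by simp only at e; rw [e]; trivial)
  · intro g
    simp only [Set.Finite.mem_toFinset]
    by_cases h : S.IsFree g
    · exact ⟨_, Or.inl ⟨g, h, rfl⟩, Subgroup.mem_centralizer_singleton_iff.mpr rfl⟩
    · obtain ⟨P, hP⟩ := not_forall.mp h
      exact ⟨_, Or.inr ⟨P, rfl⟩, not_not.mp hP⟩

/-- A cover of a group is a finite set of proper subgroups whose union is the whole group; it is minimal when no cover has fewer members, and nilpotent when all its members are nilpotent. The Suzuki groups Sz(q), q = 2^(2m+1) with m ≥ 1, have no nilpotent minimal cover. -/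
theorem result {F : Type*} [Field F] [Fintype F] (m : ℕ) (hm : 1 ≤ m) (hF : Fintype.card F = 2 ^ (2 * m + 1)) :
    ¬ ∃ 𝓐 : Finset (Subgroup ↥(Cfsg.Lie.Sz F (2 ^ (m + 1)))), ((∀ A ∈ 𝓐, A ≠ ⊤) ∧ (∀ g : ↥(Cfsg.Lie.Sz F (2 ^ (m + 1))), ∃ A ∈ 𝓐, g ∈ A)) ∧ (∀ 𝓑 : Finset (Subgroup ↥(Cfsg.Lie.Sz F (2 ^ (m + 1)))), (∀ A ∈ 𝓑, A ≠ ⊤) ∧ (∀ g : ↥(Cfsg.Lie.Sz F (2 ^ (m + 1))), ∃ A ∈ 𝓑, g ∈ A) → 𝓐.card ≤ 𝓑.card) ∧ (∀ A ∈ 𝓐, Group.IsNilpotent ↥A) := by
  have := H39.szField_of_card hm hF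
  exact aux (H39.lieModel hF)

end Cfsg.Agent.S3893
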