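import Cfsg.Statements.S3894
import Cfsg.Agent.H93.LinCover2

set_option autoImplicit false
open Cfsg

namespace Cfsg.Agent.S3894

theorem lift {Γ : Type*} [Group Γ] (G : Subgroup (Γ ⧸ Subgroup.center Γ))
    (𝓐 : Finset (Subgroup ↥G)) (h1 : ∀ A ∈ 𝓐, A ≠ ⊤) (h2 : ∀ g : ↥G, ∃ A ∈ 𝓐, g ∈ A)
    (h3 : ∀ 𝓑 : Finset (Subgroup ↥G), (∀ A ∈ 𝓑, A ≠ ⊤) ∧ (∀ g : ↥G, ∃ A ∈ 𝓑, g ∈ A) →
      𝓐.card ≤ 𝓑.card) (h4 : ∀ A ∈ 𝓐, Group.IsNilpotent ↥A) :
    H93.NilCover (Subgroup.center Γ) (G.comap (QuotientGroup.mk' (Subgroup.center Γ)))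
      (𝓐 : Set (Subgroup G))
      (fun A => (A.map G.subtype).comap (QuotientGroup.mk' (Subgroup.center Γ))) := by
  classical
  set π := QuotientGroup.mk' (Subgroup.center Γ) with hπ
  have hs : Function.Surjective π := QuotientGroup.mk'_surjective _
  refine ⟨?_, ?_, ?_, ?_, ?_, ?_⟩
  · intro A _ g hg
    rw [Subgroup.mem_comap, (QuotientGroup.eq_one_iff g).mpr hg |> (show π g = 1 from ·)]
    exact one_mem _
  · intro A _
    exact Subgroup.comap_mono (Subgroup.map_subtype_le A)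
  · intro A hA hle
    apply h1 A hA
    rw [eq_top_iff]
    intro g _
    obtain ⟨γ, hγ⟩ := hs g
    have : γ ∈ G.comap π := by rw [Subgroup.mem_comap, hγ]; exact g.2
    obtain ⟨a, ha, hag⟩ := hle this
    have : a = g := Subtype.ext (hag.trans hγ)
    exact this ▸ ha
  · intro A hA
    haveI := h4 A hA
    haveI : Group.IsNilpotent (A.map G.subtype) :=
      Group.nilpotent_of_surjective (G.subtype.subgroupMap A) (G.subtype.subgroupMap_surjective A)
    refine isNilpotent_of_ker_le_center (π.subgroupComap (A.map G.subtype)) ?_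
    intro g hg
    have : (g : Γ) ∈ Subgroup.center Γ :=
      (QuotientGroup.eq_one_iff (g : Γ)).mp (congrArg Subtype.val hg)
    rw [Subgroup.mem_center_iff] at this ⊢
    exact fun a => Subtype.ext (this a)
  · intro g hg
    obtain ⟨A, hA, hgA⟩ := h2 ⟨π g, hg⟩
    exact ⟨A, hA, ⟨_, hgA, rfl⟩⟩
  · intro A₀ hA₀ f hf hc
    have := h3 ((𝓐.erase A₀).image fun A => ((f A).map π).subgroupOf G) ⟨?_, ?_⟩
    · have h5 := Finset.card_image_le (s := 𝓐.erase A₀) (f := fun A => ((f A).map π).subgroupOf G)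
      have h6 := Finset.card_erase_lt_of_mem (Finset.mem_coe.mp hA₀)
      omega
    · intro B hB
      obtain ⟨A, hA, rfl⟩ := Finset.mem_image.mp hB
      obtain ⟨hne, hA⟩ := Finset.mem_erase.mp hA
      obtain ⟨hZ, hG⟩ := hf A hA hne
      intro htop
      apply hG
      intro g hg
      have : (⟨π g, hg⟩ : G) ∈ ((f A).map π).subgroupOf G := htop ▸ Subgroup.mem_top _
      obtain ⟨a, ha, hag⟩ := this
      have h7 : a⁻¹ * g ∈ Subgroup.center Γ := QuotientGroup.eq.mp hag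
      simpa using (f A).mul_mem ha (hZ h7)
    · intro g
      obtain ⟨γ, hγ⟩ := hs g
      have : γ ∈ G.comap π := by rw [Subgroup.mem_comap, hγ]; exact g.2
      obtain ⟨A, hA, hne, hγA⟩ := hc γ this
      exact ⟨_, Finset.mem_image.mpr ⟨A, Finset.mem_erase.mpr ⟨hne, hA⟩, rfl⟩, ⟨γ, hγA, hγ⟩⟩

/-- A cover of a group is a finite set of proper subgroups whose union is the whole group; it is minimal when no cover has fewer members, and nilpotent when all its members are nilpotent. Let F be a finite field with q elements and n ≥ 3, or n = 2 and q ≥ 4. Then no subgroup of PGL_n(F) = GL_n(F)/Z(GL_n(F)) containing the image of SL_n(F) has a nilpotent minimal cover. -/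
theorem result {F : Type*} [Field F] [Fintype F] (n : ℕ) (hn : 3 ≤ n ∨ (n = 2 ∧ 4 ≤ Fintype.card F))
    (G : Subgroup (GL (Fin n) F ⧸ Subgroup.center (GL (Fin n) F)))
    (hG : ((Matrix.SpecialLinearGroup.toGL : Matrix.SpecialLinearGroup (Fin n) F →* GL (Fin n) F).range).map
      (QuotientGroup.mk' (Subgroup.center (GL (Fin n) F))) ≤ G) :
    ¬ ∃ 𝓐 : Finset (Subgroup ↥G), ((∀ A ∈ 𝓐, A ≠ ⊤) ∧ (∀ g : ↥G, ∃ A ∈ 𝓐, g ∈ A)) ∧ (∀ 𝓑 : Finset (Subgroup ↥G), (∀ A ∈ 𝓑, A ≠ ⊤) ∧ (∀ g : ↥G, ∃ A ∈ 𝓑, g ∈ A) → 𝓐.card ≤ 𝓑.card) ∧ (∀ A ∈ 𝓐, Group.IsNilpotent ↥A) := by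
  rintro ⟨𝓐, ⟨h1, h2⟩, h3, h4⟩
  have h := lift G 𝓐 h1 h2 h3 h4
  have hG' := Subgroup.map_le_iff_le_comap.mp hG
  rcases hn with hn | ⟨rfl, hF⟩
  · obtain ⟨m, rfl⟩ : ∃ m, n = m + 3 := ⟨n - 3, by omega⟩
    exact H93.not_nilCover_three hG' h
  · exact H93.not_nilCover_two hF hG' h

end Cfsg.Agent.S3894
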