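import Cfsg.Statements.S3907
import Cfsg.Agent.H88.ASpecial

set_option autoImplicit false
open Cfsg

namespace Cfsg.Agent.S3907

open Cfsg.Agent.H63 Cfsg.Agent.H67 Cfsg.Agent.H88 Subgroup

/-- Let p be a prime and let k ≥ 3 and c ≥ 0 be integers. There is a bound B depending only on p, k and c such that the following holds for every finite group G of order prime to p and every elementary abelian subgroup A of order p^k of the automorphism group of G: if, for every non-identity a ∈ A, the (k−2)-th term of the lower central series of the fixed-point subgroup C_G(a) (the first term being the whole group) is nilpotent of class at most c, then the (k−2)-th term of the lower central series of G is nilpotent of class at most B. -/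
theorem result (p k c : ℕ) (hp : p.Prime) (hk : 3 ≤ k) :
    ∃ B : ℕ, ∀ (G : Type) [Group G] [Finite G], (Nat.card G).Coprime p →
      ∀ A : Subgroup (MulAut G), Cfsg.IsElementaryAbelian p A → Nat.card ↥A = p ^ k →
        (∀ a ∈ A, a ≠ 1 → ((⊤ : Subgroup ↥((a : MulAut G).toMonoidHom.eqLocus (MonoidHom.id G))).lowerCentralSeries (k - 3)).lowerCentralSeries c = ⊥) →
        ((⊤ : Subgroup G).lowerCentralSeries (k - 3)).lowerCentralSeries B = ⊥ := by
  refine ⟨specB p k c (k - 3), fun G _ _ hG A hA hAk h => ?_⟩
  have := H4.Ext.finite_semidirect A.subtype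
  have h1 := lcs_lcs_eq_bot (c := c) (G := H4.Ext.L A.subtype ⊤) hp (isElementaryAbelian_R hA)
    (by rw [H4.Ext.card_R, card_top, hAk]) hk ((H4.Ext.inv_iff _).mp (H4.Ext.inv_top _))
    (by rwa [H4.Ext.card_L, card_top]) (by
      rintro _ ⟨a, -, rfl⟩ ha
      have h2 := h a a.2 fun h0 => ha (by rw [show a = 1 from Subtype.ext h0, map_one])
      rw [L_inf_cent1, ← map_lowerCentralSeries, ← map_lowerCentralSeries,
        ← top_subtype_lowerCentralSeries _ (k - 3), ← map_lowerCentralSeries]
      exact (congrArg _ ((congrArg _ h2).trans (Subgroup.map_bot _))).trans (Subgroup.map_bot _))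
  rwa [← map_lowerCentralSeries, ← map_lowerCentralSeries,
    map_eq_bot_iff_of_injective _ SemidirectProduct.inl_injective] at h1

end Cfsg.Agent.S3907
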