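import Cfsg.Statements.S4022
import Cfsg.Agent.H91.ConjSub

set_option autoImplicit false
open Cfsg

namespace Cfsg.Agent.S4022

open Pointwise

theorem card_inf_eq {G : Type*} [Group G] [Finite G] {p : ℕ} [Fact p.Prime]
    (hD : H91.EqOrdConj p G) (N : Subgroup G) [hN : N.Normal] (hp : IsPGroup p N) {H K : Subgroup G}
    (hc : Nat.card H = Nat.card K) : Nat.card ↥(H ⊓ N) = Nat.card ↥(K ⊓ N) := by
  have key : ∀ H : Subgroup G, ∃ A : Subgroup G, IsPGroup p A ∧ A ⊓ N = H ⊓ N ∧
      Nat.card A = p ^ (Nat.card H).factorization p := by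
    intro H
    have h1 : IsPGroup p (N.subgroupOf H) := hp.comap_subtype
    obtain ⟨P, hP⟩ := h1.exists_le_sylow
    refine ⟨(P : Subgroup H).map H.subtype, P.isPGroup'.map _, ?_, ?_⟩
    · refine le_antisymm (inf_le_inf_right _ (Subgroup.map_subtype_le _)) fun x hx => ⟨?_, hx.2⟩
      exact ⟨⟨x, hx.1⟩, hP hx.2, rfl⟩
    · rw [H3.card_map_subtype, P.card_eq_multiplicity]
  obtain ⟨A, hA, hAN, hAc⟩ := key H
  obtain ⟨B, hB, hBN, hBc⟩ := key K
  obtain ⟨g, rfl⟩ := hD A B hA hB (by rw [hAc, hBc, hc])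
  rw [← hAN, ← hBN, ← H2.card_conj_smul (A ⊓ N) g, Subgroup.smul_inf,
    Subgroup.Normal.conj_smul_eq_self g N]

theorem aux.{u} (n : ℕ) : ∀ (G : Type u) [Group G] [Finite G], Nat.card G = n →
    Group.IsSolvable G → (∀ p : ℕ, p.Prime → H91.EqOrdConj p G) →
    ∀ r : ℕ, (∀ p : ℕ, p.Prime → p ≠ r → ∀ P : Sylow p G, IsCyclic P) →
    ∀ H K : Subgroup G, Nat.card H = Nat.card K → ∃ g : G, K = MulAut.conj g • H := by
  induction n using Nat.strongRecOn with | ind n ih => ?_
  rintro G _ _ rfl hs hD r hcyc H K hc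
  rcases subsingleton_or_nontrivial G with hG | hG
  · exact ⟨1, Subsingleton.elim _ _⟩
  obtain ⟨N, p, hp, hNn, hN0, -, hNe, -⟩ := H3.exists_minimal_normal_elementary_le
    (⊤ : Subgroup G) inferInstance top_ne_bot
  have := Fact.mk hp
  have hNp : IsPGroup p N := fun x => ⟨1, Subtype.ext (by simpa using hNe.2 x x.2)⟩
  -- first make the intersections with `N` equal
  obtain ⟨g₁, hg₁⟩ := hD p hp (H ⊓ N) (K ⊓ N) (hNp.to_le inf_le_right) (hNp.to_le inf_le_right)
    (card_inf_eq (hD p hp) N hNp hc)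
  rw [Subgroup.smul_inf, Subgroup.Normal.conj_smul_eq_self g₁ N] at hg₁
  suffices h : ∀ H : Subgroup G, Nat.card H = Nat.card K → K ⊓ N = H ⊓ N →
      ∃ g : G, K = MulAut.conj g • H by
    obtain ⟨g, hg⟩ := h _ ((H2.card_conj_smul H g₁).trans hc) hg₁
    exact ⟨g * g₁, by rw [hg, H2.conj_smul_conj_smul]⟩
  clear hc hg₁ H g₁
  intro H hc hW
  set W := K ⊓ N with hWdef
  set M := Subgroup.normalizer (W : Set G) with hM
  have hle : ∀ X : Subgroup G, W = X ⊓ N → X ≤ M := by
    intro X hX x hx
    rw [hM, ← H2.conj_smul_eq_iff_mem_normalizer, hX, Subgroup.smul_inf,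
      Subgroup.Normal.conj_smul_eq_self x N, Subgroup.conj_smul_eq_self_of_mem hx]
  have hWN' : W ≤ N := inf_le_right
  have hKM := hle K rfl
  have hHM := hle H hW
  have hNM : N ≤ M := by
    intro x hx
    refine Subgroup.centralizer_le_normalizer _ ?_
    intro w hw
    have := congrArg Subtype.val (hNe.1.is_comm.comm (⟨w, hw.2⟩ : N) ⟨x, hx⟩)
    exact this
  obtain ⟨hpN, hdich⟩ := (hD p hp).dichotomy hN0 hNe.2
  -- the quotient `M / N` satisfies the hypotheses
  set N' := N.subgroupOf M with hN'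
  have hf := QuotientGroup.mk'_surjective N'
  have hlt : Nat.card (M ⧸ N') < Nat.card G := by
    refine lt_of_lt_of_le (H2.card_quotient_lt_of_ne_bot ?_) (Subgroup.card_le_card_group M)
    intro h
    apply hN0
    rw [← Subgroup.map_subgroupOf_eq_of_le hNM, ← hN', h, Subgroup.map_bot]
  have hcycM : ∀ q : ℕ, q.Prime → (∀ P : Sylow q G, IsCyclic P) →
      ∀ P : Sylow q (M ⧸ N'), IsCyclic P := by
    intro q hq h P
    have := Fact.mk hq
    obtain ⟨Q, rfl⟩ := Sylow.mapSurjective_surjective hf q P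
    obtain ⟨R, hR⟩ := (Q.isPGroup'.map M.subtype).exists_le_sylow
    have := h R
    have h1 : IsCyclic ((Q : Subgroup M).map M.subtype) := Subgroup.isCyclic_of_le hR
    have h2 : IsCyclic (Q : Subgroup M) :=
      isCyclic_of_injective (Subgroup.equivMapOfInjective (Q : Subgroup M) M.subtype
        M.subtype_injective).toMonoidHom (MulEquiv.injective _)
    exact isCyclic_of_surjective _ (MonoidHom.subgroupMap_surjective (QuotientGroup.mk' N')
      (Q : Subgroup M))
  have hDM : ∀ q : ℕ, q.Prime → H91.EqOrdConj q (M ⧸ N') := by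
    intro q hq
    have := Fact.mk hq
    by_cases hMt : M = ⊤
    · refine (hD q hq).of_surjective (f := (QuotientGroup.mk' N').comp
        ((MonoidHom.id G).codRestrict M fun x => hMt ▸ Subgroup.mem_top _)) ?_
      exact hf.comp fun x => ⟨x, rfl⟩
    by_cases hqr : q = r
    swap
    · exact H91.eqOrdConj_of_isCyclic (hcycM q hq (hcyc q hq hqr))
    have hNc : Nat.card N ≠ p := by
      intro h
      apply hMt
      have : Fact (Nat.card N).Prime := h ▸ Fact.mk hp
      rw [hM, Subgroup.normalizer_eq_top_iff]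
      rcases (W.subgroupOf N).eq_bot_or_eq_top_of_prime_card with h1 | h1
      · have : W = ⊥ := by
          rw [← Subgroup.map_subgroupOf_eq_of_le hWN', h1, Subgroup.map_bot]
        rw [this]; infer_instance
      · have : W = N := le_antisymm inf_le_right (Subgroup.subgroupOf_eq_top.mp h1)
        rw [this]; infer_instance
    have hpr : p = r := by
      by_contra hpr
      obtain ⟨R, hR⟩ := hNp.exists_le_sylow
      have := hcyc p hp hpr R
      have h1 : IsCyclic N := Subgroup.isCyclic_of_le hR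
      apply hNc
      refine Nat.dvd_antisymm ?_ hpN
      rw [← IsCyclic.exponent_eq_card]
      exact Monoid.exponent_dvd_of_forall_pow_eq_one fun x => Subtype.ext (hNe.2 x x.2)
    have hqp : q = p := hqr.trans hpr.symm
    subst hqp
    have hbot : ∀ A : Subgroup (M ⧸ N'), IsPGroup q A → A = ⊥ := by
      intro A hA
      obtain ⟨B, hB, rfl, -⟩ := H91.exists_pgroup_map_eq hf hA
      rw [Subgroup.map_eq_bot_iff, QuotientGroup.ker_mk', hN']
      exact Subgroup.map_le_iff_le_comap.mp (hdich.resolve_left hNc _ (hB.map _))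
    intro A B hA hB _
    exact ⟨1, by rw [hbot A hA, hbot B hB, map_one, one_smul]⟩
  have hcard : ∀ X : Subgroup G, X ≤ M → W = X ⊓ N →
      Nat.card ((X.subgroupOf M).map (QuotientGroup.mk' N')) * Nat.card W = Nat.card X := by
    intro X hX hXW
    rw [H3.card_map_mk', hN', Subgroup.relIndex_subgroupOf hX, hXW, inf_comm, mul_comm,
      H3.card_inf_mul_relIndex]
  obtain ⟨m, hm⟩ := ih _ hlt (M ⧸ N') rfl inferInstance hDM r
    (fun q hq hqr => hcycM q hq (hcyc q hq hqr))
    ((H.subgroupOf M).map (QuotientGroup.mk' N')) ((K.subgroupOf M).map (QuotientGroup.mk' N'))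
    (Nat.eq_of_mul_eq_mul_right Nat.card_pos
      (by rw [hcard H hHM hW, hcard K hKM rfl, hc]))
  obtain ⟨m, rfl⟩ := hf m
  rw [← H2.map_conj_smul] at hm
  have hm0 := congrArg (Subgroup.comap (QuotientGroup.mk' N')) hm
  rw [Subgroup.comap_map_eq, Subgroup.comap_map_eq, QuotientGroup.ker_mk'] at hm0
  have hm1 := congrArg (Subgroup.map M.subtype) hm0
  simp only [Subgroup.map_sup, hN',
    H2.map_conj_smul, Subgroup.map_subgroupOf_eq_of_le hNM, Subgroup.map_subgroupOf_eq_of_le hKM,
    Subgroup.map_subgroupOf_eq_of_le hHM, Subgroup.subtype_apply] at hm1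
  set H₂ := MulAut.conj (m : G) • H with hH₂
  have hW₂ : W = H₂ ⊓ N := by
    rw [hH₂, ← Subgroup.Normal.conj_smul_eq_self (m : G) N, ← Subgroup.smul_inf, ← hW,
      H2.conj_smul_eq_iff_mem_normalizer.mpr m.2]
  by_cases hWN : W = N
  · refine ⟨m, ?_⟩
    rwa [sup_of_le_left (hWN ▸ inf_le_left : N ≤ K),
      sup_of_le_left (by rw [← hWN, hW₂]; exact inf_le_left : N ≤ H₂)] at hm1
  have key : ∀ X : Subgroup G, W = X ⊓ N → ∃ Y : Subgroup G, Y ⊔ W = X ∧
      (Nat.card N).Coprime (Nat.card Y) := by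
    intro X hX
    have hWX : W ≤ X := hX ▸ inf_le_left
    have hn : (W.subgroupOf X).Normal := Subgroup.normal_subgroupOf_of_le_normalizer (hle X hX)
    have hnd : ¬ p ∣ (W.subgroupOf X).index := by
      let P : Sylow p X := Classical.arbitrary _
      have hP : (P : Subgroup X) ≤ W.subgroupOf X := by
        rcases hdich with h | h
        · have : Fact (Nat.card N).Prime := h ▸ Fact.mk hp
          have hW0 : W = ⊥ := by
            rcases (W.subgroupOf N).eq_bot_or_eq_top_of_prime_card with h1 | h1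
            · rw [← Subgroup.map_subgroupOf_eq_of_le hWN', h1, Subgroup.map_bot]
            · exact absurd (le_antisymm inf_le_right (Subgroup.subgroupOf_eq_top.mp h1)) hWN
          by_contra hP
          have hP0 : (P : Subgroup X) ≠ ⊥ := fun h => hP (h ▸ bot_le)
          have : Nontrivial (P : Subgroup X) := (Subgroup.nontrivial_iff_ne_bot _).2 hP0
          obtain ⟨k, hk, hck⟩ := P.isPGroup'.nontrivial_iff_card.1 this
          obtain ⟨y, hy⟩ := exists_prime_orderOf_dvd_card' (G := (P : Subgroup X)) p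
            (hck ▸ dvd_pow_self p hk.ne')
          have hy' : orderOf ((y : X) : G) = p ^ 1 := by
            rw [Subgroup.orderOf_coe, Subgroup.orderOf_coe, hy, pow_one]
          have h2 : ((y : X) : G) ∈ W := by
            rw [hX]
            exact ⟨(y : X).2, (hD p hp).mem_of_orderOf_dvd hy' (by rwa [pow_one])⟩
          rw [hW0, Subgroup.mem_bot] at h2
          rw [h2, orderOf_one, pow_one] at hy'
          exact hp.one_lt.ne hy'
        · intro x hx
          rw [Subgroup.mem_subgroupOf, hX]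
          exact ⟨x.2, h _ (P.isPGroup'.map X.subtype) ⟨x, hx, rfl⟩⟩
      exact fun h => P.not_dvd_index (h.trans (Subgroup.index_dvd_of_le hP))
    have hWp : IsPGroup p (W.subgroupOf X) := (hNp.to_le (inf_le_right : W ≤ N)).comap_subtype
    obtain ⟨a, ha⟩ := IsPGroup.iff_card.mp hWp
    obtain ⟨b, hb⟩ := IsPGroup.iff_card.mp hNp
    obtain ⟨Y, hY⟩ := Subgroup.exists_right_complement'_of_coprime (N := W.subgroupOf X)
      (by rw [ha]; exact Nat.Coprime.pow_left _ ((Nat.Prime.coprime_iff_not_dvd hp).mpr hnd))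
    refine ⟨Y.map X.subtype, ?_, ?_⟩
    · have := congrArg (Subgroup.map X.subtype) hY.sup_eq_top
      rwa [Subgroup.map_sup, Subgroup.map_subgroupOf_eq_of_le hWX, ← MonoidHom.range_eq_map,
        Subgroup.range_subtype, sup_comm] at this
    · rw [H3.card_map_subtype, hb, ← hY.symm.index_eq_card]
      exact Nat.Coprime.pow_left _ ((Nat.Prime.coprime_iff_not_dvd hp).mpr hnd)
  obtain ⟨K₀, hK₀, hK₀c⟩ := key K rfl
  obtain ⟨H₀, hH₀, hH₀c⟩ := key H₂ hW₂
  obtain ⟨n, hn, hnc⟩ := H91.exists_conj_of_sup_eq N inferInstance hH₀c hK₀c (by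
    rw [← sup_of_le_right hWN', ← sup_assoc, ← sup_assoc, hK₀, hH₀, hm1])
  refine ⟨n * m, ?_⟩
  rw [← H2.conj_smul_conj_smul, ← hH₂, ← hH₀, Subgroup.smul_sup, hnc,
    H2.conj_smul_eq_iff_mem_normalizer.mpr (hNM hn), hK₀]

/-- Let G be a finite solvable group in which, for every prime p, any two p-subgroups of the same order are conjugate, and suppose the Sylow p-subgroups of G are cyclic for all primes p with at most one exception. Then any two subgroups of G of the same order are conjugate. -/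
theorem result {G : Type*} [Group G] [Finite G]
    [Group.IsSolvable G] (hD : ∀ p : ℕ, p.Prime → ∀ H K : Subgroup G, IsPGroup p H → IsPGroup p K → Nat.card H = Nat.card K →
      ∃ g : G, K = H.map (MulAut.conj g).toMonoidHom)
    (r : ℕ) (hcyc : ∀ p : ℕ, p.Prime → p ≠ r → ∀ P : Sylow p G, IsCyclic P) :
    ∀ H K : Subgroup G, Nat.card H = Nat.card K → ∃ g : G, K = H.map (MulAut.conj g).toMonoidHom := by
  exact aux _ G rfl inferInstance hD r hcyc

end Cfsg.Agent.S4022
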