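import Cfsg.Statements.S3913
import Cfsg.Agent.H91.RegVec
import Cfsg.Agent.H5.Semiregular
import Cfsg.Agent.S3910
import Cfsg.Agent.S3742
import Cfsg.Agent.S4022

set_option autoImplicit false
open Cfsg

namespace Cfsg.Agent.S3913

open Subgroup Pointwise H91 commutatorElement

universe u

def Bad {G : Type*} [Group G] (q : ℕ) (P : Subgroup G) : Prop :=
  ¬ IsCyclic P ∧ ((∀ x ∈ P, x ^ q = 1) ∨ (q = 2 ∧ Nonempty (P ≃* QuaternionGroup 2)))

theorem bad_of_not_cyclic {G : Type u} [Group G] [Finite G] [Group.IsSolvable G] (h : AbConj G)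
    {q : ℕ} [Fact q.Prime] (P : Sylow q G) (hP : ¬ IsCyclic P) : Bad q (P : Subgroup G) := by
  refine ⟨hP, ?_⟩
  rcases h.unique_or_exponent P.isPGroup' with h1 | h1
  · rcases H5.isCyclic_or_quaternion_of_unique P.isPGroup' h1 with h2 | ⟨rfl, n, ⟨e⟩⟩
    · exact absurd h2 hP
    · have := h.quaternion_le' P e
      rcases n with _ | _ | n
      · have : IsCyclic (QuaternionGroup (2 ^ 0)) := QuaternionGroup.quaternionGroup_one_isCyclic
        exact absurd (isCyclic_of_injective e.toMonoidHom e.injective) hP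
      · exact Or.inr ⟨rfl, ⟨e⟩⟩
      · omega
  · exact Or.inl h1

theorem q8_facts : (∀ x : QuaternionGroup 2, x ^ 4 = 1 ∧ x ^ 2 ≠ 1 ∨
    x = 1 ∨ x = QuaternionGroup.a 1 ^ 2) ∧ (∀ x : QuaternionGroup 2, x ^ 2 = 1 ∨
      x ^ 2 = ⁅(QuaternionGroup.a 1 : QuaternionGroup 2), (QuaternionGroup.xa 0 : QuaternionGroup 2)⁆) ∧
    ⁅(QuaternionGroup.a 1 : QuaternionGroup 2), (QuaternionGroup.xa 0 : QuaternionGroup 2)⁆ ≠ 1 ∧
    ⁅(QuaternionGroup.a 1 : QuaternionGroup 2), (QuaternionGroup.xa 0 : QuaternionGroup 2)⁆ ^ 2 = 1 ∧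
    ∀ x : QuaternionGroup 2, x ^ 2 = 1 → x = 1 ∨
      x = ⁅(QuaternionGroup.a 1 : QuaternionGroup 2), (QuaternionGroup.xa 0 : QuaternionGroup 2)⁆ := by
  decide

theorem orderOf_four {G : Type*} [Group G] {x : G} (h1 : x ^ 4 = 1) (h2 : x ^ 2 ≠ 1) :
    orderOf x = 4 :=
  orderOf_eq_prime_pow (p := 2) (n := 1) (by simpa using h2) (by simpa using h1)

theorem Bad.le_ker {G G' : Type*} [Group G] [Finite G] [Group G'] (h : AbConj G) {q : ℕ}
    [hq : Fact q.Prime] {P : Subgroup G} (hP : Bad q P) (f : G →* G')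
    (hc : IsCyclic (P.map f)) : P ≤ f.ker := by
  obtain ⟨hP0, hP | ⟨rfl, ⟨e⟩⟩⟩ := hP
  · obtain ⟨y, hy, hy1⟩ : ∃ y ∈ P ⊓ f.ker, y ≠ 1 := by
      refine (bot_or_exists_ne_one _).resolve_left fun h0 => hP0 ?_
      refine isCyclic_of_injective (f.subgroupMap P) ((injective_iff_map_eq_one _).mpr ?_)
      intro a ha
      have h3 : (a : G) ∈ P ⊓ f.ker := ⟨a.2, congrArg Subtype.val ha⟩
      rw [h0] at h3
      exact Subtype.ext h3
    intro x hx
    by_cases hx1 : x = 1
    · rw [hx1]; exact one_mem _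
    · exact h.mem_of_orderOf _ hy.2
        ((orderOf_eq_prime (hP y hy.1) hy1).trans (orderOf_eq_prime (hP x hx) hx1).symm)
  · let ψ : QuaternionGroup 2 →* P.map f := (f.subgroupMap P).comp e.symm.toMonoidHom
    have hψ : ∀ x, ψ x = 1 → (e.symm x : G) ∈ f.ker := fun x hx => congrArg Subtype.val hx
    have h1 : ∀ x, ψ x ^ 2 = 1 := by
      intro x
      rw [← map_pow]
      rcases q8_facts.2.1 x with h | h <;> rw [h]
      · exact map_one _
      · rw [map_commutatorElement, commutatorElement_eq_one_iff_mul_comm, mul_comm']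
    have h2 : ∀ x y, ψ x ≠ 1 → ψ y ≠ 1 → ψ x = ψ y := by
      classical
      intro x y hx hy
      have := Finite.of_surjective _ (f.subgroupMap_surjective P)
      have := Fintype.ofFinite (P.map f)
      have h3 := IsCyclic.card_orderOf_eq_totient (α := P.map f) (d := 2)
        ((orderOf_eq_prime (h1 x) hx) ▸ orderOf_dvd_card)
      exact Finset.card_le_one.mp h3.le _ (by simpa using orderOf_eq_prime (h1 x) hx) _
        (by simpa using orderOf_eq_prime (h1 y) hy)
    obtain ⟨y, hy, hyo⟩ : ∃ y, ψ y = 1 ∧ orderOf y = 4 := by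
      by_cases h3 : ψ (QuaternionGroup.a 1) = 1
      · exact ⟨_, h3, QuaternionGroup.orderOf_a_one⟩
      by_cases h4 : ψ (QuaternionGroup.xa 0) = 1
      · exact ⟨_, h4, QuaternionGroup.orderOf_xa 0⟩
      refine ⟨QuaternionGroup.xa 0 * QuaternionGroup.a 1, ?_, QuaternionGroup.orderOf_xa _⟩
      rw [map_mul, h2 _ _ h4 h3, ← sq, h1]
    have h3 : ∀ x, orderOf x = 4 → (e.symm x : G) ∈ f.ker := fun x hx =>
      h.mem_of_orderOf _ (hψ y hy) (by simp only [orderOf_coe, MulEquiv.orderOf_eq, hx, hyo])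
    intro x hx
    have h4 : x = e.symm (e ⟨x, hx⟩) := by simp
    rw [h4]
    rcases q8_facts.1 (e ⟨x, hx⟩) with h5 | h5 | h5
    · exact h3 _ (orderOf_four h5.1 h5.2)
    · rw [h5, map_one]; exact one_mem _
    · rw [h5, map_pow]
      exact pow_mem (h3 _ QuaternionGroup.orderOf_a_one) 2

theorem eq_of_not_cyclic {G : Type*} [Group G] [Finite G] {P Q : Subgroup G} (hQ : Q ≤ P)
    (e : P ≃* QuaternionGroup 2) (h : ¬ IsCyclic Q) : Q = P := by
  have hP : Nat.card P = 8 := by
    rw [Nat.card_congr e.toEquiv, Nat.card_eq_fintype_card, QuaternionGroup.card]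
  by_contra hne
  apply h
  have h1 : Nat.card Q ∣ 2 ^ 3 := (card_dvd_of_le hQ).trans hP.dvd
  obtain ⟨k, hk, hc⟩ := (Nat.dvd_prime_pow Nat.prime_two).mp h1
  have hk3 : k ≠ 3 := by
    rintro rfl
    exact hne (eq_of_le_of_card_ge hQ (by rw [hP, hc]; norm_num))
  rcases H5.isCyclic_or_quaternion_of_unique (p := 2) (IsPGroup.of_card hc) (fun x y hx hy => by
      have h2 : ∀ x : Q, orderOf x = 2 → e ⟨x, hQ x.2⟩ =
          ⁅(QuaternionGroup.a 1 : QuaternionGroup 2), (QuaternionGroup.xa 0 : QuaternionGroup 2)⁆ := by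
        intro x hx
        have h3 : orderOf (e ⟨x, hQ x.2⟩) = 2 := by rw [e.orderOf_eq, orderOf_mk, orderOf_coe, hx]
        refine (q8_facts.2.2.2.2 _ (orderOf_dvd_iff_pow_eq_one.mp h3.dvd)).resolve_left fun h4 => ?_
        rw [h4] at h3; simp at h3
      have : x = y := Subtype.ext (congrArg Subtype.val
        (e.injective ((h2 x hx).trans (h2 y hy).symm)) :)
      rw [this]; exact mem_zpowers y) with h2 | ⟨-, n, ⟨e'⟩⟩
  · exact h2
  · rcases n with _ | n
    · have : IsCyclic (QuaternionGroup (2 ^ 0)) := QuaternionGroup.quaternionGroup_one_isCyclic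
      exact isCyclic_of_injective e'.toMonoidHom e'.injective
    · exfalso
      have hne : NeZero (2 ^ (n + 1)) := ⟨by positivity⟩
      rw [Nat.card_congr e'.toEquiv, Nat.card_eq_fintype_card, QuaternionGroup.card,
        show 4 * 2 ^ (n + 1) = 2 ^ (n + 3) by ring] at hc
      have := Nat.pow_right_injective le_rfl hc
      omega

section Lin

variable {V : Type u} [Group V] [Finite V] [IsMulCommutative V] {p : ℕ} [hp : Fact p.Prime]
  {Y : Subgroup (MulAut V)}

theorem semireg (hc : (Nat.card Y).Coprime (Nat.card V))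
    (htr : ∀ u v : V, u ≠ 1 → v ≠ 1 → ∃ y ∈ Y, v ∈ zpowers (y u))
    (R : Subgroup Y) [hR : R.Normal] [IsMulCommutative R] : H5.Semireg R V := by
  obtain ⟨v, hv⟩ := exists_regular_vector (V := V) (R.map Y.subtype) inferInstance
    (hc.coprime_dvd_left (by rw [H3.card_map_subtype]; exact card_subgroup_dvd_card R))
  intro a ha u hu
  by_contra hu1
  have hu' : ((a : Y) : MulAut V) u = u := hu
  by_cases hv1 : v = 1
  · exact ha (Subtype.ext (Subtype.ext (hv _ ⟨a, a.2, rfl⟩ (by simp [hv1]))))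
  obtain ⟨y, hy, j, hj⟩ := htr u v hu1 hv1
  have h1 := hv _ ⟨_, hR.conj_mem a a.2 ⟨y, hy⟩, rfl⟩ (by
    rw [← hj]
    simp [hu'])
  have h2 : (⟨y, hy⟩ : Y) * a * (⟨y, hy⟩ : Y)⁻¹ = 1 := Subtype.ext h1
  exact ha (Subtype.ext (by simpa using h2))

theorem sylow_lin [Nontrivial V] [Group.IsSolvable Y] (h : AbConj Y)
    (hc : (Nat.card Y).Coprime (Nat.card V))
    (htr : ∀ u v : V, u ≠ 1 → v ≠ 1 → ∃ y ∈ Y, v ∈ zpowers (y u))
    {q : ℕ} [hq : Fact q.Prime] (Q : Sylow q Y) (hQ : ¬ IsCyclic Q) :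
    (Q : Subgroup Y).Normal ∧ Nonempty ((Q : Subgroup Y) ≃* QuaternionGroup 2) := by
  have key : ∀ (r : ℕ) [Fact r.Prime], ¬ IsCyclic (pCore r Y) → ∀ P : Sylow r Y,
      r = 2 ∧ pCore r Y = P ∧ Nonempty ((P : Subgroup Y) ≃* QuaternionGroup 2) := by
    intro r hr hT P
    have hTP := H3.pCore_le_sylow P
    have hP : ¬ IsCyclic P := fun h => hT (isCyclic_of_le hTP)
    obtain ⟨-, h1 | ⟨h1, ⟨e⟩⟩⟩ := bad_of_not_cyclic h P hP
    · exfalso
      obtain ⟨W, s, hs, hWn, hW0, hWle, hWe, -⟩ := H3.exists_minimal_normal_elementary_le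
        (pCore r Y) (H4.isSolvable_of_isPGroup (H3.pCore_isPGroup r Y))
        (fun h0 => hT (h0 ▸ inferInstance))
      have := hWe.1
      have h2 : IsCyclic W := (semireg hc htr W).isCyclic_of_comm
      obtain ⟨w, hw, hw1⟩ := (bot_or_exists_ne_one W).resolve_left hW0
      have h3 : (P : Subgroup Y) ≤ W := by
        intro x hx
        by_cases hx1 : x = 1
        · rw [hx1]; exact one_mem _
        · exact h.mem_of_orderOf _ hw ((orderOf_eq_prime (h1 w (hTP (hWle hw))) hw1).trans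
            (orderOf_eq_prime (h1 x hx) hx1).symm)
      exact hP (isCyclic_of_le h3)
    · exact ⟨h1, eq_of_not_cyclic hTP e hT, ⟨e⟩⟩
  by_cases hT : IsCyclic (pCore q Y)
  swap
  · obtain ⟨-, h1, h2⟩ := key q hT Q
    exact ⟨h1 ▸ inferInstance, h2⟩
  exfalso
  have hB := bad_of_not_cyclic h Q hQ
  have h1 : ∀ r : Nat.Primes, (Q : Subgroup Y) ≤ centralizer (pCore (r : ℕ) Y : Set Y) := by
    intro ⟨r, hr⟩
    have := Fact.mk hr
    have hker : (MulAut.conjNormal : Y →* MulAut (pCore r Y)).ker ≤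
        centralizer (pCore r Y : Set Y) := by
      intro g h v hv
      have := congrArg (fun σ : MulAut (pCore r Y) => ((σ ⟨v, hv⟩ : pCore r Y) : Y)) h
      simp only [MulAut.conjNormal_apply, MulAut.one_apply] at this
      exact (mul_inv_eq_iff_eq_mul.mp this).symm
    refine (hB.le_ker h _ ?_).trans hker
    by_cases hr' : IsCyclic (pCore r Y)
    · have h2 : AbConj (MulAut.conjNormal : Y →* MulAut (pCore r Y)).range :=
        h.of_surjective inferInstance (MonoidHom.rangeRestrict_surjective _)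
      have : IsMulCommutative (MulAut (pCore r Y)) := ⟨⟨fun a b =>
        (IsCyclic.mulAutMulEquiv _).injective (by rw [map_mul, map_mul, mul_comm])⟩⟩
      have h3 := S3910.result h2 H3.isNilpotent_of_isMulCommutative
      exact isCyclic_of_le (map_le_range _ _)
    · obtain ⟨rfl, h2, ⟨e⟩⟩ := key r hr' (Classical.arbitrary _)
      have hq2 : q ≠ 2 := by rintro rfl; exact hr' hT
      rw [← h2] at e
      obtain ⟨e2⟩ := S3742.result
      have h3 : Nat.card (MulAut (pCore 2 Y)) = 24 := by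
        rw [Nat.card_congr ((MulAut.congr e).trans e2).toEquiv, Nat.card_perm]; simp; rfl
      obtain ⟨k, hk⟩ := IsPGroup.iff_card.mp
        (Q.isPGroup'.map (MulAut.conjNormal : Y →* MulAut (pCore 2 Y)))
      have h4 := card_subgroup_dvd_card ((Q : Subgroup Y).map
        (MulAut.conjNormal : Y →* MulAut (pCore 2 Y)))
      rw [h3, hk, show 24 = 2 ^ 3 * 3 by norm_num] at h4
      have h5 := (((Nat.coprime_primes hq.out Nat.prime_two).mpr hq2).pow k 3).dvd_of_dvd_mul_left h4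
      have : Fact (Nat.Prime 3) := ⟨Nat.prime_three⟩
      exact isCyclic_of_card_dvd_prime (p := 3) (hk ▸ h5)
  have h2 : (Q : Subgroup Y) ≤ centralizer (fittingSubgroup Y : Set Y) := by
    rw [le_centralizer_iff, H3.fitting_eq_iSup_pCore]
    exact iSup_le fun r => le_centralizer_iff.mp (h1 r)
  exact hQ (isCyclic_of_le
    (H3.le_pCore_of_le_fitting Q.isPGroup' (h2.trans (H3.centralizer_fitting_le Y))))

theorem exists_moved [Nontrivial V] (hc : (Nat.card Y).Coprime (Nat.card V))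
    (htr : ∀ u v : V, u ≠ 1 → v ≠ 1 → ∃ y ∈ Y, v ∈ zpowers (y u))
    (Q : Subgroup Y) [hQ : Q.Normal] (e : Q ≃* QuaternionGroup 2) :
    ∃ s ∈ Q, ∃ v : V, ((s : Y) : MulAut V) v ∉ zpowers v := by
  by_contra hcon
  push Not at hcon
  set z : Q := e.symm ⁅(QuaternionGroup.a 1 : QuaternionGroup 2), (QuaternionGroup.xa 0 : QuaternionGroup 2)⁆ with hz
  have hz1 : z ≠ 1 := fun h => q8_facts.2.2.1 (by simpa [hz] using congrArg e h)
  have hzc : (z : Y) ∈ center Y := by
    rw [mem_center_iff]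
    intro g
    have h1 : (⟨_, hQ.conj_mem _ z.2 g⟩ : Q) ^ 2 = 1 := by
      apply Subtype.ext
      change (g * z * g⁻¹) ^ 2 = 1
      rw [conj_pow, ← coe_pow, hz, ← map_pow, q8_facts.2.2.2.1]; simp
    rcases q8_facts.2.2.2.2 (e ⟨_, hQ.conj_mem _ z.2 g⟩) (by rw [← map_pow, h1, map_one])
      with h2 | h2
    · have h3 := congrArg Subtype.val (e.injective (h2.trans (map_one e).symm))
      exact absurd (Subtype.ext (by simpa using h3)) hz1
    · have h3 : (⟨_, hQ.conj_mem _ z.2 g⟩ : Q) = z := e.injective (h2.trans (by simp [hz]))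
      exact mul_inv_eq_iff_eq_mul.mp (congrArg Subtype.val h3)
  have := H3.normal_of_le_center (zpowers_le_of_mem hzc)
  obtain ⟨v, hv⟩ := exists_ne (1 : V)
  refine hv (semireg hc htr (zpowers (z : Y)) ⟨z, mem_zpowers _⟩
    (fun h => hz1 (Subtype.ext (congrArg (Subtype.val : zpowers (z : Y) → Y) h))) v ?_)
  change ((z : Y) : MulAut V) v = v
  have h1 : ∀ a b : Q, ((a : Y) : MulAut V) (((b : Y) : MulAut V) v) =
      ((b : Y) : MulAut V) (((a : Y) : MulAut V) v) := by
    intro a b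
    obtain ⟨i, hi⟩ := hcon a a.2 v
    obtain ⟨j, hj⟩ := hcon b b.2 v
    simp only at hi hj
    rw [← hj, map_zpow, ← hi, map_zpow, ← hj, ← zpow_mul, ← zpow_mul, mul_comm]
  have h2 : ∀ a b : Q, (((⁅a, b⁆ : Q) : Y) : MulAut V) v = v := by
    intro a b
    have h3 := h1 a⁻¹ b⁻¹
    simp only [commutatorElement_def, coe_mul, MulAut.mul_apply]
    rw [h3]
    simp
  rw [hz, map_commutatorElement]
  exact h2 _ _

theorem exists_sub (hV : ∀ v : V, v ^ p = 1) {u v : V} (hv : v ≠ 1) (hu : u ∉ zpowers v)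
    (W : Subgroup V) (h0 : W ≠ ⊥) (h1 : W ≠ ⊤) :
    ∃ W' : Subgroup V, Nat.card W' = Nat.card W ∧ v ∈ W' ∧ u ∉ W' := by
  let _ : CommGroup V := IsMulCommutative.instCommGroup
  obtain ⟨K, ⟨hvK, huK⟩, hmax⟩ := (Set.toFinite {K : Subgroup V | v ∈ K ∧ u ∉ K}).exists_maximal
    ⟨zpowers v, mem_zpowers v, hu⟩
  have hord : ∀ x : V, x ≠ 1 → orderOf x = p := fun x hx => orderOf_eq_prime (hV x) hx
  have htop : K ⊔ zpowers u = ⊤ := by
    rw [eq_top_iff]
    intro x _
    by_cases hx : x ∈ K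
    · exact mem_sup_left hx
    have h2 : u ∈ K ⊔ zpowers x := by
      by_contra h
      exact hx (hmax ⟨mem_sup_left hvK, h⟩ le_sup_left (mem_sup_right (mem_zpowers x)))
    obtain ⟨k, hk, y, hy, hky⟩ := mem_sup.mp h2
    have hy1 : y ≠ 1 := by rintro rfl; exact huK (by simpa [← hky] using hk)
    have hx1 : x ≠ 1 := by rintro rfl; exact hx (one_mem _)
    have h3 := mem_zpowers_of_card_prime hp.out (by rw [Nat.card_zpowers, hord x hx1])
      (mem_zpowers x) hy (hord y hy1)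
    refine zpowers_le_of_mem ?_ h3
    rw [← eq_inv_mul_iff_mul_eq] at hky
    rw [hky]
    exact mul_mem (inv_mem (mem_sup_left hk)) (mem_sup_right (mem_zpowers u))
  have hVp : IsPGroup p V := fun x => ⟨1, by simpa using hV x⟩
  obtain ⟨d, hd⟩ := IsPGroup.iff_card.mp (hVp.to_subgroup W)
  obtain ⟨k, hk⟩ := IsPGroup.iff_card.mp (hVp.to_subgroup K)
  obtain ⟨t, ht⟩ := IsPGroup.iff_card.mp hVp
  have h2 := H3.card_sup_dvd K (zpowers u)
  rw [htop, card_top, ht, hk, Nat.card_zpowers, hord u (fun h => hu (h ▸ one_mem _)), ← pow_succ,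
    Nat.pow_dvd_pow_iff_le_right hp.out.one_lt] at h2
  have h3 := H2.card_lt_of_ne_top h1
  rw [hd, ht, Nat.pow_lt_pow_iff_right hp.out.one_lt] at h3
  have h4 : 1 ≤ d := by
    by_contra h
    have : d = 0 := by omega
    exact h0 (card_eq_one.mp (by rw [hd, this, pow_zero]))
  obtain ⟨L, hL, hvL⟩ := Sylow.exists_subgroup_card_pow_prime_le p (G := K) (n := 1) (m := d)
    (hk ▸ pow_dvd_pow p (by omega)) (zpowers ⟨v, hvK⟩)
    (by rw [Nat.card_zpowers, orderOf_mk, hord v hv, pow_one]) h4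
  exact ⟨L.map K.subtype, by rw [H3.card_map_subtype, hL, hd],
    ⟨_, hvL (mem_zpowers _), rfl⟩, fun h => huK (map_subtype_le L h)⟩

end Lin

theorem ker_conj {G : Type*} [Group G] (V : Subgroup G) [V.Normal] :
    (MulAut.conjNormal : G →* MulAut V).ker = centralizer (V : Set G) := by
  ext g
  rw [MonoidHom.mem_ker, mem_centralizer_iff]
  constructor
  · intro h v hv
    have := congrArg (fun σ : MulAut V => ((σ ⟨v, hv⟩ : V) : G)) h
    simp only [MulAut.conjNormal_apply, MulAut.one_apply] at this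
    exact (mul_inv_eq_iff_eq_mul.mp this).symm
  · intro h
    ext v
    simp only [MulAut.conjNormal_apply, MulAut.one_apply]
    rw [← h v v.2, mul_inv_cancel_right]

theorem star {G : Type u} [Group G] [Finite G] [Group.IsSolvable G] (h : AbConj G) {p : ℕ}
    [hp : Fact p.Prime] {N W : Subgroup G} [N.Normal] (hN : IsElementaryAbelian p N)
    (hNi : ¬ p ∣ N.index) (hWN : W ≤ N) (h0 : W ≠ ⊥) (h1 : W ≠ N) {q : ℕ} [hq : Fact q.Prime]
    {Q : Subgroup G} (hQ : IsPGroup q Q) (hQM : Q ≤ normalizer (W : Set G))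
    (hnc : ¬ IsCyclic Q) : ∀ R : Subgroup G, IsPGroup q R → R ≤ centralizer (N : Set G) := by
  have := hN.1
  obtain ⟨P, hP⟩ := hQ.exists_le_sylow
  suffices hs : (P : Subgroup G) ≤ centralizer (N : Set G) by
    intro R hR
    obtain ⟨P', hP'⟩ := hR.exists_le_sylow
    obtain ⟨g, rfl⟩ := MulAction.exists_smul_eq G P P'
    refine hP'.trans ?_
    rw [Sylow.coe_subgroup_smul, ← Normal.conj_smul_eq_self g (centralizer (N : Set G))]
    exact pointwise_smul_le_pointwise_smul_iff.mpr hs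
  have hB := bad_of_not_cyclic h P (fun h => hnc (isCyclic_of_le hP))
  set φ : G →* MulAut N := MulAut.conjNormal with hφ
  have hker : φ.rangeRestrict.ker = centralizer (N : Set G) := by
    rw [MonoidHom.ker_rangeRestrict, ker_conj]
  have hsurj := φ.rangeRestrict_surjective
  by_cases hc : IsCyclic ((P : Subgroup G).map φ.rangeRestrict)
  · rw [← hker]; exact hB.le_ker h _ hc
  exfalso
  have hN0 : N ≠ ⊥ := fun h => h0 (le_bot_iff.mp (h ▸ hWN))
  have : Nontrivial N := (nontrivial_iff_ne_bot _).2 hN0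
  have hcop : (Nat.card φ.range).Coprime (Nat.card N) := by
    obtain ⟨k, hk⟩ := IsPGroup.iff_card.mp (H3.IsElementaryAbelian.isPGroup' hN)
    rw [hk, ← index_ker, ker_conj]
    exact ((Nat.Prime.coprime_iff_not_dvd hp.out).mpr fun h =>
      hNi (h.trans (index_dvd_of_le (le_centralizer N)))).symm.pow_right k
  have htr : ∀ u v : N, u ≠ 1 → v ≠ 1 → ∃ y ∈ φ.range, v ∈ zpowers (y u) := by
    intro u v hu hv
    have h2 : ∀ u : N, u ≠ 1 → orderOf (u : G) = p := fun u hu =>
      orderOf_eq_prime (hN.2 u u.2) (fun h => hu (Subtype.ext h))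
    obtain ⟨g, hg⟩ := h (zpowers (u : G)) (zpowers (v : G)) inferInstance inferInstance
      (by rw [Nat.card_zpowers, Nat.card_zpowers, h2 u hu, h2 v hv])
    have h3 := mem_zpowers (v : G)
    rw [hg, H2.mem_conj_smul_iff] at h3
    obtain ⟨k, hk⟩ := h3
    refine ⟨φ g, ⟨g, rfl⟩, k, Subtype.ext ?_⟩
    have hk' : (u : G) ^ k = g⁻¹ * v * g := hk
    simp only [hφ, SubgroupClass.coe_zpow, MulAut.conjNormal_apply, conj_zpow, hk']
    group
  have : Group.IsSolvable φ.range := Group.isSolvable_of_surjective hsurj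
  obtain ⟨hn, ⟨e⟩⟩ := sylow_lin (h.of_surjective inferInstance hsurj) hcop htr
    (P.mapSurjective hsurj) hc
  obtain ⟨_, ⟨s, hs, rfl⟩, v, hsv⟩ := exists_moved hcop htr _ e
  have hQP : Q = P := by
    rcases hB.2 with h2 | ⟨-, ⟨e'⟩⟩
    · exfalso
      obtain ⟨x, hx, hxe⟩ := (e.symm (QuaternionGroup.xa 0)).2
      have h3 : orderOf (φ.rangeRestrict x) = 4 := by
        rw [hxe, orderOf_coe, MulEquiv.orderOf_eq, QuaternionGroup.orderOf_xa]
      have h4 := (orderOf_map_dvd φ.rangeRestrict x).trans (orderOf_dvd_of_pow_eq_one (h2 x hx))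
      rw [h3] at h4
      rcases (Nat.dvd_prime hq.out).mp h4 with h5 | h5
      · omega
      · exact absurd (h5 ▸ hq.out) (by decide)
    · exact eq_of_not_cyclic hP e' hnc
  have hv1 : v ≠ 1 := by rintro rfl; exact hsv (by simp)
  obtain ⟨W', hW'c, hvW', hsW'⟩ := exists_sub (p := p) (fun x => Subtype.ext (hN.2 x x.2)) hv1 hsv
    (W.subgroupOf N) (fun h => h0 (by rw [← map_subgroupOf_eq_of_le hWN, h, Subgroup.map_bot]))
    (fun h => h1 (le_antisymm hWN (subgroupOf_eq_top.mp h)))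
  have hWc : IsMulCommutative W := ⟨⟨fun a b => Subtype.ext (congrArg (Subtype.val : N → G)
    (mul_comm' (⟨a, hWN a.2⟩ : N) ⟨b, hWN b.2⟩))⟩⟩
  obtain ⟨g, hg⟩ := h W (W'.map N.subtype) hWc inferInstance
    (by rw [H3.card_map_subtype, hW'c, H2.card_subgroupOf_of_le hWN])
  obtain ⟨s', hs', hss⟩ := hn.conj_mem _ ⟨s, hs, rfl⟩ (φ.rangeRestrict g⁻¹)
  have h2 : g⁻¹ * v * g ∈ W := H2.mem_conj_smul_iff.mp (hg ▸ ⟨v, hvW', rfl⟩)
  have h3 : s' * (g⁻¹ * v * g) * s'⁻¹ ∈ W :=
    (mem_normalizer_iff.mp (hQM (hQP ▸ hs')) _).mp h2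
  have h4 : φ s' = φ (g⁻¹ * s * g) := by
    have := congrArg Subtype.val hss
    simpa using this
  have h5 := congrArg (fun σ : MulAut N => ((σ ⟨_, hWN h2⟩ : N) : G)) h4
  simp only [hφ, MulAut.conjNormal_apply] at h5
  rw [h5] at h3
  have h6 : s * v * s⁻¹ ∈ W'.map N.subtype := by
    rw [hg, H2.mem_conj_smul_iff]
    convert h3 using 1
    group
  obtain ⟨w, hw, hwe⟩ := h6
  apply hsW'
  have : φ s v = w := Subtype.ext hwe.symm
  exact this ▸ hw

theorem hall_split {G : Type u} [Group G] [Finite G] (π : Set ℕ) (A : Subgroup G)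
    [IsMulCommutative A] : ∃ A₁ A₂ : Subgroup G, A₁ ⊔ A₂ = A ∧ H2.IsPiNum π (Nat.card A₁) ∧
      H2.IsPiNum πᶜ (Nat.card A₂) ∧ Nat.card A₁ * Nat.card A₂ = Nat.card A := by
  have : Group.IsSolvable A := H3.isSolvable_of_isMulCommutative
  obtain ⟨A₁, h1⟩ := H2.exists_isPiHall π A
  obtain ⟨A₂, h2⟩ := H2.exists_isPiHall πᶜ A
  rw [H2.isPiHall_iff] at h1 h2
  rw [compl_compl] at h2
  have htop : A₁ ⊔ A₂ = ⊤ := by
    rw [← index_eq_one]
    exact H2.IsPiNum.eq_one (h2.2.of_dvd (index_dvd_of_le le_sup_right))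
      (h1.2.of_dvd (index_dvd_of_le le_sup_left))
  refine ⟨A₁.map A.subtype, A₂.map A.subtype, ?_, by rw [H3.card_map_subtype]; exact h1.1,
    by rw [H3.card_map_subtype]; exact h2.1, ?_⟩
  · rw [← Subgroup.map_sup, htop, ← MonoidHom.range_eq_map, range_subtype]
  · have h3 := H3.card_sup_mul_card_inf A₁ A₂
    rw [htop, disjoint_iff.mp (disjoint_of_coprime_natCard (h1.1.coprime h2.1)), card_bot,
      mul_one, card_top] at h3
    rw [H3.card_map_subtype, H3.card_map_subtype, h3]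

theorem comm_of_le {G : Type*} [Group G] {A B : Subgroup G} (h : A ≤ B) [IsMulCommutative B] :
    IsMulCommutative A := ⟨⟨fun a b => Subtype.ext (congrArg (Subtype.val : B → G)
    (mul_comm' (⟨a, h a.2⟩ : B) ⟨b, h b.2⟩))⟩⟩

theorem conj_in_normalizer {G : Type u} [Group G] [Finite G] [Group.IsSolvable G] (h : AbConj G)
    {p : ℕ} [hp : Fact p.Prime] {N W : Subgroup G} [N.Normal] (hN : IsElementaryAbelian p N)
    (hNi : ¬ p ∣ N.index) (hWN : W ≤ N) (h0 : W ≠ ⊥) (h1 : W ≠ N) {A B : Subgroup G}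
    [IsMulCommutative A] [IsMulCommutative B] (hA : A ≤ normalizer (W : Set G))
    (hB : B ≤ normalizer (W : Set G)) (hAB : Nat.card A = Nat.card B)
    (hp' : ¬ p ∣ Nat.card A) : ∃ m ∈ normalizer (W : Set G), B = MulAut.conj m • A := by
  have := hN.1
  set π : Set ℕ := {q | ∀ R : Subgroup G, IsPGroup q R → R ≤ centralizer (N : Set G)} with hπ
  obtain ⟨A₁, A₂, hA12, hA1, hA2, hAc⟩ := hall_split π A
  obtain ⟨B₁, B₂, hB12, hB1, hB2, hBc⟩ := hall_split π B
  have e1 : Nat.card A₁ = Nat.card B₁ := Nat.dvd_antisymm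
    ((hA1.coprime hB2).dvd_of_dvd_mul_right (by rw [hBc, ← hAB, ← hAc]; exact dvd_mul_right _ _))
    ((hB1.coprime hA2).dvd_of_dvd_mul_right (by rw [hAc, hAB, ← hBc]; exact dvd_mul_right _ _))
  have e2 : Nat.card A₂ = Nat.card B₂ :=
    Nat.eq_of_mul_eq_mul_left Nat.card_pos (hAc.trans (by rw [e1, hBc, hAB]))
  have hA1A : A₁ ≤ A := hA12 ▸ le_sup_left
  have hA2A : A₂ ≤ A := hA12 ▸ le_sup_right
  have hB1B : B₁ ≤ B := hB12 ▸ le_sup_left
  have hB2B : B₂ ≤ B := hB12 ▸ le_sup_right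
  have hcent : ∀ X : Subgroup G, H2.IsPiNum π (Nat.card X) → X ≤ centralizer (N : Set G) := by
    intro X hX
    rw [← relIndex_eq_one]
    by_contra hne
    obtain ⟨q, hq, hd⟩ := Nat.exists_prime_and_dvd hne
    have := Fact.mk hq
    let S : Sylow q X := Classical.arbitrary _
    have h2 := hX q hq (hd.trans (relIndex_dvd_card _ _)) _ (S.isPGroup'.map X.subtype)
    exact S.not_dvd_index (hd.trans (index_dvd_of_le (map_le_iff_le_comap.mp h2)))
  obtain ⟨t, ht⟩ := IsPGroup.iff_card.mp (H3.IsElementaryAbelian.isPGroup' hN)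
  have hcop : ∀ X : Subgroup G, Nat.card X ∣ Nat.card A → (Nat.card N).Coprime (Nat.card X) :=
    fun X hX => ht ▸ ((Nat.Prime.coprime_iff_not_dvd hp.out).mpr
      fun h => hp' (h.trans hX)).pow_left t
  have hWc := comm_of_le hWN
  have hsup : ∀ X : Subgroup G, IsMulCommutative X → X ≤ centralizer (N : Set G) →
      (Nat.card N).Coprime (Nat.card X) → IsMulCommutative ↥(W ⊔ X) ∧
        Nat.card ↥(W ⊔ X) = Nat.card W * Nat.card X ∧ (W ⊔ X) ⊓ N = W ∧
        ∀ x ∈ W ⊔ X, x ^ Nat.card X = 1 → x ∈ X := by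
    intro X hX hXC hc
    have h2 : X ≤ centralizer (W : Set G) := hXC.trans (H3.centralizer_anti hWN)
    have h3 : X ≤ normalizer (W : Set G) := h2.trans (centralizer_le_normalizer _)
    have hd : N ⊓ X = ⊥ := disjoint_iff.mp (disjoint_of_coprime_natCard hc)
    have hmem : ∀ x ∈ W ⊔ X, ∃ w ∈ W, ∃ y ∈ X, w * y = x := by
      intro x hx
      rwa [← SetLike.mem_coe, coe_mul_of_right_le_normalizer_left _ _ h3] at hx
    refine ⟨H3.isMulCommutative_sup (le_centralizer_iff.mp h2), ?_, ?_, ?_⟩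
    · have h4 := H3.card_sup_mul_card_inf_of_le_normalizer h3
      have h5 : X ⊓ W = ⊥ := by
        rw [eq_bot_iff, ← hd]; exact le_inf (inf_le_right.trans hWN) inf_le_left
      rw [h5, card_bot, mul_one, sup_comm, mul_comm] at h4
      exact h4
    · refine le_antisymm (fun x hx => ?_) (le_inf le_sup_left hWN)
      obtain ⟨w, hw, y, hy, rfl⟩ := hmem x hx.1
      have h4 : y ∈ N ⊓ X := ⟨(mul_mem_cancel_left (hWN hw)).mp hx.2, hy⟩
      rw [hd, mem_bot] at h4
      rwa [h4, mul_one]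
    · intro x hx hxn
      obtain ⟨w, hw, y, hy, rfl⟩ := hmem x hx
      have h4 : Commute w y := h2 hy w hw
      rw [h4.mul_pow, H4.pow_card_eq_one_of_mem hy, mul_one] at hxn
      have h5 := pow_gcd_eq_one.mpr ⟨H4.pow_card_eq_one_of_mem (hWN hw), hxn⟩
      rw [hc, pow_one] at h5
      rwa [h5, one_mul]
  obtain ⟨a1, a2, a3, -⟩ := hsup A₁ (comm_of_le hA1A) (hcent _ hA1) (hcop _ (card_dvd_of_le hA1A))
  obtain ⟨b1, b2, b3, b4⟩ := hsup B₁ (comm_of_le hB1B) (hcent _ hB1)
    (hcop _ (hAB ▸ card_dvd_of_le hB1B))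
  obtain ⟨g, hg⟩ := h _ _ a1 b1 (by rw [a2, b2, e1])
  have hgW : g ∈ normalizer (W : Set G) := by
    rw [← H2.conj_smul_eq_iff_mem_normalizer]
    nth_rewrite 1 [← a3]
    rw [smul_inf, ← hg, Normal.conj_smul_eq_self g N, b3]
  have hg1 : MulAut.conj g • A₁ = B₁ := by
    refine eq_of_le_of_card_ge (fun x hx => b4 x ?_ ?_) (by rw [H2.card_conj_smul, e1])
    · rw [hg]; exact pointwise_smul_le_pointwise_smul_iff.mpr le_sup_right hx
    · rw [← e1, ← H2.card_conj_smul A₁ g]; exact H4.pow_card_eq_one_of_mem hx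
  set L := normalizer (W : Set G) ⊓ centralizer (B₁ : Set G) with hL
  have hB2L : B₂ ≤ L := le_inf (hB2B.trans hB)
    (hB2B.trans ((le_centralizer B).trans (H3.centralizer_anti hB1B)))
  have hA2L : MulAut.conj g • A₂ ≤ L := by
    refine le_inf ?_ ?_
    · rw [← conj_smul_eq_self_of_mem hgW]
      exact pointwise_smul_le_pointwise_smul_iff.mpr (hA2A.trans hA)
    · intro x hx y hy
      rw [← hg1] at hy
      have h2 := (le_centralizer A) (hA2A (H2.mem_conj_smul_iff.mp hx)) _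
        (hA1A (H2.mem_conj_smul_iff.mp hy))
      calc y * x = g * (g⁻¹ * y * g * (g⁻¹ * x * g)) * g⁻¹ := by group
        _ = _ := by rw [h2]; group
  obtain ⟨L₀, hL₀, hBL₀⟩ := H2.exists_isPiHall_ge (π := πᶜ) (K := B₂.subgroupOf L)
    (by rwa [H2.card_subgroupOf_of_le hB2L])
  obtain ⟨l, hl⟩ := H2.le_conj_isPiHall hL₀ (K := (MulAut.conj g • A₂).subgroupOf L)
    (by rwa [H2.card_subgroupOf_of_le hA2L, H2.card_conj_smul])
  have hl' : MulAut.conj l⁻¹ • (MulAut.conj g • A₂).subgroupOf L ≤ L₀ := by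
    rw [map_inv]; exact subset_pointwise_smul_iff.mp hl
  have hZ : ∀ q : ℕ, q.Prime → ∀ S : Sylow q L₀, IsCyclic S := by
    intro q hq S
    have := Fact.mk hq
    by_contra hnc
    have h2 : q ∈ πᶜ := by
      refine hL₀.1 q hq ?_
      by_contra hd
      apply hnc
      have h3 : (S : Subgroup L₀) = ⊥ := by
        by_contra h4
        obtain ⟨x, -, hx⟩ := exists_orderOf_eq_of_ne_bot S.isPGroup' h4
        exact hd (hx ▸ orderOf_dvd_natCard x)
      rw [h3]; infer_instance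
    refine h2 (star h hN hNi hWN h0 h1 (Q := ((S : Subgroup L₀).map L₀.subtype).map L.subtype)
      ((S.isPGroup'.map _).map _) ((map_subtype_le _).trans inf_le_left) fun hc => hnc ?_)
    exact isCyclic_of_injective (((S : Subgroup L₀).equivMapOfInjective _ L₀.subtype_injective).trans
      (((S : Subgroup L₀).map L₀.subtype).equivMapOfInjective _ L.subtype_injective)).toMonoidHom
      (MulEquiv.injective _)
  obtain ⟨y, hy⟩ := S4022.aux _ L₀ rfl inferInstance
    (fun q hq => by have := Fact.mk hq; exact eqOrdConj_of_isCyclic (hZ q hq)) 0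
    (fun q hq _ => hZ q hq) ((MulAut.conj l⁻¹ • (MulAut.conj g • A₂).subgroupOf L).subgroupOf L₀)
    ((B₂.subgroupOf L).subgroupOf L₀) (by
      rw [H2.card_subgroupOf_of_le hl', H2.card_subgroupOf_of_le hBL₀, H2.card_conj_smul,
        H2.card_subgroupOf_of_le hA2L, H2.card_subgroupOf_of_le hB2L, H2.card_conj_smul, e2])
  have h2 := H2.conj_smul_eq_of_subgroupOf hl' hBL₀ y hy.symm
  rw [H2.conj_smul_conj_smul] at h2
  have h3 := H2.conj_smul_eq_of_subgroupOf hA2L hB2L _ h2
  refine ⟨((y : L) * l⁻¹ : L) * g, mul_mem ((y : L) * l⁻¹).2.1 hgW, ?_⟩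
  rw [← H2.conj_smul_conj_smul, ← hA12, smul_sup, smul_sup, h3, hg1,
    H2.conj_smul_eq_iff_mem_normalizer.mpr (centralizer_le_normalizer _ ((y : L) * l⁻¹).2.2), hB12]

theorem aux (n : ℕ) : ∀ (G : Type u) [Group G] [Finite G], Nat.card G = n →
    Group.IsSolvable G → AbConj G →
    ∀ H K : Subgroup G, Nat.card H = Nat.card K → ∃ g : G, K = MulAut.conj g • H := by
  induction n using Nat.strongRecOn with | ind n ih => ?_
  rintro G _ _ rfl hs hD H K hc
  rcases subsingleton_or_nontrivial G with hG | hG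
  · exact ⟨1, Subsingleton.elim _ _⟩
  obtain ⟨N, p, hp, hNn, hN0, -, hNe, -⟩ := H3.exists_minimal_normal_elementary_le
    (⊤ : Subgroup G) inferInstance top_ne_bot
  have := Fact.mk hp
  have hNp : IsPGroup p N := fun x => ⟨1, Subtype.ext (by simpa using hNe.2 x x.2)⟩
  -- first make the intersections with `N` equal
  have hNab := hNe.1
  obtain ⟨t, ht⟩ := IsPGroup.iff_card.mp hNp
  have ht0 : t ≠ 0 := by
    rintro rfl
    exact hN0 (card_eq_one.mp ht)
  have hpN : p ∣ Nat.card N := ht ▸ dvd_pow_self p ht0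
  have hmem : ∀ y : G, orderOf y = p → y ∈ N := by
    intro y hy
    obtain ⟨x, hx, hxo⟩ := H3.exists_mem_orderOf_eq_prime hp hpN
    exact hD.mem_of_orderOf N hx (hxo.trans hy.symm)
  have hdich : Nat.card N = p ∨ ∀ Q : Subgroup G, IsPGroup p Q → Q ≤ N := by
    by_cases ht1 : t = 1
    · left; rw [ht, ht1, pow_one]
    · right
      intro Q hQ
      obtain ⟨P, hP⟩ := hQ.exists_le_sylow
      exact (S3909.result hD N).2 p t (by omega) ht hNe P ▸ hP
  have hcinf : ∀ H K : Subgroup G, Nat.card H = Nat.card K →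
      Nat.card ↥(H ⊓ N) ∣ Nat.card ↥(K ⊓ N) := by
    intro H K hc
    obtain ⟨k, hk⟩ := IsPGroup.iff_card.mp (hNp.to_le (inf_le_right : H ⊓ N ≤ N))
    have h1 : p ^ k ∣ Nat.card K := hc ▸ hk ▸ card_dvd_of_le inf_le_left
    rcases hdich with h | h
    · by_cases hk0 : k = 0
      · rw [hk, hk0]; exact one_dvd _
      obtain ⟨x, hx, hxo⟩ := H3.exists_mem_orderOf_eq_prime hp ((dvd_pow_self p hk0).trans h1)
      refine ((card_dvd_of_le inf_le_right).trans h.dvd).trans ?_
      exact hxo ▸ orderOf_dvd_natCard (K ⊓ N) ⟨hx, hmem x hxo⟩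
    · obtain ⟨E, hE⟩ := Sylow.exists_subgroup_card_pow_prime (G := K) p h1
      rw [hk, ← hE, ← H3.card_map_subtype]
      exact card_dvd_of_le (le_inf (map_subtype_le _) (h _ ((IsPGroup.of_card hE).map _)))
  obtain ⟨g₁, hg₁⟩ := hD (H ⊓ N) (K ⊓ N) (comm_of_le inf_le_right) (comm_of_le inf_le_right)
    (Nat.dvd_antisymm (hcinf H K hc) (hcinf K H hc.symm))
  rw [Subgroup.smul_inf, Subgroup.Normal.conj_smul_eq_self g₁ N] at hg₁
  suffices h : ∀ H : Subgroup G, Nat.card H = Nat.card K → K ⊓ N = H ⊓ N →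
      ∃ g : G, K = MulAut.conj g • H by
    obtain ⟨g, hg⟩ := h _ ((H2.card_conj_smul H g₁).trans hc) hg₁
    exact ⟨g * g₁, by rw [hg, H2.conj_smul_conj_smul]⟩
  clear hc hg₁ H g₁
  intro H hc hW
  set W := K ⊓ N with hWdef
  set M := Subgroup.normalizer (W : Set G) with hM
  have hle : ∀ X : Subgroup G, W = X ⊓ N → X ≤ M := by
    intro X hX x hx
    rw [hM, ← H2.conj_smul_eq_iff_mem_normalizer, hX, Subgroup.smul_inf,
      Subgroup.Normal.conj_smul_eq_self x N, Subgroup.conj_smul_eq_self_of_mem hx]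
  have hWN' : W ≤ N := inf_le_right
  have hKM := hle K rfl
  have hHM := hle H hW
  have hNM : N ≤ M := by
    intro x hx
    refine Subgroup.centralizer_le_normalizer _ ?_
    intro w hw
    have := congrArg Subtype.val (hNe.1.is_comm.comm (⟨w, hw.2⟩ : N) ⟨x, hx⟩)
    exact this
  -- the quotient `M / N` satisfies the hypotheses
  set N' := N.subgroupOf M with hN'
  have hf := QuotientGroup.mk'_surjective N'
  have hlt : Nat.card (M ⧸ N') < Nat.card G := by
    refine lt_of_lt_of_le (H2.card_quotient_lt_of_ne_bot ?_) (Subgroup.card_le_card_group M)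
    intro h
    apply hN0
    rw [← Subgroup.map_subgroupOf_eq_of_le hNM, ← hN', h, Subgroup.map_bot]
  have hDM : AbConj (M ⧸ N') := by
    by_cases hMt : M = ⊤
    · refine hD.of_surjective hs (f := (QuotientGroup.mk' N').comp
        ((MonoidHom.id G).codRestrict M fun x => hMt ▸ Subgroup.mem_top _)) ?_
      exact hf.comp fun x => ⟨x, rfl⟩
    have hW0 : W ≠ ⊥ := fun h => hMt (by rw [hM, normalizer_eq_top_iff, h]; infer_instance)
    have hW1 : W ≠ N := fun h => hMt (by rw [hM, normalizer_eq_top_iff, h]; infer_instance)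
    have hNc : Nat.card N ≠ p := by
      intro h
      have : Fact (Nat.card N).Prime := h ▸ Fact.mk hp
      rcases (W.subgroupOf N).eq_bot_or_eq_top_of_prime_card with h1 | h1
      · exact hW0 (by rw [← Subgroup.map_subgroupOf_eq_of_le hWN', h1, Subgroup.map_bot])
      · exact hW1 (le_antisymm inf_le_right (Subgroup.subgroupOf_eq_top.mp h1))
    have hNi : ¬ p ∣ N.index := by
      let P : Sylow p G := Classical.arbitrary _
      exact fun h => P.not_dvd_index
        (h.trans (index_dvd_of_le (hdich.resolve_left hNc _ P.isPGroup')))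
    intro A B hA hB hAB
    have hpA : ¬ p ∣ Nat.card A := fun h => hNi ((h.trans (card_subgroup_dvd_card A)).trans
      (relIndex_dvd_index_of_le hNM))
    have hcop : (Nat.card (QuotientGroup.mk' N').ker).Coprime (Nat.card A) := by
      rw [QuotientGroup.ker_mk', H2.card_subgroupOf_of_le hNM, ht]
      exact ((Nat.Prime.coprime_iff_not_dvd hp).mpr hpA).pow_left t
    obtain ⟨D, rfl, hDc, hD'⟩ := exists_lift_of_coprime hf hcop
    obtain ⟨E, rfl, hEc, hE'⟩ := exists_lift_of_coprime hf (hAB ▸ hcop)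
    have := hD' hA
    have := hE' hB
    obtain ⟨m, hm, hme⟩ := conj_in_normalizer hD hNe hNi hWN' hW0 hW1 (A := D.map M.subtype)
      (B := E.map M.subtype) (map_subtype_le _) (map_subtype_le _)
      (by rw [H3.card_map_subtype, H3.card_map_subtype, hDc, hEc, hAB])
      (by rwa [H3.card_map_subtype, hDc])
    have h2 : E = MulAut.conj (⟨m, hm⟩ : M) • D := map_injective M.subtype_injective
      (by rw [H2.map_conj_smul]; exact hme)
    exact ⟨_, by rw [h2, H2.map_conj_smul]⟩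
  have hcard : ∀ X : Subgroup G, X ≤ M → W = X ⊓ N →
      Nat.card ((X.subgroupOf M).map (QuotientGroup.mk' N')) * Nat.card W = Nat.card X := by
    intro X hX hXW
    rw [H3.card_map_mk', hN', Subgroup.relIndex_subgroupOf hX, hXW, inf_comm, mul_comm,
      H3.card_inf_mul_relIndex]
  obtain ⟨m, hm⟩ := ih _ hlt (M ⧸ N') rfl inferInstance hDM
    ((H.subgroupOf M).map (QuotientGroup.mk' N')) ((K.subgroupOf M).map (QuotientGroup.mk' N'))
    (Nat.eq_of_mul_eq_mul_right Nat.card_pos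
      (by rw [hcard H hHM hW, hcard K hKM rfl, hc]))
  obtain ⟨m, rfl⟩ := hf m
  rw [← H2.map_conj_smul] at hm
  have hm0 := congrArg (Subgroup.comap (QuotientGroup.mk' N')) hm
  rw [Subgroup.comap_map_eq, Subgroup.comap_map_eq, QuotientGroup.ker_mk'] at hm0
  have hm1 := congrArg (Subgroup.map M.subtype) hm0
  simp only [Subgroup.map_sup, hN',
    H2.map_conj_smul, Subgroup.map_subgroupOf_eq_of_le hNM, Subgroup.map_subgroupOf_eq_of_le hKM,
    Subgroup.map_subgroupOf_eq_of_le hHM, Subgroup.subtype_apply] at hm1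
  set H₂ := MulAut.conj (m : G) • H with hH₂
  have hW₂ : W = H₂ ⊓ N := by
    rw [hH₂, ← Subgroup.Normal.conj_smul_eq_self (m : G) N, ← Subgroup.smul_inf, ← hW,
      H2.conj_smul_eq_iff_mem_normalizer.mpr m.2]
  by_cases hWN : W = N
  · refine ⟨m, ?_⟩
    rwa [sup_of_le_left (hWN ▸ inf_le_left : N ≤ K),
      sup_of_le_left (by rw [← hWN, hW₂]; exact inf_le_left : N ≤ H₂)] at hm1
  have key : ∀ X : Subgroup G, W = X ⊓ N → ∃ Y : Subgroup G, Y ⊔ W = X ∧
      (Nat.card N).Coprime (Nat.card Y) := by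
    intro X hX
    have hWX : W ≤ X := hX ▸ inf_le_left
    have hn : (W.subgroupOf X).Normal := Subgroup.normal_subgroupOf_of_le_normalizer (hle X hX)
    have hnd : ¬ p ∣ (W.subgroupOf X).index := by
      let P : Sylow p X := Classical.arbitrary _
      have hP : (P : Subgroup X) ≤ W.subgroupOf X := by
        rcases hdich with h | h
        · have : Fact (Nat.card N).Prime := h ▸ Fact.mk hp
          have hW0 : W = ⊥ := by
            rcases (W.subgroupOf N).eq_bot_or_eq_top_of_prime_card with h1 | h1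
            · rw [← Subgroup.map_subgroupOf_eq_of_le hWN', h1, Subgroup.map_bot]
            · exact absurd (le_antisymm inf_le_right (Subgroup.subgroupOf_eq_top.mp h1)) hWN
          by_contra hP
          have hP0 : (P : Subgroup X) ≠ ⊥ := fun h => hP (h ▸ bot_le)
          have : Nontrivial (P : Subgroup X) := (Subgroup.nontrivial_iff_ne_bot _).2 hP0
          obtain ⟨k, hk, hck⟩ := P.isPGroup'.nontrivial_iff_card.1 this
          obtain ⟨y, hy⟩ := exists_prime_orderOf_dvd_card' (G := (P : Subgroup X)) p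
            (hck ▸ dvd_pow_self p hk.ne')
          have hy' : orderOf ((y : X) : G) = p ^ 1 := by
            rw [Subgroup.orderOf_coe, Subgroup.orderOf_coe, hy, pow_one]
          have h2 : ((y : X) : G) ∈ W := by
            rw [hX]
            exact ⟨(y : X).2, hmem _ (by rwa [pow_one] at hy')⟩
          rw [hW0, Subgroup.mem_bot] at h2
          rw [h2, orderOf_one, pow_one] at hy'
          exact hp.one_lt.ne hy'
        · intro x hx
          rw [Subgroup.mem_subgroupOf, hX]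
          exact ⟨x.2, h _ (P.isPGroup'.map X.subtype) ⟨x, hx, rfl⟩⟩
      exact fun h => P.not_dvd_index (h.trans (Subgroup.index_dvd_of_le hP))
    have hWp : IsPGroup p (W.subgroupOf X) := (hNp.to_le (inf_le_right : W ≤ N)).comap_subtype
    obtain ⟨a, ha⟩ := IsPGroup.iff_card.mp hWp
    obtain ⟨b, hb⟩ := IsPGroup.iff_card.mp hNp
    obtain ⟨Y, hY⟩ := Subgroup.exists_right_complement'_of_coprime (N := W.subgroupOf X)
      (by rw [ha]; exact Nat.Coprime.pow_left _ ((Nat.Prime.coprime_iff_not_dvd hp).mpr hnd))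
    refine ⟨Y.map X.subtype, ?_, ?_⟩
    · have := congrArg (Subgroup.map X.subtype) hY.sup_eq_top
      rwa [Subgroup.map_sup, Subgroup.map_subgroupOf_eq_of_le hWX, ← MonoidHom.range_eq_map,
        Subgroup.range_subtype, sup_comm] at this
    · rw [H3.card_map_subtype, hb, ← hY.symm.index_eq_card]
      exact Nat.Coprime.pow_left _ ((Nat.Prime.coprime_iff_not_dvd hp).mpr hnd)
  obtain ⟨K₀, hK₀, hK₀c⟩ := key K rfl
  obtain ⟨H₀, hH₀, hH₀c⟩ := key H₂ hW₂
  obtain ⟨n, hn, hnc⟩ := H91.exists_conj_of_sup_eq N inferInstance hH₀c hK₀c (by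
    rw [← sup_of_le_right hWN', ← sup_assoc, ← sup_assoc, hK₀, hH₀, hm1])
  refine ⟨n * m, ?_⟩
  rw [← H2.conj_smul_conj_smul, ← hH₂, ← hH₀, Subgroup.smul_sup, hnc,
    H2.conj_smul_eq_iff_mem_normalizer.mpr (hNM hn), hK₀]

/-- If G is a finite solvable group in which any two abelian subgroups of the same order are conjugate, then any two subgroups of G of the same order are conjugate. -/
theorem result {G : Type*} [Group G] [Finite G] (hB : ∀ A B : Subgroup G, IsMulCommutative ↥A → IsMulCommutative ↥B → Nat.card ↥A = Nat.card ↥B → ∃ g : G, B = A.map (MulAut.conj g).toMonoidHom) (hsol : Group.IsSolvable G) (A B : Subgroup G)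
    (h : Nat.card ↥A = Nat.card ↥B) : ∃ g : G, B = A.map (MulAut.conj g).toMonoidHom := by
  exact aux _ G rfl hsol hB A B h

end Cfsg.Agent.S3913
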