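import Cfsg.Statements.S3916
import Cfsg.Agent.H42.PcDefs
import Cfsg.Agent.H30.PcOrb
import Cfsg.Agent.H89.PcTr
import Cfsg.Agent.H88.PcGl
import Cfsg.Agent.H39.PcTrans
import Cfsg.Agent.H10.PcNf
import Cfsg.Agent.H76.PcSyl
import Cfsg.Agent.H9.PcNc
import Cfsg.Agent.H65.PcCnt
import Cfsg.Agent.H38.PcLoc
import Cfsg.Agent.H71.PcQo
import Cfsg.Agent.H41.PcKey
import Cfsg.Agent.H79.PcQuot
import Cfsg.Agent.H49.PcOrd
import Cfsg.Agent.H47.PcSoc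
import Cfsg.Agent.H62.PcTop
import Cfsg.Agent.H29.PcMain
import Cfsg.Agent.H52.PcFin0
import Cfsg.Agent.H80.PcUni
import Cfsg.Agent.H54.PcB
import Cfsg.Agent.H19.PcA0
import Cfsg.Agent.H51.PcA
import Cfsg.Agent.H48.PcBb
import Cfsg.Agent.H66.PcN1
import Cfsg.Agent.H20.PcU
import Cfsg.Agent.H68.PcC2
import Cfsg.Agent.H6.PcPick
import Cfsg.Agent.H33.PcFix
import Cfsg.Agent.H60.PcCv1
import Cfsg.Agent.H23.PcCv2
import Cfsg.Agent.H7.PcCent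
import Cfsg.Agent.H37.PcQ2
import Cfsg.Agent.H12.PcE1
import Cfsg.Agent.H21.PcE2
import Cfsg.Agent.H44.PcFin
import Cfsg.Agent.H83.PcW

set_option autoImplicit false
open Cfsg

namespace Cfsg.Agent.S3916

universe u

open Cfsg.Agent.H42.Pc in
theorem fin_all : FinStmt.{u} := by
  have ab : AbStmt.{u} := Cfsg.Agent.H68.PcC2.ab
  have tr : TransStmt.{u} := Cfsg.Agent.H39.PcTrans.trans ab
  have cent : CentStmt.{u} := Cfsg.Agent.H7.PcCent.cent ab Cfsg.Agent.H6.PcPick.pick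
    (Cfsg.Agent.H33.PcFix.fix ab) (Cfsg.Agent.H60.PcCv1.cv1 ab tr) (Cfsg.Agent.H23.PcCv2.cv2 ab tr)
  have endd : EndStmt.{u} := Cfsg.Agent.H21.PcE2.endd cent (Cfsg.Agent.H12.PcE1.e1 ab)
  have a : AStmt.{u} := Cfsg.Agent.H51.PcA.a Cfsg.Agent.H19.PcA0.a0
  have c2 : C2Stmt.{u} := Cfsg.Agent.H68.PcC2.c2 a Cfsg.Agent.H54.PcB.b
    (Cfsg.Agent.H66.PcN1.n1 a Cfsg.Agent.H48.PcBb.bb) Cfsg.Agent.H20.PcU.uu
  exact Cfsg.Agent.H44.PcFin.fin ab c2 Cfsg.Agent.H6.PcPick.pick Cfsg.Agent.H83.PcW.ww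
    Cfsg.Agent.H37.PcQ2.q2 endd

open Cfsg.Agent.H42.Pc in
theorem top_all : TopStmt.{u} := by
  have fin0 : Fin0Stmt.{u} := Cfsg.Agent.H52.PcFin0.fin0 Cfsg.Agent.H71.PcQo.qo fin_all
  have nf : NfStmt.{u} := Cfsg.Agent.H10.PcNf.nf Cfsg.Agent.H65.PcCnt.cnt Cfsg.Agent.H80.PcUni.odd
    Cfsg.Agent.H80.PcUni.uni Cfsg.Agent.H30.PcOrb.orb Cfsg.Agent.H76.PcSyl.syl
  have nc : NcStmt.{u} := Cfsg.Agent.H9.PcNc.nc Cfsg.Agent.H76.PcSyl.syl nf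
  have loc : LocStmt.{u} := Cfsg.Agent.H38.PcLoc.loc (Cfsg.Agent.H49.PcOrd.ord Cfsg.Agent.H41.PcKey.key) nc
    Cfsg.Agent.H89.PcTr.tr
  have main : MainStmt.{u} := Cfsg.Agent.H29.PcMain.main Cfsg.Agent.H88.PcGl.gl loc fin0
  exact Cfsg.Agent.H62.PcTop.top (Cfsg.Agent.H79.PcQuot.quot Cfsg.Agent.H41.PcKey.key)
    Cfsg.Agent.H47.PcSoc.soc main

/-- Let G be a finite group in which, for every prime p, any two cyclic p-subgroups of the same order are conjugate. If G is not solvable, then G has normal subgroups K ≤ L such that K is solvable, L/K is a non-abelian simple group, and G/L is solvable. -/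
theorem result {G : Type*} [Group G] [Finite G] (hP : ∀ (p : ℕ), p.Prime → ∀ A B : Subgroup G, IsCyclic ↥A → IsCyclic ↥B → IsPGroup p ↥A → Nat.card ↥A = Nat.card ↥B → ∃ g : G, B = A.map (MulAut.conj g).toMonoidHom) (hns : ¬ Group.IsSolvable G) :
    ∃ (K L : Subgroup G) (_ : K.Normal) (_ : L.Normal), K ≤ L ∧ Group.IsSolvable ↥K ∧ Group.IsSolvable (G ⧸ L) ∧
      IsSimpleGroup (↥L ⧸ K.subgroupOf L) ∧ ¬ IsMulCommutative (↥L ⧸ K.subgroupOf L) := by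
  exact top_all G hP hns

end Cfsg.Agent.S3916
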