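import Cfsg.Statements.S4179
import Cfsg.Agent.H32.CKi
import Cfsg.Agent.H32.SingerAb
import Cfsg.Agent.H59.PrimeDeg

set_option autoImplicit false
open Cfsg

namespace Cfsg.Agent.S4179

open H32.CK

variable {V : Type*} [AddCommGroup V] [Module (ZMod 2) V]

instance [Finite V] : Finite (V ≃ₗ[ZMod 2] V) := Finite.of_injective _ DFunLike.coe_injective

theorem full_top [Finite V] (H : Subgroup (V ≃ₗ[ZMod 2] V)) (h : (duSys H V).Full) : H = ⊤ := by
  have key : ∀ (k : ℕ) (g : V ≃ₗ[ZMod 2] V), {v | g v ≠ v}.ncard = k → g ∈ H := by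
    intro k
    induction k using Nat.strong_induction_on with
    | _ k ih =>
    intro g hk
    by_cases a : ∀ v, g v = v
    · rw [show g = 1 from LinearEquiv.ext a]; exact H.one_mem
    push Not at a
    obtain ⟨w, hw⟩ := a
    let A : Submodule F V := mkSub (fun v => g v = v) (map_zero g)
      (fun a c h1 h2 => by rw [map_add, h1, h2])
    obtain ⟨φ, h1, h2, h3⟩ := (duSys H V).two_one ((duSys H V).sep (A := A) hw)
      ((duSys H V).sep (A := A) (v := g w) fun b => hw (g.injective b))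
    obtain ⟨t, ht⟩ := h (w + g w) φ (by simp [h2, h3])
    have : (t : V ≃ₗ[ZMod 2] V) * g ∈ H := by
      refine ih _ (hk ▸ Set.ncard_lt_ncard ⟨fun v hv b => hv ?_, fun b => b hw ?_⟩) _ rfl
      · have := ht v
        rw [h1 v b, zero_smul, add_zero] at this
        exact (congrArg t.1 b).trans this
      · have := ht (g w)
        rw [h3, one_smul, add_comm w, vvw] at this
        exact this
    exact (H.mul_mem_cancel_left t.2).1 this
  exact eq_top_iff.2 fun g _ => key _ g rfl

/-- The non-zero vectors. -/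
def nz (V : Type*) [AddCommGroup V] [Module (ZMod 2) V] : SubMulAction (V ≃ₗ[ZMod 2] V) V :=
  ⟨{v | v ≠ 0}, fun g _ h => smul_ne0 g h⟩

instance (H : Subgroup (V ≃ₗ[ZMod 2] V)) : FaithfulSMul H (nz V) where
  eq_of_smul_eq_smul {g h} e := Subtype.ext (LinearEquiv.ext fun v => by
    by_cases a : v = 0
    · simp [a]
    · exact congrArg Subtype.val (e ⟨v, a⟩))

theorem card_nz [Finite V] : Nat.card (nz V) = 2 ^ Module.finrank (ZMod 2) V - 1 := by
  have := ncard_ne0 (⊤ : Submodule F V)
  rw [cd_eq, finrank_top] at this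
  rw [← this]
  simp only [Submodule.mem_top, true_and]
  rfl

theorem trans_of_card [Finite V] {p : ℕ} (hp : p.Prime) (hc : Nat.card (nz V) = p)
    (C : Subgroup (V ≃ₗ[ZMod 2] V)) (hC : Nat.card C = p) (v w : V) (hv : v ≠ 0) (hw : w ≠ 0) :
    ∃ g ∈ C, g v = w := by
  haveI := Fact.mk hp
  obtain ⟨t, ht⟩ := exists_prime_orderOf_dvd_card' (G := C) p (hC ▸ dvd_rfl)
  obtain ⟨e, he⟩ := H59.exists_coord_of_orderOf hc ht
  obtain ⟨x, hx⟩ := e.surjective ⟨v, hv⟩
  obtain ⟨y, hy⟩ := e.surjective ⟨w, hw⟩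
  have := H59.pow_smul_coord he (y - x).val x
  rw [ZMod.natCast_zmod_val, add_sub_cancel, hx, hy] at this
  exact ⟨_, (t ^ (y - x).val).2, congrArg Subtype.val this⟩

theorem card_dvd [Finite V] {n : ℕ} (hn : Module.finrank (ZMod 2) V = n) (hp : (2 ^ n - 1).Prime)
    (C : Subgroup (V ≃ₗ[ZMod 2] V)) [IsCyclic C] (hC : Nat.card C = 2 ^ n - 1) :
    Nat.card (Subgroup.normalizer (C : Set (V ≃ₗ[ZMod 2] V))) = n * (2 ^ n - 1) := by
  have n0 : n ≠ 0 := by rintro rfl; exact Nat.not_prime_zero hp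
  haveI := Fintype.ofFinite (GaloisField 2 n)
  have hK := GaloisField.finrank 2 n0
  have cK : Nat.card (GaloisField 2 n) = 2 ^ n := GaloisField.card 2 n n0
  let φ : V ≃ₗ[ZMod 2] GaloisField 2 n := LinearEquiv.ofFinrankEq _ _ (hn.trans hK.symm)
  let Ψ : (V ≃ₗ[ZMod 2] V) ≃* (Module.End (ZMod 2) (GaloisField 2 n))ˣ :=
    (LinearMap.GeneralLinearGroup.generalLinearEquiv (ZMod 2) V).symm.trans
      (LinearMap.GeneralLinearGroup.congrLinearEquiv φ)
  have hΨ : ∀ g v, (Ψ g : Module.End (ZMod 2) (GaloisField 2 n)) (φ v) = φ (g v) := fun g v => by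
    change φ (g (φ.symm (φ v))) = _
    rw [φ.symm_apply_apply]
  obtain ⟨g, hg⟩ := H32.conj_singer_of_irreducible (C.map Ψ.toMonoidHom) inferInstance
    (by rw [Subgroup.card_map_of_injective Ψ.injective, hC, ← Nat.card_eq_fintype_card, cK])
    (fun W hW => by
      rw [or_iff_not_imp_left, ← Ne, Submodule.ne_bot_iff, eq_top_iff]
      rintro ⟨w, h1, h2⟩ v -
      by_cases a : v = 0
      · rw [a]; exact W.zero_mem
      obtain ⟨c, h3, h4⟩ := trans_of_card hp (hn ▸ card_nz) C hC (φ.symm w) (φ.symm v)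
        (by simpa using h2) (by simpa using a)
      have := hW _ ⟨c, h3, rfl⟩ w h1
      rw [← φ.apply_symm_apply w] at this
      erw [hΨ] at this
      rwa [h4, φ.apply_symm_apply] at this)
  have h1 := H32.card_normalizer_singer (F := ZMod 2) (K := GaloisField 2 n)
  rw [hK, cK, ← hg, ← Subgroup.map_equiv_normalizer_eq, ← Subgroup.map_equiv_normalizer_eq,
    Subgroup.card_map_of_injective (MulAut.conj g).injective,
    Subgroup.card_map_of_injective Ψ.injective] at h1
  exact h1

/-- Let V be a vector space of dimension n over the field with two elements with 2^n − 1 prime, and H a group of invertible linear maps of V. Then H is transitive on the non-zero vectors of V if and only if H is cyclic of order 2^n − 1, or H has order n·(2^n − 1) and contains a normal cyclic subgroup of order 2^n − 1, or H is the whole general linear group of V. -/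
theorem result {V : Type*} [AddCommGroup V] [Module (ZMod 2) V] [Finite V] (n : ℕ) (hn : Module.finrank (ZMod 2) V = n)
    (hprime : (2 ^ n - 1).Prime) (H : Subgroup (V ≃ₗ[ZMod 2] V)) :
    (∀ v w : V, v ≠ 0 → w ≠ 0 → ∃ h ∈ H, h v = w) ↔
      ((IsCyclic ↥H ∧ Nat.card ↥H = 2 ^ n - 1) ∨
       (Nat.card ↥H = n * (2 ^ n - 1) ∧ ∃ C : Subgroup (V ≃ₗ[ZMod 2] V), C ≤ H ∧ (C.subgroupOf H).Normal ∧
          IsCyclic ↥C ∧ Nat.card ↥C = 2 ^ n - 1) ∨
       H = ⊤) := by
  have hc : Nat.card (nz V) = 2 ^ n - 1 := hn ▸ card_nz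
  have n1 : n ≠ 1 := by rintro rfl; exact Nat.not_prime_one hprime
  have hnp := (Nat.prime_of_pow_sub_one_prime n1 hprime).2
  haveI := Fact.mk hprime
  constructor
  · intro htr
    haveI : MulAction.IsPretransitive H (nz V) := ⟨fun v w => by
      obtain ⟨h, h1, h2⟩ := htr v w v.2 w.2
      exact ⟨⟨h, h1⟩, Subtype.ext h2⟩⟩
    obtain ⟨t, ht⟩ := H59.exists_orderOf_eq_prime_of_transitive (G := H) hc
    obtain ⟨e, he⟩ := H59.exists_coord_of_orderOf hc ht
    rcases H59.isAff_or_two_pretransitive he with h | h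
    · have hC : Nat.card (Subgroup.zpowers (t : V ≃ₗ[ZMod 2] V)) = 2 ^ n - 1 := by
        rw [Nat.card_zpowers, Subgroup.orderOf_coe, ht]
      have hle : Subgroup.zpowers (t : V ≃ₗ[ZMod 2] V) ≤ H := (Subgroup.zpowers_le).2 t.2
      have hN : ((Subgroup.zpowers (t : V ≃ₗ[ZMod 2] V)).subgroupOf H).Normal := by
        have : (Subgroup.zpowers (t : V ≃ₗ[ZMod 2] V)).subgroupOf H = Subgroup.zpowers t := by
          rw [← H.subtype_apply, ← MonoidHom.map_zpowers]
          exact Subgroup.comap_map_eq_self_of_injective H.subtype_injective _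
        rw [this]
        refine ⟨?_⟩
        rintro _ ⟨k, rfl⟩ g
        rw [← conj_zpow]
        refine Subgroup.zpow_mem _ ?_ _
        obtain ⟨a, b, hab⟩ := h g
        have : g * t * g⁻¹ = t ^ a.val := by
          rw [mul_inv_eq_iff_eq_mul]
          refine eq_of_smul_eq_smul (α := nz V) fun x => ?_
          obtain ⟨x, rfl⟩ := e.surjective x
          rw [mul_smul, mul_smul, he, hab, hab, H59.pow_smul_coord he, ZMod.natCast_zmod_val]
          congr 1; ring
        rw [this]
        exact Subgroup.pow_mem _ (Subgroup.mem_zpowers t) _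
      have h1 := Subgroup.card_dvd_of_le ((Subgroup.normal_subgroupOf_iff_le_normalizer hle).1 hN)
      rw [card_dvd hn hprime _ hC] at h1
      obtain ⟨k, hk⟩ := Subgroup.card_dvd_of_le hle
      rw [hC] at hk
      rw [hk, mul_comm] at h1
      rcases (Nat.dvd_prime hnp).1 (Nat.dvd_of_mul_dvd_mul_right hprime.pos h1) with rfl | rfl
      · rw [mul_one] at hk
        exact Or.inl ⟨isCyclic_of_prime_card hk, hk⟩
      · exact Or.inr (Or.inl ⟨by rw [hk, mul_comm], _, hle, hN, inferInstance, hC⟩)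
    · have cV : Nat.card V = 2 ^ n := by rw [← cd_top, cd_eq, finrank_top, hn]
      have h2t := @MulAction.is_two_pretransitive_iff.1 h
      have hH : (duSys H V).Hyp := by
        refine ⟨fun x y x' y' h1 h2 h3 h4 => ?_, ?_⟩
        · obtain ⟨g, g1, g2⟩ := @h2t ⟨x, h1⟩
            ⟨y, ne0_of h2⟩ ⟨x', h3⟩ ⟨y', ne0_of h4⟩
            (fun b => h2 (Or.inr (congrArg Subtype.val b).symm))
            (fun b => h4 (Or.inr (congrArg Subtype.val b).symm))
          exact ⟨g, congrArg Subtype.val g1, congrArg Subtype.val g2⟩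
        · rw [cV]; exact Nat.pow_le_pow_right (n := 2) (by norm_num) hnp.two_le
      rcases ck2 n H V (Du V) (duSys H V) cV hH with a | rfl
      · exact Or.inr (Or.inr (full_top H a))
      · exact absurd hprime (by decide)
  · rintro (⟨-, h⟩ | ⟨-, C, h1, -, -, h⟩ | rfl) v w hv hw
    · exact trans_of_card hprime hc H h v w hv hw
    · obtain ⟨g, h2, h3⟩ := trans_of_card hprime hc C h v w hv hw
      exact ⟨g, h1 h2, h3⟩
    · obtain ⟨φ, -, h1, h2⟩ := (duSys (V ≃ₗ[ZMod 2] V) V).two_one (M := ⊤)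
        (((duSys (V ≃ₗ[ZMod 2] V) V).ex1 hv).imp fun _ a => ⟨trivial, a⟩)
        (((duSys (V ≃ₗ[ZMod 2] V) V).ex1 hw).imp fun _ a => ⟨trivial, a⟩)
      change φ.ev v = 1 at h1
      change φ.ev w = 1 at h2
      refine ⟨LinearEquiv.ofInvolutive
        (LinearMap.id + (φ.ev.toZModLinearMap 2).smulRight (v + w)) fun u => ?_, trivial, ?_⟩
      · rcases F01 (φ.ev u) with a | a <;> simp [a, h1, h2, wvv]
      · change v + φ.ev v • (v + w) = w
        rw [h1, one_smul, vvw]

end Cfsg.Agent.S4179
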