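import Cfsg.Statements.S4018
import Cfsg.Agent.H91.Friendship
import Cfsg.Agent.H91.Basic
import Cfsg.Agent.H87.Transfer

set_option autoImplicit false
open Cfsg

namespace Cfsg.Agent.S4018

/-- A form of the friendship theorem for the commuting graph of involutions. -/
theorem exists_central_involution {G : Type*} [Group G] [Finite G] {t : G} (ht : orderOf t = 2)
    (hex : ∀ u v : G, orderOf u = 2 → orderOf v = 2 → u ≠ v →
      ∃ w, orderOf w = 2 ∧ w ≠ u ∧ w ≠ v ∧ Commute u w ∧ Commute v w)
    (hun : ∀ u v w w' : G, orderOf u = 2 → orderOf v = 2 → u ≠ v →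
      orderOf w = 2 → w ≠ u → w ≠ v → Commute u w → Commute v w →
      orderOf w' = 2 → w' ≠ u → w' ≠ v → Commute u w' → Commute v w' → w = w') :
    ∃ z : G, orderOf z = 2 ∧ ∀ u, orderOf u = 2 → Commute z u := by
  classical
  let V := {x : G // orderOf x = 2}
  have : Fintype V := Fintype.ofFinite V
  have : Nonempty V := ⟨⟨t, ht⟩⟩
  let Γ : SimpleGraph V :=
    { Adj := fun a b => a ≠ b ∧ Commute a.1 b.1
      symm := ⟨fun a b h => ⟨h.1.symm, h.2.symm⟩⟩
      loopless := ⟨fun a h => h.1 rfl⟩ }
  have hF : H91.Friendship Γ := by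
    intro a b hab
    refine (@Nat.card_eq_fintype_card _ (_)).symm.trans ?_
    rw [Nat.card_eq_one_iff_exists]
    obtain ⟨w, hw, h1, h2, h3, h4⟩ := hex a.1 b.1 a.2 b.2 (fun e => hab (Subtype.ext e))
    refine ⟨⟨⟨w, hw⟩, ⟨fun e => h1 (congrArg Subtype.val e).symm, h3⟩,
      ⟨fun e => h2 (congrArg Subtype.val e).symm, h4⟩⟩, ?_⟩
    rintro ⟨⟨w', hw'⟩, ⟨h5, h6⟩, ⟨h7, h8⟩⟩
    refine Subtype.ext (Subtype.ext ?_)
    exact hun a.1 b.1 w' w a.2 b.2 (fun e => hab (Subtype.ext e)) hw'
      (fun e => h5 (Subtype.ext e.symm)) (fun e => h7 (Subtype.ext e.symm)) h6 h8 hw h1 h2 h3 h4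
  obtain ⟨z, hz⟩ := H91.friendship_theorem hF
  refine ⟨z.1, z.2, fun u hu => ?_⟩
  by_cases h : z = ⟨u, hu⟩
  · rw [h]
  · exact (hz _ h).2

theorem eq_top_of_normal {G : Type*} [Group G] [IsSimpleGroup G] {H : Subgroup G} (hH : H.Normal)
    {x : G} (hx : x ∈ H) (hx1 : x ≠ 1) : H = ⊤ :=
  (hH.eq_bot_or_eq_top).resolve_left fun h => hx1 (by rwa [h, Subgroup.mem_bot] at hx)

theorem not_central {G : Type*} [Group G] [Finite G] [IsSimpleGroup G] (h4 : 4 ∣ Nat.card G)
    {x : G} (hx1 : x ≠ 1) (hx : x ∈ Subgroup.center G) : False := by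
  have h := eq_top_of_normal (H := Subgroup.center G) inferInstance hx hx1
  have : IsMulCommutative G := Subgroup.center_eq_top_iff.mp h
  have hp : (Nat.card G).Prime := by
    open scoped IsMulCommutative in exact IsSimpleGroup.prime_card
  have h2 : 2 ∣ Nat.card G := Dvd.dvd.trans (by norm_num) h4
  have := (Nat.prime_dvd_prime_iff_eq Nat.prime_two hp).mp h2
  rw [← this] at h4
  norm_num at h4

/-- Let G be a finite group with an abelian Sylow 3-subgroup P such that the normalizer of P has order 4·#P, the centralizer C of P has order 2·#P, C meets each of its conjugates by elements outside its normalizer trivially, and every proper subgroup of G of even order has order dividing 4·#P. Then G is not simple. -/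
theorem result {G : Type*} [Group G] [Finite G]
    (P : Sylow 3 G) (hab : IsMulCommutative P)
    (hN : Nat.card (Subgroup.normalizer ((P : Subgroup G) : Set G)) = 4 * Nat.card P)
    (hC : Nat.card (Subgroup.centralizer (P : Set G)) = 2 * Nat.card P)
    (hTI : Cfsg.IsTISubset (Subgroup.centralizer (P : Set G) : Set G))
    (heven : ∀ H : Subgroup G, H ≠ ⊤ → 2 ∣ Nat.card H → Nat.card H ∣ 4 * Nat.card P) :
    ¬ IsSimpleGroup G := by
  intro hs
  classical
  set N := Subgroup.normalizer ((P : Subgroup G) : Set G) with hNdef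
  set C := Subgroup.centralizer (P : Set G) with hCdef
  obtain ⟨a, ha⟩ := P.isPGroup'.exists_card_eq
  have hPodd : Odd (Nat.card P) := by rw [ha]; exact Odd.pow (by decide)
  have h4 : 4 ∣ Nat.card G :=
    Dvd.dvd.trans (by rw [hN]; exact Dvd.intro _ rfl) (Subgroup.card_subgroup_dvd_card N)
  have hPC : (P : Subgroup G) ≤ C := by
    intro x hx y hy
    exact congrArg Subtype.val (hab.is_comm.comm (⟨y, hy⟩ : (P : Subgroup G)) ⟨x, hx⟩)
  have hCN : C ≤ N := Subgroup.centralizer_le_normalizer _
  have hPCi : (P : Subgroup G).relIndex C = 2 := by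
    have h1 := Subgroup.relIndex_mul_relIndex ⊥ (P : Subgroup G) C bot_le hPC
    simp only [Subgroup.relIndex_bot_left] at h1
    rw [hC] at h1
    have h2 : 0 < Nat.card P := Nat.card_pos
    change Nat.card P * _ = _ at h1
    nlinarith
  have hCNi : C.relIndex N = 2 := by
    have h1 := Subgroup.relIndex_mul_relIndex ⊥ C N bot_le hCN
    simp only [Subgroup.relIndex_bot_left] at h1
    rw [hC, hN] at h1
    have h2 : 0 < Nat.card P := Nat.card_pos
    nlinarith
  have hnP : ∀ x ∈ (P : Subgroup G), x ^ 2 = 1 → x = 1 := by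
    intro x hx h2
    have h1 : orderOf x ∣ Nat.card P := Subgroup.orderOf_dvd_natCard _ hx
    have h3 : orderOf x ∣ 2 := orderOf_dvd_of_pow_eq_one h2
    have : Nat.Coprime 2 (Nat.card P) := Nat.coprime_two_left.mpr hPodd
    exact orderOf_eq_one_iff.mp (Nat.eq_one_of_dvd_coprimes this h3 h1)
  obtain ⟨⟨t, htC⟩, ht⟩ := exists_prime_orderOf_dvd_card' (G := C) 2 (by rw [hC]; exact Dvd.intro _ rfl)
  rw [Subgroup.orderOf_mk] at ht
  have hsq : ∀ {x : G}, orderOf x = 2 → x ^ 2 = 1 := fun h => by rw [← h]; exact pow_orderOf_eq_one _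
  have hne : ∀ {x : G}, orderOf x = 2 → x ≠ 1 := fun h e => by rw [e, orderOf_one] at h; norm_num at h
  have hmul : ∀ {x : G}, orderOf x = 2 → x * x = 1 := fun h => by rw [← sq]; exact hsq h
  have hinv : ∀ {x : G}, orderOf x = 2 → x⁻¹ = x := fun h => inv_eq_of_mul_eq_one_right (hmul h)
  -- `t` is the only involution of `C`
  have huniq : ∀ x ∈ C, orderOf x = 2 → x = t := by
    intro x hx h2
    have h1 : x * t ∈ (P : Subgroup G) := by
      have := (Subgroup.mul_mem_iff_of_index_two (H := (P : Subgroup G).subgroupOf C) hPCi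
        (a := ⟨x, hx⟩) (b := ⟨t, htC⟩)).mpr
        ⟨fun h => absurd (hnP x h (hsq h2)) (hne h2), fun h => absurd (hnP t h (hsq ht)) (hne ht)⟩
      exact this
    have h3 : (x * t) * t = t * (x * t) := htC _ h1
    have h5 : (x * t) ^ 2 = 1 := by
      rw [sq, ← mul_assoc]
      have h6 : x * t * x = t := by
        have h7 : t * x * t = x := by rw [mul_assoc t, ← h3, mul_assoc, hmul ht, mul_one]
        calc x * t * x = x * (t * x * t) * t := by
              rw [mul_assoc x (t * x * t), mul_assoc (t * x), hmul ht, mul_one, mul_assoc]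
          _ = t := by rw [h7, hmul h2, one_mul]
      rw [h6, hmul ht]
    have h8 := hnP _ h1 h5
    rw [← hinv ht, mul_inv_eq_one] at h8
    exact h8
  have hord : ∀ g x : G, orderOf (g * x * g⁻¹) = orderOf x := fun g x =>
    (MulAut.conj g).orderOf_eq x
  have hNCt : ∀ g, g ∈ Subgroup.normalizer (C : Set G) → g * t * g⁻¹ = t := by
    intro g hg
    exact huniq _ ((Subgroup.mem_normalizer_iff.mp hg t).mp htC) (by rw [hord, ht])
  have hNC : N ≤ Subgroup.normalizer (C : Set G) := by
    intro g hg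
    refine Subgroup.mem_normalizer_fintype fun c hc y hy => ?_
    have h1 : g⁻¹ * y * g⁻¹⁻¹ ∈ (P : Subgroup G) :=
      (Subgroup.mem_normalizer_iff.mp (N.inv_mem hg) y).mp hy
    have h2 := hc _ h1
    calc y * (g * c * g⁻¹) = g * (g⁻¹ * y * g⁻¹⁻¹ * c) * g⁻¹ := by group
      _ = _ := by rw [h2]; group
  have hCt : Subgroup.centralizer {t} = N := by
    have h1 : N ≤ Subgroup.centralizer {t} := by
      intro g hg
      rw [Subgroup.mem_centralizer_singleton_iff]
      have := hNCt g (hNC hg)
      rw [mul_inv_eq_iff_eq_mul] at this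
      exact this
    have h2 : Subgroup.centralizer {t} ≠ ⊤ := by
      intro h
      refine not_central h4 (hne ht) (Subgroup.mem_center_iff.mpr fun g => ?_)
      have : g ∈ Subgroup.centralizer {t} := h ▸ Subgroup.mem_top g
      exact Subgroup.mem_centralizer_singleton_iff.mp this
    have h3 := heven _ h2 (Dvd.dvd.trans (by rw [hN]; omega) (Subgroup.card_dvd_of_le h1))
    rw [← hN] at h3
    exact (Subgroup.eq_of_le_of_card_ge h1 (Nat.le_of_dvd Nat.card_pos h3)).symm
  -- the TI property
  have hti : ∀ g x : G, x ∈ C → x ≠ 1 → g * x * g⁻¹ ∈ C → Commute g t := by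
    intro g x hx hx1 hg
    by_contra h
    refine hx1 (hTI g (fun hg' => h ?_) x hx hg)
    have := hNCt g hg'
    rw [mul_inv_eq_iff_eq_mul] at this
    exact this
  -- all involutions are conjugate
  have hNodd : Odd N.index := by
    rw [← Nat.not_even_iff_odd]
    rintro ⟨k, hk⟩
    have h8 : 2 ^ 3 ∣ Nat.card G := by
      rw [← N.card_mul_index, hN, hk]
      exact ⟨Nat.card P * k, by ring⟩
    obtain ⟨S, hS⟩ := Sylow.exists_subgroup_card_pow_prime 2 h8
    have hSt : S ≠ ⊤ := by
      rintro rfl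
      have hG : IsPGroup 2 G := IsPGroup.of_card (n := 3) (by rw [← hS, Subgroup.card_top])
      have := hG.center_nontrivial
      obtain ⟨⟨x, hx⟩, hx1⟩ := exists_ne (1 : Subgroup.center G)
      exact not_central h4 (fun e => hx1 (Subtype.ext e)) hx
    have h9 := heven S hSt (by rw [hS]; norm_num)
    rw [hS] at h9
    obtain ⟨m, hm⟩ := hPodd
    rw [hm] at h9
    omega
  have hconj : ∀ x : G, orderOf x = 2 → ∃ g : G, g * x * g⁻¹ = t := by
    intro x hx
    by_contra h
    push Not at h
    obtain ⟨K, hK, hK2, hxK⟩ := H87.thompson_transfer_involution hNodd hCNi (hsq hx)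
      (fun g hg => h g (huniq _ hg (by rw [hord, hx])))
    rcases hK.eq_bot_or_eq_top with rfl | rfl
    · rw [Subgroup.index_bot] at hK2
      rw [hK2] at h4
      norm_num at h4
    · exact hxK (Subgroup.mem_top x)
  -- two distinct involutions other than `t` commuting with `t` have their product in `C`
  have hprod : ∀ u v : G, orderOf u = 2 → orderOf v = 2 → u ≠ t → v ≠ t → Commute u t →
      Commute v t → u * v ∈ C := by
    intro u v hu hv hut hvt h1 h2
    have h3 : u ∈ N := hCt ▸ Subgroup.mem_centralizer_singleton_iff.mpr h1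
    have h5 : v ∈ N := hCt ▸ Subgroup.mem_centralizer_singleton_iff.mpr h2
    exact (Subgroup.mul_mem_iff_of_index_two (H := C.subgroupOf N) hCNi
        (a := ⟨u, h3⟩) (b := ⟨v, h5⟩)).mpr
        ⟨fun h => absurd (huniq u h hu) hut, fun h => absurd (huniq v h hv) hvt⟩
  have hcc : ∀ g x y : G, Commute x y → Commute (g * x * g⁻¹) (g * y * g⁻¹) := fun g x y h =>
    h.map (MulAut.conj g)
  have hcinj : ∀ g x y : G, g * x * g⁻¹ = g * y * g⁻¹ → x = y := fun g x y h =>
    (MulAut.conj g).injective h
  obtain ⟨z, hz, hzc⟩ := exists_central_involution ht (by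
      intro u v hu hv huv
      have hx1 : u * v ≠ 1 := fun e => huv (by rw [← hinv hv, mul_inv_eq_one] at e; exact e)
      have hux : u * (u * v) * u⁻¹ = (u * v)⁻¹ := by
        rw [mul_inv_rev, hinv hu, hinv hv, ← mul_assoc, hmul hu, one_mul]
      have hvx : v * (u * v) * v⁻¹ = (u * v)⁻¹ := by
        rw [mul_inv_rev, hinv hu, hinv hv, mul_assoc, mul_assoc, hmul hv, mul_one]
      rcases Nat.even_or_odd (orderOf (u * v)) with ⟨k, hk⟩ | hodd
      · have hpos := orderOf_pos (u * v)
        have hw2 : ((u * v) ^ k) ^ 2 = 1 := by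
          rw [← pow_mul, mul_two, ← hk, pow_orderOf_eq_one]
        have hw1 : (u * v) ^ k ≠ 1 := pow_ne_one_of_lt_orderOf (by omega) (by omega)
        have hw : orderOf ((u * v) ^ k) = 2 := orderOf_eq_prime hw2 hw1
        have hc : ∀ y : G, y * (u * v) * y⁻¹ = (u * v)⁻¹ → Commute y ((u * v) ^ k) := by
          intro y hy
          have : y * (u * v) ^ k * y⁻¹ = (u * v) ^ k := by
            rw [← conj_pow, hy, inv_pow, hinv hw]
          rw [mul_inv_eq_iff_eq_mul] at this
          exact this
        have hk1 : ∀ y : G, y * (u * v) * y⁻¹ = (u * v)⁻¹ → (u * v) ^ k = y → u * v = y := by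
          intro y hy e
          have h1 : Commute y (u * v) := e ▸ (Commute.refl (u * v)).pow_left k
          rw [h1.eq, mul_assoc, mul_inv_cancel, mul_one] at hy
          have h2 : (u * v) ^ 2 = 1 := by rw [sq]; nth_rewrite 1 [hy]; exact inv_mul_cancel _
          have h3 := orderOf_eq_prime h2 hx1
          have : k = 1 := by omega
          rw [← e, this, pow_one]
        refine ⟨_, hw, fun e => ?_, fun e => ?_, hc u hux, hc v hvx⟩
        · exact hne hv (mul_eq_left.mp (hk1 u hux e))
        · exact hne hu (mul_eq_right.mp (hk1 v hvx e))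
      · let D := Subgroup.normalizer ((Subgroup.zpowers (u * v) : Subgroup G) : Set G)
        have hmemD : ∀ y : G, y * (u * v) * y⁻¹ = (u * v)⁻¹ → y ∈ D := by
          intro y hy
          refine Subgroup.mem_normalizer_fintype ?_
          rintro _ ⟨n, rfl⟩
          exact ⟨-n, by simp only; rw [← conj_zpow, hy, zpow_neg, inv_zpow]⟩
        have hDt : D ≠ ⊤ := by
          intro h
          have h1 : (Subgroup.zpowers (u * v)).Normal := Subgroup.normalizer_eq_top_iff.mp h
          have h2 := eq_top_of_normal h1 (Subgroup.mem_zpowers _) hx1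
          refine not_central h4 hx1 (Subgroup.mem_center_iff.mpr fun g => ?_)
          obtain ⟨n, rfl⟩ : g ∈ Subgroup.zpowers (u * v) := h2 ▸ Subgroup.mem_top g
          exact ((Commute.refl (u * v)).zpow_left n).eq
        have h1 := heven D hDt (hu ▸ Subgroup.orderOf_dvd_natCard D (hmemD u hux))
        have h2 : orderOf (u * v) ∣ 4 * Nat.card P :=
          (Subgroup.orderOf_dvd_natCard D (Subgroup.le_normalizer (Subgroup.mem_zpowers _))).trans h1
        have h3 : orderOf (u * v) ∣ 3 ^ a := by
          rw [← ha]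
          refine Nat.Coprime.dvd_of_dvd_mul_left ?_ h2
          exact (Nat.Coprime.pow_left 2 (Nat.coprime_two_left.mpr hodd)).symm
        obtain ⟨j, -, hj⟩ := (Nat.dvd_prime_pow Nat.prime_three).mp h3
        obtain ⟨Q, hQ⟩ := H91.exists_sylow_mem hj
        obtain ⟨g, hg⟩ := MulAction.exists_smul_eq G Q P
        have h5 : g * (u * v) * g⁻¹ ∈ (P : Subgroup G) := by
          rw [← hg]
          exact Subgroup.smul_mem_pointwise_smul (u * v) (MulAut.conj g) _ hQ
        have h6 : g * (u * v) * g⁻¹ ≠ 1 := fun e => hx1 (hcinj g _ _ (by rw [e]; group))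
        have h7 : ∀ y : G, y * (u * v) * y⁻¹ = (u * v)⁻¹ →
            Commute y (g⁻¹ * t * g) ∧ g⁻¹ * t * g ≠ y := by
          intro y hy
          have h8 : (g * y * g⁻¹) * (g * (u * v) * g⁻¹) * (g * y * g⁻¹)⁻¹ = (g * (u * v) * g⁻¹)⁻¹ := by
            calc _ = g * (y * (u * v) * y⁻¹) * g⁻¹ := by group
              _ = _ := by rw [hy]; group
          have h9 := hti _ _ (hPC h5) h6 (h8 ▸ C.inv_mem (hPC h5))
          refine ⟨?_, fun e => ?_⟩
          · have := hcc g⁻¹ _ _ h9
            simpa [mul_assoc] using this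
          · have h10 : g * y * g⁻¹ = t := by rw [← e]; group
            rw [h10, ← htC _ h5, mul_assoc, mul_inv_cancel, mul_one] at h8
            refine h6 (hnP _ h5 ?_)
            rw [sq]; nth_rewrite 1 [h8]; exact inv_mul_cancel _
        refine ⟨g⁻¹ * t * g, ?_, (h7 u hux).2, (h7 v hvx).2, (h7 u hux).1, (h7 v hvx).1⟩
        have := hord g⁻¹ t
        rwa [inv_inv, ht] at this)
    (by
      intro u v w w' hu hv huv hw hwu hwv h1 h2 hw' hwu' hwv' h1' h2'
      obtain ⟨g, hg⟩ := hconj w hw
      obtain ⟨g', hg'⟩ := hconj w' hw'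
      have key : ∀ g w : G, g * w * g⁻¹ = t → w ≠ u → w ≠ v → Commute u w → Commute v w →
          g * (u * v) * g⁻¹ ∈ C := by
        intro g w hg hwu hwv h1 h2
        have := hprod (g * u * g⁻¹) (g * v * g⁻¹) (by rw [hord, hu]) (by rw [hord, hv])
          (fun e => hwu (hcinj g _ _ (hg.trans e.symm))) (fun e => hwv (hcinj g _ _ (hg.trans e.symm)))
          (hg ▸ hcc g _ _ h1) (hg ▸ hcc g _ _ h2)
        convert this using 1
        group
      have hx1 : u * v ≠ 1 := fun e => huv (by rw [← hinv hv, mul_inv_eq_one] at e; exact e)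
      have h3 := hti (g' * g⁻¹) _ (key g w hg hwu hwv h1 h2)
        (fun e => hx1 (hcinj g _ _ (by rw [e]; group)))
        (by convert key g' w' hg' hwu' hwv' h1' h2' using 1; group)
      refine hcinj g' _ _ ?_
      rw [hg']
      calc g' * w * g'⁻¹ = (g' * g⁻¹) * (g * w * g⁻¹) * (g' * g⁻¹)⁻¹ := by group
        _ = t := by rw [hg, h3.eq]; group)
  have h1 : Subgroup.normalClosure {z} = ⊤ :=
    eq_top_of_normal Subgroup.normalClosure_normal (Subgroup.subset_normalClosure rfl) (hne hz)
  refine not_central h4 (hne hz) (Subgroup.mem_center_iff.mpr fun g => ?_)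
  have h2 : Subgroup.normalClosure {z} ≤ Subgroup.centralizer {z} := by
    refine (Subgroup.closure_le _).mpr fun x hx => ?_
    obtain ⟨y, rfl, hy⟩ := Group.mem_conjugatesOfSet_iff.mp hx
    obtain ⟨c, rfl⟩ := isConj_iff.mp hy
    exact Subgroup.mem_centralizer_singleton_iff.mpr (hzc _ (by rw [hord, hz])).symm
  exact Subgroup.mem_centralizer_singleton_iff.mp (h2 (h1 ▸ Subgroup.mem_top g))

end Cfsg.Agent.S4018
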