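import Cfsg.Statements.S4020
import Cfsg.Agent.H91.Cube
import Cfsg.Agent.H91.Basic
import Cfsg.Agent.S4023
import Cfsg.Agent.S0076

set_option autoImplicit false
open Cfsg

namespace Cfsg.Agent.S4020

open Subgroup
open scoped commutatorElement Pointwise

/-- In the non-abelian case some element of `N(P)` inverts a maximal subgroup of `P`. -/
theorem exists_inverting {G : Type*} [Group G] [Finite G] {p : ℕ} [hp : Fact p.Prime]
    (hC : ∀ H K : Subgroup G, IsPGroup p H → IsPGroup p K → Nat.card H = Nat.card K →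
      ∃ g : G, K = H.map (MulAut.conj g).toMonoidHom) (P : Sylow p G)
    (hP : H91.Cube p (P : Subgroup G)) {z a : G} (hz : z ∈ (P : Subgroup G)) (hz1 : z ≠ 1)
    (hzc : ∀ s ∈ (P : Subgroup G), Commute s z) (ha : a ∈ (P : Subgroup G))
    (haz : a ∉ zpowers z) :
    ∃ t ∈ normalizer ((P : Subgroup G) : Set G), t * a * t⁻¹ = a⁻¹ ∧ t * z * t⁻¹ = z⁻¹ := by
  have hzo : orderOf z = p := orderOf_eq_prime (hP.exp z hz) hz1
  have ha1 : a ≠ 1 := fun e => haz (e ▸ one_mem _)
  have hao : orderOf a = p := orderOf_eq_prime (hP.exp a ha) ha1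
  have hnc : ¬ ∀ s ∈ (P : Subgroup G), Commute s a :=
    fun h => haz ((hP.mem_zpowers_iff_central hz hz1 hzc ha).mpr h)
  have haz' : Commute a z := hzc a ha
  have hza : z ∉ zpowers a := fun h => haz (by
    rw [eq_of_le_of_card_ge (zpowers_le.mpr h) (by rw [Nat.card_zpowers, Nat.card_zpowers, hzo, hao])]
    exact mem_zpowers a)
  have hpz : ∀ {x : G}, orderOf x = p → IsPGroup p (zpowers x) := fun hx =>
    H91.isPGroup_zpowers_of_orderOf (k := 1) (by rw [hx, pow_one])
  obtain ⟨g, hg⟩ := hC (zpowers z) (zpowers a) (hpz hzo) (hpz hao)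
    (by rw [Nat.card_zpowers, Nat.card_zpowers, hzo, hao])
  have hle : ((g • P : Sylow p G) : Subgroup G) ≤ centralizer {a} := by
    rintro _ ⟨x, hx, rfl⟩
    obtain ⟨y, hy, hya⟩ : a ∈ (zpowers z).map (MulAut.conj g).toMonoidHom := hg ▸ mem_zpowers a
    obtain ⟨k, rfl⟩ := hy
    rw [mem_centralizer_singleton_iff, ← hya]
    exact ((hzc x hx).zpow_right k).map (MulAut.conj g)
  have hzC : z ∈ centralizer {a} := mem_centralizer_singleton_iff.mpr haz'.symm
  have haC : a ∈ centralizer {a} := mem_centralizer_singleton_iff.mpr rfl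
  obtain ⟨R, hR⟩ := (H91.isPGroup_zpowers_of_orderOf (p := p) (k := 1)
    (x := (⟨z, hzC⟩ : centralizer {a})) (by rw [orderOf_mk, hzo, pow_one])).exists_le_sylow
  have hRc : Nat.card ((R : Subgroup (centralizer {a})).map (centralizer {a}).subtype) =
      Nat.card P := by
    rw [card_map_of_injective (subtype_injective _), R.card_eq_multiplicity,
      ← ((g • P).subtype hle).card_eq_multiplicity, Sylow.coe_subtype,
      Nat.card_congr (subgroupOfEquivOfLe hle).toEquiv, Sylow.card_eq_multiplicity,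
      Sylow.card_eq_multiplicity]
  obtain ⟨h, hh⟩ := hC P _ P.isPGroup' (R.isPGroup'.map _) hRc.symm
  have hS : H91.Cube p ((R : Subgroup (centralizer {a})).map (centralizer {a}).subtype) :=
    hh ▸ hP.map (MulAut.conj h)
  set S := (R : Subgroup (centralizer {a})).map (centralizer {a}).subtype with hSdef
  have hSa : ∀ s ∈ S, Commute s a := by
    rintro _ ⟨s, -, rfl⟩
    exact mem_centralizer_singleton_iff.mp s.2
  have haS : a ∈ S := by
    have h1 : (zpowers (⟨a, haC⟩ : centralizer {a})).Normal :=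
      H91.normal_zpowers_of_mem_center (mem_center_iff.mpr fun s =>
        Subtype.ext (mem_centralizer_singleton_iff.mp s.2))
    exact ⟨⟨a, haC⟩, (H91.isPGroup_zpowers_of_orderOf (p := p) (k := 1)
      (x := (⟨a, haC⟩ : centralizer {a})) (by rw [orderOf_mk, hao, pow_one])).le_sylow_of_normal R
      (mem_zpowers _), rfl⟩
  have hzS : z ∈ S := ⟨⟨z, hzC⟩, hR (mem_zpowers _), rfl⟩
  obtain ⟨l, hl, hlz⟩ := hS.exists_conj_eq_mul hzS
    (fun h => hza ((hS.mem_zpowers_iff_central haS ha1 hSa hzS).mpr h)) (inv_mem haS)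
    (fun s hs => (hSa s hs).inv_right)
  have hla : l * a * l⁻¹ = a := by rw [(hSa l hl).eq, mul_inv_cancel_right]
  obtain ⟨u, hu, hua⟩ := hP.exists_conj_eq_mul ha hnc hz hzc
  have huz : u * z * u⁻¹ = z := by rw [(hzc u hu).eq, mul_inv_cancel_right]
  have hwa : MulAut.conj (u * l * u) a = z := by
    simp only [map_mul, MulAut.mul_apply]
    rw [show MulAut.conj u a = a * z from hua, map_mul, show MulAut.conj l a = a from hla,
      show MulAut.conj l z = z * a⁻¹ from hlz, ← mul_assoc, haz'.eq, mul_inv_cancel_right]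
    exact huz
  have hwz : MulAut.conj (u * l * u) z = a⁻¹ := by
    simp only [map_mul, MulAut.mul_apply]
    rw [show MulAut.conj u z = z from huz, show MulAut.conj l z = z * a⁻¹ from hlz, map_mul, map_inv,
      show MulAut.conj u z = z from huz, show MulAut.conj u a = a * z from hua]
    group
  set t := (u * l * u) * (u * l * u) with ht
  have hta : t * a * t⁻¹ = a⁻¹ := by
    change MulAut.conj t a = _
    rw [ht, map_mul, MulAut.mul_apply, hwa, hwz]
  have htz : t * z * t⁻¹ = z⁻¹ := by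
    change MulAut.conj t z = _
    rw [ht, map_mul, MulAut.mul_apply, hwz, map_inv, hwa]
  have hcz : ∀ {g c : G}, g * z * g⁻¹ ∈ zpowers z → c ∈ zpowers z → g * c * g⁻¹ ∈ zpowers z := by
    rintro g _ hg ⟨k, rfl⟩
    rw [← conj_zpow]
    exact zpow_mem hg k
  let H : Subgroup G :=
    { carrier := {g | g * z * g⁻¹ = z ∧ a⁻¹ * (g * a * g⁻¹) ∈ zpowers z}
      one_mem' := ⟨by simp, by simp⟩
      mul_mem' := fun {x y} hx hy => ⟨by
        calc x * y * z * (x * y)⁻¹ = x * (y * z * y⁻¹) * x⁻¹ := by group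
          _ = z := by rw [hy.1, hx.1], by
        have := mul_mem hx.2 (hcz (g := x) (by rw [hx.1]; exact mem_zpowers z) hy.2)
        convert this using 1
        group⟩
      inv_mem' := fun {x} hx => by
        have h1 : x⁻¹ * z * x⁻¹⁻¹ = z := by
          nth_rewrite 1 [← hx.1]; group
        refine ⟨h1, ?_⟩
        have := inv_mem (hcz (g := x⁻¹) (by rw [h1]; exact mem_zpowers z) hx.2)
        convert this using 1
        group }
  have hPH : (P : Subgroup G) ≤ H := fun x hx =>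
    ⟨by rw [(hzc x hx).eq, mul_inv_cancel_right], by
      have := hP.comm_mem hz hz1 hzc (inv_mem ha) hx
      convert this using 1
      rw [commutatorElement_def]; group⟩
  have hti : ∀ {x : G}, t * x * t⁻¹ = x⁻¹ → t⁻¹ * x * t = x⁻¹ := by
    intro x hx
    have : t * x⁻¹ * t⁻¹ = x := by rw [← conj_inv, hx, inv_inv]
    nth_rewrite 1 [← this]; group
  have hPH' : ((t • P : Sylow p G) : Subgroup G) ≤ H := by
    rintro _ ⟨x, hx, rfl⟩
    obtain ⟨h1, h2⟩ := hPH hx
    refine ⟨?_, ?_⟩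
    · change t * x * t⁻¹ * z * (t * x * t⁻¹)⁻¹ = z
      calc _ = t * (x * (t⁻¹ * z * t) * x⁻¹) * t⁻¹ := by group
        _ = z := by rw [hti htz, ← conj_inv, h1, ← conj_inv, htz, inv_inv]
    · change a⁻¹ * (t * x * t⁻¹ * a * (t * x * t⁻¹)⁻¹) ∈ zpowers z
      have h3 := hcz (g := t) (by rw [htz]; exact inv_mem (mem_zpowers z))
        (hP.comm_mem hz hz1 hzc ha hx)
      convert h3 using 1
      calc _ = t * ((t⁻¹ * a * t)⁻¹ * (x * (t⁻¹ * a * t) * x⁻¹)) * t⁻¹ := by group
        _ = _ := by rw [hti hta, commutatorElement_def]; group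
  obtain ⟨k, hk⟩ := MulAction.exists_smul_eq H (P.subtype hPH) ((t • P).subtype hPH')
  rw [Sylow.smul_subtype] at hk
  have hk' := Sylow.subtype_injective hk
  have ht1 : (k : G)⁻¹ * t ∈ normalizer ((P : Subgroup G) : Set G) := by
    rw [Sylow.coe_coe, ← Sylow.smul_eq_iff_mem_normalizer, mul_smul, ← hk']
    exact inv_smul_smul (k : G) P
  obtain ⟨h1, h2⟩ := H.inv_mem k.2
  obtain ⟨v, hv, hva⟩ := hP.exists_conj_eq_mul ha hnc (inv_mem (zpowers_le.mpr hz h2))
    (fun s hs => ((hP.mem_zpowers_iff_central hz hz1 hzc (zpowers_le.mpr hz h2)).mp h2 s hs).inv_right)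
  have h3 := (hP.mem_zpowers_iff_central hz hz1 hzc (zpowers_le.mpr hz h2)).mp h2 v hv
  refine ⟨v * ((k : G)⁻¹ * t), mul_mem (le_normalizer hv) ht1, ?_, ?_⟩
  · calc _ = v * ((k : G)⁻¹ * (t * a * t⁻¹) * (k : G)⁻¹⁻¹) * v⁻¹ := by group
      _ = (v * a * v⁻¹ * (v * (a⁻¹ * ((k : G)⁻¹ * a * (k : G)⁻¹⁻¹)) * v⁻¹))⁻¹ := by
        rw [hta]; group
      _ = a⁻¹ := by rw [hva, h3.eq]; group
  · calc _ = v * ((k : G)⁻¹ * (t * z * t⁻¹) * (k : G)⁻¹⁻¹) * v⁻¹ := by group
      _ = z⁻¹ := by rw [htz, ← conj_inv, h1, ← conj_inv, (hzc v hv).eq, mul_inv_cancel_right]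

theorem q8_conj : ∀ s t : QuaternionGroup 2, s * t * s⁻¹ = t ∨ s * t * s⁻¹ = t⁻¹ := by decide

theorem not_cube {G : Type*} [Group G] [Finite G]
    (hD : ∀ p : ℕ, p.Prime → ∀ H K : Subgroup G, IsPGroup p H → IsPGroup p K →
      Nat.card H = Nat.card K → ∃ g : G, K = H.map (MulAut.conj g).toMonoidHom) {p : ℕ}
    [hp : Fact p.Prime] (hp2 : p ≠ 2) (P : Sylow p G) (hP : H91.Cube p (P : Subgroup G)) :
    False := by
  classical
  obtain ⟨z, hz, hz1, hzc⟩ := hP.exists_central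
  have hcen := fun c hc => hP.mem_zpowers_iff_central hz hz1 hzc (c := c) hc
  obtain ⟨a, ha, haz⟩ : ∃ a ∈ (P : Subgroup G), a ∉ zpowers z := by
    by_contra h
    push Not at h
    exact hP.ncomm (H89.isMulCommutative_of_le inferInstance (h : (P : Subgroup G) ≤ zpowers z))
  have hnc : ∀ {x : G}, x ∈ (P : Subgroup G) → x ∉ zpowers z →
      ¬ ∀ s ∈ (P : Subgroup G), Commute s x := fun hx hxz h => hxz ((hcen _ hx).mpr h)
  obtain ⟨t0, ht0, hta0, htz0⟩ := exists_inverting (hD p hp.out) P hP hz hz1 hzc ha haz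
  obtain ⟨k, m, hm, hkm⟩ := Nat.exists_eq_two_pow_mul_odd (orderOf_pos t0).ne'
  have hta := H91.conj_pow_of_inverts hta0 hm
  have htz := H91.conj_pow_of_inverts htz0 hm
  have hto : orderOf (t0 ^ m) = 2 ^ k := by
    rw [orderOf_pow' _ hm.pos.ne', hkm, Nat.gcd_mul_left_left, Nat.mul_div_cancel _ hm.pos]
  set N := normalizer ((P : Subgroup G) : Set G) with hN
  have htN : t0 ^ m ∈ N := pow_mem ht0 m
  set t := t0 ^ m with ht
  set V := (P : Subgroup G) ⊓ centralizer {a} with hV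
  have hNP : ∀ {n x : G}, n ∈ N → x ∈ (P : Subgroup G) → n * x * n⁻¹ ∈ (P : Subgroup G) :=
    fun hn hx => (mem_normalizer_iff.mp hn _).mp hx
  have hNz : ∀ {n x : G}, n ∈ N → x ∈ (P : Subgroup G) → n * x * n⁻¹ ∈ zpowers z →
      x ∈ zpowers z := by
    intro n x hn hx h
    rw [hcen _ hx]
    intro s hs
    have := ((hcen _ (hNP hn hx)).mp h _ (hNP hn hs)).map (MulAut.conj n).symm
    simpa [mul_assoc] using this
  have hA : ∀ m ∈ N, ∀ v ∈ V, v ∉ zpowers z → m * v * m⁻¹ ∈ V → m ∈ normalizer (V : Set G) := by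
    intro m hm v hv hvz hmv
    refine mem_normalizer_fintype fun y hy => ?_
    change m * y * m⁻¹ ∈ V
    rw [hV, ← hP.inf_centralizer_eq ha (hnc ha haz) hmv
      (hnc hmv.1 fun h => hvz (hNz hm hv.1 h))]
    refine mem_inf.mpr ⟨hNP hm hy.1, mem_centralizer_singleton_iff.mpr ?_⟩
    exact (show Commute y v from
      H89.comm_of_isMulCommutative (hP.inf_centralizer_comm ha (hnc ha haz)) hy hv).map
      (MulAut.conj m)
  have haV : a ∈ V := mem_inf.mpr ⟨ha, mem_centralizer_singleton_iff.mpr rfl⟩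
  set M := (normalizer (V : Set G)).subgroupOf N with hM
  -- the index of `M` is odd
  obtain ⟨T, hT⟩ := H91.exists_sylow_mem (p := 2) (k := k) (x := (⟨t, htN⟩ : N))
    (by rw [orderOf_mk, hto])
  obtain ⟨T', hT'⟩ := (T.isPGroup'.map N.subtype).exists_le_sylow
  have hTM : (T : Subgroup N) ≤ M := by
    intro s hs
    have hs' : (s : G) ∈ (T' : Subgroup G) := hT' ⟨s, hs, rfl⟩
    have ht' : t ∈ (T' : Subgroup G) := hT' ⟨_, hT, rfl⟩
    have h1 : s * t * (s : G)⁻¹ = t ∨ s * t * (s : G)⁻¹ = t⁻¹ := by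
      have hcomm : IsMulCommutative T' → s * t * (s : G)⁻¹ = t := fun h => by
        rw [H89.comm_of_isMulCommutative h hs' ht', mul_inv_cancel_right]
      rcases S4023.result (hD 2 Nat.prime_two) T' with h | h | ⟨-, ⟨e⟩⟩ | h
      · exact Or.inl (hcomm inferInstance)
      · exact Or.inl (hcomm h.1)
      · refine (q8_conj (e ⟨s, hs'⟩) (e ⟨t, ht'⟩)).imp (fun h => ?_) fun h => ?_
        · rw [← map_inv, ← map_mul, ← map_mul] at h
          exact congrArg Subtype.val (e.injective h)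
        · rw [← map_inv, ← map_inv, ← map_mul, ← map_mul] at h
          exact congrArg Subtype.val (e.injective h)
      · exact absurd rfl h.1
    have h2 : (s * t * (s : G)⁻¹) * a * (s * t * (s : G)⁻¹)⁻¹ = a⁻¹ := by
      rcases h1 with h | h <;> rw [h]
      · exact hta
      · have : t * a⁻¹ * t⁻¹ = a := by rw [← conj_inv, hta, inv_inv]
        nth_rewrite 1 [← this]; group
    have hb : (s : G)⁻¹ * a * (s : G)⁻¹⁻¹ ∈ (P : Subgroup G) := hNP (inv_mem s.2) ha
    set b := (s : G)⁻¹ * a * (s : G)⁻¹⁻¹ with hbdef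
    have htb : t * b * t⁻¹ = b⁻¹ := by
      calc _ = (s : G)⁻¹ * ((s * t * (s : G)⁻¹) * a * (s * t * (s : G)⁻¹)⁻¹) * s := by
            rw [hbdef]; group
        _ = _ := by rw [h2, hbdef]; group
    have hc := hP.comm_mem hz hz1 hzc ha hb
    have hc1 : t * ⁅a, b⁆ * t⁻¹ = ⁅a, b⁆⁻¹ := by
      obtain ⟨j, hj⟩ := hc
      rw [← hj]
      simp only
      rw [← conj_zpow, htz, inv_zpow]
    have hc2 : t * ⁅a, b⁆ * t⁻¹ = ⁅a, b⁆ := by
      have h3 := (hcen _ (zpowers_le.mpr hz hc)).mp hc (a * b) (mul_mem ha hb)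
      calc t * ⁅a, b⁆ * t⁻¹ = (t * a * t⁻¹) * (t * b * t⁻¹) * (t * a * t⁻¹)⁻¹ * (t * b * t⁻¹)⁻¹ := by
            rw [commutatorElement_def]; group
        _ = (a * b)⁻¹ * (⁅a, b⁆ * (a * b)) := by rw [hta, htb, commutatorElement_def]; group
        _ = ⁅a, b⁆ := by rw [← h3.eq]; group
    have hc3 : ⁅a, b⁆ = 1 := by
      refine orderOf_eq_one_iff.mp (Nat.eq_one_of_dvd_coprimes
        ((Nat.coprime_primes Nat.prime_two hp.out).mpr hp2.symm) (orderOf_dvd_of_pow_eq_one ?_)
        (orderOf_dvd_of_pow_eq_one (hP.exp _ (zpowers_le.mpr hz hc))))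
      rw [sq]; nth_rewrite 1 [← hc2, hc1]; exact inv_mul_cancel _
    have h4 := hA _ (inv_mem s.2) a haV haz (mem_inf.mpr ⟨hb, mem_centralizer_singleton_iff.mpr
      (commutatorElement_eq_one_iff_mul_comm.mp hc3).symm⟩)
    exact mem_subgroupOf.mpr ((Subgroup.inv_mem_iff _).mp h4)
  have hodd : ¬ 2 ∣ M.index := fun h => T.not_dvd_index (h.trans (index_dvd_of_le hTM))
  -- the index of `M` is `p + 1`
  have hzV : ∀ {x : G}, x ∈ (P : Subgroup G) → zpowers z ≤ (P : Subgroup G) ⊓ centralizer {x} :=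
    fun hx => zpowers_le.mpr (mem_inf.mpr ⟨hz, mem_centralizer_singleton_iff.mpr (hzc _ hx).symm⟩)
  have hzo : Nat.card (zpowers z) = p := by
    rw [Nat.card_zpowers, orderOf_eq_prime (hP.exp z hz) hz1]
  have hcard : ∀ W : Subgroup G, zpowers z ≤ W →
      Nat.card ((W : Set G) \ (zpowers z : Set G) : Set G) = Nat.card W - p := by
    intro W hW
    rw [Nat.card_coe_set_eq, Set.ncard_sdiff hW, ← hzo]
    rfl
  let F : (N ⧸ M) × ((V : Set G) \ (zpowers z : Set G) : Set G) →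
      (((P : Subgroup G) : Set G) \ (zpowers z : Set G) : Set G) := fun x =>
    ⟨(x.1.out : G) * x.2 * (x.1.out : G)⁻¹, hNP x.1.out.2 x.2.2.1.1,
      fun h => x.2.2.2 (hNz x.1.out.2 x.2.2.1.1 h)⟩
  have hinv : ∀ x ∈ (P : Subgroup G), ∀ u ∈ (P : Subgroup G),
      (fun y => u * y * u⁻¹) '' (((P : Subgroup G) ⊓ centralizer {x} : Subgroup G) : Set G) =
        ((P : Subgroup G) ⊓ centralizer {x} : Subgroup G) := by
    intro x hx
    have h1 : ∀ u ∈ (P : Subgroup G), ∀ y ∈ (P : Subgroup G) ⊓ centralizer {x},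
        u * y * u⁻¹ ∈ (P : Subgroup G) ⊓ centralizer {x} := by
      intro u hu y hy
      have := mul_mem (hzV hx (hP.comm_mem hz hz1 hzc hu hy.1)) hy
      rwa [commutatorElement_def, inv_mul_cancel_right] at this
    intro u hu
    refine Set.Subset.antisymm ?_ fun y hy => ⟨u⁻¹ * y * u⁻¹⁻¹, h1 _ (inv_mem hu) y hy, by group⟩
    rintro _ ⟨y, hy, rfl⟩
    exact h1 u hu y hy
  have hF : Function.Bijective F := by
    constructor
    · rintro ⟨q, v⟩ ⟨q', v'⟩ h
      have h1 : (q.out : G) * v * (q.out : G)⁻¹ = (q'.out : G) * v' * (q'.out : G)⁻¹ :=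
        congrArg Subtype.val h
      have h2 : ((q.out : G)⁻¹ * q'.out) * v' * ((q.out : G)⁻¹ * q'.out)⁻¹ = v := by
        calc _ = (q.out : G)⁻¹ * ((q'.out : G) * v' * (q'.out : G)⁻¹) * q.out := by group
          _ = v := by rw [← h1]; group
      have h3 : q = q' := by
        rw [← q.out_eq, ← q'.out_eq]
        exact QuotientGroup.eq.mpr (hA _ (mul_mem (inv_mem q.out.2) q'.out.2) v' v'.2.1 v'.2.2
          (h2 ▸ v.2.1))
      subst h3
      exact Prod.ext rfl (Subtype.ext ((MulAut.conj (q.out : G)).injective h1))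
    · rintro ⟨x, hx, hxz⟩
      obtain ⟨g, hg⟩ := hD p hp.out V ((P : Subgroup G) ⊓ centralizer {x})
        (P.isPGroup'.to_le inf_le_left) (P.isPGroup'.to_le inf_le_left)
        (by rw [hP.card_inf_centralizer ha (hnc ha haz), hP.card_inf_centralizer hx (hnc hx hxz)])
      obtain ⟨n, hn, hn'⟩ := S0076.result P V ((P : Subgroup G) ⊓ centralizer {x} : Subgroup G)
        (fun _ h => h.1) (fun _ h => h.1) (hinv a ha) (hinv x hx) g (by rw [hg]; rfl)
      obtain ⟨v, hv, hvx⟩ : x ∈ (fun y => n * y * n⁻¹) '' (V : Set G) := by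
        rw [hn']; exact mem_inf.mpr ⟨hx, mem_centralizer_singleton_iff.mpr rfl⟩
      obtain ⟨m, hm⟩ := QuotientGroup.mk_out_eq_mul M (⟨n, hn⟩ : N)
      have h1 : ((m : N) : G)⁻¹ * v * ((m : N) : G)⁻¹⁻¹ ∈ V :=
        (mem_normalizer_iff.mp (inv_mem (mem_subgroupOf.mp m.2)) v).mp hv
      have h2 : ((((⟨n, hn⟩ : N) : N ⧸ M).out : N) : G) *
          (((m : N) : G)⁻¹ * v * ((m : N) : G)⁻¹⁻¹) * ((((⟨n, hn⟩ : N) : N ⧸ M).out : N) : G)⁻¹ = x := by
        rw [hm, ← hvx, Subgroup.coe_mul]; group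
      refine ⟨((⟨n, hn⟩ : N), ⟨_, h1, fun h => hxz ?_⟩), Subtype.ext h2⟩
      have h3 := hNz (inv_mem (((⟨n, hn⟩ : N) : N ⧸ M).out).2) hx
      apply h3
      rw [← h2]
      simpa [mul_assoc] using h
  have h1 := Nat.card_congr (Equiv.ofBijective F hF)
  rw [Nat.card_prod, hcard V (hzV ha), hcard P (zpowers_le.mpr hz), hP.card,
    hP.card_inf_centralizer ha (hnc ha haz), ← index_eq_card] at h1
  have h2 : p ^ 3 - p = (p + 1) * (p ^ 2 - p) := by
    have h3 : p ≤ p ^ 2 := by nlinarith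
    have h4 : p ≤ p ^ 3 := Nat.le_self_pow (by norm_num) p
    zify [h3, h4]
    ring
  have h3 : 0 < p ^ 2 - p := by
    have := hp.out.one_lt
    rw [Nat.sub_pos_iff_lt]; nlinarith
  rw [h2] at h1
  rw [Nat.eq_of_mul_eq_mul_right h3 h1] at hodd
  exact hodd (hp.out.odd_of_ne_two hp2).add_one.two_dvd

/-- Let G be a finite group in which, for every prime p, any two p-subgroups of the same order are conjugate. Then every Sylow subgroup of G is cyclic, elementary abelian, or a quaternion group of order 8. -/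
theorem result {G : Type*} [Group G] [Finite G]
    (hD : ∀ p : ℕ, p.Prime → ∀ H K : Subgroup G, IsPGroup p H → IsPGroup p K → Nat.card H = Nat.card K →
      ∃ g : G, K = H.map (MulAut.conj g).toMonoidHom) {p : ℕ} [Fact p.Prime] (P : Sylow p G) :
    IsCyclic P ∨ Cfsg.IsElementaryAbelian p (P : Subgroup G) ∨ Nonempty ((P : Subgroup G) ≃* QuaternionGroup 2) := by
  rcases S4023.result (hD p Fact.out) P with h | h | h | ⟨h1, h2, h3, h4⟩
  · exact Or.inl h
  · exact Or.inr (Or.inl h)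
  · exact Or.inr (Or.inr h.2)
  · exact (not_cube hD h1 P ⟨h3, h2, fun a ha => congrArg Subtype.val
      (show (⟨a, ha⟩ : (P : Subgroup G)) ^ p = 1 from
        Monoid.exponent_dvd_iff_forall_pow_eq_one.mp h4.dvd _)⟩).elim

end Cfsg.Agent.S4020
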