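import Cfsg.Statements.S4025
import Cfsg.Agent.H66.DC3
import Cfsg.Agent.H45.FiGrp2
import Cfsg.Agent.H3.Primitive
import Cfsg.Agent.S0003

set_option autoImplicit false
open Cfsg

namespace Cfsg.Agent.S4025

set_option linter.unusedSectionVars false

section

open Cfsg.Agent.H63 Cfsg.Agent.H67 Cfsg.Agent.H66.DC Subgroup

variable {X : Type*} [Group X] [Finite X] {p n : ℕ} [hp : Fact p.Prime]

structure Hyp (p n : ℕ) {X : Type*} [Group X] (S : Subgroup X) : Prop where
  syl : IsSyl p S ⊤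
  el : IsElementaryAbelian p S
  card : Nat.card S = p ^ n
  cent : C[S] ≤ S
  conj : ∀ E E' : Subgroup X, E ≤ S → E' ≤ S → Nat.card E = Nat.card E' → ∃ g : X, E' = cj g E

/-- Independent pairs. -/
def T (K : Subgroup X) : Type _ := {z : X × X // z.1 ∈ K ∧ z.1 ≠ 1 ∧ z.2 ∈ K ∧ z.2 ∉ zpowers z.1}

instance (K : Subgroup X) : Finite (T K) := by unfold T; infer_instance

theorem card_T {K : Subgroup X} (hK : ∀ x ∈ K, x ^ p = 1) :
    Nat.card (T K) = (Nat.card K - 1) * (Nat.card K - p) := by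
  classical
  have e : T K ≃ Σ x : {x : X // x ∈ K ∧ x ≠ 1}, {y : X // y ∈ K ∧ y ∉ zpowers x.1} :=
    { toFun := fun z => ⟨⟨z.1.1, z.2.1, z.2.2.1⟩, ⟨z.1.2, z.2.2.2⟩⟩
      invFun := fun z => ⟨(z.1.1, z.2.1), z.1.2.1, z.1.2.2, z.2.2⟩
      left_inv := fun _ => rfl
      right_inv := fun _ => rfl }
  have := Fintype.ofFinite {x : X // x ∈ K ∧ x ≠ 1}
  have hd : ∀ L : Subgroup X, L ≤ K → Nat.card {y : X // y ∈ K ∧ y ∉ L} = Nat.card K - Nat.card L :=
    fun L hL => by
      have h1 := Set.ncard_diff (s := (L : Set X)) (t := (K : Set X)) hL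
      rw [← Nat.card_coe_set_eq, ← Nat.card_coe_set_eq, ← Nat.card_coe_set_eq] at h1
      exact h1
  rw [Nat.card_congr e, Nat.card_sigma, Finset.sum_congr rfl (g := fun _ => Nat.card K - p)]
  · rw [Finset.sum_const, Finset.card_univ, smul_eq_mul, ← Nat.card_eq_fintype_card]
    congr 1
    have := hd ⊥ bot_le
    simpa using this
  · intro x _
    rw [hd _ (zpowers_le.2 x.2.1), Nat.card_zpowers, orderOf_eq_prime (hK _ x.2.1) x.2.2]

theorem eq_of_pair {E E' : Subgroup X} (hE : Nat.card E = p ^ 2) (hE' : Nat.card E' = p ^ 2)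
    {x y : X} (hx1 : x ≠ 1) (hy1 : y ∉ zpowers x) (hxp : x ^ p = 1)
    (hx : x ∈ E) (hy : y ∈ E) (hx' : x ∈ E') (hy' : y ∈ E') : E = E' := by
  have h1 : Nat.card ↥(E ⊓ E') ∣ p ^ 2 := hE ▸ card_dvd_of_le inf_le_left
  obtain ⟨k, hk, e⟩ := (Nat.dvd_prime_pow hp.out).1 h1
  have h2 : zpowers x < E ⊓ E' := lt_of_le_of_ne (zpowers_le.2 ⟨hx, hx'⟩) fun h => hy1 (h ▸ ⟨hy, hy'⟩)
  have h3 : Nat.card (zpowers x) < Nat.card ↥(E ⊓ E') := by
    by_contra h
    exact h2.ne (eq_of_le_of_card_ge h2.le (not_lt.1 h))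
  rw [Nat.card_zpowers, orderOf_eq_prime hxp hx1, e] at h3
  have h4 : k = 2 := by
    by_contra h
    have : p ^ k ≤ p ^ 1 := Nat.pow_le_pow_right hp.out.pos (by omega)
    rw [pow_one] at this
    omega
  subst h4
  exact (eq_of_le_of_card_ge inf_le_left (by rw [hE, e])).symm.trans
    (eq_of_le_of_card_ge inf_le_right (by rw [hE', e]))

theorem exists_pair {P : Subgroup X} (he : IsElementaryAbelian p P) (h2 : p ^ 2 ∣ Nat.card P) :
    ∀ x ∈ P, ∀ y ∈ P, ∃ E : Subgroup X, E ≤ P ∧ Nat.card E = p ^ 2 ∧ x ∈ E ∧ y ∈ E := by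
  have hab : P ≤ C[P] := le_centralizer_iff_isMulCommutative.2 he.1
  have hpg : IsPGroup p P := fun x => ⟨1, by rw [pow_one]; exact Subtype.ext (he.2 _ x.2)⟩
  intro x hx y hy
  have hxy : zpowers x ⊔ zpowers y ≤ P := sup_le (zpowers_le.2 hx) (zpowers_le.2 hy)
  have h3 : Nat.card ↥(zpowers x ⊔ zpowers y) ∣ p ^ 2 := by
    refine (card_sup_dvd (Or.inl (le_normalizer_of_le_centralizer
      (((zpowers_le.2 hx).trans hab).trans (centralizer_anti (zpowers_le.2 hy)))))).trans ?_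
    rw [Nat.card_zpowers, Nat.card_zpowers, pow_two]
    exact mul_dvd_mul (orderOf_dvd_of_pow_eq_one (he.2 x hx)) (orderOf_dvd_of_pow_eq_one (he.2 y hy))
  obtain ⟨k, hk, e⟩ := (Nat.dvd_prime_pow hp.out).1 h3
  obtain ⟨K, h4, h5⟩ := Sylow.exists_subgroup_card_pow_prime_le p h2
    ((zpowers x ⊔ zpowers y).subgroupOf P) (by rw [card_subgroupOf hxy, e]) hk
  have h6 : zpowers x ⊔ zpowers y ≤ K.map P.subtype := by
    rw [← map_subtype_subgroupOf hxy]
    exact map_mono h5
  exact ⟨K.map P.subtype, map_subtype_le K, by rw [card_map_subtype, h4],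
    h6 (mem_sup_left (mem_zpowers x)), h6 (mem_sup_right (mem_zpowers y))⟩

theorem out_eq_of_cj {E : Subgroup X} {c c' : X ⧸ N[E]} (h : cj c.out E = cj c'.out E) : c = c' := by
  rw [← c.out_eq', ← c'.out_eq', QuotientGroup.eq, ← cj_eq_self_iff, cj_mul, ← h, ← cj_mul,
    inv_mul_cancel, cj_one]

theorem Hyp.count {S : Subgroup X} [hn : S.Normal] (h : Hyp p n S) (h2 : 2 ≤ n) {E : Subgroup X}
    (hE : E ≤ S) (hc : Nat.card E = p ^ 2) :
    N[E].index * ((p ^ 2 - 1) * (p ^ 2 - p)) = (p ^ n - 1) * (p ^ n - p) := by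
  rw [← h.card, ← hc, ← card_T (p := p) h.el.2, ← card_T (p := p) fun x hx => h.el.2 x (hE hx),
    index_eq_card, ← Nat.card_prod]
  have hz : ∀ g a b : X, g * b * g⁻¹ ∈ zpowers (g * a * g⁻¹) → b ∈ zpowers a := by
    rintro g a b ⟨k, hk⟩
    refine ⟨k, ?_⟩
    simp only [conj_zpow] at hk
    simpa using hk
  let f : (X ⧸ N[E]) × T E → T S := fun z =>
    ⟨(z.1.out * z.2.1.1 * z.1.out⁻¹, z.1.out * z.2.1.2 * z.1.out⁻¹),
      hn.conj_mem _ (hE z.2.2.1) _, fun e => z.2.2.2.1 (by simpa using e),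
      hn.conj_mem _ (hE z.2.2.2.2.1) _, fun e => z.2.2.2.2.2 (hz _ _ _ e)⟩
  refine Nat.card_eq_of_bijective f ⟨?_, ?_⟩
  · rintro ⟨c, z⟩ ⟨c', z'⟩ e
    have e1 : c.out * z.1.1 * c.out⁻¹ = c'.out * z'.1.1 * c'.out⁻¹ :=
      congrArg (fun w : T S => w.1.1) e
    have e2 : c.out * z.1.2 * c.out⁻¹ = c'.out * z'.1.2 * c'.out⁻¹ :=
      congrArg (fun w : T S => w.1.2) e
    have h3 := (f (c, z)).2
    obtain rfl : c = c' := out_eq_of_cj (eq_of_pair (p := p) (by rw [card_cj, hc])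
      (by rw [card_cj, hc]) h3.2.1 h3.2.2.2 (h.el.2 _ h3.1) (conj_mem_cj z.2.1)
      (conj_mem_cj z.2.2.2.1) (by have := conj_mem_cj (g := c'.out) z'.2.1; rwa [← e1] at this)
      (by have := conj_mem_cj (g := c'.out) z'.2.2.2.1; rwa [← e2] at this))
    refine Prod.ext rfl (Subtype.ext (Prod.ext ?_ ?_))
    · simpa using e1
    · simpa using e2
  · rintro ⟨⟨x, y⟩, hx, hx1, hy, hy1⟩
    obtain ⟨E', hE', hc', hx', hy'⟩ := exists_pair h.el (h.card ▸ pow_dvd_pow p h2) x hx y hy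
    obtain ⟨g, rfl⟩ := h.conj E E' hE hE' (hc.trans hc'.symm)
    obtain ⟨u, hu⟩ := QuotientGroup.mk_out_eq_mul N[E] g
    have e' : cj (QuotientGroup.mk g : X ⧸ N[E]).out E = cj g E := by
      rw [hu, cj_mul, cj_eq_self_iff.2 u.2]
    rw [← e'] at hx' hy'
    obtain ⟨a, ha, ea⟩ := mem_cj'.1 hx'
    obtain ⟨b, hb, eb⟩ := mem_cj'.1 hy'
    refine ⟨(QuotientGroup.mk g, ⟨(a, b), ha, ?_, hb, ?_⟩), Subtype.ext (Prod.ext ea eb)⟩
    · rintro rfl
      exact hx1 (by simpa using ea.symm)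
    · rintro ⟨k, hk⟩
      refine hy1 ⟨k, ?_⟩
      simp only at hk ⊢
      rw [← ea, ← eb, ← hk, conj_zpow]

theorem Hyp.not81 {S : Subgroup X} [hn : S.Normal] (h : Hyp 3 4 S) [Group.IsSolvable X] : False := by
  have : Fact (Nat.Prime 3) := ⟨Nat.prime_three⟩
  have : Fact (Nat.Prime 5) := ⟨Nat.prime_five⟩
  have : Fact (Nat.Prime 13) := ⟨by norm_num⟩
  have hab : S ≤ C[S] := le_centralizer_iff_isMulCommutative.2 h.el.1
  have hN : ∀ Y : Subgroup X, Y ≤ N[S] := fun Y => le_top.trans (normalizer_eq_top_iff.2 hn).ge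
  obtain ⟨E, hE, hc, -⟩ := exists_pair h.el (h.card ▸ pow_dvd_pow 3 (by norm_num : 2 ≤ 4)) 1
    (one_mem _) 1 (one_mem _)
  have h1 := h.count (by norm_num) hE hc
  have h2 : N[E].index = 130 := by omega
  have h3 : 130 ∣ Nat.card X := h2 ▸ index_dvd_card _
  have h4 : Nat.card (MulAut S) = 24261120 := by
    rw [H45.card_mulAut_elem (p := 3) (n := 4) Nat.prime_three
      (fun a b => Subtype.ext (comm_of_isMulCommutative h.el.1 a.2 b.2))
      (fun a => Subtype.ext (h.el.2 _ a.2)) h.card]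
    decide
  have h5 : S.index ∣ 24261120 := by
    rw [← h4]
    have h6 : (MulAut.conjNormal : X →* MulAut S).ker = S := by
      rw [H61.ker_conjNormal]
      exact le_antisymm h.cent hab
    have h7 := index_ker (MulAut.conjNormal : X →* MulAut S)
    rw [h6] at h7
    rw [h7]
    exact card_subgroup_dvd_card _
  have h6 : Nat.card X ∣ 65 * (81 * 373248) := by
    rw [← S.card_mul_index, h.card]
    exact mul_dvd_mul_left (3 ^ 4) h5
  obtain ⟨m, hm⟩ : 65 ∣ Nat.card X := (by norm_num : 65 ∣ 130).trans h3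
  rw [hm] at h6
  have h7 : m ∣ 81 * 373248 := Nat.dvd_of_mul_dvd_mul_left (by norm_num) h6
  obtain ⟨D, hD⟩ := S0003.result 65 m hm (Nat.Coprime.coprime_dvd_right h7 (by norm_num))
  obtain ⟨R, hR⟩ := Sylow.exists_subgroup_card_pow_prime (G := D) 13 (n := 1) (by rw [hD]; norm_num)
  obtain ⟨Q, hQ⟩ := Sylow.exists_subgroup_card_pow_prime (G := D) 5 (n := 1) (by rw [hD]; norm_num)
  have hRi : R.index = 5 := by
    have := R.card_mul_index
    rw [hR, hD] at this
    omega
  have hRn : R.Normal := normal_of_index_eq_minFac_card (by rw [hRi, hD]; norm_num)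
  have hQR : Q.map D.subtype ≤ N[R.map D.subtype] := by
    refine (map_subtype_le Q).trans ?_
    have := le_normalizer_map (H := R) D.subtype
    rwa [normalizer_eq_top_iff.2 hRn, ← MonoidHom.range_eq_map, range_subtype] at this
  set R' := R.map D.subtype
  set Q' := Q.map D.subtype
  have hR' : Nat.card R' = 13 := by rw [card_map_subtype, hR, pow_one]
  have hQ' : Nat.card Q' = 5 := by rw [card_map_subtype, hQ, pow_one]
  have pR : IsPGroup 13 R' := IsPGroup.of_card (n := 1) (by rw [hR', pow_one])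
  have pQ : IsPGroup 5 Q' := IsPGroup.of_card (n := 1) (by rw [hQ', pow_one])
  have hne : ∀ Y : Subgroup X, Nat.card ↥(S ⊓ C[Y]) = 81 → Nat.card Y ∣ 81 := fun Y hY => by
    have h8 : S ⊓ C[Y] = S := eq_of_le_of_card_ge inf_le_left (by rw [hY, h.card]; norm_num)
    have h9 : Y ≤ S := (le_centralizer_iff.1 (inf_eq_left.1 h8)).trans h.cent
    exact (card_dvd_of_le h9).trans (by rw [h.card]; norm_num)
  have hdiv : ∀ Y : Subgroup X, Y ≤ S → Nat.card Y = 1 ∨ Nat.card Y = 3 ∨ Nat.card Y = 9 ∨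
      Nat.card Y = 27 ∨ Nat.card Y = 81 := fun Y hY => by
    have h8 := card_dvd_of_le hY
    rw [h.card] at h8
    obtain ⟨k, hk, e⟩ := (Nat.dvd_prime_pow Nat.prime_three).1 h8
    interval_cases k <;> simp [e]
  have m1 := H3.card_modEq_card_inf_centralizer pR (hN R')
  have m2 := H3.card_modEq_card_inf_centralizer pQ (hN Q')
  have m3 := H3.card_modEq_card_inf_centralizer (L := S ⊓ C[R']) pQ
    (le_normalizer_inf (hN Q') (le_normalizer_centralizer hQR))
  rw [h.card] at m1 m2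
  have w1 : Nat.card ↥(S ⊓ C[R']) = 3 := by
    have := hne R'
    rw [hR'] at this
    have h9 := hdiv (S ⊓ C[R']) inf_le_left
    unfold Nat.ModEq at m1
    omega
  have w2 : Nat.card ↥((S ⊓ C[R']) ⊓ C[Q']) ∣ 3 := w1 ▸ card_dvd_of_le inf_le_left
  have w3 : Nat.card ↥((S ⊓ C[R']) ⊓ C[Q']) = 3 := by
    rw [w1] at m3
    unfold Nat.ModEq at m3
    rcases Nat.prime_three.eq_one_or_self_of_dvd _ w2 with h9 | h9 <;> omega
  have w4 : 3 ∣ Nat.card ↥(S ⊓ C[Q']) := w3 ▸ card_dvd_of_le (inf_le_inf_right _ inf_le_left)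
  have := hne Q'
  rw [hQ'] at this
  have h9 := hdiv (S ⊓ C[Q']) inf_le_left
  unfold Nat.ModEq at m2
  omega


theorem Hyp.semilin {S : Subgroup X} [hn : S.Normal] (h : Hyp p n S) (h3 : 3 ≤ n)
    [Group.IsSolvable X] :
    ∃ e : Additive S ≃+ GaloisField p n, ∀ g : X, ∃ (c : (GaloisField p n)ˣ)
      (σ : RingAut (GaloisField p n)),
      ∀ v : S, e (Additive.ofMul (MulAut.conjNormal g v)) = c * σ (e (Additive.ofMul v)) := by
  let _ : CommGroup S := { (inferInstance : Group S) with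
    mul_comm := fun x y => Subtype.ext (comm_of_isMulCommutative h.el.1 x.2 y.2) }
  let cn : X →* MulAut S := MulAut.conjNormal
  let ψ : X × center (MulAut S) →* MulAut S :=
    cn.noncommCoprod (center (MulAut S)).subtype fun g z => (mem_center_iff.1 z.2 _)
  let A := ψ.range
  have : Group.IsSolvable (center (MulAut S)) :=
    Group.isSolvable_of_comm fun a b => Subtype.ext (mem_center_iff.1 b.2 _)
  have hA : Group.IsSolvable A := Group.isSolvable_of_surjective ψ.rangeRestrict_surjective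
  let _ : DistribMulAction A (Additive S) :=
    { smul := fun g v => Additive.ofMul (g.1 v.toMul)
      one_smul := fun v => rfl
      mul_smul := fun a b v => rfl
      smul_zero := fun a => by
        change Additive.ofMul (a.1 1) = 0
        simp
      smul_add := fun a v w => by
        change Additive.ofMul (a.1 (v.toMul * w.toMul)) =
          Additive.ofMul (a.1 v.toMul) + Additive.ofMul (a.1 w.toMul)
        simp }
  have hord : ∀ u : S, u ≠ 1 → orderOf u = p := fun u hu =>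
    orderOf_eq_prime (Subtype.ext (h.el.2 _ u.2)) hu
  have hTL : H61.IsTL A (Additive S) := ⟨fun g hg => Subtype.ext (MulEquiv.ext fun v =>
      hg (Additive.ofMul v)), fun v w hv hw => by
    have h1 := hord v.toMul hv
    have h2 := hord w.toMul hw
    obtain ⟨g, hg⟩ := h.conj (zpowers v.toMul.1) (zpowers w.toMul.1) (zpowers_le.2 v.toMul.2)
      (zpowers_le.2 w.toMul.2) (by rw [Nat.card_zpowers, Nat.card_zpowers, orderOf_coe, orderOf_coe, h1, h2])
    have h4 : w.toMul.1 ∈ cj g (zpowers v.toMul.1) := hg ▸ mem_zpowers _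
    obtain ⟨a, ha, ea⟩ := mem_cj'.1 h4
    obtain ⟨k, rfl⟩ := mem_powers_iff_mem_zpowers.2 ha
    have h5 : w.toMul = cn g v.toMul ^ k := Subtype.ext (by
      rw [← ea]
      simp only [conj_pow]
      rw [← conj_pow]
      rfl)
    have h6 : (Nat.card S).Coprime k := by
      rw [h.card]
      refine Nat.Coprime.pow_left _ ((Nat.Prime.coprime_iff_not_dvd hp.out).2 ?_)
      rintro ⟨j, rfl⟩
      apply hw
      change w.toMul = 1
      rw [h5, pow_mul, show cn g v.toMul ^ p = 1 from Subtype.ext (h.el.2 _ (cn g v.toMul).2), one_pow]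
    let z : MulAut S := { powCoprime h6 with map_mul' := fun a b => mul_pow a b k }
    have hz : z ∈ center (MulAut S) := mem_center_iff.2 fun f => MulEquiv.ext fun x => by
      change f (x ^ k) = f x ^ k
      rw [map_pow]
    refine ⟨⟨ψ (g, ⟨z, hz⟩), _, rfl⟩, ?_⟩
    change Additive.ofMul (cn g (v.toMul ^ k)) = w
    rw [map_pow, ← h5]
    rfl⟩
  have hcA : Nat.card (Additive S) = p ^ n := h.card
  have : Nontrivial S := Finite.one_lt_card_iff_nontrivial.1
    (h.card ▸ Nat.one_lt_pow (by omega) hp.out.one_lt)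
  obtain ⟨F, _, _, e₀, he₀⟩ := (hTL.huppert hA).resolve_right (by
    intro h9
    simp only [Set.mem_insert_iff, Set.mem_singleton_iff] at h9
    rw [hcA] at h9
    have key : ∀ q k : ℕ, q.Prime → p ^ n = q ^ k → p = q ∧ n = k := fun q k hq e => by
      have h1 : p = q := (Nat.prime_dvd_prime_iff_eq hp.out hq).1
        (hp.out.dvd_of_dvd_pow (e ▸ dvd_pow_self p (by omega)))
      subst h1
      exact ⟨rfl, Nat.pow_right_injective hq.two_le e⟩
    rcases h9 with h9 | h9 | h9 | h9 | h9 | h9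
    · have := key 3 2 (by norm_num) h9; omega
    · have := key 5 2 (by norm_num) h9; omega
    · have := key 7 2 (by norm_num) h9; omega
    · have := key 11 2 (by norm_num) h9; omega
    · have := key 23 2 (by norm_num) h9; omega
    · obtain ⟨rfl, rfl⟩ := key 3 4 (by norm_num) h9
      exact h.not81)
  obtain ⟨ι⟩ := nonempty_galois (F := F) (p := p) (n := n) (by omega)
    (by rw [← Nat.card_eq_fintype_card, ← Nat.card_congr e₀.toEquiv, hcA])
  refine ⟨e₀.trans ι.toAddEquiv, fun g => ?_⟩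
  let a : A := ⟨ψ (g, 1), _, rfl⟩
  obtain ⟨c, σ, hσ⟩ := he₀ a
  have h1 : c ≠ 0 := by
    rintro rfl
    obtain ⟨v, hv⟩ := exists_ne (0 : Additive S)
    have := hσ v
    rw [zero_mul, map_eq_zero_iff _ e₀.injective] at this
    exact hv ((smul_eq_zero_iff_eq a).1 this)
  refine ⟨Units.mk0 (ι c) (by simpa using h1), (ι.symm.trans σ).trans ι, fun v => ?_⟩
  change ι (e₀ (a • Additive.ofMul v)) = ι c * ι (σ (ι.symm (ι (e₀ (Additive.ofMul v)))))
  rw [hσ, map_mul, ι.symm_apply_apply]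

theorem Hyp.embed {S : Subgroup X} [hn : S.Normal] (h : Hyp p n S) {F : Type*} [Field F]
    (e : Additive S ≃+ F) (he : ∀ g : X, ∃ (c : Fˣ) (σ : RingAut F),
      ∀ v : S, e (Additive.ofMul (MulAut.conjNormal g v)) = c * σ (e (Additive.ofMul v))) :
    ∃ φ : X →* Equiv.Perm F, Function.Injective φ ∧ ∀ g, φ g ∈ semiaffineGroup F := by
  obtain ⟨H, hH⟩ := exists_isSdp_of_normal_hall (hall_isHallOf h.syl)
    ⟨le_top, (normalizer_eq_top_iff.2 hn).ge⟩
  let cn : X →* MulAut S := MulAut.conjNormal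
  have hf : ∀ g : H, (∀ v : S, cn g v = v) → g = 1 := fun g hg =>
    Subtype.ext (hH.eq_one (h.cent fun x hx => by
      have : (g : X) * x * (g : X)⁻¹ = x := congrArg Subtype.val (hg ⟨x, hx⟩)
      exact (mul_inv_eq_iff_eq_mul.1 this).symm) g.2)
  let f₀ : Additive S ≃ X ⧸ H := Equiv.ofBijective (fun v => ((v.toMul : X) : X ⧸ H))
    ⟨fun u v huv => (Subtype.ext (inv_mul_eq_one.1 (hH.eq_one
      (mul_mem (inv_mem u.toMul.2) v.toMul.2) (QuotientGroup.eq.1 huv))) : u.toMul = v.toMul),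
    fun x => by
      obtain ⟨g, rfl⟩ := QuotientGroup.mk_surjective x
      obtain ⟨k, hk, x, hx, rfl⟩ := hH.exists_mul (mem_top g)
      exact ⟨Additive.ofMul ⟨k, hk⟩, QuotientGroup.eq.2 (by simpa using hx)⟩⟩
  have key : ∀ (k : S) (x : H) (v : S),
      (k.1 * x.1) • f₀ (Additive.ofMul v) = f₀ (Additive.ofMul k + Additive.ofMul (cn x v)) :=
    fun k x v => by
    refine QuotientGroup.eq.2 ?_
    change (k.1 * x.1 * v.1)⁻¹ * (k.1 * (x.1 * v.1 * x.1⁻¹)) ∈ H
    simp [mul_assoc]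
  let f := f₀.symm.trans e.toEquiv
  let φ : X →* Equiv.Perm F :=
    f.permCongrHom.toMonoidHom.comp (MulAction.toPermHom X (X ⧸ H))
  have hφ : ∀ (k : S) (x : H) (v : S),
      φ (k.1 * x.1) (e (Additive.ofMul v)) = e (Additive.ofMul (cn x v)) + e (Additive.ofMul k) :=
    fun k x v => by
    change e (f₀.symm ((k.1 * x.1) • f₀ (e.symm (e (Additive.ofMul v))))) = _
    rw [e.symm_apply_apply, key, f₀.symm_apply_apply, map_add, add_comm]
  refine ⟨φ, (injective_iff_map_eq_one φ).2 fun g hg => ?_, fun g => ?_⟩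
  · obtain ⟨k, hk, x, hx, rfl⟩ := hH.exists_mul (mem_top g)
    have h1 := hφ ⟨k, hk⟩ ⟨x, hx⟩
    rw [hg] at h1
    have h3 : e (Additive.ofMul ⟨k, hk⟩) = 0 := by simpa using (h1 1).symm
    have h4 : k = 1 := congrArg Subtype.val
      ((map_eq_zero_iff _ e.injective).1 h3 : (⟨k, hk⟩ : S) = 1)
    have h5 := hf ⟨x, hx⟩ fun v => Additive.ofMul.injective (e.injective
      (by simpa [h3] using (h1 v).symm))
    rw [h4, show x = 1 from congrArg Subtype.val h5, one_mul]
  · obtain ⟨k, hk, x, hx, rfl⟩ := hH.exists_mul (mem_top g)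
    obtain ⟨c, σ, hσ⟩ := he x
    refine ⟨c, e (Additive.ofMul ⟨k, hk⟩), σ, fun y => ?_⟩
    obtain ⟨v, rfl⟩ := e.surjective y
    exact (hφ ⟨k, hk⟩ ⟨x, hx⟩ v.toMul).trans (congrArg (· + _) (hσ v.toMul))

theorem Hyp.half {S : Subgroup X} [hn : S.Normal] {F : Type*} [Field F] [Finite F]
    (h2 : (2 : F) ≠ 0) (e : Additive S ≃+ F) (he : ∀ g : X, ∃ (c : Fˣ) (σ : RingAut F),
      ∀ v : S, e (Additive.ofMul (MulAut.conjNormal g v)) = c * σ (e (Additive.ofMul v)))
    {E : Subgroup X} (hE : E ≤ S) :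
    N[E].index * 2 ≤ (Nat.card F - 1) * Nat.card (RingAut F) := by
  choose c σ hσ using he
  have : Finite (RingAut F) := Finite.of_injective (fun f : RingAut F => (f : F → F))
    DFunLike.coe_injective
  rw [← Nat.card_units, ← Nat.card_prod, index_eq_card, show 2 = Nat.card Bool by simp,
    ← Nat.card_prod]
  have key : ∀ g g' : X, σ g = σ g' → c g = c g' ∨ c g = - c g' → cj g E ≤ cj g' E := by
    intro g g' h1 h3 x hx
    obtain ⟨a, ha, rfl⟩ := mem_cj'.1 hx
    rcases h3 with h3 | h3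
    · have h4 := hσ g ⟨a, hE ha⟩
      rw [h1, h3, ← hσ] at h4
      have h5 : g * a * g⁻¹ = g' * a * g'⁻¹ :=
        congrArg Subtype.val (Additive.ofMul.injective (e.injective h4))
      rw [h5]
      exact conj_mem_cj ha
    · have h4 := hσ g ⟨a, hE ha⟩
      rw [h1, h3, Units.val_neg, neg_mul, ← hσ, ← map_neg] at h4
      have h5 : g * a * g⁻¹ = (g' * a * g'⁻¹)⁻¹ :=
        congrArg Subtype.val (Additive.ofMul.injective (e.injective h4))
      rw [h5]
      exact inv_mem (conj_mem_cj ha)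
  refine Nat.card_le_card_of_injective
    (fun z : (X ⧸ N[E]) × Bool => (if z.2 then c z.1.out else - c z.1.out, σ z.1.out)) ?_
  rintro ⟨q, b⟩ ⟨q', b'⟩ h
  obtain ⟨h1, h3⟩ := Prod.ext_iff.1 h
  simp only at h1 h3
  have h4 : c q.out = c q'.out ∨ c q.out = - c q'.out := by
    cases b <;> cases b' <;> simp_all [neg_eq_iff_eq_neg]
  obtain rfl : q = q' := out_eq_of_cj (eq_of_le_of_card_ge (key _ _ h3 h4)
    (by rw [card_cj, card_cj]))
  have h5 : c q.out ≠ - c q.out := fun h6 => by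
    have h7 : (c q.out : F) = - c q.out := by simpa using congrArg Units.val h6
    exact mul_ne_zero h2 (c q.out).ne_zero (by linear_combination h7)
  cases b <;> cases b'
  · rfl
  · exact absurd (by simpa using h1.symm) h5
  · exact absurd (by simpa using h1) h5
  · rfl


theorem arith4 {p m r : ℕ} (hp : 2 ≤ p) (h : m * ((p ^ 2 - 1) * (p ^ 2 - p)) = (p ^ 4 - 1) * (p ^ 4 - p))
    (h1 : m ∣ r) (h2 : r ∣ (p ^ 4 - 1) * 4) : False := by
  obtain ⟨k, rfl⟩ : ∃ k, p = k + 2 := ⟨p - 2, by omega⟩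
  have e1 : (k + 2) ^ 2 - 1 = (k + 1) * (k + 3) := Nat.sub_eq_of_eq_add (by ring)
  have e2 : (k + 2) ^ 2 - (k + 2) = (k + 1) * (k + 2) := Nat.sub_eq_of_eq_add (by ring)
  have e3 : (k + 2) ^ 4 - 1 = (k + 1) * (k + 3) * (k ^ 2 + 4 * k + 5) :=
    Nat.sub_eq_of_eq_add (by ring)
  have e4 : (k + 2) ^ 4 - (k + 2) = (k + 1) * (k + 2) * (k ^ 2 + 5 * k + 7) :=
    Nat.sub_eq_of_eq_add (by ring)
  rw [e1, e2, e3, e4] at h
  rw [e3] at h2
  have h3 : m = (k ^ 2 + 4 * k + 5) * (k ^ 2 + 5 * k + 7) :=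
    Nat.eq_of_mul_eq_mul_right (show 0 < (k + 1) * (k + 3) * ((k + 1) * (k + 2)) by positivity)
      (by rw [h]; ring)
  have h4 := h1.trans h2
  rw [h3, show (k + 1) * (k + 3) * (k ^ 2 + 4 * k + 5) * 4 =
    (k ^ 2 + 4 * k + 5) * ((k + 1) * (k + 3) * 4) by ring] at h4
  have h5 := Nat.dvd_of_mul_dvd_mul_left (by positivity) h4
  have h6 : k ^ 2 + 5 * k + 7 ∣ (k + 4) * 4 :=
    (Nat.dvd_add_right h5).1 ⟨4, by ring⟩
  have h7 : (k ^ 2 + 5 * k + 7).Coprime 4 := by
    refine Nat.Coprime.pow_right 2 (Nat.coprime_two_right.2 ?_)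
    have := Nat.even_mul_succ_self k
    obtain ⟨j, hj⟩ := this
    exact ⟨j + 2 * k + 3, by nlinarith⟩
  have h8 := Nat.le_of_dvd (by omega) (h7.dvd_of_dvd_mul_right h6)
  nlinarith

theorem arith5 {p n m : ℕ} (hp : 3 ≤ p) (hn : 5 ≤ n)
    (h : m * ((p ^ 2 - 1) * (p ^ 2 - p)) = (p ^ n - 1) * (p ^ n - p))
    (h1 : m * 2 ≤ (p ^ n - 1) * n) : False := by
  obtain ⟨k, rfl⟩ : ∃ k, n = k + 1 + 4 := ⟨n - 5, by omega⟩
  have h2 : ∀ k : ℕ, k + 1 + 4 < 2 * 3 ^ (k + 1) := fun k => by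
    induction k with
    | zero => norm_num
    | succ k ih => rw [pow_succ]; omega
  have h3 : 3 ^ (k + 1) ≤ p ^ (k + 1) := Nat.pow_le_pow_left hp _
  have h4 : k + 1 + 4 < 2 * p ^ (k + 1) := by have := h2 k; omega
  have h5 : 0 < p ^ (k + 1 + 4) - 1 := by
    have := Nat.one_lt_pow (n := k + 1 + 4) (by omega) (show 1 < p by omega)
    omega
  have h6 : (p ^ (k + 1 + 4) - p) * 2 ≤ (k + 1 + 4) * ((p ^ 2 - 1) * (p ^ 2 - p)) := by
    refine Nat.le_of_mul_le_mul_left ?_ h5
    calc _ = m * 2 * ((p ^ 2 - 1) * (p ^ 2 - p)) := by rw [← mul_assoc, ← h]; ring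
      _ ≤ _ := Nat.mul_le_mul_right _ h1
      _ = _ := mul_assoc _ _ _
  have h7 : (p ^ 2 - 1) * (p ^ 2 - p) ≤ p ^ 4 - p := by
    obtain ⟨j, rfl⟩ : ∃ j, p = j + 1 := ⟨p - 1, by omega⟩
    have e1 : (j + 1) ^ 2 - 1 = j * (j + 2) := Nat.sub_eq_of_eq_add (by ring)
    have e2 : (j + 1) ^ 2 - (j + 1) = j * (j + 1) := Nat.sub_eq_of_eq_add (by ring)
    rw [e1, e2]
    refine Nat.le_sub_of_add_le ?_
    nlinarith [Nat.zero_le (j ^ 3), Nat.zero_le (j ^ 2)]
  have h8 : p ^ (k + 1) * (p ^ 4 - p) ≤ p ^ (k + 1 + 4) - p := by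
    rw [Nat.mul_sub, ← pow_add]
    exact Nat.sub_le_sub_left (Nat.le_mul_of_pos_left _ (by positivity)) _
  have h9 : 0 < p ^ 4 - p := by
    have : p ^ 1 < p ^ 4 := Nat.pow_lt_pow_right (by omega) (by omega)
    rw [pow_one] at this
    omega
  have h10 := Nat.mul_lt_mul_of_pos_right h4 h9
  have h11 := Nat.mul_le_mul_left (k + 1 + 4) h7
  nlinarith

theorem arith2 {n m : ℕ} (hn : 6 ≤ n)
    (h : m * ((2 ^ 2 - 1) * (2 ^ 2 - 2)) = (2 ^ n - 1) * (2 ^ n - 2))
    (h1 : m ∣ (2 ^ n - 1) * n) : False := by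
  have h5 : 0 < 2 ^ n - 1 := by
    have := Nat.one_lt_pow (n := n) (by omega) (show 1 < 2 by omega)
    omega
  have h2 := Nat.le_of_dvd (Nat.mul_pos h5 (by omega)) h1
  have h6 : 2 ^ n - 2 ≤ n * 6 := by
    refine Nat.le_of_mul_le_mul_left ?_ h5
    calc _ = m * 6 := h.symm
      _ ≤ _ := Nat.mul_le_mul_right _ h2
      _ = _ := mul_assoc _ _ _
  have h3 : ∀ k : ℕ, (k + 6) * 6 + 2 < 2 ^ (k + 6) := fun k => by
    induction k with
    | zero => norm_num
    | succ k ih => rw [show k + 1 + 6 = k + 6 + 1 by ring, pow_succ]; omega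
  have := h3 (n - 6)
  rw [show n - 6 + 6 = n by omega] at this
  omega

theorem Hyp.main {S : Subgroup X} [hn : S.Normal] (h : Hyp p n S) (h3 : 3 ≤ n)
    [Group.IsSolvable X] :
    (n = 3 ∧ (∃ f : X →* ↥(Cfsg.semiaffineGroup (GaloisField p 3)), Function.Injective f) ∧
      (p = 2 → Nonempty (X ≃* Cfsg.semiaffineGroup (GaloisField 2 3)) ∨
               Nonempty (X ≃* Cfsg.affineGroup (GaloisField 2 3)))) ∨
    (n = 5 ∧ p = 2 ∧ Nonempty (X ≃* Cfsg.semiaffineGroup (GaloisField 2 5))) := by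
  obtain ⟨e, he⟩ := h.semilin h3
  obtain ⟨φ, h1, h2⟩ := h.embed e he
  have hab : S ≤ C[S] := le_centralizer_iff_isMulCommutative.2 h.el.1
  have := Fintype.ofFinite (GaloisField p n)
  have hq : Nat.card (GaloisField p n) = p ^ n := GaloisField.card p n (by omega)
  have hr : Nat.card (RingAut (GaloisField p n)) = n :=
    H73.card_ringAut (Nat.card_eq_fintype_card.symm.trans hq)
  have h4 := card_sa (F := GaloisField p n)
  rw [hq, hr] at h4
  have hi : Function.Injective (φ.codRestrict _ h2) := fun _ _ e => h1 (congrArg Subtype.val e)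
  have h5 := card_dvd_of_injective _ hi
  have hG : Nat.card X = p ^ n * S.index := by rw [← h.card, card_mul_index]
  rw [h4, hG] at h5
  have h7 := Nat.dvd_of_mul_dvd_mul_left (pow_pos hp.out.pos n) h5
  obtain ⟨E, hE, hc, -⟩ := exists_pair h.el (h.card ▸ pow_dvd_pow p (by omega : 2 ≤ n)) 1
    (one_mem _) 1 (one_mem _)
  have h8 := h.count (by omega) hE hc
  have h9 : N[E].index ∣ S.index := index_dvd_of_le
    (le_normalizer_of_le_centralizer (hab.trans (centralizer_anti hE)))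
  have ho := not_dvd_index_of_le h.syl le_rfl
  have hn4 : n ≠ 4 := by
    rintro rfl
    exact arith4 hp.out.two_le h8 h9 h7
  by_cases hp2 : p = 2
  · subst hp2
    have h6 : n < 6 := by
      by_contra h6
      exact arith2 (by omega) h8 (h9.trans h7)
    obtain rfl | rfl : n = 3 ∨ n = 5 := by omega
    · refine Or.inl ⟨rfl, ⟨_, hi⟩, fun _ => ?_⟩
      have h10 : N[E].index = 7 := by omega
      rw [h10] at h9
      have h11 : S.index ∈ Nat.divisors 21 := Nat.mem_divisors.2 ⟨h7, by norm_num⟩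
      rw [show Nat.divisors 21 = {1, 3, 7, 21} by decide] at h11
      simp only [Finset.mem_insert, Finset.mem_singleton] at h11
      obtain h12 | h12 : S.index = 21 ∨ S.index = 7 := by omega
      · exact Or.inl (range_equiv h1 h2 (by rw [h4, hG, h12]; decide))
      · refine Or.inr (range_equiv h1 (fun g => ?_) (card_aff_le.trans ?_))
        · obtain ⟨c, b, σ, hσ⟩ := h2 g
          obtain ⟨a', b', h9, h10⟩ := sa_pow c.ne_zero hσ (Nat.card X)
          rw [← map_pow, pow_card_eq_one', map_one] at h10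
          have h11 := (sa_unique (σ' := 1) (a' := 1) (b' := 0) h9 fun x =>
            (h10 x).symm.trans (by simp)).2.2
          have h12 : σ = 1 := by
            rw [← orderOf_eq_one_iff]
            refine Nat.eq_one_of_dvd_coprimes (show (Nat.card X).Coprime 3 by rw [hG, h12]; decide)
              (orderOf_dvd_of_pow_eq_one h11)
              ((_root_.orderOf_dvd_natCard (σ : RingAut _)).trans hr.dvd)
          exact ⟨c, b, fun x => by rw [hσ, h12]; rfl⟩
        · rw [hq, hG, h12]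
          decide
    · refine Or.inr ⟨rfl, rfl, range_equiv h1 h2 ?_⟩
      have h10 : N[E].index = 155 := by omega
      rw [h10] at h9
      have h11 : S.index = 155 := Nat.dvd_antisymm h7 h9
      rw [h4, hG, h11]
      decide
  · have h6 : n < 5 := by
      by_contra h6
      have h10 := Hyp.half (F := GaloisField p n) (fun h2 => hp2 ((Nat.prime_dvd_prime_iff_eq hp.out
        Nat.prime_two).1 ((CharP.cast_eq_zero_iff (GaloisField p n) p 2).1 h2))) e he hE
      rw [hq, hr] at h10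
      exact arith5 (by have := hp.out.two_le; omega) (by omega) h8 h10
    obtain rfl : n = 3 := by omega
    exact Or.inl ⟨rfl, ⟨_, hi⟩, fun h => absurd h hp2⟩


theorem transfer {G : Type*} [Group G] [Finite G]
    (hC : ∀ H K : Subgroup G, IsPGroup p H → IsPGroup p K → Nat.card H = Nat.card K →
      ∃ g : G, K = cj g H) {P : Subgroup G} (hP : IsSyl p P ⊤)
    (hel : Cfsg.IsElementaryAbelian p P) (hcard : Nat.card P = p ^ n) :
    ∃ S : Subgroup (N[P] ⧸ pPrimeCore p N[P]), S.Normal ∧ Hyp p n S := by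
  have hab : P ≤ C[P] := le_centralizer_iff_isMulCommutative.2 hel.1
  let π := QuotientGroup.mk' (pPrimeCore p N[P])
  have hπ : Function.Surjective π := QuotientGroup.mk'_surjective _
  let P₀ := P.subgroupOf N[P]
  have hP₀ : IsSyl p P₀ ⊤ := hall_top_iff.2 (hall_subgroupOf (hall_of_le hP le_normalizer le_top))
  have hpg := syl_isPGroup hP₀
  have hdis : ∀ E : Subgroup N[P], E ≤ P₀ → Nat.card (E.map π) = Nat.card E := fun E hE => by
    have h1 : pPrimeCore p N[P] ⊓ E = ⊥ := (inf_eq_bot_of_coprime (H3.coprime_card_of_isPGroup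
      (hpg.to_le hE) (H3.pPrimeCore_coprime p N[P]).symm).symm)
    rw [H3.card_map_mk', ← H3.card_inf_mul_relIndex (pPrimeCore p N[P]) E, h1, card_bot, one_mul]
  have hn : (P₀.map π).Normal := Normal.map inferInstance π hπ
  have hS : IsSyl p (P₀.map π) ⊤ := by
    refine syl_mk le_top (hpg.map π) fun h => syl_not_dvd hP₀ (h.trans ?_)
    rw [relIndex_top_right, relIndex_top_right]
    exact index_map_dvd _ hπ
  have hel' : IsElementaryAbelian p (P₀.map π) := by
    refine ⟨le_centralizer_iff_isMulCommutative.1 ?_, ?_⟩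
    · rintro _ ⟨x, hx, rfl⟩ _ ⟨y, hy, rfl⟩
      rw [← map_mul, ← map_mul]
      exact congrArg π (Subtype.ext (hab hx _ hy))
    · rintro _ ⟨x, hx, rfl⟩
      rw [← map_pow, show x ^ p = 1 from Subtype.ext (hel.2 _ hx), map_one]
  have hab' : P₀.map π ≤ C[P₀.map π] := le_centralizer_iff_isMulCommutative.2 hel'.1
  refine ⟨P₀.map π, hn, hS, hel', by rw [hdis _ le_rfl, card_subgroupOf le_normalizer, hcard], ?_, ?_⟩
  · have h1 : IsSyl p (P₀.map π) C[P₀.map π] := hall_of_le hS hab' le_top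
    have h2 := (Burnside_normal_complement h1 inf_le_left).isSdp h1
    have h3 : O[{p}ᶜ](C[P₀.map π]) = ⊥ := by
      refine H3.pPrimeCore_eq_bot_iff.1 (H3.pPrimeCore_quotient_pPrimeCore p N[P]) _
        (normalizer_eq_top_iff.1 (top_le_iff.1 (le_normalizer_piCoreOf
          (le_normalizer_centralizer (normalizer_eq_top_iff.2 hn).ge))))
        ((isPi_compl_singleton_iff_coprime hp.out).1 (isPi_piCoreOf _ _))
    rw [h3] at h2
    exact h2.eq_of_bot_left.ge
  · have key : ∀ E : Subgroup (N[P] ⧸ pPrimeCore p N[P]), E ≤ P₀.map π →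
        ∃ E₀ : Subgroup N[P], E₀ ≤ P₀ ∧ E₀.map π = E := fun E hE =>
      ⟨P₀ ⊓ E.comap π, inf_le_left, le_antisymm (map_le_iff_le_comap.2 inf_le_right) fun x hx => by
        obtain ⟨y, hy, rfl⟩ := hE hx
        exact ⟨y, ⟨hy, hx⟩, rfl⟩⟩
    intro E E' hE hE' e
    obtain ⟨E, h1, rfl⟩ := key E hE
    obtain ⟨E', h2, rfl⟩ := key E' hE'
    rw [hdis _ h1, hdis _ h2] at e
    have h3 : ∀ E : Subgroup N[P], E ≤ P₀ → E.map N[P].subtype ≤ P := fun E hE =>
      map_le_iff_le_comap.2 hE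
    obtain ⟨g, hg⟩ := hC (E.map N[P].subtype) (E'.map N[P].subtype)
      ((syl_isPGroup hP).to_le (h3 _ h1)) ((syl_isPGroup hP).to_le (h3 _ h2))
      (by rw [card_map_subtype, card_map_subtype, e])
    obtain ⟨m, hm, e'⟩ := fus_ab hP hab (h3 _ h1) (hg ▸ h3 _ h2)
    refine ⟨π ⟨m, hm⟩, ?_⟩
    rw [← map_cj]
    congr 1
    refine map_injective N[P].subtype_injective ?_
    rw [map_cj, hg, ← e']
    rfl

end

/-- Let p be a prime and G a finite group in which any two p-subgroups of the same order are conjugate, and suppose a Sylow p-subgroup P of G is elementary abelian of order pⁿ with n ≥ 3. Let N be the normalizer of P and K the largest normal subgroup of N of order prime to p, and assume N/K is solvable. Then either n = 3 and N/K embeds in the one-dimensional semi-affine group over the field with p³ elements (and for p = 2 it is isomorphic to the affine or the semi-affine group over the field with 8 elements), or n = 5, p = 2 and N/K is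 isomorphic to the one-dimensional semi-affine group over the field with 32 elements. -/
theorem result {G : Type*} [Group G] [Finite G]
    {p : ℕ} [Fact p.Prime] (hC : ∀ H K : Subgroup G, IsPGroup p H → IsPGroup p K → Nat.card H = Nat.card K →
      ∃ g : G, K = H.map (MulAut.conj g).toMonoidHom) (P : Sylow p G) (n : ℕ) (hn : 3 ≤ n)
    (hel : Cfsg.IsElementaryAbelian p (P : Subgroup G)) (hcard : Nat.card P = p ^ n)
    (N : Subgroup G) (hN : N = Subgroup.normalizer ((P : Subgroup G) : Set G))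
    (hsolv : Group.IsSolvable (↥N ⧸ Cfsg.pPrimeCore p ↥N)) :
    (n = 3 ∧ (∃ f : ↥N ⧸ Cfsg.pPrimeCore p ↥N →* ↥(Cfsg.semiaffineGroup (GaloisField p 3)), Function.Injective f) ∧
      (p = 2 → Nonempty (↥N ⧸ Cfsg.pPrimeCore p ↥N ≃* Cfsg.semiaffineGroup (GaloisField 2 3)) ∨
               Nonempty (↥N ⧸ Cfsg.pPrimeCore p ↥N ≃* Cfsg.affineGroup (GaloisField 2 3)))) ∨
    (n = 5 ∧ p = 2 ∧ Nonempty (↥N ⧸ Cfsg.pPrimeCore p ↥N ≃* Cfsg.semiaffineGroup (GaloisField 2 5))) := by
  subst hN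
  obtain ⟨S, hS, h⟩ := transfer (n := n) hC (H67.syl_top P) hel hcard
  exact h.main hn

end Cfsg.Agent.S4025
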