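import Cfsg.Statements.S4049
import Cfsg.Agent.S3861

set_option autoImplicit false
open Cfsg

namespace Cfsg.Agent.S4049

/-- Let G be a finite group such that N_G(H)/C_G(H) has odd order for every nontrivial subgroup H of odd order. Then the Sylow 2-subgroups of G are normal. -/
theorem result {G : Type*} [Group G] [Finite G]
    (hhom : ∀ H : Subgroup G, H ≠ ⊥ → ¬ 2 ∣ Nat.card ↥H →
        ¬ 2 ∣ (Subgroup.centralizer (H : Set G)).relIndex (Subgroup.normalizer (H : Set G))) (P : Sylow 2 G) :
    (P : Subgroup G).Normal := by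
  rw [← S3861.result P]
  intro x hx1 hx hc
  obtain ⟨g, hg⟩ := isConj_iff.1 hc
  have hgN : g ∈ Subgroup.normalizer (Subgroup.zpowers x : Set G) := by
    apply Subgroup.mem_normalizer_fintype
    rintro _ ⟨k, rfl⟩
    simp only
    rw [← conj_zpow, hg]
    exact Subgroup.zpow_mem _ (Subgroup.inv_mem _ (Subgroup.mem_zpowers x)) k
  apply hhom (Subgroup.zpowers x) (by simpa using hx1)
    (by rw [Nat.card_zpowers, ← even_iff_two_dvd, Nat.not_even_iff_odd]; exact hx)
  set C := (Subgroup.centralizer (Subgroup.zpowers x : Set G)).subgroupOf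
    (Subgroup.normalizer (Subgroup.zpowers x : Set G)) with hC
  have hCn : C.Normal := Subgroup.normal_subgroupOf_centralizer_normalizer _
  have hmem : ∀ y : Subgroup.normalizer (Subgroup.zpowers x : Set G), y ∈ C ↔ x * y = y * x := by
    intro y
    have h0 : Subgroup.centralizer (Subgroup.zpowers x : Set G) = Subgroup.centralizer {x} := by
      rw [Subgroup.zpowers_eq_closure, Subgroup.centralizer_closure]
    rw [hC, Subgroup.mem_subgroupOf, h0, Subgroup.mem_centralizer_singleton_iff, eq_comm]
  have h2 : Fact (Nat.Prime 2) := ⟨Nat.prime_two⟩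
  have hord : orderOf (QuotientGroup.mk (s := C) ⟨g, hgN⟩) = 2 := by
    apply orderOf_eq_prime
    · rw [← QuotientGroup.mk_pow, QuotientGroup.eq_one_iff, hmem]
      have h3 : g ^ 2 * x * (g ^ 2)⁻¹ = x := by
        have : g ^ 2 * x * (g ^ 2)⁻¹ = g * (g * x * g⁻¹) * g⁻¹ := by rw [pow_two]; group
        rw [this, hg, ← conj_inv, hg, inv_inv]
      change x * g ^ 2 = g ^ 2 * x
      rw [← mul_inv_eq_iff_eq_mul.1 h3]
    · rw [Ne, QuotientGroup.eq_one_iff, hmem]
      intro h
      change x * g = g * x at h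
      rw [← h, mul_inv_cancel_right] at hg
      have h4 : orderOf x ∣ 2 := orderOf_dvd_of_pow_eq_one (by
        rw [pow_two]; nth_rewrite 1 [hg]; simp)
      have := Nat.eq_one_of_dvd_coprimes (Nat.coprime_two_right.2 hx) dvd_rfl h4
      exact hx1 (orderOf_eq_one_iff.1 this)
  have h5 := orderOf_dvd_natCard (QuotientGroup.mk (s := C) ⟨g, hgN⟩)
  rw [hord] at h5
  exact h5

end Cfsg.Agent.S4049
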