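import Cfsg.Statements.S4073
import Cfsg.Agent.H15.Even3
import Cfsg.Agent.H92.KPi
import Cfsg.Agent.H29.Maximal

set_option autoImplicit false
open Cfsg

namespace Cfsg.Agent.S4073

open Subgroup H15 H29 MulAction
open scoped MatrixGroups Pointwise

section
variable {G : Type*} [Group G]

def SN (G : Type*) [Group G] : Prop :=
  ∀ H : Subgroup G, ¬ IsMulCommutative H → normalizer (H : Set G) = H

theorem SN.mem (h : SN G) {H : Subgroup G} {a b g : G} (ha : a ∈ H) (hb : b ∈ H)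
    (hab : a * b ≠ b * a) (hg : g ∈ normalizer (H : Set G)) : g ∈ H := by
  rwa [h H fun hc => hab (comm_of_isMulCommutative hc ha hb)] at hg

theorem SN.comm (h : SN G) {H : Subgroup G} {g : G} (hg : g ∈ normalizer (H : Set G))
    (hn : g ∉ H) {a b : G} (ha : a ∈ H) (hb : b ∈ H) : a * b = b * a := by
  by_contra hab
  exact hn (h.mem ha hb hab hg)

theorem SN.of_injective {K : Type*} [Group K] [Finite G] (h : SN G) (f : K →* G)
    (hf : Function.Injective f) : SN K := by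
  intro H hH
  refine le_antisymm (fun g hg => ?_) le_normalizer
  obtain ⟨a, ha, b, hb, hab⟩ : ∃ a ∈ H, ∃ b ∈ H, a * b ≠ b * a := by
    by_contra hc
    push Not at hc
    exact hH (isMulCommutative_of_forall hc)
  have h1 : f g ∈ H.map f := by
    refine h.mem (mem_map_of_mem f ha) (mem_map_of_mem f hb) (fun hc => hab (hf (by simpa using hc))) ?_
    refine H10.mem_normalizer_of_conj_mem ?_
    rintro _ ⟨x, hx, rfl⟩
    exact ⟨g * x * g⁻¹, (mem_normalizer_iff.1 hg x).1 hx, by simp⟩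
  obtain ⟨x, hx, hxg⟩ := h1
  exact hf hxg ▸ hx

/-- the commutator subgroup `[A, y]` of an abelian group -/
theorem exists_comm_subgroup [Finite G] {A : Subgroup G} (hA : ∀ a ∈ A, ∀ b ∈ A, a * b = b * a)
    {y : G} (hy : y ∈ normalizer (A : Set G)) (hc : ∀ a ∈ A, (orderOf a).Coprime (orderOf y))
    {q : G} (hq : q ∈ A) (hqy : y * q ≠ q * y) :
    ∃ Q : Subgroup G, Q ≤ A ∧ y ∈ normalizer (Q : Set G) ∧ (∃ c ∈ Q, y * c ≠ c * y) ∧
      ∀ c ∈ Q, y * c = c * y → c = 1 := by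
  have hconj : ∀ a ∈ A, y * a * y⁻¹ ∈ A := fun a ha => (mem_normalizer_iff.1 hy a).1 ha
  let Q : Subgroup G :=
    { carrier := {c | ∃ a ∈ A, c = a⁻¹ * (y * a * y⁻¹)}
      one_mem' := ⟨1, A.one_mem, by group⟩
      mul_mem' := by
        rintro _ _ ⟨a, ha, rfl⟩ ⟨b, hb, rfl⟩
        refine ⟨a * b, A.mul_mem ha hb, ?_⟩
        have := hA _ (A.mul_mem (A.inv_mem ha) (hconj a ha)) _ (A.inv_mem hb)
        calc a⁻¹ * (y * a * y⁻¹) * (b⁻¹ * (y * b * y⁻¹))
            = (a⁻¹ * (y * a * y⁻¹) * b⁻¹) * (y * b * y⁻¹) := by group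
          _ = (a * b)⁻¹ * (y * (a * b) * y⁻¹) := by rw [this]; group
      inv_mem' := by
        rintro _ ⟨a, ha, rfl⟩
        refine ⟨a⁻¹, A.inv_mem ha, ?_⟩
        have := hA _ (A.inv_mem (hconj a ha)) _ ha
        calc (a⁻¹ * (y * a * y⁻¹))⁻¹ = (y * a * y⁻¹)⁻¹ * a := by group
          _ = a⁻¹⁻¹ * (y * a⁻¹ * y⁻¹) := by rw [this]; group }
  have hle : Q ≤ A := by
    rintro _ ⟨a, ha, rfl⟩
    exact A.mul_mem (A.inv_mem ha) (hconj a ha)
  have hfix : ∀ c ∈ Q, y * c = c * y → c = 1 := by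
    rintro c ⟨a, ha, hca⟩ h
    refine H92.eq_one_of_conj_eq_mul (n := y) (x := a) h (by rw [hca]; group) (m := orderOf y)
      (by rw [pow_orderOf_eq_one]; exact Commute.one_left a) (hc c (hle ⟨a, ha, hca⟩))
  refine ⟨Q, hle, H10.mem_normalizer_of_conj_mem ?_, ⟨q⁻¹ * (y * q * y⁻¹), ⟨q, hq, rfl⟩, ?_⟩, hfix⟩
  · rintro _ ⟨a, ha, rfl⟩
    exact ⟨y * a * y⁻¹, hconj a ha, by group⟩
  · intro h
    have := hfix _ ⟨q, hq, rfl⟩ h
    apply hqy
    calc y * q = q * (q⁻¹ * (y * q * y⁻¹)) * y := by group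
      _ = q * y := by rw [this, mul_one]

theorem mem_normalizer_of_le_centralizer {H : Subgroup G} {z : G} (h : H ≤ centralizer {z}) :
    z ∈ normalizer (H : Set G) :=
  centralizer_le_normalizer _ fun _ hx => mem_centralizer_singleton_iff.1 (h hx)

theorem SN.eq_one [Finite G] (h : SN G) {A : Subgroup G} (hA : ∀ a ∈ A, ∀ b ∈ A, a * b = b * a)
    {y : G} (hy : y ∈ normalizer (A : Set G)) (hc : ∀ a ∈ A, (orderOf a).Coprime (orderOf y))
    {q : G} (hq : q ∈ A) (hqy : y * q ≠ q * y) {z : G} (hz : ∀ a ∈ A, z * a = a * z)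
    (hzy : z * y = y * z) (hcz : (orderOf z).Coprime (orderOf y)) : z = 1 := by
  obtain ⟨Q, hle, hn, ⟨c, hcQ, hcy⟩, hfix⟩ := exists_comm_subgroup hA hy hc hq hqy
  have h1 : z ∈ Q ⊔ zpowers y := by
    refine h.mem (mem_sup_right (mem_zpowers y)) (mem_sup_left hcQ) hcy ?_
    refine mem_normalizer_of_le_centralizer (sup_le (fun a ha => ?_) (zpowers_le.2 ?_))
    · exact mem_centralizer_singleton_iff.2 (hz a (hle ha)).symm
    · exact mem_centralizer_singleton_iff.2 hzy.symm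
  obtain ⟨a, ha, b, ⟨k, rfl⟩, hab⟩ := (H1.mem_sup_of_le_normalizer' (zpowers_le.2 hn)).1 h1
  have h2 : Commute y z := hzy.symm
  have h3 : a = z * (y ^ k)⁻¹ := by rw [← hab]; simp
  have h4 : a = 1 := hfix a ha (by
    rw [h3]
    exact (h2.mul_right ((Commute.refl y).zpow_right k).inv_right).eq)
  have h5 : z ∈ zpowers y := ⟨k, by rw [← hab, h4, one_mul]⟩
  exact orderOf_eq_one_iff.1 (hcz.eq_one_of_dvd (orderOf_dvd_of_mem_zpowers h5))

theorem coprime_of_two {Q : Subgroup G} (hQ : IsPGroup 2 Q) {y : G} (hy : (orderOf y).Coprime 2)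
    {a : G} (ha : a ∈ Q) : (orderOf a).Coprime (orderOf y) :=
  (coprime_orderOf_of_isPGroup hQ hy ha).symm

theorem SN.central [Finite G] (h : SN G) {t : G} (ht : orderOf t = 2) (hZ : ∀ g, g * t = t * g) :
    (∀ a b : G, a * b = b * a) ∨ IsPGroup 2 G ∨ ∃ P : Sylow 2 G, IsCyclic (P : Subgroup G) := by
  have hnpc : HasNormalPComplement 2 G := by
    refine H8.hasNormalPComplement_of_forall_centralizes fun Q hQ y hy hc => ?_
    by_cases hyQ : y ∈ Q
    · rw [H8.eq_one_of_mem_of_coprime hQ hyQ hc]; exact one_mem _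
    · intro q hq
      by_contra hne
      have := h.eq_one (fun a ha b hb => h.comm hy hyQ ha hb) hy (fun a ha => coprime_of_two hQ hc ha)
        hq (Ne.symm hne) (z := t) (fun a _ => (hZ a).symm) (hZ y).symm (by rw [ht]; exact hc.symm)
      exact ne_one_of_orderOf_eq_two ht this
  set K := pResidual 2 G with hK
  have hKodd := H8.hasNormalPComplement_iff_forall_coprime.1 hnpc
  have hKn : ∀ g, g ∈ normalizer (K : Set G) := fun g => le_normalizer_of_normal (K := ⊤) trivial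
  have hKc : ∀ a ∈ K, ∀ b ∈ K, a * b = b * a := fun a ha b hb =>
    h.comm (hKn t) (fun h1 => by have := hKodd t h1; rw [ht] at this; norm_num at this) ha hb
  let P : Sylow 2 G := default
  have hKP : ∀ x ∈ K, x ∈ (P : Subgroup G) → x = 1 := fun x h1 h2 =>
    H8.eq_one_of_mem_of_coprime P.2 h2 (hKodd x h1)
  have hdec : ∀ g : G, ∃ p ∈ (P : Subgroup G), ∃ k ∈ K, g = p * k := fun g =>
    H8.exists_mul_pResidual_of_not_dvd_index P.not_dvd_index g
  by_cases h1 : ∀ u ∈ (P : Subgroup G), ∀ k ∈ K, u * k = k * u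
  · by_cases h2 : ∀ a ∈ (P : Subgroup G), ∀ b ∈ (P : Subgroup G), a * b = b * a
    · left
      intro a b
      obtain ⟨p, hp, k, hk, rfl⟩ := hdec a
      obtain ⟨p', hp', k', hk', rfl⟩ := hdec b
      have e1 : Commute p p' := h2 p hp p' hp'
      have e2 : Commute p k' := h1 p hp k' hk'
      have e3 : Commute k p' := (h1 p' hp' k hk).symm
      have e4 : Commute k k' := hKc k hk k' hk'
      exact ((e1.mul_right e2).mul_left (e3.mul_right e4)).eq
    · right; left
      push Not at h2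
      obtain ⟨a, ha, b, hb, hab⟩ := h2
      rw [← H8.pResidual_eq_bot_iff, eq_bot_iff]
      intro k hk
      refine hKP k hk (h.mem ha hb hab (mem_normalizer_of_le_centralizer fun u hu => ?_))
      exact mem_centralizer_singleton_iff.2 (h1 u hu k hk)
  · right; right
    push Not at h1
    obtain ⟨u, hu, k, hk, huk⟩ := h1
    refine ⟨P, ?_⟩
    have : zpowers u = (P : Subgroup G) := by
      by_contra hne
      obtain ⟨x, hxP, hxn, hx⟩ := H10.exists_mem_normalizer_of_lt P.2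
        (lt_of_le_of_ne (zpowers_le.2 hu) hne)
      have h3 : x ∈ K ⊔ zpowers u := by
        refine h.mem (mem_sup_right (mem_zpowers u)) (mem_sup_left hk) huk ?_
        rw [H8.mem_normalizer_iff_conj_smul_eq, Subgroup.smul_sup,
          H8.mem_normalizer_iff_conj_smul_eq.1 hxn, H8.mem_normalizer_iff_conj_smul_eq.1 (hKn x)]
      obtain ⟨a, ha, b, hb, hab⟩ := (H1.mem_sup_of_le_normalizer' (fun g _ => hKn g)).1 h3
      have h4 : a = 1 := hKP a ha (by
        have : a = x * b⁻¹ := by rw [← hab]; simp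
        rw [this]
        exact mul_mem hxP (inv_mem (zpowers_le.2 hu hb)))
      rw [h4, one_mul] at hab
      exact hx (hab ▸ hb)
    rw [← this]
    infer_instance

theorem SN.centralizer_comm [Finite G] (h : SN G) (hns : ¬ Group.IsSolvable G) {t : G}
    (ht : orderOf t = 2) : ∀ a ∈ centralizer {t}, ∀ b ∈ centralizer {t}, a * b = b * a := by
  have htC : t ∈ centralizer ({t} : Set G) := mem_centralizer_singleton_iff.2 rfl
  rcases (h.of_injective _ (centralizer ({t} : Set G)).subtype_injective).central (t := ⟨t, htC⟩)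
    (by rw [← Subgroup.orderOf_coe]; exact ht)
    (fun g => Subtype.ext (mem_centralizer_singleton_iff.1 g.2)) with h1 | h1 | ⟨P, hP⟩
  · intro a ha b hb
    exact congrArg Subtype.val (h1 ⟨a, ha⟩ ⟨b, hb⟩)
  swap
  · exfalso
    refine not_cyclic_sylow_centralizer hns ht (H8.isSylowIn_map_subtype P) ?_
    exact isCyclic_of_surjective _ ((P : Subgroup _).equivMapOfInjective _
      (centralizer ({t} : Set G)).subtype_injective).surjective
  by_contra hna
  push Not at hna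
  obtain ⟨a, ha, b, hb, hab⟩ := hna
  set P := centralizer ({t} : Set G) with hP
  obtain ⟨P', hP'⟩ := H10.exists_sylow_eq_of_normalizer h1 fun R _ h2 h3 =>
    le_antisymm (fun x hx => h.mem ha hb hab (h3 hx)) h2
  -- every Sylow `2`-subgroup is non-abelian
  have hsyl : ∀ T : Subgroup G, H8.IsSylowIn 2 T ⊤ → ∃ a ∈ T, ∃ b ∈ T, a * b ≠ b * a := by
    intro T hT
    obtain ⟨g, -, hg⟩ := (hP' ▸ H8.isSylowIn_top P').exists_conj_eq hT
    refine ⟨g * a * g⁻¹, hg ▸ H8.conj_mem_conj_smul.2 ha, g * b * g⁻¹,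
      hg ▸ H8.conj_mem_conj_smul.2 hb, fun hc => hab ?_⟩
    calc a * b = g⁻¹ * (g * a * g⁻¹ * (g * b * g⁻¹)) * g := by group
      _ = b * a := by rw [hc]; group
  obtain ⟨Q, hQP, y, hy, hyc, hyn⟩ := H8.exists_not_centralizes_of_not_hasNormalPComplement P'
    (not_npc_two_of_not_isSolvable hns)
  have hQ : IsPGroup 2 Q := P'.2.to_le hQP
  have hyQ : y ∉ Q := fun h2 => hyn (by rw [H8.eq_one_of_mem_of_coprime hQ h2 hyc]; exact one_mem _)
  have hQc : ∀ a ∈ Q, ∀ b ∈ Q, a * b = b * a := fun a ha b hb => h.comm hy hyQ ha hb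
  set A := centralizer (Q : Set G) with hA
  have hyA : y ∈ normalizer (A : Set G) := H1.normalizer_le_normalizer_centralizer Q hy
  have hAc : ∀ a ∈ A, ∀ b ∈ A, a * b = b * a := fun a ha b hb => h.comm hyA hyn ha hb
  haveI : IsMulCommutative A := isMulCommutative_of_forall hAc
  haveI : Group.IsNilpotent A := H1.isNilpotent_of_isMulCommutative A
  have hQA : Q ≤ A := fun a ha b hb => hQc b hb a ha
  set M := H1.Op 2 A with hM
  have hQM : Q ≤ M := H1.le_Op_of_isNilpotent Nat.prime_two hQ hQA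
  have hCM : centralizer (M : Set G) = A :=
    le_antisymm (centralizer_le hQM) fun a ha m hm => hAc m (H1.Op_le hm) a ha
  set N := normalizer (M : Set G) with hN
  have hNA : N ≤ normalizer (A : Set G) := hCM ▸ H1.normalizer_le_normalizer_centralizer M
  have hyN : y ∈ N := H1.normalizer_le_normalizer_Op hyA
  have hAN : A ≤ N := H1.le_normalizer_Op
  obtain ⟨T, hT, hMT⟩ := H8.exists_isSylowIn_ge (H := N) H1.Op_isPGroup le_normalizer
  have hMT' : M ≠ T := by
    intro he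
    obtain ⟨S, hS⟩ := H10.exists_sylow_eq_of_normalizer (Q := M) H1.Op_isPGroup fun R hR h2 h3 =>
      he ▸ hT.eq_of_le hR h3 (he ▸ h2)
    obtain ⟨a, ha, b, hb, hab⟩ := hsyl M (hS ▸ H8.isSylowIn_top S)
    exact hab (hAc a (H1.Op_le ha) b (H1.Op_le hb))
  obtain ⟨x, hxT, hxM⟩ := SetLike.exists_of_lt (lt_of_le_of_ne hMT hMT')
  have hxN : x ∈ N := hT.le hxT
  have hxA : x ∉ A := fun h2 => hxM (H1.le_Op_of_isNilpotent Nat.prime_two
    (hT.isPGroup.to_le (zpowers_le.2 hxT)) (zpowers_le.2 h2) (mem_zpowers x))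
  obtain ⟨m, hm, hmx⟩ : ∃ m ∈ M, m * x ≠ x * m := by
    by_contra hc
    push Not at hc
    exact hxA (hCM ▸ fun m hm => hc m hm)
  have hTx : T = M ⊔ zpowers x := by
    by_contra hne
    obtain ⟨w, hwT, hwn, hw⟩ := H10.exists_mem_normalizer_of_lt hT.isPGroup
      (lt_of_le_of_ne (sup_le hMT (zpowers_le.2 hxT)) (Ne.symm hne))
    exact hw (h.mem (mem_sup_left hm) (mem_sup_right (mem_zpowers x)) hmx hwn)
  haveI hn : (A.subgroupOf N).Normal := normal_subgroupOf_of_le_normalizer hNA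
  let π := QuotientGroup.mk' (A.subgroupOf N)
  have hT2 : H8.IsSylowIn 2 ((T.subgroupOf N).map π) ⊤ := by
    have := (hT.subgroupOf le_rfl).map π
    rwa [subgroupOf_self, ← MonoidHom.range_eq_map,
      MonoidHom.range_eq_top.2 (QuotientGroup.mk'_surjective _)] at this
  have hT3 : (T.subgroupOf N).map π = zpowers (π ⟨x, hxN⟩) := by
    refine le_antisymm ?_ (zpowers_le.2 (mem_map_of_mem π hxT))
    rintro _ ⟨⟨w, hwN⟩, hw, rfl⟩
    have hw' : w ∈ M ⊔ zpowers x := hTx ▸ hw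
    obtain ⟨m', hm', _, ⟨k, rfl⟩, hmk⟩ := (H1.mem_sup_of_le_normalizer' (zpowers_le.2 hxN)).1 hw'
    refine ⟨k, ?_⟩
    have h3 : (⟨w, hwN⟩ : N) = ⟨m', le_normalizer hm'⟩ * ⟨x, hxN⟩ ^ k := Subtype.ext hmk.symm
    have h4 : π ⟨m', le_normalizer hm'⟩ = 1 := (QuotientGroup.eq_one_iff _).2
      (show m' ∈ A from H1.Op_le hm')
    rw [h3, map_mul, h4, one_mul, map_zpow]
  have hnpc := hasNormalPComplement_two_of_cyclic hT2.toSylowTop (by
    rw [H8.IsSylowIn.coe_toSylowTop, hT3]; infer_instance)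
  have hodd := H8.hasNormalPComplement_iff_forall_coprime.1 hnpc
  let L : Subgroup G := ((pResidual 2 _).comap π).map N.subtype
  have hL : ∀ (w : G) (hw : w ∈ N), w ∈ L ↔ π ⟨w, hw⟩ ∈ pResidual 2 _ := fun w hw =>
    ⟨fun ⟨v, hv, hvw⟩ => by
      have : v = ⟨w, hw⟩ := Subtype.ext hvw
      exact this ▸ hv, fun h2 => ⟨⟨w, hw⟩, h2, rfl⟩⟩
  have hyL : y ∈ L := (hL y hyN).2 (H8.mem_pResidual_of_coprime (Nat.Coprime.coprime_dvd_left
    ((orderOf_map_dvd π _).trans (by rw [← Subgroup.orderOf_coe])) hyc))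
  obtain ⟨q, hq, hqy⟩ : ∃ q ∈ Q, q * y ≠ y * q := by
    by_contra hc
    push Not at hc
    exact hyn fun q hq => hc q hq
  have hqL : q ∈ L := (hL q (hAN (hQA hq))).2 (by
    rw [show π ⟨q, hAN (hQA hq)⟩ = 1 from (QuotientGroup.eq_one_iff _).2 (hQA hq)]
    exact one_mem _)
  have hxL : x ∈ L := by
    refine h.mem hqL hyL hqy (H10.mem_normalizer_of_conj_mem ?_)
    rintro _ ⟨v, hv, rfl⟩
    exact ⟨⟨x, hxN⟩ * v * ⟨x, hxN⟩⁻¹, (inferInstance : ((pResidual 2 _).comap π).Normal).conj_mem v hv _,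
      rfl⟩
  have h5 := H8.eq_one_of_mem_of_coprime hT2.isPGroup (mem_map_of_mem π (x := ⟨x, hxN⟩) hxT)
    (hodd _ ((hL x hxN).1 hxL))
  exact hxA ((QuotientGroup.eq_one_iff (N := A.subgroupOf N) ⟨x, hxN⟩).1 h5)

theorem SN.of_equiv {K : Type*} [Group K] [Finite G] (h : SN G) (e : K ≃* G) : SN K :=
  h.of_injective e.toMonoidHom e.injective

end

section
variable {F : Type*} [Field F] [Finite F]

theorem prime_of_SN (h4 : 4 ≤ Nat.card F) (h : SN PGL(2, F)) : (Nat.card F - 1).Prime := by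
  haveI := finite_PGL2 (F := F)
  have hc : Nat.card Fˣ = Nat.card F - 1 := Nat.card_units F
  obtain ⟨r, hr, hd⟩ := Nat.exists_prime_and_dvd (n := Nat.card F - 1) (by omega)
  haveI := Fact.mk hr
  obtain ⟨a, ha⟩ := exists_prime_orderOf_dvd_card' r (hc ▸ hd : r ∣ Nat.card Fˣ)
  have ha1 : a ≠ 1 := by rintro rfl; rw [orderOf_one] at ha; exact hr.one_lt.ne ha
  let H : Subgroup PGL(2, F) :=
    { carrier := {g | ∃ c ∈ zpowers a, ∃ b, g = aff c b}
      one_mem' := ⟨1, one_mem _, 0, aff_one_zero.symm⟩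
      mul_mem' := by
        rintro _ _ ⟨c, hc, b, rfl⟩ ⟨c', hc', b', rfl⟩
        exact ⟨c * c', mul_mem hc hc', _, aff_mul _ _ _ _⟩
      inv_mem' := by
        rintro _ ⟨c, hc, b, rfl⟩
        exact ⟨c⁻¹, inv_mem hc, _, aff_inv _ _⟩ }
  have htop : zpowers a = ⊤ := by
    rw [eq_top_iff]
    intro c _
    have : aff c 0 ∈ H := by
      refine h.mem (a := aff a 0) (b := aff 1 1) ⟨a, mem_zpowers a, 0, rfl⟩ ⟨1, one_mem _, 1, rfl⟩ ?_
        (H10.mem_normalizer_of_conj_mem ?_)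
      · rw [aff_mul, aff_mul, Ne, aff_inj]
        simp only [mul_one, add_zero, one_mul, Units.val_one, mul_zero, zero_add, true_and]
        exact fun h2 => ha1 (Units.ext h2)
      · rintro _ ⟨d, hd, b, rfl⟩
        rw [aff_inv, aff_mul, aff_mul]
        exact ⟨d, hd, _, by rw [mul_comm c d, mul_inv_cancel_right]⟩
    obtain ⟨d, hd, b, he⟩ := this
    exact (aff_inj.1 he).1 ▸ hd
  have : orderOf a = Nat.card Fˣ := by rw [← Nat.card_zpowers, htop, card_top]
  rw [← hc, ← this, ha]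
  exact hr

theorem stab_le_of_prime (hp : (Nat.card F - 1).Prime) {H : Subgroup PGL(2, F)} {a : Fˣ} {b v : F}
    (ha : a ≠ 1) (hv : v ≠ 0) (h1 : aff a b ∈ H) (h2 : aff 1 v ∈ H) (c : Fˣ) (d : F) :
    aff c d ∈ H := by
  have hc : Nat.card Fˣ = Nat.card F - 1 := Nat.card_units F
  haveI := Fact.mk hp
  have htop : zpowers a = ⊤ := zpowers_eq_top_of_prime_card hc ha
  have key : ∀ c : Fˣ, ∃ b, aff c b ∈ H := by
    intro c
    have hc' : c ∈ zpowers a := htop ▸ mem_top c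
    obtain ⟨k, rfl⟩ := (mem_powers_iff_mem_zpowers.2 hc')
    clear hc'
    induction k with
    | zero => exact ⟨0, by simpa [aff_one_zero] using one_mem H⟩
    | succ k ih =>
      obtain ⟨b', hb'⟩ := ih
      have := mul_mem hb' h1
      rw [aff_mul, ← pow_succ] at this
      exact ⟨_, this⟩
  have key2 : ∀ d : F, aff 1 d ∈ H := by
    intro d
    by_cases hd : d = 0
    · rw [hd, aff_one_zero]; exact one_mem H
    · obtain ⟨b', hb'⟩ := key (Units.mk0 (d / v) (div_ne_zero hd hv))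
      have := mul_mem (mul_mem hb' h2) (inv_mem hb')
      rw [aff_inv, aff_mul, aff_mul] at this
      convert this using 2
      · simp
      · simp only [Units.val_mk0, mul_one, Units.val_inv_eq_inv_val]
        field_simp
        ring
  obtain ⟨b', hb'⟩ := key c
  have := mul_mem (key2 (d - b')) hb'
  rw [aff_mul] at this
  convert this using 2 <;> simp

theorem SN_of_prime (he : Even (Nat.card F)) (hp : (Nat.card F - 1).Prime) : SN PGL(2, F) := by
  haveI : CharP F 2 := charP_of_dvd_card F 2 he.two_dvd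
  haveI := finite_PGL2 (F := F)
  intro H hH
  refine le_antisymm (fun g hg => ?_) le_normalizer
  obtain ⟨a, ha, b, hb, hab⟩ : ∃ a ∈ H, ∃ b ∈ H, a * b ≠ b * a := by
    by_contra hc
    push Not at hc
    exact hH (isMulCommutative_of_forall hc)
  rcases dickson 2 H with ⟨x, hx⟩ | ⟨T, D, hT, h1, h2⟩ | ⟨h1, h2⟩ | ⟨h1, -⟩ | ⟨c, k, hk, h1⟩
  · have hu : a * b * a⁻¹ * b⁻¹ ∈ uni x := commutator_mem_uni (hx ha) (hx hb)
    have hu1 : a * b * a⁻¹ * b⁻¹ ≠ 1 := fun h => hab (by
      rw [mul_inv_eq_one, mul_inv_eq_iff_eq_mul] at h; exact h)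
    have huH : a * b * a⁻¹ * b⁻¹ ∈ H := mul_mem (mul_mem (mul_mem ha hb) (inv_mem ha)) (inv_mem hb)
    set u := a * b * a⁻¹ * b⁻¹
    have hgx : g • x = x := by
      refine (eq_of_mem_uni_of_fix (conj_mem_uni_iff.2 hu : g * u * g⁻¹ ∈ uni (g • x)) ?_
        (hx ((mem_normalizer_iff.1 hg u).1 huH))).symm
      intro h; apply hu1
      calc u = g⁻¹ * (g * u * g⁻¹) * g := by group
        _ = 1 := by rw [h]; group
    obtain ⟨w, hw, hwu⟩ : ∃ w ∈ H, w ∉ uni x := by
      by_contra hc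
      push Not at hc
      exact hab (uni_comm (hc a ha) (hc b hb))
    obtain ⟨c, hc⟩ := exists_smul_eq_inf x
    have hfix : ∀ z : PGL(2, F), z • x = x → ∃ a b, c * z * c⁻¹ = aff a b := fun z hz =>
      (smul_inf_eq_inf_iff _).1 (by rw [← hc]; exact (conj_smul_eq_iff c z x x).2 hz)
    obtain ⟨a1, b1, h1⟩ := hfix w (hx hw)
    obtain ⟨v, hv⟩ := mem_uni_inf.1 (hc ▸ conj_mem_uni_iff.2 hu : c * u * c⁻¹ ∈ uni inf)
    obtain ⟨a2, b2, h2⟩ := hfix g hgx
    have := stab_le_of_prime hp (H := H.map (MulAut.conj c).toMonoidHom) (a := a1) (b := b1) (v := v)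
      (by
        rintro rfl
        exact hwu (conj_mem_uni_iff.1 (hc ▸ mem_uni_inf.2 ⟨b1, h1⟩ : c * w * c⁻¹ ∈ uni (c • x))))
      (by
        rintro rfl
        rw [aff_one_zero] at hv
        apply hu1
        calc u = c⁻¹ * (c * u * c⁻¹) * c := by group
          _ = 1 := by rw [hv]; group)
      (h1 ▸ conj_mem_map_conj_iff.2 hw) (hv ▸ conj_mem_map_conj_iff.2 huH) a2 b2
    rw [← h2] at this
    exact conj_mem_map_conj_iff.1 this
  · obtain ⟨⟨t, htH, htT⟩, ht1⟩ := (ne_bot_iff_exists_ne_one).1 h1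
    have ht1' : t ≠ 1 := fun h => ht1 (Subtype.ext h)
    have hgD : g ∈ D := by
      refine hT.ti htT ht1' (hT.mem_T_of_mul_self_ne (h2 ((mem_normalizer_iff.1 hg t).1 htH)) ?_)
      intro h
      refine ht1' (IsTorus.eq_one_of_mul_self he hT htT ?_)
      calc t * t = g⁻¹ * (g * t * g⁻¹ * (g * t * g⁻¹)) * g := by group
        _ = 1 := by rw [h]; group
    obtain ⟨w, hw, hwT⟩ : ∃ w ∈ H, w ∉ T := by
      by_contra hc
      push Not at hc
      exact hab (hT.comm (hc a ha) (hc b hb))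
    have key : ∀ s ∈ T, s ∈ normalizer (H : Set PGL(2, F)) → s ∈ H := by
      intro s hs hsn
      have h3 := hT.conj_eq_inv (h2 hw) hwT (inv_mem hs)
      have h4 : s ^ 2 ∈ H := by
        have := mul_mem ((mem_normalizer_iff.1 hsn w).1 hw) (inv_mem hw)
        rwa [show s * w * s⁻¹ * w⁻¹ = s * (w * s⁻¹ * w⁻¹) by group, h3, inv_inv, ← pow_two] at this
      exact H1.mem_of_pow_mem_of_coprime h4 (Nat.coprime_two_left.2
        ((IsTorus.odd_card he hT).of_dvd_nat (Subgroup.orderOf_dvd_natCard T hs)))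
    by_cases hgT : g ∈ T
    · exact key g hgT hg
    · have := key (g * w) (hT.mul_mem_of_not_mem hgD (h2 hw) hgT hwT) (mul_mem hg (le_normalizer hw))
      exact (mul_mem_cancel_right hw).1 this
  · exfalso
    apply h1
    rcases h2 with ⟨⟨e⟩⟩ | ⟨⟨e⟩⟩ | ⟨⟨e⟩⟩
    · rw [Nat.card_congr e.toEquiv, card_A4]; norm_num
    · rw [Nat.card_congr e.toEquiv, card_S4]; norm_num
    · have := (exists_A4_le_of_A5 e)
      obtain ⟨H', h3, ⟨e'⟩⟩ := this
      refine dvd_trans ?_ (card_dvd_of_le h3)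
      rw [Nat.card_congr e'.toEquiv, card_A4]; norm_num
  · exact absurd h1 (by norm_num)
  · obtain ⟨m, hm, hc⟩ := exists_card_eq_pow k.subtype
    have h2 : Nat.card k - 1 ∣ Nat.card F - 1 := by
      rw [hc]; simpa using Nat.sub_dvd_pow_sub_pow (Nat.card k) 1 m
    have h3 : Nat.card k - 1 = Nat.card F - 1 :=
      ((Nat.dvd_prime hp).1 h2).resolve_left (by omega)
    have h4 : k = ⊤ := subfield_eq_top_of_card (by omega)
    subst h4
    have h5 := L_le_of_conj_eq_top h1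
    rw [L_eq_top_of_even he] at h5
    exact h5 trivial

end


/-- Let G be a finite non-abelian simple group. Every non-abelian subgroup of G is self-normalizing if and only if G is isomorphic to PSL₂(2ⁿ) for some n ≥ 2 with 2ⁿ − 1 prime (this includes the alternating group of degree 5 as PSL₂(4)). -/
theorem result {G : Type*} [Group G] [Finite G] [IsSimpleGroup G]
    (hna : ¬ IsMulCommutative G) :
    (∀ H : Subgroup G, ¬ IsMulCommutative H → Subgroup.normalizer (H : Set G) = H) ↔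
    ∃ n : ℕ, 2 ≤ n ∧ (2 ^ n - 1).Prime ∧ Nonempty (G ≃* Matrix.ProjectiveSpecialLinearGroup (Fin 2) (GaloisField 2 n)) := by
  have hns := not_isSolvable_of_simple hna
  constructor
  · intro h
    obtain ⟨F, _, _, n, hn, hF, he, ⟨e⟩, h2⟩ := exists_pgl_of_abelian_centralizers hns
      (center_eq_bot_of_simple hna) fun t ht => SN.centralizer_comm h hns ht
    refine ⟨n, hn, ?_, h2⟩
    rw [← hF]
    refine prime_of_SN ?_ (SN.of_equiv h (e.trans (pslEquivPGL he)).symm)
    rw [hF]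
    exact (Nat.pow_le_pow_right (by norm_num) hn : 2 ^ 2 ≤ 2 ^ n)
  · rintro ⟨n, hn, hp, ⟨e⟩⟩
    have hF : Nat.card (GaloisField 2 n) = 2 ^ n := GaloisField.card 2 n (by omega)
    have he : Even (Nat.card (GaloisField 2 n)) := even_of_charP
    haveI := finite_PGL2 (F := GaloisField 2 n)
    exact SN.of_equiv (SN_of_prime he (hF ▸ hp)) (e.trans (pslEquivPGL he))

end Cfsg.Agent.S4073
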