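import Cfsg.Statements.S4078
import Cfsg.Agent.H67.MinS2
import Cfsg.Agent.S0205

set_option autoImplicit false
open Cfsg

namespace Cfsg.Agent.S4078

/-- For an element x of a finite group G let Sol(x) be the set of y ∈ G such that x and y generate a solvable subgroup. Then G is solvable if and only if Sol(x) is (the carrier of) a subgroup of G for every x ∈ G. -/
theorem result {G : Type*} [Group G] [Finite G] :
    Group.IsSolvable G ↔ ∀ x : G, ∃ H : Subgroup G, (H : Set G) = {y : G | Group.IsSolvable ↥(Subgroup.closure ({x, y} : Set G))} := by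
  refine ⟨fun h x => ⟨⊤, (Set.eq_univ_of_forall fun y => ?_).symm⟩, fun h => ?_⟩
  · exact (inferInstance : Group.IsSolvable (Subgroup.closure ({x, y} : Set G)))
  refine H67.isSolvable_of_no_minSimple' (fun (X : Type _) [Group X] => ∀ x : X, ∃ H : Subgroup X,
    (H : Set X) = {y : X | Group.IsSolvable ↥(Subgroup.closure ({x, y} : Set X))}) ?_ ?_ ?_ G h
  · intro X _ _ hX K x
    obtain ⟨H, hH⟩ := hX x
    refine ⟨H.subgroupOf K, Set.ext fun y => ?_⟩
    rw [SetLike.mem_coe, Subgroup.mem_subgroupOf, ← SetLike.mem_coe, hH, Set.mem_setOf_eq,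
      Set.mem_setOf_eq, ← H67.isSolvable_map_iff_of_injective K.subtype_injective,
      MonoidHom.map_closure, Set.image_pair]
    rfl
  · intro X _ _ hX N _ hN x
    obtain ⟨x, rfl⟩ := QuotientGroup.mk'_surjective N x
    obtain ⟨H, hH⟩ := hX x
    have key : ∀ y : X, Group.IsSolvable ↥(Subgroup.closure
        ({QuotientGroup.mk' N x, QuotientGroup.mk' N y} : Set (X ⧸ N))) ↔ y ∈ H := by
      intro y
      rw [← Set.image_pair, ← MonoidHom.map_closure, H67.isSolvable_map_iff_of_ker
        (by rwa [QuotientGroup.ker_mk']), ← SetLike.mem_coe, hH, Set.mem_setOf_eq]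
    refine ⟨H.map (QuotientGroup.mk' N), Set.ext fun y => ⟨?_, fun hy => ?_⟩⟩
    · rintro ⟨y, hy, rfl⟩
      exact (key y).2 hy
    · obtain ⟨y, rfl⟩ := QuotientGroup.mk'_surjective N y
      exact ⟨y, (key y).1 hy, rfl⟩
  · intro X _ _ hX hp
    have hs := H67.ms_simple hX
    have h2 : 2 ∣ Nat.card X := by
      by_contra hc
      exact H67.ms_nonSolvable hX (S0205.result (Nat.odd_iff.2 (by omega)))
    have : Fact (Nat.Prime 2) := ⟨Nat.prime_two⟩
    obtain ⟨t, ht⟩ := exists_prime_orderOf_dvd_card' 2 h2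
    have ht1 : t ≠ 1 := by rintro rfl; simp at ht
    have key : ∀ x : X, (∀ s : X, s ^ 2 = 1 →
        Group.IsSolvable ↥(Subgroup.closure ({x, s} : Set X))) →
        ∀ y : X, Group.IsSolvable ↥(Subgroup.closure ({x, y} : Set X)) := by
      intro x hx y
      obtain ⟨H, hH⟩ := hp x
      have h1 : Subgroup.normalClosure {t} ≤ H := by
        refine (Subgroup.closure_le _).2 fun s hs => ?_
        obtain ⟨_, rfl, hc⟩ := Group.mem_conjugatesOfSet_iff.1 hs
        obtain ⟨c, rfl⟩ := isConj_iff.1 hc
        rw [hH]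
        refine hx _ ?_
        rw [conj_pow, ← ht, pow_orderOf_eq_one]
        simp
      rcases (inferInstance : (Subgroup.normalClosure ({t} : Set X)).Normal).eq_bot_or_eq_top with
        e | e
      · exact absurd (e ▸ Subgroup.subset_normalClosure (Set.mem_singleton t) : t ∈ (⊥ : Subgroup X))
          ht1
      · have : y ∈ (H : Set X) := h1 (e ▸ Subgroup.mem_top y)
        rwa [hH] at this
    obtain ⟨a, b, e⟩ := H67.exists_closure_pair_eq_top hX
    refine H67.ms_sol_proper hX (key a (fun s hs => ?_) b) e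
    rw [Set.pair_comm]
    exact key s (fun s' hs' => H67.isSolvable_closure_invol hs hs') a

end Cfsg.Agent.S4078
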