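import Cfsg.Statements.S4113
import Cfsg.Agent.H92.ClassSize

set_option autoImplicit false
open Cfsg

namespace Cfsg.Agent.S4113

open Cfsg.Agent.H92



/-- Let G be a finite group, M ≤ N non-trivial proper normal subgroups, and H a subgroup with HM = G and H ∩ M = 1. Then every element of G outside N acts fixed-point-freely on M (C_G(x) ≤ N for every x ∈ M, x ≠ 1) if and only if H ∩ gHg⁻¹ ≤ H ∩ N for every g outside H, with H proper and non-trivial and H ∩ N proper in H. -/
theorem result {G : Type*} [Group G] [Finite G] (N M : Subgroup G) [N.Normal] [M.Normal] (hMN : M ≤ N) (hM1 : M ≠ ⊥) (hN2 : N ≠ ⊤)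
    (H : Subgroup G) (hHM : H ⊔ M = ⊤) (hHM' : H ⊓ M = ⊥) :
    (∀ x ∈ M, x ≠ 1 → Subgroup.centralizer ({x} : Set G) ≤ N) ↔
      (H ≠ ⊥ ∧ H ≠ ⊤ ∧ H ⊓ N < H ∧ ∀ g : G, g ∉ H → H ⊓ H.map (MulAut.conj g).toMonoidHom ≤ N) := by
  have hdec : ∀ g : G, ∃ m ∈ M, ∃ h ∈ H, m * h = g := by
    intro g
    have : g ∈ ((M ⊔ H : Subgroup G) : Set G) := by rw [sup_comm, hHM]; trivial
    rw [Subgroup.normal_mul] at this
    exact this
  have hdisj : ∀ x ∈ H, x ∈ M → x = 1 := fun x h1 h2 =>
    (Subgroup.mem_bot).1 (hHM' ▸ (⟨h1, h2⟩ : x ∈ H ⊓ M))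
  constructor
  · intro h
    have hHN : ¬ H ≤ N := fun hle => hN2 (eq_top_iff.2 (hHM ▸ sup_le hle hMN))
    refine ⟨?_, ?_, ?_, ?_⟩
    · rintro rfl; exact hHN bot_le
    · rintro rfl; exact hM1 (by simpa using hHM')
    · exact lt_of_le_of_ne inf_le_left fun e => hHN (inf_eq_left.1 e)
    · rintro g hg u ⟨hu, hu'⟩
      obtain ⟨m, hm, k, hk, rfl⟩ := hdec g
      rw [← conj_smul_eq_map] at hu'
      replace hu' := mem_conj_smul.1 hu'
      have h1 : m⁻¹ * u * m ∈ H := by
        have := H.mul_mem (H.mul_mem hk hu') (H.inv_mem hk)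
        convert this using 1; group
      have h2 : m⁻¹ * u * m * u⁻¹ = 1 := by
        apply hdisj _ (H.mul_mem h1 (H.inv_mem hu))
        have := M.mul_mem (M.inv_mem hm) ((inferInstance : M.Normal).conj_mem _ hm u)
        convert this using 1; group
      have hm1 : m ≠ 1 := by rintro rfl; exact hg (by simpa using hk)
      apply h m hm hm1
      rw [mem_C]
      calc u * m = m * (m⁻¹ * u * m * u⁻¹) * u := by group
        _ = m * u := by rw [h2, mul_one]
  · rintro ⟨-, -, -, h⟩ x hx hx1 g hg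
    by_contra hgN
    obtain ⟨m, hm, k, hk, rfl⟩ := hdec g
    have hkN : k ∉ N := fun e => hgN (N.mul_mem (hMN hm) e)
    have hfpf : ∀ n ∈ M, Commute k n → n = 1 := by
      intro n hn hc
      by_contra hn1
      apply hkN
      apply h n (fun e => hn1 (hdisj n e hn))
      refine ⟨hk, k, hk, ?_⟩
      change n * k * n⁻¹ = k
      rw [← hc.eq, mul_inv_cancel_right]
    obtain ⟨c, -, hc⟩ := exists_conj_eq_of_fpf M hfpf hm
    rw [← hc, mem_C_comm, mem_C_conj, mem_C'] at hg
    have h1 := hfpf _ (by simpa using (inferInstance : M.Normal).conj_mem _ hx c⁻¹) hg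
    apply hx1
    calc x = c * (c⁻¹ * x * c) * c⁻¹ := by group
      _ = 1 := by rw [h1]; group

end Cfsg.Agent.S4113
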