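import Cfsg.Statements.S4120
import Cfsg.Agent.H92.FrobAut
import Cfsg.Agent.S0042
import Cfsg.Agent.H5.Frobenius

set_option autoImplicit false
open Cfsg

namespace Cfsg.Agent.S4120





/-- Let the finite group A act faithfully on the finite group G by automorphisms, and suppose A is a Frobenius group with kernel F and complement H such that F fixes only the identity of G. If the fixed-point subgroup C_G(H) is nilpotent, then G is nilpotent. -/
theorem result {G A : Type*} [Group G] [Finite G] [Group A] [Finite A] [MulDistribMulAction A G] [FaithfulSMul A G]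
    (Fk Hc : Subgroup A) [Fk.Normal] (hHc : Cfsg.IsFrobeniusComplement Hc) (hker : Cfsg.frobeniusKernel Hc = (Fk : Set A))
    (hCF : ∀ g : G, (∀ f ∈ Fk, f • g = g) → g = 1) (hnil : Group.IsNilpotent (Subgroup.closure {g : G | ∀ h ∈ Hc, h • g = g})) : Group.IsNilpotent G := by
  obtain ⟨N, hN, -, hNnil⟩ := Cfsg.Agent.S0042.result Hc hHc
  have hNF : N = Fk := SetLike.coe_injective (hN.trans hker)
  subst hNF
  have hs : Cfsg.Agent.H92.SRPair N Hc := by
    refine ⟨fun h _ f hf => Subgroup.Normal.conj_mem inferInstance f hf h, fun h hh f hf e => ?_⟩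
    by_contra hne
    push Not at hne
    have hc : Commute f h := by
      rw [mul_inv_eq_iff_eq_mul] at e
      exact e.symm
    have hfH := Cfsg.Agent.H5.frob_mem_of_commute hHc hh hne.1 hc
    exact hne.2 (Cfsg.Agent.H5.eq_one_of_mem_of_mem_frobeniusKernel hfH (hN ▸ hf))
  refine Cfsg.Agent.H92.isNilpotent_of_srPair_aux hNnil hs _ G (MulDistribMulAction.toMulAut A G)
    rfl ?_ ?_
  · rw [eq_bot_iff]
    exact fun g hg => hCF g hg
  · have : Subgroup.closure {g : G | ∀ h ∈ Hc, h • g = g} =
        Cfsg.Agent.H92.fixB (MulDistribMulAction.toMulAut A G) Hc :=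
      Subgroup.closure_eq (Cfsg.Agent.H92.fixB (MulDistribMulAction.toMulAut A G) Hc)
    rwa [this] at hnil

end Cfsg.Agent.S4120
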