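import Cfsg.Statements.S4137
import Cfsg.Agent.H15.CS5

set_option autoImplicit false
open Cfsg

namespace Cfsg.Agent.S4137


/-- Let G be a finite group with trivial centre and at most three distinct sizes of conjugacy classes other than 1. Then G is solvable or G is isomorphic to PSL₂(2^a) for some a ≥ 1. -/
theorem result {G : Type*} [Group G] [Finite G]
    (hZ : Subgroup.center G = ⊥) (h : Nat.card {n : ℕ | 1 < n ∧ ∃ x : G, (Subgroup.centralizer ({x} : Set G)).index = n} ≤ 3) :
    Group.IsSolvable G ∨ ∃ a : ℕ, 0 < a ∧ Nonempty (G ≃* Matrix.ProjectiveSpecialLinearGroup (Fin 2) (GaloisField 2 a)) := by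
  by_cases hns : Group.IsSolvable G
  · exact Or.inl hns
  right
  have h' : {n : ℕ | ∃ x : G, x ≠ 1 ∧ (Subgroup.centralizer ({x} : Set G)).index = n}.ncard ≤ 3 := by
    rw [Nat.card_coe_set_eq] at h
    refine le_trans (le_of_eq (congrArg Set.ncard ?_)) h
    ext n
    constructor
    · rintro ⟨x, hx, rfl⟩
      exact ⟨H92.one_lt_cs_iff.mpr (by rwa [hZ]), x, rfl⟩
    · rintro ⟨h1, x, rfl⟩
      exact ⟨x, by simpa [hZ] using H92.one_lt_cs_iff.mp h1, rfl⟩
  obtain ⟨F, _, _, n, hn, -, -, -, he⟩ := H15.exists_pgl_of_abelian_centralizers hns hZ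
    fun t ht => H15.comm_of_three_sizes hns hZ h' ht
  exact ⟨n, by omega, he⟩

end Cfsg.Agent.S4137
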