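import Cfsg.Statements.S4150
import Cfsg.Agent.H93.AltPair
import Cfsg.Agent.H93.Bertrand3

set_option autoImplicit false
open Cfsg

namespace Cfsg.Agent.S4150

/-- Let m ≥ 5. Then there are primes p < q with m/2 ≤ p and q ≤ m such that any two elements x, y of the alternating group of degree m with x of order p and y of order q generate a subgroup isomorphic to an alternating group of some degree d ≥ 5. -/
theorem result (m : ℕ) (hm : 5 ≤ m) :
    ∃ p q : ℕ, p.Prime ∧ q.Prime ∧ m ≤ 2 * p ∧ p < q ∧ q ≤ m ∧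
      ∀ x y : alternatingGroup (Fin m), orderOf x = p → orderOf y = q →
        ∃ d : ℕ, 5 ≤ d ∧ Nonempty (Subgroup.closure ({x, y} : Set (alternatingGroup (Fin m))) ≃* alternatingGroup (Fin d)) := by
  have key : ∃ p q : ℕ, p.Prime ∧ q.Prime ∧ m ≤ 2 * p ∧ p < q ∧ q ≤ m ∧
      ((p + 3 ≤ q) ∨ (p = 3 ∧ q = 5) ∨ (p = 5 ∧ q = 7) ∨ (p = 11 ∧ q = 13)) ∧
      (m < 2 * p ∨ q + 3 ≤ 2 * p ∨ (p = 3 ∧ q = 5)) := by
    by_cases h1 : 17 ≤ m
    · obtain ⟨p, q, hp, hq, h2, h3, h4⟩ := H93.exists_two_primes m h1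
      exact ⟨p, q, hp, hq, by omega, by omega, h4, Or.inl h3, Or.inl h2⟩
    by_cases h2 : 15 ≤ m
    · exact ⟨11, 13, by norm_num, by norm_num, by omega, by omega, by omega, by omega, by omega⟩
    by_cases h3 : 11 ≤ m
    · exact ⟨7, 11, by norm_num, by norm_num, by omega, by omega, by omega, by omega, by omega⟩
    by_cases h4 : 7 ≤ m
    · exact ⟨5, 7, by norm_num, by norm_num, by omega, by omega, by omega, by omega, by omega⟩
    exact ⟨3, 5, by norm_num, by norm_num, by omega, by omega, by omega, by omega, by omega⟩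
  obtain ⟨p, q, hp, hq, h1, h2, h3, h4, h5⟩ := key
  exact ⟨p, q, hp, hq, h1, h2, h3, fun x y hx hy =>
    H93.exists_alt_of_pair hp hq h2 (by simpa using h1) h4 (by simpa using h5) x y hx hy⟩

end Cfsg.Agent.S4150
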