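import Cfsg.Statements.S4159
import Cfsg.Agent.H92.ClassSize
import Cfsg.Agent.S0205
import Cfsg.Agent.S3861

set_option autoImplicit false
open Cfsg

namespace Cfsg.Agent.S4159

open Cfsg.Agent.H92

theorem index_dvd_of_sup {G : Type*} [Group G] [Finite G] {K N : Subgroup G} [N.Normal]
    (h : K ⊔ N = ⊤) : N.index ∣ Nat.card K ∧ K.index ∣ Nat.card N := by
  have h1 : N.index = N.relIndex K := by
    rw [← Subgroup.relIndex_top_right, ← h, Subgroup.relIndex_sup_right]
  have h2 : N.relIndex K * Nat.card (N.subgroupOf K) = Nat.card K :=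
    Subgroup.index_mul_card _
  refine ⟨h1 ▸ ⟨_, h2.symm⟩, ⟨Nat.card (N.subgroupOf K), ?_⟩⟩
  have h3 := K.index_mul_card
  have h4 := N.index_mul_card
  have h5 : 0 < N.index := Nat.pos_of_ne_zero Subgroup.index_ne_zero_of_finite
  apply Nat.eq_of_mul_eq_mul_left h5
  rw [h4, ← h3, ← h2, ← h1]
  ring

theorem aux {G : Type*} [Group G] [Finite G] {x u : G} (hx : x ≠ 1) (ho : Odd (orderOf x))
    (hu : ∃ k, orderOf u = 2 ^ k) (hxu : u * x * u⁻¹ = x⁻¹)
    (htop : Subgroup.closure ({x, u} : Set G) = ⊤) :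
    1 < cs[x] ∧ 1 < cs[u] ∧ (cs[x]).Coprime cs[u] := by
  have hnc : ¬ Commute u x := by
    intro hc
    have h1 : x = x⁻¹ := by rw [← hxu, hc.eq]; group
    have h2 : x ^ 2 = 1 := by rw [pow_two]; nth_rewrite 2 [h1]; exact mul_inv_cancel x
    have h3 := orderOf_dvd_of_pow_eq_one h2
    have h4 : orderOf x = 1 := by
      rcases (Nat.dvd_prime Nat.prime_two).1 h3 with h | h
      · exact h
      · rw [h] at ho; exact absurd ho (by decide)
    exact hx (orderOf_eq_one_iff.1 h4)
  have hN : (Subgroup.zpowers x).Normal := by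
    rw [← Subgroup.normalizer_eq_top_iff, eq_top_iff, ← htop, Subgroup.closure_le]
    rintro y (rfl | rfl)
    · exact Subgroup.le_normalizer (Subgroup.mem_zpowers _)
    · apply Subgroup.mem_normalizer_fintype
      rintro n ⟨k, rfl⟩
      refine ⟨-k, ?_⟩
      show x ^ (-k) = y * x ^ k * y⁻¹
      rw [← conj_zpow, hxu, inv_zpow']
  have hsup : Subgroup.zpowers u ⊔ Subgroup.zpowers x = ⊤ := by
    rw [eq_top_iff, ← htop, Subgroup.closure_le]
    rintro y (rfl | rfl)
    · exact Subgroup.mem_sup_right (Subgroup.mem_zpowers _)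
    · exact Subgroup.mem_sup_left (Subgroup.mem_zpowers _)
  obtain ⟨h1, h2⟩ := index_dvd_of_sup hsup
  rw [Nat.card_zpowers] at h1 h2
  refine ⟨one_lt_cs_iff.2 fun h => hnc (Subgroup.mem_center_iff.1 h u),
    one_lt_cs_iff.2 fun h => hnc (Subgroup.mem_center_iff.1 h x).symm, ?_⟩
  have h3 : cs[x] ∣ orderOf u := (Subgroup.index_dvd_of_le (zpowers_le_C x)).trans h1
  have h4 : cs[u] ∣ orderOf x := (Subgroup.index_dvd_of_le (zpowers_le_C u)).trans h2
  obtain ⟨k, hk⟩ := hu
  refine Nat.Coprime.coprime_dvd_left h3 (Nat.Coprime.coprime_dvd_right h4 ?_)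
  rw [hk]
  exact Nat.Coprime.pow_left _ (Nat.coprime_two_left.2 ho)

/-- Let G be a finite group such that in every subgroup H of G, any two conjugacy classes of H of size greater than 1 have non-coprime sizes. Then G is solvable. -/
theorem result {G : Type*} [Group G] [Finite G]
    (h : ∀ (H : Subgroup G) (x y : H), 1 < (Subgroup.centralizer ({x} : Set H)).index → 1 < (Subgroup.centralizer ({y} : Set H)).index →
      ¬ ((Subgroup.centralizer ({x} : Set H)).index).Coprime (Subgroup.centralizer ({y} : Set H)).index) : Group.IsSolvable G := by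
  obtain ⟨P⟩ : Nonempty (Sylow 2 G) := inferInstance
  have hP : (P : Subgroup G).Normal := by
    refine (S3861.result P).1 fun x hx ho hc => ?_
    obtain ⟨g, hg⟩ := isConj_iff.1 hc
    obtain ⟨a, b, ha, hb, hab, ha2, hb2⟩ := exists_p_parts Nat.prime_two g
    have hg2 : g ^ 2 ∈ Ce[x] := by
      rw [mem_C]
      have : g * x⁻¹ * g⁻¹ = x := by rw [← conj_inv, hg, inv_inv]
      show g ^ 2 * x = x * g ^ 2
      calc g ^ 2 * x = g * (g * x * g⁻¹) * g⁻¹ * g ^ 2 := by rw [pow_two]; group
        _ = x * g ^ 2 := by rw [hg, this]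
    have hbx : b ∈ Ce[x] := by
      have h1 : b ^ 2 ∈ Ce[x] := by
        obtain ⟨k, rfl⟩ := hb
        have : (g ^ k) ^ 2 = (g ^ 2) ^ k := by
          rw [← zpow_natCast, ← zpow_mul, ← zpow_natCast, ← zpow_mul, mul_comm]
        show (g ^ k) ^ 2 ∈ _
        rw [this]
        exact Subgroup.zpow_mem _ hg2 k
      have h2 : b ∈ Subgroup.zpowers (b ^ 2) := by
        rw [mem_zpowers_pow_iff]
        exact (Nat.coprime_comm.1 ((Nat.Prime.coprime_iff_not_dvd Nat.prime_two).2 hb2)).symm
      exact (Subgroup.zpowers_le.2 h1) h2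
    have hax : a * x * a⁻¹ = x⁻¹ := by
      rw [← hg, hab]
      have := (mem_C.1 hbx).eq
      calc a * x * a⁻¹ = a * (x * b) * b⁻¹ * a⁻¹ := by group
        _ = a * b * x * (a * b)⁻¹ := by rw [← this]; group
    let H := Subgroup.closure ({x, a} : Set G)
    let x' : H := ⟨x, Subgroup.subset_closure (by simp)⟩
    let a' : H := ⟨a, Subgroup.subset_closure (by simp)⟩
    have htop : Subgroup.closure ({x', a'} : Set H) = ⊤ := by
      have := Subgroup.closure_closure_coe_preimage (k := ({x, a} : Set G))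
      rw [← this]
      congr 1
      ext y
      simp [x', a', Subtype.ext_iff]
    obtain ⟨h1, h2, h3⟩ := aux (x := x') (u := a') (fun e => hx (congrArg Subtype.val e))
      (by rw [← Subgroup.orderOf_coe]; exact ho) (by rw [← Subgroup.orderOf_coe]; exact ha2)
      (Subtype.ext hax) htop
    exact h H x' a' h1 h2 h3
  haveI : Group.IsNilpotent (P : Subgroup G) := P.isPGroup'.isNilpotent
  haveI : Group.IsSolvable (G ⧸ (P : Subgroup G)) := by
    apply S0205.result
    rw [← Nat.not_even_iff_odd, even_iff_two_dvd]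
    exact P.not_dvd_index
  exact solvable_of_ker_le_range (P : Subgroup G).subtype (QuotientGroup.mk' (P : Subgroup G)) (by simp)

end Cfsg.Agent.S4159
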