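import Cfsg.Statements.S4161
import Cfsg.Agent.H92.DiC
-- import your own Cfsg.Agent.* helpers here

set_option autoImplicit false
open Cfsg

namespace Cfsg.Agent.S4161

/-- Let G be a finite non-solvable group and p ≠ q primes each dividing the size of some conjugacy class of G. Then either some class size is divisible by pq, or there is a prime r, different from p and q, such that some class size is divisible by pr and some class size is divisible by rq. -/
theorem result {G : Type*} [Group G] [Finite G] (hG : ¬ Group.IsSolvable G)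
    (p q : ℕ) (hp : p.Prime) (hq : q.Prime) (hpq : p ≠ q) (hp' : ∃ x : G, p ∣ (Subgroup.centralizer ({x} : Set G)).index) (hq' : ∃ x : G, q ∣ (Subgroup.centralizer ({x} : Set G)).index) :
    (∃ x : G, p * q ∣ (Subgroup.centralizer ({x} : Set G)).index) ∨ ∃ r : ℕ, r.Prime ∧ r ≠ p ∧ r ≠ q ∧ (∃ x : G, p * r ∣ (Subgroup.centralizer ({x} : Set G)).index) ∧ (∃ y : G, r * q ∣ (Subgroup.centralizer ({y} : Set G)).index) := by
  by_contra h
  rw [not_or] at h
  obtain ⟨h1, h2⟩ := h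
  push Not at h1 h2
  haveI := Fact.mk hp
  haveI := Fact.mk hq
  let A : Set ℕ := {r | r.Prime ∧ r ≠ p ∧
    ∀ x : G, ¬ p * r ∣ (Subgroup.centralizer ({x} : Set G)).index}
  let B : Set ℕ := {r | r.Prime ∧ r ≠ q ∧
    ∀ x : G, ¬ r * q ∣ (Subgroup.centralizer ({x} : Set G)).index}
  have hqA : q ∈ A := ⟨hq, hpq.symm, h1⟩
  have hpB : p ∈ B := ⟨hp, hpq, h1⟩
  have hAB : ∀ r : ℕ, r.Prime → r ∈ A ∨ r ∈ B := fun r hr => by
    by_cases e1 : r = p
    · exact Or.inr (e1 ▸ hpB)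
    by_cases e2 : r = q
    · exact Or.inl (e2 ▸ hqA)
    by_cases h3 : ∃ x : G, p * r ∣ (Subgroup.centralizer ({x} : Set G)).index
    · exact Or.inr ⟨hr, e2, h2 r hr e1 e2 h3⟩
    · push Not at h3
      exact Or.inl ⟨hr, e1, h3⟩
  have ha : ∀ x : G, p ∣ (Subgroup.centralizer ({x} : Set G)).index →
      ∀ r ∈ A, ¬ r ∣ (Subgroup.centralizer ({x} : Set G)).index := fun x hx r hr h3 =>
    hr.2.2 x (((Nat.coprime_primes hp hr.1).2 hr.2.1.symm).mul_dvd_of_dvd_of_dvd hx h3)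
  have hb : ∀ x : G, q ∣ (Subgroup.centralizer ({x} : Set G)).index →
      ∀ r ∈ B, ¬ r ∣ (Subgroup.centralizer ({x} : Set G)).index := fun x hx r hr h3 =>
    hr.2.2 x (((Nat.coprime_primes hr.1 hq).2 hr.2.1).mul_dvd_of_dvd_of_dvd h3 hx)
  rcases hAB 2 Nat.prime_two with h3 | h3
  · exact hG (H92.Di.main hAB h3 hqA hpB _ G rfl ⟨ha, hb⟩ hp' hq')
  · exact hG (H92.Di.main (fun r hr => (hAB r hr).symm) h3 hpB hqA _ G rfl ⟨hb, ha⟩ hq' hp')

end Cfsg.Agent.S4161
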