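import Cfsg.Statements.S4185
import Cfsg.Agent.H65.GkE
import Cfsg.Agent.H73.GK3
import Cfsg.Agent.H31.GKU
import Cfsg.Agent.H61.GKO

set_option autoImplicit false
open Cfsg

namespace Cfsg.Agent.S4185

/-- Let G be a finite group with normal subgroups K < H such that K is nilpotent and contains every solvable normal subgroup of G, H/K is a simple group of Lie type (in some characteristic p) and the centralizer of H/K in G/K is trivial. If G/H is not cyclic, then some prime r dividing #(G/H) is adjacent to every other vertex of the prime graph of G: for every prime s ≠ r dividing #G there is an element of order rs. -/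
theorem result {G : Type*} [Group G] [Finite G]
    (K H : Subgroup G) [K.Normal] [H.Normal] (hKH : K < H)
    (hrad : ∀ M : Subgroup G, M.Normal → Group.IsSolvable ↥M → M ≤ K) (hK : Group.IsNilpotent ↥K)
    (p : ℕ) (hS : IsSimpleGroup (↥H ⧸ K.subgroupOf H)) (hS' : Cfsg.IsLieTypeChar p (↥H ⧸ K.subgroupOf H))
    (hC : Subgroup.centralizer ((H.map (QuotientGroup.mk' K) : Subgroup (G ⧸ K)) : Set (G ⧸ K)) = ⊥)
    (hnc : ¬ IsCyclic (G ⧸ H)) :
    ∃ r : ℕ, r.Prime ∧ r ∣ Nat.card (G ⧸ H) ∧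
      ∀ s : ℕ, s.Prime → s ∣ Nat.card G → s ≠ r → ∃ g : G, orderOf g = r * s := by
  refine H73.GK.reduce K H hKH hrad hK hS hC hnc fun hn => ?_
  rcases hS' with h | h | h | h | h | h | ⟨F, _, _, _, h | h | h | h | h⟩ | ⟨F, _, _, _, q, hq, h | h⟩ | h | h | h
  exacts [H73.GK.datPSL h hn, H73.GK.datPSp h hn, H31.GKU.datPSU h hn, H61.GKO.datOodd h hn,
    H61.GKO.datOplus h hn, H61.GKO.datOminus h hn, absurd (H73.GK.cyc_G2 ⟨F, _, _, h⟩) hn,
    absurd (H73.GK.cyc_F4 ⟨F, _, inferInstance, h⟩) hn, H65.GKE.datE6 h, H65.GKE.datE7 h,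
    absurd (H73.GK.cyc_E8 ⟨F, _, inferInstance, h⟩) hn, H65.GKE.dat2E6 ⟨F, _, _, q, hq, h⟩,
    absurd (H1.KO.cyc_3D4 ⟨F, _, _, q, hq, h⟩) hn, absurd (H1.KO.cyc_Sz h.2) hn, absurd (H1.KO.cyc_2F4 h.2) hn,
    absurd (H1.KO.cyc_Ree h.2) hn]

end Cfsg.Agent.S4185
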