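import Cfsg.Statements.S4187
import Cfsg.Agent.H1.RealCls

set_option autoImplicit false
open Cfsg

namespace Cfsg.Agent.S4187

/-- Let G be a finite group. Call an element real when it is conjugate to its inverse, and consider the graph whose vertices are the primes dividing the size of some conjugacy class of real elements, two distinct primes being adjacent when their product divides such a class size. If this graph is disconnected — its vertex set splits into two non-empty parts such that no real class size is divisible by a prime from each part — then G is solvable. -/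
theorem result {G : Type*} [Group G] [Finite G] (π₁ π₂ : Set ℕ) (h₁ : π₁.Nonempty) (h₂ : π₂.Nonempty) (hcover : ∀ q : ℕ, q.Prime → (∃ n ∈ {n : ℕ | ∃ x : G, IsConj x x⁻¹ ∧ (Subgroup.centralizer ({x} : Set G)).index = n}, q ∣ n) → q ∈ π₁ ∨ q ∈ π₂) (hsub : ∀ q ∈ π₁ ∪ π₂, q.Prime ∧ ∃ n ∈ {n : ℕ | ∃ x : G, IsConj x x⁻¹ ∧ (Subgroup.centralizer ({x} : Set G)).index = n}, q ∣ n) (hdisj : Disjoint π₁ π₂) (hnoedge : ∀ a ∈ π₁, ∀ b ∈ π₂, ∀ n ∈ {n : ℕ | ∃ x : G, IsConj x x⁻¹ ∧ (Subgroup.centralizer ({x} : Set G)).index = n}, ¬ (a ∣ n ∧ b ∣ n)) : Group.IsSolvable G := by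
    by_cases h2 : 2 ∈ π₂
    · obtain ⟨H, i, hi, hπ, h1⟩ := H1.RealCls.of_graph π₂ π₁ h₁
        (fun q hq h => (hcover q hq h).symm) (fun q hq => hsub q (Or.inl hq)) hdisj.symm
        fun a ha b hb n hn e => hnoedge b hb a ha n hn e.symm
      exact (⟨fun h => Set.disjoint_left.1 hdisj h h2, H⟩ : H1.RealCls.HG G π₁).solvable hi hπ h1
    · obtain ⟨H, i, hi, hπ, h1⟩ := H1.RealCls.of_graph π₁ π₂ h₂ hcover
        (fun q hq => hsub q (Or.inr hq)) hdisj hnoedge
      exact (⟨h2, H⟩ : H1.RealCls.HG G π₂).solvable hi hπ h1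

end Cfsg.Agent.S4187
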