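import Cfsg.Statements.S4192
import Cfsg.Agent.H1.RealCls

set_option autoImplicit false
open Cfsg

namespace Cfsg.Agent.S4192

open scoped Pointwise commutatorElement
open Cfsg.Agent.H92 Cfsg.Agent.H1.RealCls
open Cfsg.Agent.H2 (IsPiNum)

theorem central_of {G : Type*} [Group G] [Finite G] (P : Sylow 2 G) [(P : Subgroup G).Normal]
    {a b : G} (hb : b ∈ (P : Subgroup G)) (hbb : b * b = 1) (h1 : (cs[a]).Coprime cs[b])
    (h2 : (cs[a * b]).Coprime cs[b]) (ho : ¬ 2 ∣ cs[a]) : cs[b] = 1 := by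
  rw [cs_eq_one_iff, Subgroup.mem_center_iff]
  intro g
  have h4 : g * b * g⁻¹ * b ∈ rstab a := fun x hx => by
    have h5 := class_prod h1 hx (isConj_iff.2 ⟨g, rfl⟩)
    have h6 := class_prod h2 h5 (IsConj.refl _)
    rwa [mul_assoc a, hbb, mul_one, mul_assoc x] at h6
  have h5 : g * b * g⁻¹ * b ∈ (P : Subgroup G) :=
    Subgroup.mul_mem _ (Subgroup.Normal.conj_mem inferInstance b hb g) hb
  have h6 : (P : Subgroup G) ⊓ rstab a = ⊥ := H3.inf_eq_bot_of_isPGroup_of_coprime P.isPGroup'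
    ((Nat.Prime.coprime_iff_not_dvd Nat.prime_two).2 fun hd =>
      ho (hd.trans (card_rstab_dvd a))).symm
  have h7 : g * b * g⁻¹ * b = 1 := by
    rw [← Subgroup.mem_bot, ← h6]; exact ⟨h5, h4⟩
  rw [mul_eq_one_iff_eq_inv, inv_eq_of_mul_eq_one_right hbb] at h7
  exact mul_inv_eq_iff_eq_mul.1 h7

theorem part1 {G : Type*} [Group G] [Finite G] {π : Set ℕ} (h : HG G π) {i a : G}
    (hi : IsConj i i⁻¹) (hπ : IsPiNum π cs[i]) (h1 : cs[i] ≠ 1) (ha : IsConj a a⁻¹)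
    (hπa : IsPiNum πᶜ cs[a]) (h1a : cs[a] ≠ 1) : ∃ x : G, IsConj x x⁻¹ ∧ 2 ∣ cs[x] := by
  by_contra hc
  push Not at hc
  have hsq : ∀ x : G, IsConj x x⁻¹ → x * x = 1 := fun x hx => by
    rw [← pow_two]; exact H91.sq_eq_one_of_real_of_odd_index hx (hc x hx)
  obtain ⟨P, hP⟩ := not_dvd_cs_iff.1 (hc i hi)
  haveI : (P : Subgroup G).Normal := (S3861.result P).1 fun y hy ho hr =>
    hy (orderOf_eq_one_iff.1 (Nat.eq_one_of_dvd_coprimes (Nat.coprime_two_right.2 ho) dvd_rfl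
      (orderOf_dvd_of_pow_eq_one (by rw [pow_two]; exact hsq y hr))))
  have hmem : ∀ x : G, x * x = 1 → x ∈ (P : Subgroup G) := fun x hx => by
    obtain ⟨k, -, hk⟩ := (Nat.dvd_prime_pow Nat.prime_two (m := 1)).1
      (orderOf_dvd_of_pow_eq_one (x := x) (by simpa [pow_two] using hx))
    obtain ⟨Q, hQ⟩ := H91.exists_sylow_mem hk
    haveI := Sylow.unique_of_normal P inferInstance
    rwa [Subsingleton.elim Q P] at hQ
  have hii := hsq i hi
  have haa := hsq a ha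
  have hia : a * i = i * a := mem_C.1 (hP (hmem a haa))
  have hr : IsConj (i * a) (i * a)⁻¹ := by
    rw [mul_inv_rev, inv_eq_of_mul_eq_one_right hii, inv_eq_of_mul_eq_one_right haa, hia]
  rcases h.real _ hr with h2 | h2
  · exact h1a (central_of P (hmem a haa) haa (hπ.coprime hπa) (h2.coprime hπa) (hc i hi))
  · exact h1 (central_of P (hmem i hii) hii (hπ.coprime hπa).symm
      (hia ▸ (hπ.coprime h2).symm) (hc a ha))

theorem le_core {G : Type*} [Group G] [Finite G] [Group.IsSolvable G] {p : ℕ} [Fact p.Prime]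
    (hp : p ≠ 2) (T : Sylow 2 G) (Q : Sylow p G)
    (h : (Q : Subgroup G) ≤ Subgroup.normalizer ((T : Subgroup G) : Set G)) :
    (T : Subgroup G) ≤ pPrimeCore p G := by
  set N := pPrimeCore p G with hN
  set f := QuotientGroup.mk' N with hf
  have hfs : Function.Surjective f := QuotientGroup.mk'_surjective N
  have h1 : pCore p (G ⧸ N) ≤ (Q : Subgroup G).map f := H3.pCore_le_sylow (Q.mapSurjective hfs)
  have h2 : pCore p (G ⧸ N) ⊓ (T : Subgroup G).map f = ⊥ := by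
    refine H3.inf_eq_bot_of_isPGroup_of_coprime (H3.pCore_isPGroup p _) ?_
    obtain ⟨k, hk⟩ := (T.isPGroup'.map f).exists_card_eq
    rw [hk]
    exact ((Nat.coprime_primes Nat.prime_two Fact.out).2 hp.symm).pow_left k
  have h3 : (T : Subgroup G).map f ≤ pCore p (G ⧸ N) := by
    refine le_trans ?_ (H3.centralizer_pCore_le (H3.pPrimeCore_quotient_pPrimeCore p G))
    rintro t ht
    rw [Subgroup.mem_centralizer_iff]
    intro x hx
    have h4 : x * t * x⁻¹ * t⁻¹ ∈ pCore p (G ⧸ N) ⊓ (T : Subgroup G).map f := by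
      refine ⟨?_, ?_⟩
      · rw [mul_assoc, mul_assoc, ← mul_assoc t]
        exact Subgroup.mul_mem _ hx
          (Subgroup.Normal.conj_mem inferInstance _ (Subgroup.inv_mem _ hx) t)
      · refine Subgroup.mul_mem _ ?_ (Subgroup.inv_mem _ ht)
        obtain ⟨x, hx', rfl⟩ := h1 hx
        obtain ⟨t, ht', rfl⟩ := ht
        exact ⟨x * t * x⁻¹, (Subgroup.mem_normalizer_iff.1 (h hx') t).1 ht', by simp⟩
    rw [h2, Subgroup.mem_bot, mul_inv_eq_one, mul_inv_eq_iff_eq_mul] at h4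
    exact h4
  have h4 : (T : Subgroup G).map f = ⊥ := by
    rw [← h2]; exact (inf_eq_right.2 h3).symm
  rwa [Subgroup.map_eq_bot_iff, QuotientGroup.ker_mk'] at h4

abbrev KK (G : Type*) [Group G] : Subgroup G := Subgroup.closure {g : G | ∃ k : ℕ, orderOf g = 2 ^ k}

instance KK_normal (G : Type*) [Group G] : (KK G).Normal := by
  refine ⟨fun x hx g => ?_⟩
  induction hx using Subgroup.closure_induction with
  | mem y hy => exact Subgroup.subset_closure (by simpa [orderOf_conj] using hy)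
  | one => simp
  | mul u v _ _ ihu ihv => rw [← conj_mul]; exact Subgroup.mul_mem _ ihu ihv
  | inv u _ ihu => rw [← conj_inv]; exact Subgroup.inv_mem _ ihu

theorem part2 {G : Type*} [Group G] [Finite G] {π : Set ℕ} (h : HG G π) {i : G}
    (hi : IsConj i i⁻¹) (hπ : IsPiNum π cs[i]) (h1 : cs[i] ≠ 1) (P : Sylow 2 G)
    (hP : ¬ (P : Subgroup G).Normal) :
    (∃ x : KK G, IsConj x x⁻¹ ∧ 2 ∣ cs[x]) ∧
    (∃ x : KK G, IsConj x x⁻¹ ∧ Odd cs[x] ∧ cs[x] ≠ 1) ∧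
    ∀ x : KK G, IsConj x x⁻¹ → Odd cs[x] ∨ ∃ j, cs[x] = 2 ^ j := by
  haveI := h.solvable hi hπ h1
  obtain ⟨T, hT, hTN⟩ := h.exists_sylow hi hπ h1
  have hii := h.sq hi hπ
  have hS : ∀ Q : Sylow 2 G, (Q : Subgroup G) ≤ KK G := fun Q x hx =>
    Subgroup.subset_closure (H91.orderOf_eq_pow_of_mem Q.isPGroup' hx)
  have hodd : ∀ x : KK G, IsPiNum π cs[(x : G)] → Odd cs[x] := fun x hx =>
    Nat.not_even_iff_odd.1 fun e => h.two (hx 2 Nat.prime_two
      ((even_iff_two_dvd.1 e).trans (cs_subgroup_dvd _ x)))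
  refine ⟨?_, ?_, fun x hx => ?_⟩
  · have h2 := (S3861.result P).not.2 hP
    push Not at h2
    obtain ⟨y, hy1, ho, hy⟩ := h2
    obtain ⟨t, ht, e⟩ := H91.exists_two_element_inverts hy
    have htK : t ∈ KK G := Subgroup.subset_closure ht
    have h3 : y ^ 2 ∈ KK G := by
      have := (KK G).mul_mem ((KK_normal G).conj_mem t htK y) ((KK G).inv_mem htK)
      rwa [show y * t * y⁻¹ * t⁻¹ = y * (t * y * t⁻¹)⁻¹ by group, e, inv_inv, ← pow_two] at this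
    have hyK : y ∈ KK G := by
      obtain ⟨m, hm⟩ := exists_pow_eq_self_of_coprime (Nat.coprime_two_left.2 ho)
      rw [← hm]; exact Subgroup.pow_mem _ h3 m
    have hr : IsConj (⟨y, hyK⟩ : KK G) (⟨y, hyK⟩ : KK G)⁻¹ := isConj_iff.2 ⟨⟨t, htK⟩, Subtype.ext e⟩
    refine ⟨⟨y, hyK⟩, hr, ?_⟩
    by_contra hd
    have := congrArg Subtype.val (H91.sq_eq_one_of_real_of_odd_index hr hd)
    exact hy1 (orderOf_eq_one_iff.1 (Nat.eq_one_of_dvd_coprimes (Nat.coprime_two_right.2 ho)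
      dvd_rfl (orderOf_dvd_of_pow_eq_one this)))
  · have hiK : i ∈ KK G := by
      obtain ⟨k, -, hk⟩ := (Nat.dvd_prime_pow Nat.prime_two (m := 1)).1
        (orderOf_dvd_of_pow_eq_one (x := i) (by simpa [pow_two] using hii))
      exact Subgroup.subset_closure ⟨k, hk⟩
    refine ⟨⟨i, hiK⟩, ?_, hodd _ hπ, fun e => hP ?_⟩
    · rw [show (⟨i, hiK⟩ : KK G)⁻¹ = ⟨i, hiK⟩ from Subtype.ext (inv_eq_of_mul_eq_one_right hii)]
    · have h2 : KK G ≤ Ce[i] := fun x hx => mem_C.2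
        (congrArg Subtype.val (Subgroup.mem_center_iff.1 (cs_eq_one_iff.1 e) ⟨x, hx⟩))
      have h3 : ∀ Q : Sylow 2 G, Q = T := fun Q => by
        have h4 := (hS Q).trans (h2.trans hTN)
        have h5 := Q.is_maximal' (IsPGroup.to_sup_of_normal_right' Q.isPGroup' T.isPGroup' h4)
          le_sup_left
        have h6 := T.is_maximal' (IsPGroup.to_sup_of_normal_right' Q.isPGroup' T.isPGroup' h4)
          le_sup_right
        exact Sylow.ext (h5.symm.trans h6)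
      haveI : Subsingleton (Sylow 2 G) := ⟨fun a b => (h3 a).trans (h3 b).symm⟩
      exact Sylow.normal_of_subsingleton P
  · rcases h.real x ((KK G).subtype.map_isConj hx) with h2 | h2
    · exact Or.inl (hodd x h2)
    right
    refine H91.exists_pow_of_prime_dvd_imp_eq (cs_ne_zero x) fun q hq hd => ?_
    by_contra hq2
    haveI := Fact.mk hq
    obtain ⟨Q, hQ⟩ := not_dvd_cs_iff.1 fun hd' : q ∣ cs[i] =>
      h2 q hq (hd.trans (cs_subgroup_dvd _ x)) (hπ q hq hd')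
    have h3 := le_core hq2 T Q (hQ.trans hTN)
    have h4 : KK G ≤ pPrimeCore q G := by
      rw [Subgroup.closure_le]
      rintro g ⟨k, hk⟩
      obtain ⟨R, hR⟩ := H91.exists_sylow_mem hk
      obtain ⟨c, rfl⟩ := MulAction.exists_smul_eq G T R
      obtain ⟨t, ht, rfl⟩ := hR
      exact (pPrimeCore_normal q G).conj_mem t (h3 ht) c
    exact H3.not_dvd_card_pPrimeCore q G
      ((hd.trans (cs_dvd_card x)).trans (Subgroup.card_dvd_of_le h4))

/-- Let G be a finite group; call an element real when it is conjugate to its inverse, and say that the real-class-size graph of a group is disconnected when the primes dividing its real class sizes split into two non-empty disjoint parts with no real class size divisible by a prime from each part. If the real-class-size graph of G is disconnected, then some real class size of G is even, and either the Sylow 2-subgroups of G are normal, or the subgroup K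 generated by the 2-elements of G (the smallest normal subgroup of odd index) again has a disconnected real-class-size graph and every real class size of K is odd or a power of 2. -/
theorem result {G : Type*} [Group G] [Finite G] (h : (∃ π₁ π₂ : Set ℕ, π₁.Nonempty ∧ π₂.Nonempty ∧ Disjoint π₁ π₂ ∧ (∀ q ∈ π₁ ∪ π₂, q.Prime ∧ ∃ n ∈ {n : ℕ | ∃ x : G, IsConj x x⁻¹ ∧ (Subgroup.centralizer ({x} : Set G)).index = n}, q ∣ n) ∧ (∀ q : ℕ, q.Prime → (∃ n ∈ {n : ℕ | ∃ x : G, IsConj x x⁻¹ ∧ (Subgroup.centralizer ({x} : Set G)).index = n}, q ∣ n) → q ∈ π₁ ∨ q ∈ π₂) ∧ ∀ a ∈ π₁, ∀ b ∈ π₂, ∀ n ∈ {n : ℕ | ∃ x : G, IsConj x x⁻¹ ∧ (Subgroup.centralizer ({x} : Set G)).index = n}, ¬ (a ∣ n ∧ b ∣ n))) : (∃ n ∈ {n : ℕ | ∃ x : G, IsConj x x⁻¹ ∧ (Subgroup.centralizer ({x} : Set G)).index = n}, 2 ∣ n) ∧ ((∀ P : Sylow 2 G, (P : Subgroup G).Normal) ∨ ((∃ π₁ π₂ : Set ℕ, π₁.Nonempty ∧ π₂.Nonempty ∧ Disjoint π₁ π₂ ∧ (∀ q ∈ π₁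 ∪ π₂, q.Prime ∧ ∃ n ∈ {n : ℕ | ∃ x : ↥(Subgroup.closure {g : G | ∃ k : ℕ, orderOf g = 2 ^ k}), IsConj x x⁻¹ ∧ (Subgroup.centralizer ({x} : Set ↥(Subgroup.closure {g : G | ∃ k : ℕ, orderOf g = 2 ^ k}))).index = n}, q ∣ n) ∧ (∀ q : ℕ, q.Prime → (∃ n ∈ {n : ℕ | ∃ x : ↥(Subgroup.closure {g : G | ∃ k : ℕ, orderOf g = 2 ^ k}), IsConj x x⁻¹ ∧ (Subgroup.centralizer ({x} : Set ↥(Subgroup.closure {g : G | ∃ k : ℕ, orderOf g = 2 ^ k}))).index = n}, q ∣ n) → q ∈ π₁ ∨ q ∈ π₂) ∧ ∀ a ∈ π₁, ∀ b ∈ π₂, ∀ n ∈ {n : ℕ | ∃ x : ↥(Subgroup.closure {g : G | ∃ k : ℕ, orderOf g = 2 ^ k}), IsConj x x⁻¹ ∧ (Subgroup.centralizer ({x} : Set ↥(Subgroup.closure {g : G | ∃ k : ℕ, orderOf g = 2 ^ k}))).index = n}, ¬ (a ∣ n ∧ b ∣ n)) ∧ ∀ n ∈ {n : ℕ | ∃ x : ↥(Subgroup.closure {g : G | ∃ k : ℕ, orderOf g = 2 ^ k}), IsConj x x⁻¹ ∧ (Subgroup.centralizer ({x} : Set ↥(Subgroup.closure {g : G | ∃ k : ℕ, orderOf g = 2 ^ k}))).index = n},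 Odd n ∨ ∃ j : ℕ, n = 2 ^ j)) := by
    obtain ⟨π₁, π₂, h₁, h₂, hdisj, hsub, hcover, hnoedge⟩ := h
    obtain ⟨H1, a, ha, hπa, h1a⟩ := of_graph π₂ π₁ h₁
      (fun q hq h => (hcover q hq h).symm) (fun q hq => hsub q (Or.inl hq)) hdisj.symm
      fun a ha b hb n hn e => hnoedge b hb a ha n hn e.symm
    obtain ⟨H2, b, hb, hπb, h1b⟩ := of_graph π₁ π₂ h₂ hcover
      (fun q hq => hsub q (Or.inr hq)) hdisj hnoedge
    obtain ⟨π, H, i, hi, hπ, h1, j, hj, hπj, h1j⟩ : ∃ π : Set ℕ, HG G π ∧ ∃ i : G, IsConj i i⁻¹ ∧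
        IsPiNum π cs[i] ∧ cs[i] ≠ 1 ∧ ∃ j : G, IsConj j j⁻¹ ∧ IsPiNum πᶜ cs[j] ∧ cs[j] ≠ 1 := by
      by_cases h2 : 2 ∈ π₂
      · exact ⟨π₁, ⟨fun h => Set.disjoint_left.1 hdisj h h2, H1⟩, a, ha, hπa, h1a, b, hb,
          fun q hq hd => Set.disjoint_right.1 hdisj (hπb q hq hd), h1b⟩
      · exact ⟨π₂, ⟨h2, H2⟩, b, hb, hπb, h1b, a, ha,
          fun q hq hd => Set.disjoint_left.1 hdisj (hπa q hq hd), h1a⟩
    obtain ⟨x, hx, hx2⟩ := part1 H hi hπ h1 hj hπj h1j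
    refine ⟨⟨_, ⟨x, hx, rfl⟩, hx2⟩, ?_⟩
    by_cases hN : ∀ P : Sylow 2 G, (P : Subgroup G).Normal
    · exact Or.inl hN
    right
    push Not at hN
    obtain ⟨P, hP⟩ := hN
    obtain ⟨⟨y, hy, hy2⟩, ⟨z, hz, hzo, hz1⟩, h3⟩ := part2 H hi hπ h1 P hP
    refine ⟨⟨{2}, {q | q ≠ 2 ∧ q.Prime ∧ ∃ n ∈ {n : ℕ | ∃ x : KK G, IsConj x x⁻¹ ∧ cs[x] = n}, q ∣ n},
      ⟨2, rfl⟩, ?_, ?_, ?_, ?_, ?_⟩, ?_⟩
    · obtain ⟨q, hq, hd⟩ := Nat.exists_prime_and_dvd hz1
      refine ⟨q, ?_, hq, _, ⟨z, hz, rfl⟩, hd⟩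
      rintro rfl
      exact Nat.not_even_iff_odd.2 hzo (even_iff_two_dvd.2 hd)
    · rw [Set.disjoint_left]
      rintro q rfl hq
      exact hq.1 rfl
    · rintro q (rfl | hq)
      · exact ⟨Nat.prime_two, _, ⟨y, hy, rfl⟩, hy2⟩
      · exact hq.2
    · intro q hq hn
      by_cases h2 : q = 2
      · exact Or.inl h2
      · exact Or.inr ⟨h2, hq, hn⟩
    · rintro _ rfl q hq _ ⟨w, hw, rfl⟩ ⟨e1, e2⟩
      rcases h3 w hw with h4 | ⟨j, h4⟩
      · exact Nat.not_even_iff_odd.2 h4 (even_iff_two_dvd.2 e1)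
      · rw [h4] at e2
        exact hq.1 ((Nat.prime_dvd_prime_iff_eq hq.2.1 Nat.prime_two).1 (hq.2.1.dvd_of_dvd_pow e2))
    · rintro _ ⟨w, hw, rfl⟩
      exact h3 w hw

end Cfsg.Agent.S4192
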