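import Cfsg.Statements.S4193
import Cfsg.Agent.S3861
import Cfsg.Agent.S3862
import Cfsg.Agent.S3863
import Cfsg.Agent.H92.ClassSize
import Cfsg.Agent.H89.SolvInd
import Cfsg.Agent.H89.OddHall

set_option autoImplicit false
open Cfsg

namespace Cfsg.Agent.S4193

open Subgroup H92

/-- Let G be a finite group in which the conjugacy classes of all non-central real elements (elements conjugate to their inverses) have sizes with the same 2-part, and suppose G has a Sylow 2-subgroup S such that every element of S that is conjugate in S to its inverse lies in the centre of S. Then G is solvable and the subgroup generated by the 2-elements of G (the smallest normal subgroup of odd index) has a normal 2-complement. -/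
theorem result {G : Type*} [Group G] [Finite G] (a : ℕ) (h : ∀ x : G, IsConj x x⁻¹ → x ∉ Subgroup.center G → ((Subgroup.centralizer ({x} : Set G)).index).factorization 2 = a) (S : Sylow 2 G) (hS : ∀ s : ↥(S : Subgroup G), IsConj s s⁻¹ → s ∈ Subgroup.center ↥(S : Subgroup G)) : Group.IsSolvable G ∧ Cfsg.HasNormalPComplement 2 ↥(Subgroup.closure {g : G | ∃ k : ℕ, orderOf g = 2 ^ k}) := by
  by_cases h1 : ∀ x : G, x ≠ 1 → Odd (orderOf x) → ¬ IsConj x x⁻¹
  · have h2 := (S3861.result S).1 h1
    have h3 : Group.IsSolvable (S : Subgroup G) :=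
      H89.isSolvable_of_isPGroup Nat.prime_two S.isPGroup'
    have h4 : Group.IsSolvable (G ⧸ (S : Subgroup G)) :=
      H89.isSolvable_of_not_two_dvd S.not_dvd_index
    exact ⟨Group.isSolvable_of_ker_le_range (S : Subgroup G).subtype (QuotientGroup.mk' S)
      (by simp), H8.hasNormalPComplement_of_isPGroup (S.isPGroup'.to_le
        ((closure_le _).2 fun g hg => mem_sylow_of_normal S hg))⟩
  push Not at h1
  obtain ⟨x, hx1, hxo, hx⟩ := h1
  have hx2 : x ^ 2 ≠ 1 := fun h2 => hx1 (orderOf_eq_one_iff.1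
    (Nat.eq_one_of_dvd_coprimes (Nat.coprime_two_right.2 hxo) dvd_rfl
      (orderOf_dvd_of_pow_eq_one h2)))
  have ha : a ≠ 0 := by
    rintro rfl
    refine hx2 ((S3863.result x hx).2.1 (Nat.not_even_iff_odd.1 fun h2 => ?_))
    have h3 := h x hx fun h3 => by
      rw [cs_eq_one_iff.2 h3] at h2
      exact absurd h2 (by decide)
    exact (Nat.prime_two.factorization_pos_of_dvd (cs_ne_zero x) h2.two_dvd).ne' h3
  have h2 : HasNormalPComplement 2 G := by
    refine S3862.result fun y ⟨j, hj⟩ hy => ?_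
    by_contra h3
    obtain ⟨t, ⟨k, hk⟩, ht⟩ := (S3863.result y hy).1
    have h4 : IsPGroup 2 ↥(zpowers y ⊔ zpowers t) := by
      refine (IsPGroup.of_card (n := j) (by rw [Nat.card_zpowers, hj])).to_sup_of_normal_left'
        (IsPGroup.of_card (n := k) (by rw [Nat.card_zpowers, hk]))
        (zpowers_le.2 (mem_normalizer_fintype ?_))
      rintro _ ⟨i, rfl⟩
      refine ⟨-i, ?_⟩
      simp only
      rw [← conj_zpow, ht, inv_zpow']
    obtain ⟨g, hg⟩ := H1.exists_conj_le_of_not_dvd_index h4 S.not_dvd_index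
    have h5 : g * y * g⁻¹ ∈ (S : Subgroup G) :=
      hg (smul_mem_pointwise_smul _ (MulAut.conj g) _ (mem_sup_left (mem_zpowers y)))
    have h6 : g * t * g⁻¹ ∈ (S : Subgroup G) :=
      hg (smul_mem_pointwise_smul _ (MulAut.conj g) _ (mem_sup_right (mem_zpowers t)))
    have h7 := mem_center_iff.1 (hS ⟨_, h5⟩ (isConj_iff.2 ⟨⟨_, h6⟩, Subtype.ext (by
      change g * t * g⁻¹ * (g * y * g⁻¹) * (g * t * g⁻¹)⁻¹ = (g * y * g⁻¹)⁻¹
      calc _ = g * (t * y * t⁻¹) * g⁻¹ := by group
        _ = _ := by rw [ht]; group)⟩))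
    have h8 := (not_dvd_cs_iff_conj S).2 ⟨g, fun s hs => congrArg Subtype.val (h7 ⟨s, hs⟩)⟩
    exact ha ((h y hy h3).symm.trans (Nat.factorization_eq_zero_of_not_dvd h8))
  refine ⟨?_, H8.HasNormalPComplement.subgroup h2 _⟩
  have h3 := H89.isSolvable_of_not_two_dvd (H8.hasNormalPComplement_iff_not_dvd.1 h2)
  have h4 := H89.isSolvable_of_isPGroup Nat.prime_two (H8.isPGroup_quotient_pResidual (G := G) 2)
  exact Group.isSolvable_of_ker_le_range (pResidual 2 G).subtype (QuotientGroup.mk' (pResidual 2 G))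
    (by simp)

end Cfsg.Agent.S4193
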