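import Cfsg.Statements.S4194
import Cfsg.Agent.H51.CamHer

set_option autoImplicit false
open Cfsg

namespace Cfsg.Agent.S4194

/-- A finite group G has commutative Sylow 2-subgroups if and only if every 2-element of G (element of order a power of 2) is 2-central, that is, its centralizer contains a Sylow 2-subgroup of G. -/
theorem result {G : Type*} [Group G] [Finite G] (P : Sylow 2 G) :
    IsMulCommutative (P : Subgroup G) ↔ ∀ x : G, (∃ k : ℕ, orderOf x = 2 ^ k) → (∃ Q : Sylow 2 G, (Q : Subgroup G) ≤ Subgroup.centralizer ({x} : Set G)) := by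
  constructor
  · intro hP x hx
    obtain ⟨k, hk⟩ := hx
    have hp : IsPGroup 2 (Subgroup.zpowers x) := IsPGroup.of_card (by rw [Nat.card_zpowers, hk])
    obtain ⟨Q, hQ⟩ := hp.exists_le_sylow
    obtain ⟨g, rfl⟩ := MulAction.exists_smul_eq G P Q
    have hc : IsMulCommutative ((g • P : Sylow 2 G) : Subgroup G) := by
      rw [Sylow.coe_subgroup_smul, ← H8.map_conj_eq_smul]
      exact H51.isMulCommutative_map hP _
    refine ⟨g • P, fun y hy z hz => ?_⟩
    rw [Set.mem_singleton_iff.1 hz]
    exact H51.isMulCommutative_iff_forall.1 hc _ (hQ (Subgroup.mem_zpowers x)) _ hy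
  · intro h
    refine H51.sylow_comm_of_twoCentral (fun x ⟨k, hk⟩ => h x ?_) P
    obtain ⟨j, -, hj⟩ := (Nat.dvd_prime_pow Nat.prime_two).1 (orderOf_dvd_of_pow_eq_one hk)
    exact ⟨j, hj⟩

end Cfsg.Agent.S4194
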