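import Cfsg.Statements.S4233
import Cfsg.Agent.H92.MaxNorm4
import Cfsg.Agent.H92.Ito
import Cfsg.Agent.H80.SLnMult
import Cfsg.Agent.H87.GoldFacts
import Cfsg.Agent.H52.Fitting
import Cfsg.Agent.S4211
import Cfsg.Agent.S0055
import Cfsg.Agent.S0243

set_option autoImplicit false
open Cfsg

namespace Cfsg.Agent.S4233

open Subgroup Cfsg.Agent.H63 Cfsg.Agent.H67 Cfsg.Agent.H92
open scoped MatrixGroups commutatorElement

theorem sl2_of_cover {G : Type*} [Group G] [Finite G] [Group.IsPerfect G] {F : Type*} [Field F]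
    [Fintype F] (h4 : 4 < Fintype.card F) (h9 : Fintype.card F ≠ 9) {σ : G →* PSL(2, F)}
    (hσ : H80.IsCentralExt σ) : Nat.card σ.ker ≤ 2 ∧ (σ.ker ≠ ⊥ → Nonempty (G ≃* SL(2, F))) := by
  rw [← Nat.card_eq_fintype_card] at h4 h9
  have := H80.isPerfect_SL' (K := F) (n := 2) le_rfl fun _ => h4.le
  obtain ⟨η, hη⟩ := H80.exists_lift_of_perfect_of_trivial (H80.multiplier_SL (K := F) (n := 2) le_rfl
    (by simp only [Set.mem_insert_iff, Prod.mk.injEq, Set.mem_singleton_iff]; omega))
    (QuotientGroup.mk' (center SL(2, F))) hσ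
  have h1 : Function.Surjective η := H80.surjective_of_stem (H80.isStemExtension_of_perfect hσ)
    fun x => by
      obtain ⟨e, he⟩ := QuotientGroup.mk'_surjective _ (σ x)
      exact ⟨e, (DFunLike.congr_fun hη e).trans he⟩
  obtain ⟨e⟩ := H80.nonempty_center_SL (K := F) (n := 2) two_pos
  have h2 := (center SL(2, F)).card_mul_index
  rw [Nat.card_congr e.toEquiv, Nat.card_congr Multiplicative.toAdd, Nat.card_zmod] at h2
  have h3 := σ.ker.card_mul_index
  rw [index_ker, MonoidHom.range_eq_top.mpr hσ.surj, card_top] at h3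
  have h6 := Nat.card_le_card_of_surjective η h1
  have h7 : 0 < (center SL(2, F)).index := Nat.pos_of_ne_zero index_ne_zero_of_finite
  change _ * (center SL(2, F)).index = _ at h3
  have h8 : Nat.card σ.ker ≤ Nat.gcd 2 (Nat.card F - 1) :=
    Nat.le_of_mul_le_mul_right (by rw [h3, h2]; exact h6) h7
  have h10 : Nat.gcd 2 (Nat.card F - 1) ≤ 2 := Nat.gcd_le_left _ two_pos
  refine ⟨by omega, fun hk => ⟨(MulEquiv.ofBijective η (h1.bijective_of_nat_card_le ?_)).symm⟩⟩
  have h5 : 1 < Nat.card σ.ker := (one_lt_card_iff_ne_bot _).mpr hk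
  rw [← h2, ← h3]; exact Nat.mul_le_mul_right _ (by omega)

theorem solvable_comap {G L : Type*} [Group G] [Group L] (f : G →* L) (hk : Group.IsSolvable f.ker)
    {X : Subgroup L} (hX : Group.IsSolvable X) : Group.IsSolvable (X.comap f) := by
  haveI : Group.IsSolvable (f.subgroupComap X).ker :=
    Group.isSolvable_of_isSolvable_injective (f := (((X.comap f).subtype.comp
      (f.subgroupComap X).ker.subtype).codRestrict f.ker fun x => congrArg Subtype.val x.2))
      fun a b hab => Subtype.ext (Subtype.ext (congrArg (Subtype.val : f.ker → G) hab))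
  exact Group.isSolvable_of_ker_le_range (f.subgroupComap X).ker.subtype (f.subgroupComap X)
    (by rw [range_subtype])

theorem burnside {L : Type*} [Group L] [Finite L] [IsSimpleGroup L] (hL : Nat.card L = 1092) {p : ℕ}
    (hp : p.Prime) {P : Subgroup L} (hP : IsPGroup p P) (h1 : P ≠ ⊥) (hi : ¬ p ∣ P.index)
    (h : N[P] ≤ C[P]) : False := by
  haveI := Fact.mk hp
  obtain ⟨S, rfl⟩ := exists_sylow_top (syl_mk le_top hP (by rwa [relIndex_top_right]))
  have hc := MonoidHom.ker_transferSylow_isComplement' S h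
  rcases (MonoidHom.normal_ker (MonoidHom.transferSylow S h)).eq_bot_or_eq_top with e | e
  · have h2 := hc.sup_eq_top
    rw [e, bot_sup_eq] at h2
    obtain ⟨k, hk⟩ := hP.exists_card_eq
    rw [h2, card_top, hL] at hk
    have h3 := hp.eq_one_or_self_of_dvd 2
    have h4 : 2 ∣ p ^ k := by rw [← hk]; norm_num
    have h5 : 3 ∣ p ^ k := by rw [← hk]; norm_num
    have := (Nat.prime_dvd_prime_iff_eq Nat.prime_two hp).1 (Nat.prime_two.dvd_of_dvd_pow h4)
    have := (Nat.prime_dvd_prime_iff_eq Nat.prime_three hp).1 (Nat.prime_three.dvd_of_dvd_pow h5)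
    omega
  · have h2 := hc.disjoint
    rw [e, top_disjoint] at h2
    exact h1 h2

theorem klein {L : Type*} [Group L] [Finite L] [IsSimpleGroup L] (hL : Nat.card L = 1092) :
    ∃ P : Subgroup L, IsPGroup 2 P ∧ Nat.card P = 4 ∧ ∀ a ∈ P, a * a = 1 := by
  haveI := Fact.mk Nat.prime_two
  obtain ⟨P⟩ : Nonempty (Sylow 2 L) := inferInstance
  have hc : Nat.card (P : Subgroup L) = 4 := by
    rw [P.card_eq_multiplicity, hL]
    have : (1092 : ℕ).factorization 2 = 2 := by
      rw [show 1092 = 2 ^ 2 * 273 by norm_num, Nat.factorization_mul (by norm_num) (by norm_num),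
        Finsupp.add_apply, Nat.factorization_eq_zero_of_not_dvd (n := 273) (by norm_num),
        Nat.prime_two.factorization_pow]
      simp
    rw [this]; norm_num
  refine ⟨P, P.2, hc, fun a ha => ?_⟩
  by_contra h2
  have hd : orderOf a ∣ 2 ^ 2 := by have := orderOf_dvd_card_of_mem ha; rwa [hc] at this
  obtain ⟨k, hk, hk'⟩ := (Nat.dvd_prime_pow Nat.prime_two).1 hd
  have h4 : orderOf a = 4 := by
    interval_cases k
    · exact absurd (by rw [orderOf_eq_one_iff.1 hk', mul_one]) h2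
    · exact absurd (mul_self_of_two hk') h2
    · exact hk'
  haveI : IsCyclic (P : Subgroup L) := isCyclic_of_orderOf_eq_card (⟨a, ha⟩ : (P : Subgroup L))
    (by rw [hc, ← h4]; exact (orderOf_injective (P : Subgroup L).subtype Subtype.val_injective ⟨a, ha⟩).symm)
  exact burnside hL Nat.prime_two P.2 (fun e => by rw [e, card_bot] at hc; omega) P.not_dvd_index
    (IsCyclic.normalizer_le_centralizer (by rw [hL]; norm_num) inferInstance)

theorem cent_of_cop {G : Type*} [Group G] [Finite G] {R : Subgroup G} [hR : R.Normal] {p q k l : ℕ}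
    (hp : p.Prime) (hq : q.Prime) (hne : q ≠ p) {x r : G} (hx : orderOf x = p ^ k) (hxR : x ∉ R)
    (hr : orderOf r = q ^ l) (hrR : r ∈ R) (hn : r ∈ N[zpowers x]) : x ∈ C1[r] := by
  have h1 : (zpowers x ⊓ C[zpowers r]) ⊔ ⁅zpowers x, zpowers r⁆ = zpowers x :=
    (S0055.result (zpowers r) (zpowers x) (zpowers_le.2 hn) (by
    rw [Nat.card_zpowers, Nat.card_zpowers, hx, hr]
    exact Nat.Coprime.pow _ _ ((Nat.coprime_primes hq hp).2 hne))).2
  have hle : ⁅zpowers x, zpowers r⁆ ≤ zpowers x := le_sup_right.trans h1.le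
  have hn' : zpowers x ⊓ C[zpowers r] ≤ C[⁅zpowers x, zpowers r⁆] :=
    fun a ha b hb => zpowers_comm (hle hb) ha.1
  obtain ⟨c, hc, d, hd, e⟩ := (mem_sup_of_le_normalizer (le_normalizer_of_le_centralizer hn')).1
    (h1.ge (mem_zpowers x))
  have hdR : d ∈ R := (commutator_mono le_top (zpowers_le.2 hrR)).trans
    (commutator_le_right ⊤ R) hd
  obtain ⟨i, rfl⟩ : ∃ i : ℕ, x ^ i = c := mem_powers_iff_mem_zpowers.2 hc.1
  obtain ⟨j, rfl⟩ : ∃ j : ℕ, x ^ j = d := mem_powers_iff_mem_zpowers.2 (hle hd)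
  have key : ∀ (H : Subgroup G) (m : ℕ), x ^ m ∈ H → ¬ p ∣ m → x ∈ H := fun H m hm hd =>
    mem_of_coprime_pow (n := p ^ k) (((Nat.Prime.coprime_iff_not_dvd hp).2 hd).symm.pow_right k) hm
      (by rw [← hx, pow_orderOf_eq_one]; exact one_mem _)
  have hj : p ∣ j := by
    by_contra hj
    exact hxR (key R j hdR hj)
  rw [← centralizer_zpowers]
  refine key _ i hc.2 fun hi => hxR ?_
  rw [← pow_add] at e
  rcases Nat.eq_zero_or_pos (i + j) with h0 | h0
  · rw [← e, h0, pow_zero]; exact one_mem _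
  refine key R (i + j - 1) (by
    have : x ^ (i + j - 1) * x = 1 * x := by rw [← pow_succ, Nat.sub_add_cancel h0, e, one_mul]
    rw [mul_right_cancel this]; exact one_mem _) fun hd => hp.one_lt.ne' ?_
  have := (Nat.dvd_sub (dvd_add hi hj) hd)
  rwa [Nat.sub_sub_self h0, Nat.dvd_one] at this

/-- Let G be a finite non-solvable group in which every subgroup H that is not subnormal and whose order has at most two prime divisors has a normalizer N_G(H) that is a maximal subgroup of G. Then G is the internal direct product of normal subgroups K and S with K isomorphic to PSL(2, 13) or to SL(2, 13), S abelian, and the orders of K and S coprime. -/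
theorem result {G : Type*} [Group G] [Finite G] (hG : ¬ Group.IsSolvable G)
    (h : ∀ H : Subgroup G, ¬ H.IsSubnormal →
      (∃ p q : ℕ, p.Prime ∧ q.Prime ∧ ∀ r : ℕ, r.Prime → r ∣ Nat.card H → r = p ∨ r = q) →
      IsCoatom (Subgroup.normalizer (H : Set G))) :
    ∃ K S : Subgroup G, K.Normal ∧ S.Normal ∧ K ⊓ S = ⊥ ∧ K ⊔ S = ⊤ ∧
      (Nonempty (K ≃* Matrix.ProjectiveSpecialLinearGroup (Fin 2) (ZMod 13)) ∨
        Nonempty (K ≃* Matrix.SpecialLinearGroup (Fin 2) (ZMod 13))) ∧
      IsMulCommutative S ∧ (Nat.card K).Coprime (Nat.card S) := by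
  obtain ⟨R, ⟨hRn, hRs⟩, hRm⟩ := (Set.toFinite
    {N : Subgroup G | N.Normal ∧ Group.IsSolvable N}).exists_maximal ⟨⊥, inferInstance, inferInstance⟩
  have hmax : ∀ N : Subgroup G, N.Normal → Group.IsSolvable N → N ≤ R := fun N hN hs =>
    le_sup_left.trans (hRm (y := N ⊔ R) ⟨inferInstance, isSolvable_sup hs hRs
      (by rw [normalizer_eq_top]; exact le_top)⟩ le_sup_right)
  have hNR : N[R] = ⊤ := normalizer_eq_top R
  have H' : ∀ (p q : ℕ) (Y : Subgroup G), p.Prime → q.Prime → Group.IsSolvable Y →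
      IsPiSubgroup {p, q} Y → ¬ Y ≤ R → IsCoatom N[Y] ∧ N[Y ⊔ R] = N[Y] := by
    intro p q Y hp hq hs hπ hY
    have h1 := h Y (fun hsn => by
      obtain ⟨N, hN, hNs, hle⟩ := H52.exists_normal_solvable_of_subnormal hsn hs
      exact hY (hle.trans (hmax N hN hNs))) ⟨p, q, hp, hq, fun r hr hd => hπ r hr hd⟩
    refine ⟨h1, (h1.le_iff_eq fun e => hY (le_sup_left.trans (hmax _ (normalizer_eq_top_iff.1 e)
      (isSolvable_sup hs hRs (hNR ▸ le_top))))).1 (le_normalizer_sup le_rfl (hNR ▸ le_top))⟩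
  have hker : (QuotientGroup.mk' R).ker = R := QuotientGroup.ker_mk' R
  have hsur := QuotientGroup.mk'_surjective R
  have hMN : MN (G ⧸ R) := by
    refine ⟨fun N hN hs => ?_, fun e => hG ?_, fun p q X hp hq h1 hs hπ => ?_⟩
    · have := hmax _ (hN.comap _) (solvable_comap (QuotientGroup.mk' R) (hker.symm ▸ hRs) hs)
      rw [← map_comap_eq_self_of_surjective hsur N, Subgroup.map_eq_bot_iff, hker]
      exact this
    · have h1 : R = ⊤ := by
        rw [← hker, ← MonoidHom.comap_bot, ← e, comap_top]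
      rw [h1] at hRs
      exact Group.isSolvable_of_surjective (f := (⊤ : Subgroup G).subtype) fun x => ⟨⟨x, trivial⟩, rfl⟩
    · obtain ⟨Y, hY⟩ := exists_hall {p, q} (solvable_comap (QuotientGroup.mk' R) (hker.symm ▸ hRs) hs)
      have h2 := hall_map hY (QuotientGroup.mk' R)
      rw [map_comap_eq_self_of_surjective hsur] at h2
      have h3 := hall_eq_of_isPi h2 hπ
      obtain ⟨h4, h5⟩ := H' p q Y hp hq (isSolvable_of_le
        (solvable_comap (QuotientGroup.mk' R) (hker.symm ▸ hRs) hs) hY.1) hY.2.1 fun hle => h1 (by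
          rw [← h3, Subgroup.map_eq_bot_iff, hker]; exact hle)
      rw [← h5, ← hker, ← comap_map_eq, h3, ← comap_normalizer_eq_of_surjective _ hsur] at h4
      refine ⟨fun e => h4.1 (by rw [e, comap_top]), fun L hL => comap_injective hsur ?_⟩
      rw [h4.2 _ ((comap_lt_comap_of_surjective hsur).2 hL), comap_top]
  obtain ⟨e⟩ := hMN.iso
  haveI := Fact.mk (by norm_num : Nat.Prime 13)
  haveI : IsSimpleGroup PSL(2, ZMod 13) := H87.psl2_simple (by rw [ZMod.card]; norm_num)
  have hL : Nat.card PSL(2, ZMod 13) = 1092 := by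
    have := S0243.result (F := ZMod 13) (ZMod.card 13) 2 le_rfl
    simp only [Fin.prod_univ_two, Fin.val_zero, Fin.val_one] at this
    rw [show Nat.gcd 2 (13 - 1) = 2 by norm_num] at this
    omega
  obtain ⟨π, hπs, hπk⟩ : ∃ π : G →* PSL(2, ZMod 13), Function.Surjective π ∧ π.ker = R :=
    ⟨e.toMonoidHom.comp (QuotientGroup.mk' R), e.surjective.comp hsur, by
      rw [← MonoidHom.comap_ker, (MonoidHom.ker_eq_bot_iff _).mpr e.injective, MonoidHom.comap_bot,
        hker]⟩
  have hidx : R.index = 1092 := by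
    rw [← hπk, index_ker, MonoidHom.range_eq_top.2 hπs, card_top, hL]
  have hmapC : ∀ N : Subgroup G, N.Normal → ¬ N ≤ R → N.map π = ⊤ := fun N hN hle =>
    (hN.map π hπs).eq_bot_or_eq_top.resolve_left (by rwa [Subgroup.map_eq_bot_iff, hπk])
  have hperf : ⁅(⊤ : Subgroup PSL(2, ZMod 13)), (⊤ : Subgroup PSL(2, ZMod 13))⁆ = ⊤ := by
    refine (commutator_normal ⊤ ⊤).eq_bot_or_eq_top.resolve_left fun e => ?_
    obtain ⟨P, hP, hc, -⟩ := klein hL
    refine burnside hL Nat.prime_two hP (fun e => by rw [e, card_bot] at hc; omega) (by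
      have := P.card_mul_index
      rw [hc, hL] at this
      omega) (le_top.trans ((commutator_eq_bot_iff_le_centralizer.1 e).trans (centralizer_anti le_top)))
  have hcm : ∀ A B : Subgroup G, A.map π = ⊤ → B.map π = ⊤ → ⁅A, B⁆.map π = ⊤ := fun A B h1 h2 => by
    rw [map_commutator, h1, h2, hperf]
  have hRN : ∀ (p k : ℕ) (x : G), p.Prime → orderOf x = p ^ k → x ∉ R → R ≤ N[zpowers x] :=
    fun p k x hp hx hxR => by
      have hpg := isPGroup_zpowers_of hp hx
      rw [← (H' p p _ hp hp (solvable_of_isPGroup hp hpg) (isPi_of_isPGroup_of_mem hp hpg (by simp))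
        fun hle => hxR (hle (mem_zpowers x))).2]
      exact le_normalizer_of_le le_sup_right
  have hGp : ∀ p : ℕ, p.Prime → p ∣ 1092 → ∃ N : Subgroup G, N.Normal ∧ N.map π = ⊤ ∧
      ∀ (q l : ℕ) (r : G), q.Prime → q ≠ p → r ∈ R → orderOf r = q ^ l → N ≤ C1[r] := by
    intro p hp hd
    obtain ⟨x, hx, hxR⟩ := exists_not_mem_of_dvd_index hp (hidx ▸ hd)
    refine ⟨normalClosure {x}, inferInstance, hmapC _ inferInstance fun hle =>
      hxR (hle (subset_normalClosure rfl)), fun q l r hq hne hr ho => ?_⟩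
    refine (closure_le _).2 fun z hz => ?_
    obtain ⟨x', hx', hc⟩ := Group.mem_conjugatesOfSet_iff.1 hz
    rw [Set.mem_singleton_iff.1 hx'] at hc
    obtain ⟨g, rfl⟩ := isConj_iff.1 hc
    obtain ⟨k, hk⟩ := hx
    have h1 : orderOf (g * x * g⁻¹) = p ^ k := by rw [H67.orderOf_conj', hk]
    have h2 : g * x * g⁻¹ ∉ R := fun h => hxR (by simpa [mul_assoc] using hRn.conj_mem _ h g⁻¹)
    exact cent_of_cop hp hq hne h1 h2 ho hr (hRN p k _ hp h1 h2 hr)
  have hC : C[R].map π = ⊤ := by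
    obtain ⟨A, hA, hA1, hA2⟩ := hGp 2 Nat.prime_two (by norm_num)
    obtain ⟨B, hB, hB1, hB2⟩ := hGp 3 Nat.prime_three (by norm_num)
    refine eq_top_iff.2 ((hcm A B hA1 hB1).ge.trans (map_mono (le_centralizer_iff.1
      (le_of_forall_syl_le fun q hq _ => ?_))))
    haveI := Fact.mk hq
    obtain ⟨P, hP⟩ := exists_syl q R
    refine ⟨P, hP, fun r hr => mem_centralizer_iff_le.2 ?_⟩
    obtain ⟨l, hl⟩ := orderOf_eq_pow_of_mem (syl_isPGroup hP) hr
    by_cases h2 : q = 2
    · exact (commutator_le_right A B).trans (hB2 q l r hq (by omega) (hP.1 hr) hl)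
    · exact (commutator_le_left A B).trans (hA2 q l r hq h2 (hP.1 hr) hl)
  obtain ⟨K, hK⟩ : ∃ K, K = ⁅C[R], C[R]⁆ := ⟨_, rfl⟩
  have hKn : K.Normal := by rw [hK]; infer_instance
  have hKπ : K.map π = ⊤ := hK ▸ hcm _ _ hC hC
  have hKC : K ≤ C[R] := hK ▸ commutator_le_left _ _
  have hKR : K ⊔ R = ⊤ := by rw [← hπk, ← comap_map_eq, hKπ, comap_top]
  have hlift : ∀ a, ∃ k ∈ K, π k = a := fun a => hKπ.ge (mem_top a)
  have hKK : ⁅K, K⁆ = K := by
    refine le_antisymm (commutator_le_left _ _) (hK.le.trans (commutator_le.2 fun a ha b hb => ?_))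
    obtain ⟨k, hk, e1⟩ := hlift (π a)
    obtain ⟨l, hl, e2⟩ := hlift (π b)
    have h1 : k⁻¹ * a ∈ R := by rw [← hπk, MonoidHom.mem_ker, map_mul, map_inv, e1, inv_mul_cancel]
    have h2 : l⁻¹ * b ∈ R := by rw [← hπk, MonoidHom.mem_ker, map_mul, map_inv, e2, inv_mul_cancel]
    have h3 : ⁅a, b⁆ = ⁅k, l⁆ := by
      have c1 := hb _ h1
      have c2 := hKC hk _ h2
      generalize hr : k⁻¹ * a = r at c1
      generalize hs : l⁻¹ * b = s at c2
      obtain rfl : a = k * r := by rw [← hr]; group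
      rw [commutatorElement_def, show k * r * b * (k * r)⁻¹ = k * (r * b * r⁻¹) * k⁻¹ by group, c1,
        mul_inv_cancel_right]
      obtain rfl : b = l * s := by rw [← hs]; group
      rw [show k * (l * s) * k⁻¹ * (l * s)⁻¹ = k * l * (s * k⁻¹ * s⁻¹) * l⁻¹ by group,
        show s * k⁻¹ * s⁻¹ = (s * k * s⁻¹)⁻¹ by group, c2, mul_inv_cancel_right, commutatorElement_def]
    rw [h3]
    exact commutator_mem_commutator hk hl
  haveI : Group.IsPerfect K := isPerfect_iff.2 hKK
  have hσs : Function.Surjective (π.comp K.subtype) := fun a => by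
    obtain ⟨k, hk, e⟩ := hlift a
    exact ⟨⟨k, hk⟩, e⟩
  have hσk : (π.comp K.subtype).ker = (K ⊓ R).subgroupOf K := by
    rw [← MonoidHom.comap_ker, hπk, inf_subgroupOf_left]; rfl
  obtain ⟨hZ2, hiso⟩ := sl2_of_cover (by rw [ZMod.card]; norm_num) (by rw [ZMod.card]; norm_num)
    (σ := π.comp K.subtype) ⟨hσs, fun a ha => mem_center_iff.2 fun b => Subtype.ext (by
      rw [hσk] at ha
      exact (hKC b.2 _ ha.2).symm)⟩
  have hKc := (π.comp K.subtype).ker.card_mul_index
  rw [index_ker, MonoidHom.range_eq_top.2 hσs, card_top, hL] at hKc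
  rw [hσk, card_subgroupOf inf_le_left] at hZ2 hKc
  have hZp : IsPGroup 2 ↥(K ⊓ R) := by
    have := Nat.card_pos (α := ↥(K ⊓ R))
    rcases (by omega : Nat.card ↥(K ⊓ R) = 1 ∨ Nat.card ↥(K ⊓ R) = 2) with h1 | h1
    · exact IsPGroup.of_card (n := 0) h1
    · exact IsPGroup.of_card (n := 1) h1
  let θ : G →* PSL(2, ZMod 13) × (G ⧸ K) := π.prod (QuotientGroup.mk' K)
  have hθk : θ.ker = K ⊓ R := by
    rw [MonoidHom.ker_prod, hπk, QuotientGroup.ker_mk', inf_comm]
  have hθ1 : ∀ k ∈ K, θ k = (π k, 1) := fun k hk =>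
    Prod.ext rfl ((QuotientGroup.eq_one_iff k).2 hk)
  have hθs : Function.Surjective θ := by
    rintro ⟨a, b⟩
    obtain ⟨k, hk, rfl⟩ := hlift a
    obtain ⟨g, rfl⟩ := QuotientGroup.mk'_surjective K b
    obtain ⟨l, hl, r, hr, rfl⟩ := (mem_sup_of_le_normalizer (hNR ▸ le_top)).1 (hKR.ge (mem_top g))
    refine ⟨k * r, Prod.ext ?_ ?_⟩
    · change π (k * r) = π k
      rw [map_mul, MonoidHom.mem_ker.1 (hπk.ge hr), mul_one]
    · change QuotientGroup.mk' K (k * r) = QuotientGroup.mk' K (l * r)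
      rw [map_mul, map_mul, show QuotientGroup.mk' K k = 1 from (QuotientGroup.eq_one_iff k).2 hk,
        show QuotientGroup.mk' K l = 1 from (QuotientGroup.eq_one_iff l).2 hl]
  have key : ∀ (p : ℕ) (X : Subgroup (PSL(2, ZMod 13) × (G ⧸ K))), p.Prime → IsPGroup p X →
      X.map (MonoidHom.fst _ _) ≠ ⊥ → ∀ n ∈ N[X.map (MonoidHom.fst _ _)], (n, 1) ∈ N[X] := by
    intro p X hp hX h1 n hn
    have h2 : (X.comap θ).map π = X.map (MonoidHom.fst _ _) := by
      conv_rhs => rw [← map_comap_eq_self_of_surjective hθs X, map_map]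
      rfl
    obtain ⟨-, h3⟩ := H' 2 p (X.comap θ) Nat.prime_two hp (solvable_comap θ
      (hθk ▸ solvable_of_isPGroup Nat.prime_two hZp) (solvable_of_isPGroup hp hX))
      (isPi_comap (isPi_of_isPGroup_of_mem hp hX (by simp))
        (hθk ▸ isPi_of_isPGroup_of_mem Nat.prime_two hZp (by simp))) fun hle => h1 (by
          rw [← h2, Subgroup.map_eq_bot_iff, hπk]; exact hle)
    obtain ⟨k, hk, rfl⟩ := hlift n
    rw [← hπk, ← comap_map_eq, h2, ← comap_normalizer_eq_of_surjective _ hπs,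
      ← comap_normalizer_eq_of_surjective _ hθs] at h3
    rw [← hθ1 k hk]
    exact h3.le hn
  have hres : ∀ p : ℕ, p.Prime → p ∣ (K ⊓ R).relIndex R → ∃ (r : G ⧸ K) (l : ℕ), orderOf r = p ^ (l + 1) := by
    intro p hp hd
    obtain ⟨r, hr, ⟨k, hk⟩, hrZ⟩ := exists_not_mem_of_dvd_relIndex hp hd
    obtain ⟨l, -, hl⟩ := (Nat.dvd_prime_pow hp).1 (hk ▸ orderOf_map_dvd (QuotientGroup.mk' K) r)
    rcases l with _ | l
    · exact absurd ⟨(QuotientGroup.eq_one_iff r).1 (orderOf_eq_one_iff.1 hl), hr⟩ hrZ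
    · exact ⟨_, l, hl⟩
  have hpair : ∀ (p l : ℕ) (a : PSL(2, ZMod 13)) (r : G ⧸ K), p.Prime → a ^ p = 1 →
      orderOf r = p ^ (l + 1) → IsPGroup p (zpowers (a, r)) := fun p l a r hp ha hr => by
    obtain ⟨m, -, hm⟩ := (Nat.dvd_prime_pow hp).1 (orderOf_dvd_of_pow_eq_one (x := (a, r))
      (n := p ^ (l + 1)) (Prod.ext (by simp [pow_succ', pow_mul, ha]) (by simp [← hr])))
    exact isPGroup_zpowers_of hp hm
  have hcop : ∀ p : ℕ, p.Prime → p ∣ 1092 → ¬ p ∣ (K ⊓ R).relIndex R := by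
    intro p hp hd hd'
    obtain ⟨r, l, hr⟩ := hres p hp hd'
    haveI := Fact.mk hp
    by_cases h2 : p = 2
    · subst h2
      obtain ⟨P, hP, hc, hel⟩ := klein hL
      refine burnside hL Nat.prime_two hP (fun e => by rw [e, card_bot] at hc; omega) (by
        have := P.card_mul_index
        rw [hc, hL] at this
        omega) fun n hn b hb => ?_
      by_cases hb1 : b = 1
      · simp [hb1]
      have hb2 := two_of_mul_self (hel b hb) hb1
      obtain ⟨a, ha, hab⟩ : ∃ a ∈ P, a ∉ zpowers b := by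
        by_contra hc'
        push Not at hc'
        have := card_le_of_le (show P ≤ zpowers b from hc')
        rw [hc, Nat.card_zpowers, hb2] at this
        omega
      have hcomm : a * b = b * a := by
        have := hel _ (mul_mem ha hb)
        rw [← inv_eq_of_mul_eq_one_right this, mul_inv_rev, inv_eq_of_mul_eq_one_right (hel a ha),
          inv_of_two hb2]
      have hnn : zpowers (a, r) ≤ N[zpowers (b, (1 : G ⧸ K))] := zpowers_le.2
        (cent_le_norm_zpowers _ (mem_cent (Prod.ext hcomm (by simp))))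
      have hm : (zpowers (a, r) ⊔ zpowers (b, (1 : G ⧸ K))).map (MonoidHom.fst _ _) = P := by
        rw [Subgroup.map_sup, MonoidHom.map_zpowers, MonoidHom.map_zpowers]
        refine eq_of_le_of_card_ge (sup_le (zpowers_le.2 ha) (zpowers_le.2 hb)) ?_
        have h3 : zpowers b < zpowers a ⊔ zpowers b :=
          lt_of_le_of_ne le_sup_right fun e => hab (e.ge (mem_sup_left (mem_zpowers a)))
        have h4 := card_lt_of_lt h3
        have h5 := card_dvd_of_le' h3.le
        rw [Nat.card_zpowers, hb2] at h4 h5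
        rw [hc]
        change 4 ≤ Nat.card ↥(zpowers a ⊔ zpowers b)
        omega
      have h6 := key 2 _ hp ((hpair 2 l a r hp (by rw [sq, hel a ha]) hr).to_sup_of_normal_right'
        (isPGroup_zpowers_prime hp (by rw [Prod.orderOf_mk, hb2]; simp)) hnn)
        (by rw [hm]; exact ne_bot_of_mem hb hb1) n (by rw [hm]; exact hn)
      obtain ⟨_, ⟨i, rfl⟩, w, hw, e⟩ := (mem_sup_of_le_normalizer hnn).1
        (conj_mem_of_mem_normalizer h6 (mem_sup_right (mem_zpowers _)))
      obtain ⟨j, rfl⟩ := hw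
      have e1 : a ^ i * b ^ j = n * b * n⁻¹ := congrArg Prod.fst e
      have e2 : r ^ i = 1 := by simpa using congrArg Prod.snd e
      have h7 : (2 : ℤ) ∣ i := by
        rw [← orderOf_dvd_iff_zpow_eq_one, hr] at e2
        exact (Dvd.intro_left ((2 : ℤ) ^ l) (by push_cast; ring)).trans e2
      obtain ⟨i, rfl⟩ := h7
      rw [zpow_mul, zpow_two, hel a ha, one_zpow, one_mul] at e1
      rcases eq_of_mem_zpowers_two hb2 ⟨j, e1⟩ with h8 | h8
      · exact absurd (conj_eq_one_iff.1 h8) hb1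
      · exact (mul_inv_eq_iff_eq_mul.1 h8).symm
    obtain ⟨a, ha⟩ := exists_prime_orderOf_dvd_card' p (hL ▸ hd : p ∣ Nat.card PSL(2, ZMod 13))
    have ha1 := ne_one_of_prime hp ha
    refine burnside hL hp (isPGroup_zpowers_prime hp ha) (by simpa using ha1) (fun hi => ?_)
      fun n hn => ?_
    · have h3 := (zpowers a).card_mul_index
      rw [Nat.card_zpowers, ha, hL] at h3
      have h4 : p * p ∣ 1092 := h3 ▸ Nat.mul_dvd_mul_left p hi
      have h5 : p ≤ 33 := by nlinarith [Nat.le_of_dvd (by norm_num) h4]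
      have := hp.two_le
      interval_cases p <;> omega
    have h6 := key p _ hp (hpair p l a r hp (by rw [← ha, pow_orderOf_eq_one]) hr)
      (by rw [MonoidHom.map_zpowers]; simpa using ha1) n (by rw [MonoidHom.map_zpowers]; exact hn)
    obtain ⟨i, e⟩ := conj_mem_of_mem_normalizer h6 (mem_zpowers _)
    have e1 : a ^ i = n * a * n⁻¹ := congrArg Prod.fst e
    have e2 : r ^ (i - 1) = 1 := by
      have : r ^ i = r := by simpa using congrArg Prod.snd e
      rw [zpow_sub, this]; simp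
    have h7 : (p : ℤ) ∣ i - 1 := by
      rw [← orderOf_dvd_iff_zpow_eq_one, hr] at e2
      exact (Dvd.intro_left ((p : ℤ) ^ l) (by push_cast; ring)).trans e2
    rw [← ha, orderOf_dvd_iff_zpow_eq_one, zpow_sub, e1, zpow_one, mul_inv_eq_one] at h7
    rw [centralizer_zpowers]
    exact cent_of_conj_eq h7
  haveI := Fact.mk Nat.prime_two
  have hZs : IsSyl 2 (K ⊓ R) R := syl_mk inf_le_right hZp (hcop 2 Nat.prime_two (by norm_num))
  obtain ⟨S, hS⟩ := exists_hall {2}ᶜ hRs
  have hZS := hall_sup_hall_compl hZs hS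
  have hKS : K ⊔ S = ⊤ := by
    rw [eq_top_iff, ← hKR]
    exact sup_le le_sup_left (hZS.ge.trans (sup_le_sup_right inf_le_left S))
  have hSc : Nat.card S = (K ⊓ R).relIndex R := (relIndex_hall_eq_card hZs hS).symm
  have hKS' : K ≤ C[S] := hKC.trans (centralizer_anti hS.1)
  have hco : (Nat.card K).Coprime (Nat.card S) := coprime_iff_no_common_prime.2 fun p hp hd => by
    rw [hSc]
    refine hcop p hp ?_
    rw [← hKc] at hd
    refine ((Nat.Prime.dvd_mul hp).1 hd).elim (fun h1 => ?_) id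
    have h2 := Nat.le_of_dvd Nat.card_pos h1
    have := hp.two_le
    obtain rfl : p = 2 := by omega
    norm_num
  refine ⟨K, S, hKn, normalizer_eq_top_iff.1 (eq_top_iff.2 (hKS.ge.trans
    (sup_le (le_normalizer_of_le_centralizer hKS') le_normalizer))), inf_eq_bot_of_coprime' hco, hKS,
    ?_, ?_, hco⟩
  · by_cases hk : (π.comp K.subtype).ker = ⊥
    · exact Or.inl ⟨MulEquiv.ofBijective _ ⟨(MonoidHom.ker_eq_bot_iff _).1 hk, hσs⟩⟩
    · exact Or.inr (hiso hk)
  have h13 : Nat.Prime 13 := by norm_num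
  obtain ⟨x, hxK, ⟨k, hk⟩, hxR⟩ := exists_not_mem_of_dvd_relIndex h13 (K := R) (H := K) (by
    rw [← relIndex_sup_of_le_normalizer (hNR ▸ le_top), hKR, relIndex_top_right, hidx]; norm_num)
  have hnorm : ∀ (q l : ℕ) (s : G), q.Prime → q ∣ Nat.card S → s ∈ S → orderOf s = q ^ l →
      R ≤ N[zpowers s] := fun q l s hq hd hs ho => by
    have hne : 13 ≠ q := by
      rintro rfl
      exact hcop 13 h13 (by norm_num) (hSc ▸ hd)
    have h1 := isPGroup_zpowers_of hq ho
    have h2 := isPGroup_zpowers_of h13 hk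
    have h3 : zpowers x ≤ N[zpowers s] := zpowers_le.2 (cent_le_norm_zpowers s
      (mem_cent (hKS' hxK s hs).symm))
    obtain ⟨-, h4⟩ := H' q 13 (zpowers s ⊔ zpowers x) hq h13 (by
      rw [sup_comm]
      exact isSolvable_sup (solvable_of_isPGroup h13 h2) (solvable_of_isPGroup hq h1) h3)
      (isPi_sup (isPi_of_isPGroup_of_mem hq h1 (by simp)) (isPi_of_isPGroup_of_mem h13 h2 (by simp))
        (Or.inr h3)) fun hle => hxR (hle (mem_sup_right (mem_zpowers x)))
    exact (le_normalizer_of_le le_sup_right).trans (h4.le.trans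
      (normalizer_le_normalizer_of_normal_hall (π := {q}) (hall_sup_left (Or.inr h3)
        (isPi_of_isPGroup hq h1) (isPi_compl_of_isPGroup h13 h2 hne)) (normalIn_sup_left h3)))
  by_contra hna
  obtain ⟨Q, -, -, ⟨f⟩, -⟩ := S4211.result hna fun H => by
    have h1 : S ≤ N[H.map S.subtype] := fun g hg => mem_normalizer_of_cj_le
      (cj_le_iff_le_cj_inv.2 (le_of_forall_syl_le fun q hq hd => by
        haveI := Fact.mk hq
        obtain ⟨P, hP⟩ := exists_syl q (H.map S.subtype)
        refine ⟨P, hP, fun s hs => mem_cj.2 ?_⟩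
        obtain ⟨l, hl⟩ := orderOf_eq_pow_of_mem (syl_isPGroup hP) hs
        rw [inv_inv]
        exact zpowers_le.2 (hP.1 hs) (conj_mem_of_mem_normalizer (hnorm q l s hq
          (hd.trans (card_dvd_of_le' (map_subtype_le H))) (map_subtype_le H (hP.1 hs)) hl (hS.1 hg))
          (mem_zpowers s))))
    refine ⟨fun n hn g => ?_⟩
    obtain ⟨m, hm, e⟩ := conj_mem_of_mem_normalizer (h1 g.2) (mem_map_of_mem S.subtype hn)
    exact (Subtype.ext e : m = g * n * g⁻¹) ▸ hm
  have h8 := card_subgroup_dvd_card Q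
  rw [Nat.card_congr f.toEquiv, Nat.card_eq_fintype_card, QuaternionGroup.card, hSc] at h8
  exact hcop 2 Nat.prime_two (by norm_num) ((by norm_num : 2 ∣ 4 * 2).trans h8)

end Cfsg.Agent.S4233
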