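import Cfsg.Statements.S4236
import Cfsg.Agent.H89.SylowSmall

set_option autoImplicit false
open Cfsg

namespace Cfsg.Agent.S4236

/-- No finite group has exactly 35 Sylow 17-subgroups. -/
theorem result {G : Type*} [Group G] [Finite G] : Nat.card (Sylow 17 G) ≠ 35 := by
  intro h
  have hp : Fact (Nat.Prime 17) := ⟨by norm_num⟩
  obtain ⟨S, _, _, hS, hc, hd, hn⟩ := H89.exists_simple_of_card_sylow 17 h (by norm_num)
    (by decide +kernel) (fun m hm h1 => by
      have := Nat.le_of_dvd (by norm_num) hm
      interval_cases m <;> simp_all)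
  obtain ⟨P⟩ : Nonempty (Sylow 17 S) := inferInstance
  have hP := S4343.result hc 17 hd (by rw [hn]; norm_num) P
  obtain ⟨e, h1, h2, h3, -⟩ := H89.two_mul_add_one hc (by norm_num) P hP hn
  have := Nat.le_of_dvd (by norm_num) h1
  interval_cases e <;> simp_all

end Cfsg.Agent.S4236
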