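import Cfsg.Statements.S4250
import Cfsg.Agent.H56.Tame
import Cfsg.Agent.H8.Fusion
import Cfsg.Agent.H83.Base

set_option autoImplicit false
open Cfsg

namespace Cfsg.Agent.S4250

open scoped commutatorElement

/-- Let P be a Sylow p-subgroup of a finite group G. Call an intersection H = P ∩ Q with a Sylow p-subgroup Q tame when N_P(H) and N_Q(H) are Sylow p-subgroups of N_G(H). Then P ∩ G′ is generated by [P, N_G(P)] together with the commutator subgroups [P ∩ Q, ⟨x⟩] for all tame intersections P ∩ Q and all p-elements x of N_G(P ∩ Q). -/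
theorem result {G : Type*} [Group G] [Finite G] (p : ℕ) [Fact p.Prime] (P : Sylow p G) :
    (P : Subgroup G) ⊓ commutator G =
      ⁅(P : Subgroup G), Subgroup.normalizer ((P : Subgroup G) : Set G)⁆ ⊔
        ⨆ (Q : Sylow p G) (_ : (¬ p ∣ ((P : Subgroup G) ⊓ Subgroup.normalizer (((P : Subgroup G) ⊓ (Q : Subgroup G) : Subgroup G) : Set G)).relIndex (Subgroup.normalizer (((P : Subgroup G) ⊓ (Q : Subgroup G) : Subgroup G) : Set G)) ∧ ¬ p ∣ ((Q : Subgroup G) ⊓ Subgroup.normalizer (((P : Subgroup G) ⊓ (Q : Subgroup G) : Subgroup G) : Set G)).relIndex (Subgroup.normalizer (((P : Subgroup G) ⊓ (Q : Subgroup G) : Subgroup G) : Set G))))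
          (x : G) (_ : x ∈ Subgroup.normalizer (((P : Subgroup G) ⊓ (Q : Subgroup G) : Subgroup G) : Set G) ∧ ∃ k : ℕ, orderOf x = p ^ k),
          ⁅(P : Subgroup G) ⊓ (Q : Subgroup G), Subgroup.zpowers x⁆ := by
  apply le_antisymm
  · rw [inf_comm]
    apply H8.commutator_inf_le_of_fusion
    intro a ha g hg
    have h := H56.chain_tame P (T := Subgroup.closure {a}) ((Subgroup.closure_le _).2 (by simpa using ha))
      (g := g) (H56.cj_closure_le_iff.2 (by simpa using hg))
    have h2 := h.mono Subgroup.subset_closure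
    have e : g * a * g⁻¹ = g⁻¹⁻¹ * a * g⁻¹ := by rw [inv_inv]
    rw [e]
    have ha' : a ∈ ({a} : Set G) := rfl
    revert ha'
    generalize g⁻¹ = w at h2
    generalize ({a} : Set G) = A at h2
    clear h hg e ha
    induction h2 generalizing a with
    | nil B => intro _; simp
    | @cons A H x w h1 h2 _ ih =>
      intro ha
      have e : a * ((x * w)⁻¹ * a * (x * w))⁻¹ =
          ⁅a, x⁻¹⁆ * ((x⁻¹ * a * x) * (w⁻¹ * (x⁻¹ * a * x) * w)⁻¹) := by
        rw [commutatorElement_def]; group
      rw [e]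
      refine mul_mem ?_ (ih _ ⟨a, ha, rfl⟩)
      obtain ⟨Q, rfl, h3, h4, h5, h6⟩ := h1
      rcases h6 with h6 | ⟨k, hk⟩
      · rw [h6, inf_idem] at h3
        exact Subgroup.mem_sup_left
          (Subgroup.commutator_mem_commutator (h2 ha).1 (inv_mem h3))
      · obtain ⟨j, -, hj⟩ := (Nat.dvd_prime_pow Fact.out).1 (orderOf_dvd_of_pow_eq_one hk)
        refine Subgroup.mem_sup_right ?_
        refine Subgroup.mem_iSup_of_mem Q (Subgroup.mem_iSup_of_mem
          ⟨(H56.extremal_top_iff P.isPGroup').1 h4, (H56.extremal_top_iff Q.isPGroup').1 h5⟩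
          (Subgroup.mem_iSup_of_mem x (Subgroup.mem_iSup_of_mem ⟨h3, j, hj⟩ ?_)))
        exact Subgroup.commutator_mem_commutator (h2 ha) (inv_mem (Subgroup.mem_zpowers x))
  · refine sup_le (le_inf (H83.comm_le_left le_rfl) (Subgroup.commutator_mono le_top le_top)) ?_
    refine iSup_le fun Q => iSup_le fun _ => iSup_le fun x => iSup_le fun hx => ?_
    exact le_inf ((H83.comm_le_left (Subgroup.zpowers_le.mpr hx.1)).trans inf_le_left)
      (Subgroup.commutator_mono le_top le_top)

end Cfsg.Agent.S4250
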