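import Cfsg.Statements.S4251
import Cfsg.Agent.H56.Tame
import Cfsg.Agent.H8.Fusion
import Cfsg.Agent.H83.Base

set_option autoImplicit false
open Cfsg

namespace Cfsg.Agent.S4251

/-- Let P be a Sylow p-subgroup of a finite group G. Call an intersection H = P ∩ Q with a Sylow p-subgroup Q tame when N_P(H) and N_Q(H) are Sylow p-subgroups of N_G(H). If N_G(H)/C_G(H) is a p-group for every nontrivial tame intersection H = P ∩ Q, then G has a normal p-complement. -/
theorem result {G : Type*} [Group G] [Finite G] (p : ℕ) [Fact p.Prime] (P : Sylow p G)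
    (h : ∀ Q : Sylow p G, (P : Subgroup G) ⊓ (Q : Subgroup G) ≠ ⊥ → (¬ p ∣ ((P : Subgroup G) ⊓ Subgroup.normalizer (((P : Subgroup G) ⊓ (Q : Subgroup G) : Subgroup G) : Set G)).relIndex (Subgroup.normalizer (((P : Subgroup G) ⊓ (Q : Subgroup G) : Subgroup G) : Set G)) ∧ ¬ p ∣ ((Q : Subgroup G) ⊓ Subgroup.normalizer (((P : Subgroup G) ⊓ (Q : Subgroup G) : Subgroup G) : Set G)).relIndex (Subgroup.normalizer (((P : Subgroup G) ⊓ (Q : Subgroup G) : Subgroup G) : Set G))) →
      IsPGroup p (Subgroup.normalizer (((P : Subgroup G) ⊓ (Q : Subgroup G) : Subgroup G) : Set G) ⧸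
        (Subgroup.centralizer (((P : Subgroup G) ⊓ (Q : Subgroup G) : Subgroup G) : Set G)).subgroupOf
          (Subgroup.normalizer (((P : Subgroup G) ⊓ (Q : Subgroup G) : Subgroup G) : Set G)))) :
    Cfsg.HasNormalPComplement p G := by
  apply H8.hasNormalPComplement_of_no_fusion P
  intro a ha g hg
  have h1 := H56.chain_tame P (T := Subgroup.closure {a})
    ((Subgroup.closure_le _).2 (by simpa using ha))
    (g := g) (H56.cj_closure_le_iff.2 (by simpa using hg))
  have key : ∀ {A : Set G} {w : G}, H7.Chain (H56.TameStep P) A w →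
      ∃ v ∈ P, ∀ a ∈ A, v⁻¹ * a * v = w⁻¹ * a * w := by
    intro A w h2
    induction h2 with
    | nil B => exact ⟨1, one_mem _, fun _ _ => rfl⟩
    | @cons A H x w h1 h2 _ ih =>
      obtain ⟨v, hv, h3⟩ := ih
      obtain ⟨s, hs, h4⟩ : ∃ s ∈ P, ∀ a ∈ H, s⁻¹ * a * s = x⁻¹ * a * x := by
        obtain ⟨Q, rfl, h3, h4, h5, -⟩ := h1
        by_cases h0 : (P : Subgroup G) ⊓ (Q : Subgroup G) = ⊥
        · refine ⟨1, one_mem _, fun a ha => ?_⟩
          rw [h0, Subgroup.mem_bot] at ha
          simp [ha]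
        have h6 := (H56.extremal_top_iff P.isPGroup').1 h4
        have h7 := h Q h0 ⟨h6, (H56.extremal_top_iff Q.isPGroup').1 h5⟩
        have hS : H8.IsSylowIn p _ _ := ⟨inf_le_right, P.2.to_inf_left, h6⟩
        obtain ⟨s, hs, c, hc, he⟩ := hS.exists_mul_of_forall_coprime_mem
          (K := Subgroup.centralizer
            (((P : Subgroup G) ⊓ (Q : Subgroup G) : Subgroup G) : Set G)) (fun y hy hc => by
            have := H8.eq_one_of_coprime_of_isPGroup h7 (g := QuotientGroup.mk' _ ⟨y, hy⟩)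
              (Nat.Coprime.of_dvd_left (orderOf_map_dvd _ _) (by rwa [Subgroup.orderOf_mk]))
            rw [QuotientGroup.mk'_apply, QuotientGroup.eq_one_iff] at this
            exact this) (inv_mem h3)
        refine ⟨s⁻¹, inv_mem hs.1, fun a ha => ?_⟩
        rw [he, eq_inv_of_mul_eq_one_left (show x * (s * c) = 1 by rw [← he, mul_inv_cancel])]
        rw [mul_assoc s c a, ← hc a ha]
        group
      refine ⟨s * v, mul_mem hs hv, fun a ha => ?_⟩
      have := h3 _ ⟨a, ha, rfl⟩
      calc (s * v)⁻¹ * a * (s * v) = v⁻¹ * (s⁻¹ * a * s) * v := by group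
        _ = _ := by rw [h4 a (h2 ha), this]; group
  obtain ⟨v, hv, h2⟩ := key h1
  refine ⟨v⁻¹, inv_mem hv, ?_⟩
  simpa using h2 a (Subgroup.subset_closure rfl)

end Cfsg.Agent.S4251
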