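import Cfsg.Statements.S4274
import Cfsg.Agent.H93.AbSylow
import Cfsg.Agent.H89.SylowSmall
import Cfsg.Agent.H89.SylowCount
import Cfsg.Agent.H4.CoprimeGen
import Cfsg.Agent.S0732
import Cfsg.Agent.H91.FrobPack

set_option autoImplicit false
open Cfsg

namespace Cfsg.Agent.S4274

open Subgroup MulAction

universe u

instance fact19 : Fact (Nat.Prime 19) := ⟨by norm_num⟩

/-- some element has order divisible by `p` and `q`. -/
def Com (G : Type*) [Group G] (p q : ℕ) : Prop := ∃ g : G, p ∣ orderOf g ∧ q ∣ orderOf g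

theorem Com.symm {G : Type*} [Group G] {p q : ℕ} (h : Com G p q) : Com G q p :=
  let ⟨g, h1, h2⟩ := h; ⟨g, h2, h1⟩

theorem card_sylow_eq {G : Type*} [Group G] [Finite G] {p : ℕ} [hp : Fact p.Prime] (P : Sylow p G)
    (h1 : p ∣ Nat.card G) (h2 : ¬ p ^ 2 ∣ Nat.card G) : Nat.card P = p := by
  obtain ⟨k, hk⟩ := P.2.exists_card_eq
  have h3 : p ∣ Nat.card P := P.dvd_card_of_dvd_card h1
  have h4 : ¬ p ^ 2 ∣ p ^ k := fun h => h2 (h.trans (hk ▸ card_subgroup_dvd_card _))
  rw [hk] at h3 ⊢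
  rw [Nat.pow_dvd_pow_iff_le_right hp.out.one_lt] at h4
  have : k ≠ 0 := by rintro rfl; exact hp.out.one_lt.ne' (Nat.dvd_one.mp h3)
  rw [show k = 1 by omega, pow_one]

theorem data {G : Type*} [Group G] [Finite G] [IsSimpleGroup G] (hG : ¬ IsMulCommutative G)
    (p : ℕ) [hp : Fact p.Prime] (P : Sylow p G) (hP : Nat.card P = p) :
    ∃ c e : ℕ, Nat.card G = Nat.card (Sylow p G) * (p * c * e) ∧ Nat.card (Sylow p G) % p = 1 ∧
      e ∣ p - 1 ∧ e ≠ 1 ∧ Nat.card (centralizer (P : Set G)) = p * c ∧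
      Nat.card (normalizer (P : Set G)) = p * c * e ∧
      (∀ q, q.Prime → q ≠ p → (q ∣ c ↔ Com G p q)) ∧
      Nat.card (Sylow p G) * c * (p - 1) ≤ {g : G | p ∣ orderOf g}.ncard := by
  obtain ⟨e, he1, he2, he3⟩ := H89.exists_automizer hG P hP
  obtain ⟨c, hc⟩ : p ∣ Nat.card (centralizer (P : Set G)) :=
    hP.symm.dvd.trans (card_dvd_of_le (H89.sylow_le_centralizer P hP))
  refine ⟨c, e, ?_, ?_, he1, he2, hc, by rw [he3, hc], fun q hq hqp => ⟨fun h => ?_, ?_⟩, ?_⟩
  · rw [← hc, ← he3, P.card_eq_index_normalizer, index_mul_card]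
  · have := card_sylow_modEq_one p G
    rwa [Nat.ModEq, Nat.mod_eq_of_lt hp.out.one_lt] at this
  · obtain ⟨y, hy, hyq⟩ := H3.exists_mem_orderOf_eq_prime hq (hc ▸ h.mul_left p)
    obtain ⟨x, hx, hxp⟩ := H3.exists_mem_orderOf_eq_prime (N := (P : Subgroup G)) hp.out (by rw [hP])
    have hcm : Commute x y := hy x hx
    refine ⟨x * y, ?_⟩
    rw [hcm.orderOf_mul_eq_mul_orderOf_of_coprime
      (by rw [hxp, hyq]; exact (Nat.coprime_primes hp.out hq).mpr hqp.symm), hxp, hyq]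
    exact ⟨dvd_mul_right _ _, dvd_mul_left _ _⟩
  · rintro ⟨g, h1, h2⟩
    obtain ⟨R, hR⟩ := H89.exists_mem_centralizer_of_dvd P hP h1
    obtain ⟨x, rfl⟩ := exists_smul_eq G R P
    have := orderOf_dvd_natCard _ (H89.conj_mem_centralizer_smul hR x)
    rw [hc, show orderOf (x * g * x⁻¹) = orderOf g from (MulAut.conj x).orderOf_eq g] at this
    exact ((Nat.coprime_primes hq hp.out).mpr hqp).dvd_of_dvd_mul_left (h2.trans this)
  · have := H89.le_ncard_dvd_orderOf P hP
    rw [hc] at this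
    refine Nat.le_of_mul_le_mul_right (le_of_eq_of_le ?_ this) hp.out.pos
    ring

theorem count {G : Type*} [Group G] [Finite G] {p q r : ℕ} (h1 : ¬ Com G p q) (h2 : ¬ Com G p r)
    (h3 : ¬ Com G q r) : {g : G | p ∣ orderOf g}.ncard + {g : G | q ∣ orderOf g}.ncard +
      {g : G | r ∣ orderOf g}.ncard ≤ Nat.card G := by
  have d1 : Disjoint {g : G | p ∣ orderOf g} {g : G | q ∣ orderOf g} :=
    Set.disjoint_left.mpr fun g a b => h1 ⟨g, a, b⟩
  have d2 : Disjoint ({g : G | p ∣ orderOf g} ∪ {g : G | q ∣ orderOf g}) {g : G | r ∣ orderOf g} :=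
    Set.disjoint_left.mpr fun g a b => a.elim (fun a => h2 ⟨g, a, b⟩) fun a => h3 ⟨g, a, b⟩
  rw [← Set.ncard_union_eq d1, ← Set.ncard_union_eq d2]
  exact Set.ncard_le_card _

theorem eq_sq_of_mem_zpowers {G : Type*} [Group G] [Finite G] {y s : G} (hy : orderOf y = 4)
    (hs : s ∈ zpowers y) (h1 : s ≠ 1) (h2 : s ^ 2 = 1) : s = y ^ 2 := by
  classical
  rw [mem_zpowers_iff_mem_range_orderOf, hy] at hs
  obtain ⟨i, hi, rfl⟩ := Finset.mem_image.mp hs
  rw [Finset.mem_range] at hi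
  rw [← pow_mul, ← orderOf_dvd_iff_pow_eq_one, hy] at h2
  have : i ≠ 0 := by rintro rfl; simp at h1
  rw [show i = 2 by omega]

theorem special {G : Type*} [Group G] [Finite G] [IsSimpleGroup G] (hG : ¬ IsMulCommutative G)
    (hm : Nat.card G = 15960) (P : Sylow 19 G) (hP : Nat.card P = 19)
    (hC : Nat.card (centralizer (P : Set G)) = 38) (hN : Nat.card (normalizer (P : Set G)) = 76) :
    False := by
  obtain ⟨t, htC, ht⟩ := H3.exists_mem_orderOf_eq_prime (N := centralizer (P : Set G))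
    Nat.prime_two (by rw [hC]; norm_num)
  have ht2 : t ^ 2 = 1 := ht ▸ pow_orderOf_eq_one t
  have ht1 : t ≠ 1 := by rintro rfl; simp at ht
  have hPC := H89.sylow_le_centralizer P hP
  have hNt : normalizer (P : Set G) ≤ centralizer {t} := by
    intro g hg
    have h1 : g * t * g⁻¹ ∈ centralizer (P : Set G) :=
      (H4.normalizer_le_normalizer_centralizer _ hg t).mp htC
    have hi : (P : Subgroup G).relIndex (centralizer (P : Set G)) = 2 := by
      have := ((P : Subgroup G).subgroupOf (centralizer (P : Set G))).index_mul_card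
      rw [Nat.card_congr (subgroupOfEquivOfLe hPC).toEquiv, hP, hC] at this
      unfold relIndex
      omega
    have hnot : ∀ s : G, s ≠ 1 → s ^ 2 = 1 → s ∉ (P : Subgroup G) := fun s h1 h2 hs =>
      h1 (orderOf_eq_one_iff.mp (Nat.eq_one_of_dvd_coprimes (by norm_num : Nat.Coprime 2 19)
        (orderOf_dvd_of_pow_eq_one h2) (hP ▸ orderOf_dvd_natCard _ hs)))
    have h2 : (g * t * g⁻¹) ^ 2 = 1 := by rw [conj_pow, ht2]; simp
    have h3 : t * (g * t * g⁻¹) ∈ (P : Subgroup G) :=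
      (mul_mem_iff_of_index_two hi (a := ⟨t, htC⟩) (b := ⟨_, h1⟩)).mpr
        (iff_of_false (hnot t ht1 ht2) (hnot _ (by simpa using ht1) h2))
    have h4 : Commute t (g * t * g⁻¹) := by
      have := htC _ h3
      rw [mul_assoc, mul_left_cancel_iff] at this
      exact this.symm
    have h5 : t * (g * t * g⁻¹) = 1 := by
      by_contra hne
      exact hnot _ hne (by rw [h4.mul_pow, ht2, h2, one_mul]) h3
    rw [mem_centralizer_singleton_iff]
    calc g * t = t * t * (g * t * g⁻¹) * g⁻¹⁻¹ := by rw [← pow_two, ht2]; group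
      _ = t * g := by rw [mul_assoc t t, h5]; group
  have hCt : Nat.card (centralizer ({t} : Set G)) = 76 := by
    set C := centralizer ({t} : Set G)
    have hPC' : (P : Subgroup G) ≤ C := le_normalizer.trans hNt
    have h1 := card_sylow_modEq_one 19 C
    rw [(P.subtype hPC').card_eq_index_normalizer] at h1
    change (normalizer (((P : Subgroup G).subgroupOf C : Subgroup C) : Set C)).index ≡ 1 [MOD 19]
      at h1
    rw [← subgroupOf_normalizer_eq hPC'] at h1
    have h2 := relIndex_mul_index hNt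
    have h3 := (normalizer (P : Set G)).index_mul_card
    have h4 := C.index_mul_card
    rw [hN, hm] at h3
    rw [hm] at h4
    have h5 : C.index ≠ 1 := fun h => H58.centralizer_ne_top hG ht1 (index_eq_one.mp h)
    have h6 : (normalizer (P : Set G)).index = 210 := by omega
    rw [h6] at h2
    change (normalizer (P : Set G)).relIndex C ≡ 1 [MOD 19] at h1
    have h7 : ∀ a ∈ Nat.divisors 210, a % 19 = 1 → a = 1 ∨ a = 210 := by decide +kernel
    rcases h7 _ (Nat.mem_divisors.mpr ⟨Dvd.intro _ h2, by norm_num⟩) h1 with h | h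
    · rw [h, one_mul] at h2
      rw [h2] at h4
      omega
    · rw [h] at h2
      omega
  obtain ⟨T, hT⟩ := (H8.isPGroup_zpowers_of_pow_eq_one (p := 2) (k := 1) (by simpa using ht2)).exists_le_sylow
  have hT8 : Nat.card T = 8 := by
    rw [T.card_eq_multiplicity, hm]
    have : Nat.factorization 15960 2 = 3 := by
      rw [show 15960 = 2 ^ 3 * 1995 by norm_num,
        Nat.factorization_mul (by norm_num) (by norm_num), Finsupp.add_apply,
        Nat.Prime.factorization_pow Nat.prime_two, Finsupp.single_eq_same,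
        Nat.factorization_eq_zero_of_not_dvd (by norm_num)]
    rw [this]
    rfl
  by_cases h4 : ∃ y ∈ (T : Subgroup G), y ^ 2 ≠ 1
  · obtain ⟨y, hyT, hy⟩ : ∃ y ∈ (T : Subgroup G), orderOf y = 4 := by
      obtain ⟨y, hyT, hy⟩ := h4
      have h1 := orderOf_dvd_natCard _ hyT
      rw [hT8] at h1
      have h2 : ¬ orderOf y ∣ 2 := fun h => hy (orderOf_dvd_iff_pow_eq_one.mp h)
      have h3 : ∀ a ∈ Nat.divisors 8, ¬ a ∣ 2 → 4 ∣ a := by decide
      obtain ⟨x, hx, hx4⟩ := H91.exists_orderOf_eq_of_dvd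
        (h3 _ (Nat.mem_divisors.mpr ⟨h1, by norm_num⟩) h2)
      exact ⟨x, zpowers_le.mpr hyT hx, hx4⟩
    have h1 := H89.four_dvd_of_involution hG (X := G ⧸ zpowers y) ht2
    have h2 : Nat.card (G ⧸ zpowers y) = 3990 := by
      have := (zpowers y).index_mul_card
      rw [Nat.card_zpowers, hy, hm] at this
      unfold index at this
      omega
    obtain ⟨⟨q, hq⟩⟩ : Nonempty (fixedBy (G ⧸ zpowers y) t) := by
      by_contra h
      rw [not_nonempty_iff] at h
      rw [h2, Nat.card_of_isEmpty] at h1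
      omega
    obtain ⟨g, rfl⟩ := QuotientGroup.mk_surjective q
    have hgt : g⁻¹ * t * g ≠ 1 := by
      rw [Ne, mul_assoc, inv_mul_eq_one, eq_comm, mul_eq_right]
      exact ht1
    have h3 : g⁻¹ * t * g = y ^ 2 := eq_sq_of_mem_zpowers hy (H5.smul_coe_eq_iff.mp hq)
      hgt (by
        have := conj_pow (a := g⁻¹) (b := t) (i := 2)
        rw [inv_inv] at this
        rw [this, ht2]; simp)
    have hi : (zpowers y).relIndex T = 2 := by
      have := ((zpowers y).subgroupOf (T : Subgroup G)).index_mul_card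
      rw [Nat.card_congr (subgroupOfEquivOfLe (zpowers_le.mpr hyT)).toEquiv, Nat.card_zpowers, hy,
        hT8] at this
      unfold relIndex
      omega
    have hTC : (T : Subgroup G) ≤ centralizer {y ^ 2} := by
      intro u hu
      have h5 : u * y ^ 2 * u⁻¹ ∈ zpowers y := (normal_of_index_eq_two hi).conj_mem
        ⟨y ^ 2, pow_mem hyT 2⟩ (pow_mem (mem_zpowers y) 2) ⟨u, hu⟩
      have h6 : (y ^ 2) ^ 2 = 1 := by
        rw [← pow_mul, ← orderOf_dvd_iff_pow_eq_one, hy]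
      rw [mem_centralizer_singleton_iff, ← mul_inv_eq_iff_eq_mul]
      refine eq_sq_of_mem_zpowers hy h5 ?_ (by rw [conj_pow, h6]; simp)
      rw [← h3, Ne, mul_inv_eq_one, mul_eq_left]
      exact hgt
    have h5 := card_dvd_of_le hTC
    rw [hT8, ← h3] at h5
    have h6 : Nat.card (centralizer ({g⁻¹ * t * g} : Set G)) = 76 := by
      rw [← hCt]
      refine Nat.card_congr ((MulAut.conj g).toEquiv.subtypeEquiv fun a => ?_)
      rw [mem_centralizer_singleton_iff, mem_centralizer_singleton_iff]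
      change _ ↔ g * a * g⁻¹ * t = t * (g * a * g⁻¹)
      constructor
      · intro h
        calc _ = g * (a * (g⁻¹ * t * g)) * g⁻¹ := by group
          _ = _ := by rw [h]; group
      · intro h
        calc _ = g⁻¹ * (g * a * g⁻¹ * t) * g := by group
          _ = _ := by rw [h]; group
    omega
  · push Not at h4
    have hTC : (T : Subgroup G) ≤ centralizer {t} := by
      intro u hu
      have htT := hT (mem_zpowers t)
      rw [mem_centralizer_singleton_iff]
      have h1 := h4 _ (mul_mem hu htT)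
      have h2 := h4 u hu
      rw [pow_two] at h1 h2 ht2
      calc u * t = (u * t)⁻¹ := eq_inv_of_mul_eq_one_left h1
        _ = t * u := by
          rw [_root_.mul_inv_rev, ← eq_inv_of_mul_eq_one_left h2, ← eq_inv_of_mul_eq_one_left ht2]
    have := card_dvd_of_le hTC
    rw [hT8, hCt] at this
    omega

set_option synthInstance.maxSize 2048 in
theorem hB : ∀ k ∈ Nat.divisors 24, ∀ n ∈ Nat.divisors (133 * k), n % 11 = 1 →
    ∀ e ∈ Nat.divisors 10, e ≠ 1 → n * e ∣ 133 * k → ¬ 19 ∣ 133 * k / (n * e) →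
      e = 2 ∧ ¬ 7 ∣ 133 * k / (n * e) := by decide +kernel

set_option synthInstance.maxSize 2048 in
theorem hB2 : ∀ k ∈ Nat.divisors 24, ∀ n ∈ Nat.divisors (209 * k), n % 7 = 1 →
    ∀ e ∈ Nat.divisors 6, e ≠ 1 → n * e ∣ 209 * k → ¬ 19 ∣ 209 * k / (n * e) →
      ¬ 11 ∣ 209 * k / (n * e) → e = 2 := by decide +kernel

set_option synthInstance.maxSize 4096 in
theorem hB3 : ∀ x ∈ [(12, 3780), (132, 41580), (88, 27720), (132, 27720)],
    ∀ n ∈ Nat.divisors (7 * x.1), 19 * n % 5 = 1 →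
    ∀ e ∈ Nat.divisors 4, e ≠ 1 → n * e ∣ 7 * x.1 →
    ∀ n' ∈ Nat.divisors (5 * x.1), 19 * n' % 7 = 1 →
    ∀ e' ∈ Nat.divisors 6, e' ≠ 1 → n' * e' ∣ 5 * x.1 →
    (x.2 = 27720 → ¬ 11 ∣ 5 * x.1 / (n' * e')) →
    (7 ∣ 7 * x.1 / (n * e) ↔ 5 ∣ 5 * x.1 / (n' * e')) → ¬ 7 ∣ 7 * x.1 / (n * e) ∧
      665 * x.1 < x.2 + 19 * n' * (5 * x.1 / (n' * e')) * 6 + 19 * n * (7 * x.1 / (n * e)) * 4 := by
  decide +kernel

theorem dvd_19 {n c e p x k : ℕ} (h : 19 * x = n * (p * c * e)) (hp : ¬ 19 ∣ p) (hc : ¬ 19 ∣ c)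
    (he : e ∣ k) (hk : 0 < k) (hk' : k < 19) : 19 ∣ n := by
  have h1 : 19 ∣ n * (p * c * e) := ⟨x, h.symm⟩
  simp only [fact19.out.dvd_mul] at h1
  rcases h1 with h1 | (h1 | h1) | h1
  · exact h1
  · exact absurd h1 hp
  · exact absurd h1 hc
  · have := Nat.le_of_dvd hk (h1.trans he)
    omega

theorem hB4 {x y : ℕ} (hx : (x, y) ∈ [(12, 3780), (132, 41580), (88, 27720), (132, 27720)])
    {n c e n' c' e' : ℕ} (a1 : 665 * x = n * (5 * c * e)) (a2 : n % 5 = 1) (a3 : e ∣ 5 - 1)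
    (a4 : e ≠ 1) (a5 : ¬ 19 ∣ c) (b1 : 665 * x = n' * (7 * c' * e')) (b2 : n' % 7 = 1)
    (b3 : e' ∣ 7 - 1) (b4 : e' ≠ 1) (b5 : ¬ 19 ∣ c') (h11 : y = 27720 → ¬ 11 ∣ c')
    (h : 7 ∣ c ↔ 5 ∣ c') :
    ¬ 7 ∣ c ∧ 665 * x < y + n' * c' * 6 + n * c * 4 := by
  have hx0 : 0 < x := by
    simp only [List.mem_cons, Prod.mk.injEq, List.not_mem_nil, or_false] at hx
    omega
  obtain ⟨n, rfl⟩ := dvd_19 (x := 35 * x) (by rw [← a1]; ring) (by norm_num) a5 a3 (by norm_num)
    (by norm_num)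
  obtain ⟨n', rfl⟩ := dvd_19 (x := 35 * x) (by rw [← b1]; ring) (by norm_num) b5 b3 (by norm_num)
    (by norm_num)
  have e1 : 7 * x = n * e * c := by linarith
  have e2 : 5 * x = n' * e' * c' := by linarith
  have p1 : 0 < n * e := Nat.pos_of_ne_zero fun h => by rw [h] at e1; omega
  have p2 : 0 < n' * e' := Nat.pos_of_ne_zero fun h => by rw [h] at e2; omega
  have f1 : 7 * x / (n * e) = c := by rw [e1, Nat.mul_div_cancel_left _ p1]
  have f2 : 5 * x / (n' * e') = c' := by rw [e2, Nat.mul_div_cancel_left _ p2]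
  have := hB3 (x, y) hx n (Nat.mem_divisors.mpr ⟨⟨e * c, by rw [e1]; ring⟩, by omega⟩) a2 e
    (Nat.mem_divisors.mpr ⟨a3, by norm_num⟩) a4 ⟨_, e1⟩ n'
    (Nat.mem_divisors.mpr ⟨⟨e' * c', by rw [e2]; ring⟩, by omega⟩) b2 e'
    (Nat.mem_divisors.mpr ⟨b3, by norm_num⟩) b4 ⟨_, e2⟩ (by rwa [f2]) (by rwa [f1, f2])
  rwa [f1, f2] at this

set_option synthInstance.maxSize 4096 in
theorem hB5 : ∀ x ∈ [8, 12], ∀ n ∈ Nat.divisors (35 * x), 19 * n % 11 = 1 →
    ∀ e ∈ Nat.divisors 10, e ≠ 1 → n * e ∣ 35 * x → ¬ 7 ∣ 35 * x / (n * e) := by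
  decide +kernel

theorem hB6 {x : ℕ} (hx : x ∈ [8, 12]) {n c e : ℕ} (a1 : 7315 * x = n * (11 * c * e))
    (a2 : n % 11 = 1) (a3 : e ∣ 11 - 1) (a4 : e ≠ 1) (a5 : ¬ 19 ∣ c) : ¬ 7 ∣ c := by
  have hx0 : 0 < x := by
    simp only [List.mem_cons, List.not_mem_nil, or_false] at hx
    omega
  obtain ⟨n, rfl⟩ := dvd_19 (x := 385 * x) (by rw [← a1]; ring) (by norm_num) a5 a3 (by norm_num)
    (by norm_num)
  have e1 : 35 * x = n * e * c := by linarith
  have p1 : 0 < n * e := Nat.pos_of_ne_zero fun h => by rw [h] at e1; omega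
  have f1 : 35 * x / (n * e) = c := by rw [e1, Nat.mul_div_cancel_left _ p1]
  have := hB5 x hx n (Nat.mem_divisors.mpr ⟨⟨e * c, by rw [e1]; ring⟩, by omega⟩) a2 e
    (Nat.mem_divisors.mpr ⟨a3, by norm_num⟩) a4 ⟨_, e1⟩
  rwa [f1] at this

set_option maxHeartbeats 1600000 in
theorem not_simple {G : Type*} [Group G] [Finite G] [IsSimpleGroup G] (hG : ¬ IsMulCommutative G)
    (hd : Nat.card G ∣ 175560) (hne : Nat.card G ≠ 175560) (h19 : 19 ∣ Nat.card G) : False := by
  classical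
  haveI : Fact (Nat.Prime 5) := ⟨by norm_num⟩
  haveI : Fact (Nat.Prime 7) := ⟨by norm_num⟩
  haveI : Fact (Nat.Prime 11) := ⟨by norm_num⟩
  have hsq : ∀ p, ¬ p ^ 2 ∣ 175560 → ¬ p ^ 2 ∣ Nat.card G := fun p h h' => h (h'.trans hd)
  obtain ⟨P⟩ := (inferInstance : Nonempty (Sylow 19 G))
  have hP := card_sylow_eq P h19 (hsq 19 (by norm_num))
  obtain ⟨c, e, hm, hn, he, he1, hC, hN, hcom, hcnt⟩ := data hG 19 P hP
  have hn1 := H58.one_lt_card_sylow hG h19
  have hfix : ∀ k q, Nat.card (Sylow 19 G) = 1 + k * 19 → k ≠ 0 → q.Prime → q ≠ 19 → q ∣ c →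
      ∃ j, j < k ∧ q ∣ k - j := by
    intro k q hk hk0 hq hq19 hqc
    obtain ⟨y, hy, hyq⟩ := H3.exists_mem_orderOf_eq_prime hq (hC ▸ hqc.mul_left 19)
    obtain ⟨j, h1, -, h2, -⟩ := H89.prime_centralizer hG P hP hk hk0 hy hq hq19 hyq
    exact ⟨j, h1, h2⟩
  have get : ∀ (p : ℕ) [Fact p.Prime], p ∣ Nat.card G → ¬ p ^ 2 ∣ 175560 →
      ∃ n c e : ℕ, Nat.card G = n * (p * c * e) ∧ n % p = 1 ∧ e ∣ p - 1 ∧ e ≠ 1 ∧
      (∀ q, q.Prime → q ≠ p → (q ∣ c ↔ Com G p q)) ∧
      n * c * (p - 1) ≤ {g : G | p ∣ orderOf g}.ncard := by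
    intro p _ h1 h2
    obtain ⟨Q⟩ := (inferInstance : Nonempty (Sylow p G))
    obtain ⟨c, e, a1, a2, a3, a4, -, -, a5, a6⟩ := data hG p Q (card_sylow_eq Q h1 (hsq p h2))
    exact ⟨_, c, e, a1, a2, a3, a4, a5, a6⟩
  generalize hnn : Nat.card (Sylow 19 G) = n at hm hn hcnt hn1
  have hA : ∀ n ∈ Nat.divisors 9240, n % 19 = 1 → 1 < n → ∀ c ∈ Nat.divisors (9240 / n),
      ∀ e ∈ Nat.divisors 18, e ≠ 1 → c * e ∣ 9240 / n → n * (19 * c * e) ≠ 175560 →
      (n = 20 ∧ (c = 1 ∨ 2 ∣ c ∨ 3 ∣ c ∨ 7 ∣ c ∨ 11 ∣ c)) ∨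
      (n = 77 ∧ (5 ∣ c ∨ (c * e ∣ 24 ∧ e ≤ 6))) ∨
      (n = 210 ∧ e = 2 ∧ (c = 1 ∨ c = 2 ∨ c = 11)) ∨ (n = 1540 ∧ c = 1 ∧ (e = 2 ∨ e = 3)) := by
    decide +kernel
  have hd' : n * (c * e) ∣ 9240 := by
    refine Nat.dvd_of_mul_dvd_mul_left (by norm_num : 0 < 19) ?_
    rw [show 19 * (n * (c * e)) = n * (19 * c * e) by ring, ← hm]
    exact hd
  have hd2 : c * e ∣ 9240 / n := Nat.dvd_div_of_mul_dvd hd'
  have hd0 : 9240 / n ≠ 0 := (Nat.div_pos (Nat.le_of_dvd (by norm_num) (Dvd.intro _ rfl |>.trans hd'))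
    (by omega)).ne'
  rcases hA n (Nat.mem_divisors.mpr ⟨(Dvd.intro _ rfl).trans hd', by norm_num⟩) hn hn1 c
    (Nat.mem_divisors.mpr ⟨(Dvd.intro _ rfl).trans hd2, hd0⟩) e
    (Nat.mem_divisors.mpr ⟨he, by norm_num⟩) he1 hd2 (hm ▸ hne) with
    ⟨rfl, h⟩ | ⟨rfl, h⟩ | ⟨rfl, rfl, h⟩ | ⟨rfl, rfl, h⟩
  · have hc1 : c = 1 := by
      have key : ∀ q, q.Prime → q ≠ 19 → ¬ q ∣ c := fun q hq h19 hqc => by
        obtain ⟨j, h1, h2⟩ := hfix 1 q (by rw [hnn]) one_ne_zero hq h19 hqc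
        rw [show 1 - j = 1 by omega] at h2
        exact hq.one_lt.ne' (Nat.dvd_one.mp h2)
      rcases h with h | h | h | h | h
      · exact h
      all_goals exact absurd h (key _ (by norm_num) (by norm_num))
    subst hc1
    haveI := Fintype.ofFinite (Sylow 19 G)
    have hinj := H58.toPermHom_injective (X := Sylow 19 G) (H89.exists_smul_sylow_ne (by omega))
    haveI : IsPretransitive (toPermHom G (Sylow 19 G)).range (Sylow 19 G) := ⟨fun a b => by
      obtain ⟨g, hg⟩ := exists_smul_eq G a b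
      exact ⟨⟨_, g, rfl⟩, hg⟩⟩
    have hle := Nat.le_of_dvd (by norm_num) he
    rcases S0732.result (p := 19) (d := e) (by norm_num) (by rw [← Nat.card_eq_fintype_card, hnn])
      (toPermHom G (Sylow 19 G)).range
      (by rw [← Nat.card_congr (MonoidHom.ofInjective hinj).toEquiv, hm]; ring) (by omega) with
      ⟨h1, -⟩ | ⟨h1, -⟩ | ⟨q, -, h1, -⟩
    · rw [h1] at hd2; norm_num at hd2
    · rw [show e = 9 by omega] at hd2; norm_num at hd2
    · have : 5 ∣ 2 ^ q := by rw [← h1]; norm_num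
      have := (by norm_num : Nat.Prime 5).dvd_of_dvd_pow this
      omega
  · obtain ⟨h24, he6⟩ := h.resolve_left fun h5 => by
      obtain ⟨j, h1, h2⟩ := hfix 4 5 (by rw [hnn]) (by norm_num) (by norm_num) (by norm_num) h5
      omega
    have h7 : ¬ Com G 19 7 := fun h => by
      have := ((hcom 7 (by norm_num) (by norm_num)).mpr h).mul_right e |>.trans h24
      omega
    have h11 : ¬ Com G 19 11 := fun h => by
      have := ((hcom 11 (by norm_num) (by norm_num)).mpr h).mul_right e |>.trans h24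
      omega
    obtain ⟨n₁, c₁, e₁, a1, a2, a3, a4, a5, a6⟩ := get 11 (by rw [hm]; exact Dvd.dvd.mul_right (by norm_num) _)
      (by norm_num)
    obtain ⟨n₂, c₂, e₂, b1, b2, b3, b4, b5, b6⟩ := get 7 (by rw [hm]; exact Dvd.dvd.mul_right (by norm_num) _)
      (by norm_num)
    have hk0 : 0 < c * e := Nat.pos_of_dvd_of_pos h24 (by norm_num)
    have e1 : 133 * (c * e) = n₁ * e₁ * c₁ := by nlinarith
    have e2 : 209 * (c * e) = n₂ * e₂ * c₂ := by nlinarith
    have p1 : 0 < n₁ * e₁ := Nat.pos_of_ne_zero fun h => by rw [h] at e1; omega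
    have p2 : 0 < n₂ * e₂ := Nat.pos_of_ne_zero fun h => by rw [h] at e2; omega
    have f1 : 133 * (c * e) / (n₁ * e₁) = c₁ := by rw [e1, Nat.mul_div_cancel_left _ p1]
    have f2 : 209 * (c * e) / (n₂ * e₂) = c₂ := by rw [e2, Nat.mul_div_cancel_left _ p2]
    obtain ⟨rfl, g1⟩ := hB _ (Nat.mem_divisors.mpr ⟨h24, by norm_num⟩) n₁
      (Nat.mem_divisors.mpr ⟨⟨e₁ * c₁, by rw [e1]; ring⟩, by omega⟩) a2 e₁
      (Nat.mem_divisors.mpr ⟨a3, by norm_num⟩) a4 ⟨_, e1⟩
      (by rw [f1]; exact fun h => h11 ((a5 19 (by norm_num) (by norm_num)).mp h).symm)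
    have h117 : ¬ Com G 7 11 := fun h => g1 (f1 ▸ (a5 7 (by norm_num) (by norm_num)).mpr h.symm)
    obtain rfl := hB2 _ (Nat.mem_divisors.mpr ⟨h24, by norm_num⟩) n₂
      (Nat.mem_divisors.mpr ⟨⟨e₂ * c₂, by rw [e2]; ring⟩, by omega⟩) b2 e₂
      (Nat.mem_divisors.mpr ⟨b3, by norm_num⟩) b4 ⟨_, e2⟩
      (by rw [f2]; exact fun h => h7 ((b5 19 (by norm_num) (by norm_num)).mp h).symm)
      (by rw [f2]; exact fun h => h117 ((b5 11 (by norm_num) (by norm_num)).mp h))
    have := count h7 h11 h117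
    have : c * e ≤ c * 6 := Nat.mul_le_mul_left c he6
    nlinarith
  all_goals
    have h7 : ¬ Com G 19 7 := fun h' => by
      have := (hcom 7 (by norm_num) (by norm_num)).mpr h'
      omega
    have h5 : ¬ Com G 19 5 := fun h' => by
      have := (hcom 5 (by norm_num) (by norm_num)).mpr h'
      omega
    obtain ⟨n₁, c₁, e₁, a1, a2, a3, a4, a5, a6⟩ := get 5 (by rw [hm]; exact Dvd.dvd.mul_right (by norm_num) _)
      (by norm_num)
    obtain ⟨n₂, c₂, e₂, b1, b2, b3, b4, b5, b6⟩ := get 7 (by rw [hm]; exact Dvd.dvd.mul_right (by norm_num) _)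
      (by norm_num)
    have a7 : ¬ 19 ∣ c₁ := fun h => h5 ((a5 19 (by norm_num) (by norm_num)).mp h).symm
    have b7 : ¬ 19 ∣ c₂ := fun h => h7 ((b5 19 (by norm_num) (by norm_num)).mp h).symm
    have a8 : 7 ∣ c₁ ↔ Com G 7 5 := (a5 7 (by norm_num) (by norm_num)).trans ⟨Com.symm, Com.symm⟩
    have b8 : 5 ∣ c₂ ↔ Com G 7 5 := b5 5 (by norm_num) (by norm_num)
    have fin : ∀ x y : ℕ, (x, y) ∈ [(12, 3780), (132, 41580), (88, 27720), (132, 27720)] →
        Nat.card G = 665 * x → y ≤ {g : G | 19 ∣ orderOf g}.ncard → (y = 27720 → ¬ 11 ∣ c₂) →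
        False := by
      intro x y hxy h1 h2 h11
      obtain ⟨h3, h4⟩ := hB4 hxy (h1 ▸ a1) a2 a3 a4 a7 (h1 ▸ b1) b2 b3 b4 b7 h11
        (a8.trans b8.symm)
      have := count h7 h5 (fun h => h3 (a8.mpr h))
      omega
  · rcases h with rfl | rfl | rfl
    · exact fin 12 3780 (by simp) hm hcnt (by omega)
    · exact special hG hm P hP hC hN
    · exact fin 132 41580 (by simp) hm hcnt (by omega)
  · obtain ⟨n₃, c₃, e₃, d1, d2, d3, d4, d5, -⟩ := get 11
      (by rw [hm]; exact Dvd.dvd.mul_right (by norm_num) _) (by norm_num)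
    have d7 : ¬ 19 ∣ c₃ := fun h => by
      have := (hcom 11 (by norm_num) (by norm_num)).mpr
        ((d5 19 (by norm_num) (by norm_num)).mp h).symm
      omega
    have d8 : ¬ 7 ∣ c₃ → ¬ 11 ∣ c₂ := fun h h' => h ((d5 7 (by norm_num) (by norm_num)).mpr
      ((b5 11 (by norm_num) (by norm_num)).mp h').symm)
    rcases h with rfl | rfl
    · exact fin 88 27720 (by simp) hm hcnt fun _ =>
        d8 (hB6 (x := 8) (by simp) (by rw [← d1, hm]) d2 d3 d4 d7)
    · exact fin 132 27720 (by simp) hm hcnt fun _ =>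
        d8 (hB6 (x := 12) (by simp) (by rw [← d1, hm]) d2 d3 d4 d7)

theorem card_lt_card_of_ne_top' {G : Type*} [Group G] [Finite G] {N : Subgroup G} (h : N ≠ ⊤) :
    Nat.card N < Nat.card G :=
  lt_of_le_of_ne (card_le_card_group N) fun h' => h (eq_top_of_card_eq N h')

theorem step {G : Type u} [Group G] [Finite G] (hd : Nat.card G ∣ 175560)
    (ih : ∀ (X : Type u) [Group X] [Finite X], Nat.card X < Nat.card G → Nat.card X ∣ 175560 →
      ∀ P : Sylow 19 X, (P : Subgroup X).Normal)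
    (N : Subgroup G) [N.Normal] (h1 : N ≠ ⊥) (h2 : N ≠ ⊤) (P : Sylow 19 G) :
    (P : Subgroup G).Normal := by
  by_cases h : 19 ∣ Nat.card N
  · have hi : ¬ 19 ∣ N.index := fun h' => by
      have := (Nat.mul_dvd_mul h h').trans (N.card_mul_index ▸ hd)
      omega
    have hle := H58.le_of_not_dvd_index P.2 hi
    exact H58.sylow_normal_of_subtype_normal P hle
      (ih N (card_lt_card_of_ne_top' h2) ((card_subgroup_dvd_card N).trans hd) (P.subtype hle))
  · set f := QuotientGroup.mk' N with hf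
    have hfs : Function.Surjective f := QuotientGroup.mk'_surjective N
    have hlt : Nat.card (G ⧸ N) < Nat.card G := by
      have := (one_lt_card_iff_ne_bot N).mpr h1
      have h3 : 0 < Nat.card (G ⧸ N) := Nat.card_pos
      rw [card_eq_card_quotient_mul_card_subgroup N]
      nlinarith
    haveI : ((P : Subgroup G).map f).Normal :=
      ih _ hlt ((card_quotient_dvd_card N).trans hd) (P.mapSurjective hfs)
    have hK : ((P : Subgroup G).map f).comap f = (P : Subgroup G) ⊔ N := by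
      rw [comap_map_eq, hf, QuotientGroup.ker_mk']
    haveI : ((P : Subgroup G) ⊔ N).Normal := hK ▸ inferInstance
    refine H58.sylow_normal_of_subtype_normal P (K := (P : Subgroup G) ⊔ N) le_sup_left ?_
    rw [normal_subgroupOf_iff_le_normalizer le_sup_left]
    refine sup_le le_normalizer (le_trans ?_ (centralizer_le_normalizer _))
    refine H4.le_of_forall_sylow_le fun r hr => ?_
    obtain ⟨R, hR⟩ := H4.exists_invariant_sylow (A := P) (K := N) (by rw [normalizer_eq_top]; exact le_top)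
      (by
        obtain ⟨k, hk⟩ := P.2.exists_card_eq
        rw [hk]
        exact ((Nat.Prime.coprime_iff_not_dvd fact19.out).mpr h).pow_left k)
      (Or.inl (H4.isSolvable_of_isPGroup P.2)) r
    refine ⟨R, le_centralizer_iff.mp ?_⟩
    set Q := (R : Subgroup N).map N.subtype with hQ
    by_contra hne
    have h3 : 19 ∣ (centralizer (Q : Set G)).relIndex (normalizer (Q : Set G)) := by
      by_contra h4
      exact hne fun x hx => H58.le_of_not_dvd_index (P.2.comap_subtype (K := normalizer (Q : Set G)))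
        h4 (x := ⟨x, hR hx⟩) hx
    have hQN : Nat.card Q ∣ Nat.card N := card_dvd_of_le (map_subtype_le _)
    have hr19 : 19 ≠ r := by
      rintro rfl
      obtain ⟨k, hk⟩ := (R.2.map N.subtype).exists_card_eq
      rcases k with _ | k
      · apply hne
        rw [hQ, card_eq_one.mp hk, ← le_centralizer_iff]
        exact bot_le
      · exact h ((dvd_pow_self 19 k.succ_ne_zero).trans (hk ▸ hQN))
    obtain ⟨s, hs, -, i, hi, hsi⟩ := H93.exists_dvd_pow_sub_one_of_dvd_card_mulAut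
      (R.2.map N.subtype) fact19.out hr19 (h3.trans (H58.relIndex_centralizer_dvd_card_mulAut Q))
    rw [Finset.mem_Icc] at hi
    have h4 : r ^ i ∣ 9240 := by
      refine Nat.Coprime.dvd_of_dvd_mul_left (k := r ^ i) (m := 19)
        (((Nat.coprime_primes hr.out fact19.out).mpr hr19.symm).pow_left i) ?_
      exact (pow_dvd_pow r hi.2).trans (hs.trans ((card_subgroup_dvd_card _).trans hd))
    have h5 : 1 < r ^ i := Nat.one_lt_pow (by omega) hr.out.one_lt
    have h6 : ∀ a ∈ Nat.divisors 9240, 19 ∣ a - 1 → 1 < a → 10 ∣ a ∨ 77 ∣ a := by decide +kernel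
    have h7 : ∀ a b : ℕ, a.Prime → b.Prime → a * b ∣ r ^ i → a = b := fun a b ha hb hab => by
      rw [(Nat.prime_dvd_prime_iff_eq ha hr.out).mp (ha.dvd_of_dvd_pow (dvd_of_mul_right_dvd hab)),
        (Nat.prime_dvd_prime_iff_eq hb hr.out).mp (hb.dvd_of_dvd_pow (dvd_of_mul_left_dvd hab))]
    rcases h6 _ (Nat.mem_divisors.mpr ⟨h4, by norm_num⟩) hsi h5 with h8 | h8
    · exact absurd (h7 2 5 (by norm_num) (by norm_num) h8) (by norm_num)
    · exact absurd (h7 7 11 (by norm_num) (by norm_num) h8) (by norm_num)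

theorem exists_normal {G : Type*} [Group G] [Nontrivial G] (h : ¬ IsSimpleGroup G) :
    ∃ N : Subgroup G, N.Normal ∧ N ≠ ⊥ ∧ N ≠ ⊤ := by
  by_contra hc
  push Not at hc
  exact h ⟨fun N hN => or_iff_not_imp_left.mpr (hc N hN)⟩

theorem aux (n : ℕ) : ∀ (G : Type u) [Group G] [Finite G], Nat.card G = n → n ∣ 175560 →
    n ≠ 175560 → ∀ P : Sylow 19 G, (P : Subgroup G).Normal := by
  induction n using Nat.strong_induction_on with
  | _ n ih =>
  intro G _ _ hn hd hne P
  subst hn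
  by_cases h19 : 19 ∣ Nat.card G
  swap
  · have : (P : Subgroup G) = ⊥ := by
      by_contra h
      exact h19 ((P.2.card_eq_or_dvd.resolve_left (by rwa [card_eq_one])).trans
        (card_subgroup_dvd_card _))
    rw [this]
    infer_instance
  haveI : Nontrivial G := Finite.one_lt_card_iff_nontrivial.mp
    (lt_of_lt_of_le (by norm_num) (Nat.le_of_dvd Nat.card_pos h19))
  by_cases hs : IsSimpleGroup G
  · by_cases hc : IsMulCommutative G
    · exact normal_of_comm _
    · exact (not_simple hc hd hne h19).elim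
  · obtain ⟨N, hN, h1, h2⟩ := exists_normal hs
    refine step hd (fun X _ _ hlt hX => ih _ hlt X rfl hX ?_) N h1 h2 P
    have := Nat.le_of_dvd (by norm_num) hd
    omega

/-- A finite group of order 175560 = 2³·3·5·7·11·19 is either simple or has a normal Sylow 19-subgroup. -/
theorem result {G : Type*} [Group G] [Finite G] (hG : Nat.card G = 175560) : IsSimpleGroup G ∨ ∀ P : Sylow 19 G, (P : Subgroup G).Normal := by
  refine or_iff_not_imp_left.mpr fun hs P => ?_
  haveI : Nontrivial G := Finite.one_lt_card_iff_nontrivial.mp (by omega)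
  obtain ⟨N, hN, h1, h2⟩ := exists_normal hs
  exact step hG.dvd (fun X _ _ hlt hX => aux _ X rfl hX (by omega)) N h1 h2 P

end Cfsg.Agent.S4274
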