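import Cfsg.Statements.S4314
import Cfsg.Agent.H92.QFrob
import Cfsg.Agent.H89.PBasic
import Cfsg.Agent.S4134

set_option autoImplicit false
open Cfsg

namespace Cfsg.Agent.S4314

open Cfsg.Agent.H92

theorem aux {G : Type*} [Group G] [Finite G] [Group.IsNilpotent G]
    (h : ∀ x : G, cs[x] = 1 ∨ (cs[x]).Prime) : Subgroup.upperCentralSeries G 2 = ⊤ := by
  have h1 : commutator G ≤ Subgroup.center G := by
    intro z hz
    rw [Subgroup.mem_center_iff]
    intro x
    rcases h x with h1 | h1
    · exact (Subgroup.mem_center_iff.1 (cs_eq_one_iff.1 h1) z).symm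
    · haveI : (Ce[x]).Normal := Subgroup.NormalizerCondition.normal_of_coatom _
        Group.normalizerCondition_of_isNilpotent (H89.isCoatom_of_index_prime h1 rfl)
      haveI := Fact.mk h1
      haveI : IsCyclic (G ⧸ Ce[x]) := isCyclic_of_prime_card (p := cs[x]) rfl
      have : commutator G ≤ Ce[x] := Subgroup.Normal.quotient_commutative_iff_commutator_le.1 inferInstance
      exact (mem_C'.1 (this hz)).eq
  rw [eq_top_iff]
  intro x _
  rw [Subgroup.mem_upperCentralSeries_succ_iff]
  intro y
  rw [Subgroup.upperCentralSeries_one]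
  exact h1 (Subgroup.commutator_mem_commutator (Subgroup.mem_top x) (Subgroup.mem_top y))

/-- Let `G` be a finite group every conjugacy class of which has size 1 or a prime. Then either `G` is nilpotent of class at most 2, or `G/Z(G)` is a non-abelian group of order `pq` for distinct primes `p, q` (a Frobenius group of order `pq`). -/
theorem result {G : Type*} [Group G] [Finite G]
    (h : ∀ x : G, (Subgroup.centralizer ({x} : Set G)).index = 1 ∨ ((Subgroup.centralizer ({x} : Set G)).index).Prime) :
    Subgroup.upperCentralSeries G 2 = ⊤ ∨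
      ∃ p q : ℕ, p.Prime ∧ q.Prime ∧ p ≠ q ∧ Nat.card (G ⧸ Subgroup.center G) = p * q ∧ ¬ IsMulCommutative (G ⧸ Subgroup.center G) := by
  by_cases hc : ∀ x : G, x ∈ Subgroup.center G
  · haveI : Group.IsNilpotent G := ⟨⟨1, by
      rw [Subgroup.upperCentralSeries_one, eq_top_iff]; exact fun x _ => hc x⟩⟩
    exact Or.inl (aux h)
  push Not at hc
  obtain ⟨x, hx⟩ := hc
  have hp : (cs[x]).Prime := (h x).resolve_left fun e => hx (cs_eq_one_iff.1 e)
  by_cases h2 : ∀ y : G, cs[y] = 1 ∨ cs[y] = cs[x]
  · left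
    obtain ⟨p, _, a, -, hP⟩ := S4134.result cs[x] hp.one_lt h2 ⟨x, rfl⟩
    obtain ⟨P⟩ : Nonempty (Sylow p G) := inferInstance
    obtain ⟨hPn, ⟨N, hNn, hNc, hNm, hNP⟩, -⟩ := hP P
    have hN : N ≤ Subgroup.center G := by
      refine Subgroup.centralizer_eq_top_iff_subset.1 ?_
      rw [eq_top_iff, ← hNc.sup_eq_top]
      exact sup_le (Subgroup.le_centralizer N) fun y hy => Subgroup.mem_centralizer_iff.2
        fun a ha => hNP a ha y hy
    haveI : Group.IsNilpotent (G ⧸ N) := by
      refine IsPGroup.isNilpotent (p := p) ?_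
      obtain ⟨k, hk⟩ := P.isPGroup'.exists_card_eq
      exact IsPGroup.of_card (hNc.symm.index_eq_card.trans hk)
    haveI : Group.IsNilpotent G := Subgroup.isNilpotent_of_ker_le_center (QuotientGroup.mk' N)
      (by rwa [QuotientGroup.ker_mk'])
    exact aux h
  push Not at h2
  obtain ⟨y, hy1, hyx⟩ := h2
  have hq : (cs[y]).Prime := (h y).resolve_left hy1
  obtain ⟨K, H, hKH⟩ := exists_qfrob (G := G) {cs[x]} ⟨_, rfl, hp, x, dvd_rfl⟩ ⟨_, hyx, hq, y, dvd_rfl⟩
    fun g => by
      rcases h g with e | e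
      · rw [e]; exact Or.inl (H2.isPiNum_one _)
      · by_cases e' : cs[g] = cs[x]
        · exact Or.inl fun r hr hd => ((Nat.prime_dvd_prime_iff_eq hr e).1 hd).trans e'
        · exact Or.inr fun r hr hd he => e' (((Nat.prime_dvd_prime_iff_eq hr e).1 hd).symm.trans he)
  right
  obtain ⟨k, hk, hkZ⟩ := SetLike.not_le_iff_exists.1 hKH.not_le_center
  obtain ⟨a, ha, haZ⟩ := SetLike.not_le_iff_exists.1 hKH.not_le_center'
  haveI := hKH.normal
  haveI : (K.map (QuotientGroup.mk' (Subgroup.center G))).Normal :=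
    Subgroup.Normal.map inferInstance _ (QuotientGroup.mk'_surjective _)
  have hcompl : (K.map (QuotientGroup.mk' (Subgroup.center G))).IsComplement'
      (H.map (QuotientGroup.mk' (Subgroup.center G))) := by
    refine Subgroup.isComplement'_of_disjoint_and_mul_eq_univ (hKH.disjoint_map _) ?_
    rw [← Subgroup.normal_mul, hKH.sup_map]; rfl
  have e1 : cs[k] = Nat.card (H.map (QuotientGroup.mk' (Subgroup.center G))) := by
    rw [hKH.C_left hk hkZ, ← hcompl.symm.index_eq_card, Subgroup.index_map, QuotientGroup.ker_mk',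
      MonoidHom.range_eq_top.2 (QuotientGroup.mk'_surjective _), Subgroup.index_top, mul_one]
  have e2 : cs[a] = Nat.card (K.map (QuotientGroup.mk' (Subgroup.center G))) := by
    rw [hKH.C_right ha haZ, ← hcompl.index_eq_card, Subgroup.index_map, QuotientGroup.ker_mk',
      MonoidHom.range_eq_top.2 (QuotientGroup.mk'_surjective _), Subgroup.index_top, mul_one]
  have hk' : (cs[k]).Prime := (h k).resolve_left fun e => hkZ (cs_eq_one_iff.1 e)
  have ha' : (cs[a]).Prime := (h a).resolve_left fun e => haZ (cs_eq_one_iff.1 e)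
  refine ⟨cs[a], cs[k], ha', hk', ?_, by rw [e1, e2, hcompl.card_mul_card], fun hcomm => ?_⟩
  · rw [← Nat.coprime_primes ha' hk', e1, e2]
    exact (hKH.coprime.coprime_dvd_left (Subgroup.card_map_dvd _ _)).coprime_dvd_right
      (Subgroup.card_map_dvd _ _)
  · have h1 : Commute k a := commute_of_coprime_of_commutator_mem_center
      (commutator_mem_center_iff.2 (hcomm.is_comm.comm _ _))
      ((hKH.coprime.coprime_dvd_left (K.orderOf_dvd_natCard hk)).coprime_dvd_right
        (H.orderOf_dvd_natCard ha))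
    exact (hKH.fpf k hk a ha h1).elim hkZ haZ

end Cfsg.Agent.S4314
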