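import Cfsg.Statements.S4339
import Cfsg.Agent.S4303
import Cfsg.Agent.S4343
import Cfsg.Agent.S4700
import Cfsg.Agent.H24.PSolv
import Cfsg.Agent.H28.PSL2Small

set_option autoImplicit false
open Cfsg

namespace Cfsg.Agent.S4339

universe u

theorem isPSolvable_of_normal {p : ℕ} [hp : Fact p.Prime] (G : Type u) [Group G] [Finite G]
    (N : Subgroup G) [N.Normal]
    (hN : IsPSolvable p N) (hQ : IsPSolvable p (G ⧸ N)) : IsPSolvable p G := by
  induction h : Nat.card G using Nat.strong_induction_on generalizing G with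
  | _ n ih =>
  by_cases h1 : N = ⊥
  · subst h1
    exact H24.isPSolvable_of_surjective hp.out (QuotientGroup.quotientBot (G := G)).toMonoidHom
      (QuotientGroup.quotientBot (G := G)).surjective hQ
  have : Nontrivial N := (Subgroup.nontrivial_iff_ne_bot N).2 h1
  obtain ⟨M₀, hM₀n, hM₀, hM₀p⟩ := H24.exists_normal_ne_bot_of_isPSolvable hN
  obtain ⟨M, hMn, hMN, hM1, hMp⟩ : ∃ M : Subgroup G, M.Normal ∧ M ≤ N ∧ M ≠ ⊥ ∧
      ((∃ m, Nat.card M = p ^ m) ∨ (Nat.card M).Coprime p) := by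
    rcases hM₀p with ⟨m, hm⟩ | hc
    · refine ⟨_, H3.map_pCore_normal (p := p) N, Subgroup.map_subtype_le _, fun h => hM₀ ?_,
        Or.inl (IsPGroup.iff_card.1 (H3.map_pCore_isPGroup N))⟩
      rw [Subgroup.map_eq_bot_iff_of_injective _ N.subtype_injective] at h
      exact le_bot_iff.1 ((H3.le_pCore (IsPGroup.of_card hm)).trans h.le)
    · refine ⟨_, H3.map_pPrimeCore_normal (p := p) N, Subgroup.map_subtype_le _, fun h => hM₀ ?_,
        Or.inr (by rw [H3.card_map_subtype]; exact H3.pPrimeCore_coprime p N)⟩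
      rw [Subgroup.map_eq_bot_iff_of_injective _ N.subtype_injective] at h
      exact le_bot_iff.1 ((H3.le_pPrimeCore hc).trans h.le)
  refine H24.isPSolvable_of_normal_of_quotient M hMp (ih _ ?_ (G ⧸ M)
    (N.map (QuotientGroup.mk' M)) ?_ ?_ rfl)
  · rw [← h, Subgroup.card_eq_card_quotient_mul_card_subgroup M]
    exact lt_mul_of_one_lt_right Nat.card_pos ((Subgroup.one_lt_card_iff_ne_bot M).2 hM1)
  · exact H24.isPSolvable_of_surjective hp.out _
      (MonoidHom.subgroupMap_surjective (QuotientGroup.mk' M) N) hN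
  · exact H24.isPSolvable_of_injective hp.out
      (QuotientGroup.quotientQuotientEquivQuotient M N hMN).toMonoidHom
      (QuotientGroup.quotientQuotientEquivQuotient M N hMN).injective hQ

theorem isPSolvable_of_coprime {p : ℕ} [hp : Fact p.Prime] {G : Type*} [Group G] [Finite G]
    (h : (Nat.card G).Coprime p) : IsPSolvable p G :=
  H24.isPSolvable_of_normal_of_quotient ⊤ (Or.inr (by rwa [Subgroup.card_top]))
    (by
      have := QuotientGroup.subsingleton_quotient_top (G := G)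
      exact H24.isPSolvable_of_isSolvable hp.out _ inferInstance)

theorem one_of_mul_lt {p a b : ℕ} (hp : 1 < p) (ha : a ≡ 1 [MOD p]) (hb : b ≡ 1 [MOD p])
    (h : a * b < p ^ 2) : a = 1 ∨ b = 1 := by
  by_contra hc
  push Not at hc
  have key : ∀ c : ℕ, c ≡ 1 [MOD p] → c ≠ 1 → p < c := by
    intro c hc hc1
    by_contra hle
    push Not at hle
    rw [Nat.ModEq, Nat.mod_eq_of_lt hp] at hc
    rcases hle.eq_or_lt with h | h
    · rw [h, Nat.mod_self] at hc; exact absurd hc (by decide)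
    · rw [Nat.mod_eq_of_lt h] at hc; exact hc1 hc
  have h1 := key a ha hc.1
  have h2 := key b hb hc.2
  nlinarith

theorem primePow_of_parts {p n : ℕ} (hp : 1 < p) (hn0 : n ≠ 0) (hn : n < p ^ 2)
    (h : ∀ q : ℕ, q.Prime → q ^ n.factorization q ≡ 1 [MOD p]) :
    ∃ q k : ℕ, q.Prime ∧ n = q ^ k := by
  by_cases h1 : n = 1
  · exact ⟨2, 0, Nat.prime_two, by simpa using h1⟩
  obtain ⟨q, hq, hqn⟩ := Nat.exists_prime_and_dvd h1
  refine ⟨q, n.factorization q, hq, ?_⟩
  by_contra hne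
  have hm : n = q ^ n.factorization q * (n / q ^ n.factorization q) :=
    (Nat.mul_div_cancel' (Nat.ordProj_dvd n q)).symm
  set m := n / q ^ n.factorization q with hmdef
  have hm1 : m ≠ 1 := fun h => hne (by rw [h, mul_one] at hm; exact hm)
  obtain ⟨r, hr, hrm⟩ := Nat.exists_prime_and_dvd hm1
  have hrq : r ≠ q := by
    rintro rfl
    exact Nat.not_dvd_ordCompl hr hn0 hrm
  have hrn : r ∣ n := hrm.trans (Nat.ordCompl_dvd n q)
  have hcop : (q ^ n.factorization q).Coprime (r ^ n.factorization r) :=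
    Nat.Coprime.pow _ _ ((Nat.coprime_primes hq hr).2 hrq.symm)
  have hdvd : q ^ n.factorization q * r ^ n.factorization r ∣ n :=
    hcop.mul_dvd_of_dvd_of_dvd (Nat.ordProj_dvd n q) (Nat.ordProj_dvd n r)
  have hlt := (Nat.le_of_dvd (Nat.pos_of_ne_zero hn0) hdvd).trans_lt hn
  rcases one_of_mul_lt hp (h q hq) (h r hr) hlt with h2 | h2
  · have := (hq.dvd_iff_one_le_factorization hn0).1 hqn
    rw [Nat.pow_eq_one] at h2
    rcases h2 with h2 | h2
    · exact hq.one_lt.ne' h2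
    · omega
  · have := (hr.dvd_iff_one_le_factorization hn0).1 hrn
    rw [Nat.pow_eq_one] at h2
    rcases h2 with h2 | h2
    · exact hr.one_lt.ne' h2
    · omega

theorem forward (p : ℕ) [hp : Fact p.Prime] (n : ℕ) :
    ∀ (G : Type u) [Group G] [Finite G], Nat.card G = n → Nat.card (Sylow p G) < p ^ 2 →
      IsPSolvable p G → ∃ q k : ℕ, q.Prime ∧ Nat.card (Sylow p G) = q ^ k := by
  induction n using Nat.strong_induction_on with
  | _ n ih =>
  intro G _ _ hn hlt hG
  obtain ⟨P⟩ : Nonempty (Sylow p G) := inferInstance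
  rcases subsingleton_or_nontrivial G with hs | hs
  · refine ⟨2, 0, Nat.prime_two, ?_⟩
    rw [Sylow.card_eq_index_normalizer P, Subsingleton.elim (Subgroup.normalizer _) ⊤,
      Subgroup.index_top, pow_zero]
  obtain ⟨M, hMn, hM0, hMp⟩ := H24.exists_normal_ne_bot_of_isPSolvable hG
  have hform := H94.card_sylow_eq_quotient_mul P M
  have hr0 : (Subgroup.normalizer ((P : Subgroup G) : Set G)).relIndex M ≠ 0 :=
    Subgroup.index_ne_zero_of_finite
  have hq := ih _ (hn ▸ H2.card_quotient_lt_of_ne_bot hM0) (G ⧸ M) rfl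
    (lt_of_le_of_lt (by rw [hform]; exact Nat.le_mul_of_pos_right _ (Nat.pos_of_ne_zero hr0)) hlt)
    (H24.isPSolvable_quotient hp.out hG M)
  rcases hMp with ⟨m, hm⟩ | hc
  · rwa [H94.card_sylow_quotient_of_isPGroup M (IsPGroup.of_card hm)] at hq
  · rw [hform] at hlt ⊢
    rcases one_of_mul_lt hp.out.one_lt (card_sylow_modEq_one p (G ⧸ M))
      (H94.relIndex_normalizer_modEq_one P M) hlt with h | h
    · rw [h, one_mul] at hlt ⊢
      exact primePow_of_parts hp.out.one_lt hr0 hlt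
        (S4303.coprime_case P M ((Nat.Prime.coprime_iff_not_dvd hp.out).1 hc.symm))
    · rwa [h, mul_one]

theorem arith_F {p n q k h u : ℕ} (hp : p.Prime) (hq : q.Prime) (hh : 0 < h) (hu : 0 < u)
    (hlt : 1 + n * p < p ^ 2) (hk : 1 + n * p = q ^ k)
    (he : n * (u + 1) = h * u * p + u ^ 2 + u + h) : False := by
  have hp1 := hp.one_lt
  have hnp : n < p := by nlinarith
  have hh1 : h = 1 := by
    by_contra hne
    have h2 : 2 ≤ h := by omega
    have h3 : n * (u + 1) < p * (u + 1) := Nat.mul_lt_mul_of_pos_right hnp (by omega)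
    have h4 : 2 * u * p ≤ h * u * p := Nat.mul_le_mul_right _ (Nat.mul_le_mul_right _ h2)
    nlinarith
  subst hh1
  -- p - 1 = (u + 1) v with v = u + p - n
  obtain ⟨d, hd⟩ : ∃ d, p = n + d := ⟨p - n, by omega⟩
  have hv : p = (u + 1) * (u + d) + 1 := by
    have : (n + d) * (u + 1) = p * (u + 1) := by rw [hd]
    nlinarith
  have hd0 : 0 < d := by omega
  set v := u + d with hvdef
  have hfac : q ^ k = (u * v + 1) * ((u + 1) * (v + 1) + 1) := by
    have h1 : (u + 1) * (1 + n * p) = (u + 1) * ((u * v + 1) * ((u + 1) * (v + 1) + 1)) := by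
      have h2 : (u + 1) * (1 + n * p) = (u * p + 1) * (p + u + 1) := by
        have : (u + 1) * (n * p) = (1 * u * p + u ^ 2 + u + 1) * p := by rw [← he]; ring
        nlinarith
      rw [h2, hv]; ring
    rw [← hk]
    exact Nat.eq_of_mul_eq_mul_left (by omega) h1
  obtain ⟨a, -, ha⟩ := (Nat.dvd_prime_pow hq).1 (Dvd.intro _ hfac.symm)
  obtain ⟨b, -, hb⟩ := (Nat.dvd_prime_pow hq).1 (Dvd.intro_left _ hfac.symm)
  have hab : q ^ a < q ^ b := by rw [← ha, ← hb]; nlinarith
  have hab' : a < b := (Nat.pow_lt_pow_iff_right hq.one_lt).1 hab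
  have hdv : u * v + 1 ∣ (u + 1) * (v + 1) + 1 := by
    rw [ha, hb]; exact pow_dvd_pow q hab'.le
  have hdv2 : u * v + 1 ∣ u + v + 1 := by
    have : (u + 1) * (v + 1) + 1 = (u * v + 1) + (u + v + 1) := by ring
    rw [this] at hdv
    exact (Nat.dvd_add_right dvd_rfl).1 hdv
  have hle := Nat.le_of_dvd (by omega) hdv2
  have hu1 : u = 1 := by
    by_contra hne
    have : 2 ≤ u := by omega
    have : u + 1 ≤ v := by omega
    nlinarith
  rw [hu1] at hdv2
  have : v + 1 ∣ 1 := by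
    have h3 : 1 + v + 1 = (1 * v + 1) + 1 := by ring
    rw [h3] at hdv2
    simpa using (Nat.dvd_add_right dvd_rfl).1 hdv2
  have := Nat.le_of_dvd one_pos this
  omega

theorem modEq_one_lt {p c : ℕ} (hp : 1 < p) (hc : c ≡ 1 [MOD p]) (hc1 : c ≠ 1) : p < c := by
  by_contra hle
  push Not at hle
  rw [Nat.ModEq, Nat.mod_eq_of_lt hp] at hc
  rcases hle.eq_or_lt with h | h
  · rw [h, Nat.mod_self] at hc; exact absurd hc (by decide)
  · rw [Nat.mod_eq_of_lt h] at hc; exact hc1 hc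

theorem arith_psl {p q k : ℕ} (hp : p.Prime) (hp3 : 3 < p) (hq : q.Prime)
    (hmod : q ^ k ≡ 1 [MOD p]) (h1 : q ^ k ≠ 1) (hd : 2 * q ^ k ∣ p ^ 2 - 1) :
    ∃ j, p + 1 = 2 ^ j := by
  have hlt := modEq_one_lt hp.one_lt hmod h1
  obtain ⟨m, hm⟩ : ∃ m, p = 2 * m + 1 := hp.odd_of_ne_two (by omega)
  have hsq : p ^ 2 - 1 = 2 * (2 * m * (m + 1)) := by
    rw [hm]; apply Nat.sub_eq_of_eq_add; ring
  rw [hsq] at hd
  have hd' : q ^ k ∣ 2 * m * (m + 1) := Nat.dvd_of_mul_dvd_mul_left two_pos hd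
  have hcop : m.Coprime (m + 1) := by simp
  -- q ^ k divides 2 m or 2 (m + 1)
  have hor : q ^ k ∣ 2 * m ∨ q ^ k ∣ 2 * (m + 1) := by
    by_cases hqm : q ∣ m
    · left
      have : (q ^ k).Coprime (m + 1) :=
        Nat.Coprime.pow_left _ (Nat.Coprime.coprime_dvd_left hqm hcop)
      exact this.dvd_of_dvd_mul_right hd'
    · right
      have : (q ^ k).Coprime m := Nat.Coprime.pow_left _ ((Nat.Prime.coprime_iff_not_dvd hq).2 hqm)
      have h2 : 2 * m * (m + 1) = 2 * (m + 1) * m := by ring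
      rw [h2] at hd'
      exact this.dvd_of_dvd_mul_right hd'
  rcases hor with h | h
  · have := Nat.le_of_dvd (by omega) h
    omega
  · have h2 := Nat.le_of_dvd (by omega) h
    have h3 : q ^ k = 2 * (m + 1) := by omega
    have h4 : 2 ∣ q ^ k := ⟨_, h3⟩
    have h5 : q = 2 := ((Nat.prime_dvd_prime_iff_eq Nat.prime_two hq).1
      (Nat.prime_two.dvd_of_dvd_pow h4)).symm
    exact ⟨k, by rw [← h5, h3]; omega⟩

theorem arith_sl {p q k m : ℕ} (hp : p.Prime) (hm : p = 2 ^ m + 1) (hp3 : 3 < p) (hq : q.Prime)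
    (hmod : q ^ k ≡ 1 [MOD p]) (h1 : q ^ k ≠ 1) (hd : q ^ k ∣ 2 ^ m * (2 ^ m - 1)) : False := by
  have hlt := modEq_one_lt hp.one_lt hmod h1
  have hcop : (2 ^ m).Coprime (2 ^ m - 1) := by
    obtain ⟨t, ht⟩ : ∃ t, 2 ^ m = t + 1 := ⟨2 ^ m - 1, by omega⟩
    rw [ht]; simp
  by_cases hq2 : q ∣ 2 ^ m
  · have : (q ^ k).Coprime (2 ^ m - 1) :=
      Nat.Coprime.pow_left _ (Nat.Coprime.coprime_dvd_left hq2 hcop)
    have := Nat.le_of_dvd (by omega) (this.dvd_of_dvd_mul_right hd)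
    omega
  · have : (q ^ k).Coprime (2 ^ m) :=
      Nat.Coprime.pow_left _ ((Nat.Prime.coprime_iff_not_dvd hq).2 hq2)
    have := Nat.le_of_dvd (by omega) (this.dvd_of_dvd_mul_left hd)
    omega

theorem simple_case {p : ℕ} [hp : Fact p.Prime] (hM : ¬ (3 < p ∧ ∃ k : ℕ, p + 1 = 2 ^ k))
    {S : Type*} [Group S] [Finite S] [IsSimpleGroup S] (hS : ¬ IsMulCommutative S)
    (hpS : p ∣ Nat.card S) (hlt : Nat.card (Sylow p S) < p ^ 2) {q k : ℕ} (hq : q.Prime)
    (hk : Nat.card (Sylow p S) = q ^ k) : False := by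
  obtain ⟨P⟩ : Nonempty (Sylow p S) := inferInstance
  have hP := S4343.result hS p hpS hlt P
  have hperf : commutator S = ⊤ := by
    refine (IsSimpleGroup.eq_bot_or_eq_top_of_normal (commutator S) inferInstance).resolve_left ?_
    intro h
    exact hS ((commutator_eq_bot_iff S).1 h)
  have hmod := card_sylow_modEq_one p S
  have h1 : Nat.card (Sylow p S) ≠ 1 := by
    intro h
    rw [Sylow.card_eq_index_normalizer P, Subgroup.index_eq_one] at h
    have h' : (P : Subgroup S).Normal := Subgroup.normalizer_eq_top_iff.1 h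
    rcases IsSimpleGroup.eq_bot_or_eq_top_of_normal (P : Subgroup S) h' with h2 | h2
    · rw [h2, Subgroup.card_bot] at hP
      exact hp.out.one_lt.ne hP
    · rw [h2, Subgroup.card_top] at hP
      have := isCyclic_of_prime_card hP
      exact hS inferInstance
  obtain ⟨n, hn⟩ : ∃ n, Nat.card (Sylow p S) = 1 + n * p := by
    refine ⟨Nat.card (Sylow p S) / p, ?_⟩
    have := Nat.mod_add_div (Nat.card (Sylow p S)) p
    rw [hmod, Nat.mod_eq_of_lt hp.out.one_lt, mul_comm] at this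
    exact this.symm
  have hcore : pPrimeCore p S = ⊥ := by
    refine (IsSimpleGroup.eq_bot_or_eq_top_of_normal _ inferInstance).resolve_right fun h => ?_
    have := H3.pPrimeCore_coprime p S
    rw [h, Subgroup.card_top] at this
    exact (Nat.Prime.coprime_iff_not_dvd hp.out).1 this.symm hpS
  have hcardq : Nat.card (S ⧸ pPrimeCore p S) = Nat.card S := by
    rw [Subgroup.card_eq_card_quotient_mul_card_subgroup (pPrimeCore p S), hcore,
      Subgroup.card_bot, mul_one]
  have hdiv : p * Nat.card (Sylow p S) ∣ Nat.card S := by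
    rw [← (P : Subgroup S).card_mul_index, hP]
    exact Nat.mul_dvd_mul_left _ P.card_dvd_index
  rcases S4700.result hperf p P hP n hn with ⟨F, _, _, hF, h3, ⟨e⟩⟩ | ⟨m, F, _, _, hF, hm, h3, ⟨e⟩⟩ |
      ⟨h, u, hh, hu, he⟩
  · apply hM
    refine ⟨h3, arith_psl hp.out h3 hq (hk ▸ hmod) (hk ▸ h1) ?_⟩
    have hc := H28.card_PSL2 hF
    rw [← Nat.card_congr e.toEquiv, hcardq] at hc
    have hg : Nat.gcd 2 (p - 1) = 2 := by
      obtain ⟨m, hm⟩ : ∃ m, p = 2 * m + 1 := hp.out.odd_of_ne_two (by omega)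
      rw [hm]; simp
    rw [hg] at hc
    have : p * (2 * q ^ k) ∣ p * (p ^ 2 - 1) := by
      rw [← hc, ← hk, mul_left_comm]
      exact Nat.mul_dvd_mul_left _ hdiv
    exact Nat.dvd_of_mul_dvd_mul_left hp.out.pos this
  · refine arith_sl hp.out hm h3 hq (hk ▸ hmod) (hk ▸ h1) ?_
    have hc := H28.card_SL2 hF
    rw [← Nat.card_congr e.toEquiv, hcardq] at hc
    have h4 : 2 ^ m * ((2 ^ m) ^ 2 - 1) = p * (2 ^ m * (2 ^ m - 1)) := by
      rw [hm]
      obtain ⟨t, ht⟩ : ∃ t, 2 ^ m = t + 1 := ⟨2 ^ m - 1, by omega⟩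
      rw [ht]
      have : (t + 1) ^ 2 - 1 = t * (t + 2) := by apply Nat.sub_eq_of_eq_add; ring
      rw [this]; simp; ring
    rw [hc, h4, hk] at hdiv
    exact Nat.dvd_of_mul_dvd_mul_left hp.out.pos hdiv
  · exact arith_F hp.out hq hh hu (hn ▸ hlt) (hn ▸ hk) he

theorem backward (p : ℕ) [hp : Fact p.Prime] (hM : ¬ (3 < p ∧ ∃ k : ℕ, p + 1 = 2 ^ k))
    {q : ℕ} (hq : q.Prime) (n : ℕ) :
    ∀ (G : Type u) [Group G] [Finite G], Nat.card G = n → Nat.card (Sylow p G) < p ^ 2 →
      (∃ k, Nat.card (Sylow p G) = q ^ k) → IsPSolvable p G := by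
  induction n using Nat.strong_induction_on with
  | _ n ih =>
  intro G _ _ hn hlt ⟨k, hk⟩
  obtain ⟨P⟩ : Nonempty (Sylow p G) := inferInstance
  rcases subsingleton_or_nontrivial G with hs | hs
  · exact H24.isPSolvable_of_isSolvable hp.out G inferInstance
  by_cases hpG : p ∣ Nat.card G
  swap
  · exact isPSolvable_of_coprime ((Nat.Prime.coprime_iff_not_dvd hp.out).2 hpG).symm
  by_cases hsimp : IsSimpleGroup G
  · by_cases hc : IsMulCommutative G
    · exact H24.isPSolvable_of_isSolvable hp.out G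
        (Group.isSolvable_of_comm fun a b => hc.is_comm.comm a b)
    · exact (simple_case hM hc hpG hlt hq hk).elim
  obtain ⟨K, hKn, hK0, hK1⟩ : ∃ K : Subgroup G, K.Normal ∧ K ≠ ⊥ ∧ K ≠ ⊤ := by
    by_contra h
    push Not at h
    exact hsimp ⟨fun K hK => or_iff_not_imp_left.2 (h K hK)⟩
  set N := ((P : Subgroup G) ⊔ K) ⊓
    Subgroup.normalizer (((P : Subgroup G) ⊓ K : Subgroup G) : Set G) with hN
  have hPN : (P : Subgroup G) ⊓ K ≤ N :=
    le_inf (inf_le_left.trans le_sup_left) Subgroup.le_normalizer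
  have hnn : (((P : Subgroup G) ⊓ K).subgroupOf N).Normal :=
    (Subgroup.normal_subgroupOf_iff_le_normalizer hPN).2 inf_le_right
  have hf := S4341.result p K P N hN
  have hd1 : Nat.card (Sylow p (G ⧸ K)) ∣ Nat.card (Sylow p G) := by
    rw [hf]; exact (dvd_mul_right _ _).mul_right _
  have hd2 : Nat.card (Sylow p K) ∣ Nat.card (Sylow p G) := by
    rw [hf]; exact (dvd_mul_left _ _).mul_right _
  refine isPSolvable_of_normal G K
    (ih _ (hn ▸ H2.card_lt_of_ne_top hK1) K rfl ((Nat.le_of_dvd Nat.card_pos hd2).trans_lt hlt) ?_)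
    (ih _ (hn ▸ H2.card_quotient_lt_of_ne_bot hK0) (G ⧸ K) rfl
      ((Nat.le_of_dvd Nat.card_pos hd1).trans_lt hlt) ?_)
  · rw [hk] at hd2
    obtain ⟨a, -, ha⟩ := (Nat.dvd_prime_pow hq).1 hd2
    exact ⟨a, ha⟩
  · rw [hk] at hd1
    obtain ⟨a, -, ha⟩ := (Nat.dvd_prime_pow hq).1 hd1
    exact ⟨a, ha⟩

/-- Let G be a finite group and p a prime such that it is not the case that p > 3 with p + 1 a power of 2. If the number of Sylow p-subgroups of G is less than p², then G is p-solvable if and only if that number is a power of a prime (possibly 1). -/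
theorem result {G : Type*} [Group G] [Finite G]
    (p : ℕ) [Fact p.Prime] (hp : ¬ (3 < p ∧ ∃ k : ℕ, p + 1 = 2 ^ k)) (hn : Nat.card (Sylow p G) < p ^ 2) :
    Cfsg.IsPSolvable p G ↔ ∃ q k : ℕ, q.Prime ∧ Nat.card (Sylow p G) = q ^ k := by
  exact ⟨forward p _ G rfl hn, fun ⟨q, k, hq, hk⟩ => backward p hp hq _ G rfl hn ⟨k, hk⟩⟩

end Cfsg.Agent.S4339
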