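import Cfsg.Statements.S4345
import Cfsg.Agent.H94.SylowNum
import Cfsg.Agent.H2.SchurZassenhaus

set_option autoImplicit false
open Cfsg

namespace Cfsg.Agent.S4345

universe u

theorem aux (p ℓ : ℕ) [Fact p.Prime] (n : ℕ) :
    ∀ (G : Type u) [Group G] [Finite G], Nat.card G = n → Group.IsSolvable G →
      ℓ ^ (Nat.card (Sylow p G)).factorization ℓ ≡ 1 [MOD p] := by
  induction n using Nat.strong_induction_on with
  | _ n ih =>
  intro G _ _ hn hG
  obtain ⟨P⟩ : Nonempty (Sylow p G) := inferInstance
  rcases subsingleton_or_nontrivial G with hs | hs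
  · have : Nat.card (Sylow p G) = 1 := by
      rw [Sylow.card_eq_index_normalizer P, Subsingleton.elim (Subgroup.normalizer _) ⊤,
        Subgroup.index_top]
    rw [this]
    simp [Nat.ModEq]
  · obtain ⟨K, hKn, hK0, -, q, hq, hKq⟩ := H2.exists_abelian_pgroup_normal (G := G)
    have : Fact q.Prime := ⟨hq⟩
    have h1 := ih _ (hn ▸ H2.card_quotient_lt_of_ne_bot hK0) (G ⧸ K) rfl inferInstance
    have h2 := H94.relIndex_normalizer_modEq_one P K
    obtain ⟨k, hk⟩ := hKq.index ((Subgroup.normalizer ((P : Subgroup G) : Set G)).subgroupOf K)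
    change (Subgroup.normalizer ((P : Subgroup G) : Set G)).relIndex K = q ^ k at hk
    rw [H94.card_sylow_eq_quotient_mul P K, hk,
      Nat.factorization_mul Nat.card_pos.ne' (pow_pos hq.pos k).ne', Finsupp.add_apply, pow_add]
    rw [hk] at h2
    have h3 : ℓ ^ (q ^ k).factorization ℓ ≡ 1 [MOD p] := by
      rw [hq.factorization_pow, Finsupp.single_apply]
      split_ifs with h
      · rw [← h]; exact h2
      · rw [pow_zero]
    simpa using h1.mul h3

/-- Let G be a finite solvable group and p, ℓ primes. Then the largest power of ℓ dividing the number of Sylow p-subgroups of G is congruent to 1 modulo p. -/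
theorem result {G : Type*} [Group G] [Finite G]
    (hG : Group.IsSolvable G) (p ℓ : ℕ) [Fact p.Prime] (hℓ : ℓ.Prime) :
    ℓ ^ (Nat.card (Sylow p G)).factorization ℓ ≡ 1 [MOD p] := by
  exact aux p ℓ _ G rfl hG

end Cfsg.Agent.S4345
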