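import Cfsg.Statements.S4346
import Mathlib
import Cfsg.Agent.S0720
import Cfsg.Agent.S4303
import Cfsg.Agent.S4636
import Cfsg.Agent.H2.Hall
import Cfsg.Agent.H3.Cores

set_option autoImplicit false
open Cfsg

namespace Cfsg.Agent.S4346

open Pointwise MulAction

theorem relIndex_stab {S Ω : Type*} [Group S] [MulAction S Ω] (H : Subgroup S) (a : Ω) :
    (stabilizer S a).relIndex H = Nat.card (orbit H a) := by
  have : (stabilizer S a).subgroupOf H = stabilizer H a := by ext; rfl
  rw [Subgroup.relIndex, this, index_stabilizer, Nat.card_coe_set_eq]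

theorem stab_eq {S : Type*} [Group S] {p : ℕ} (P : Sylow p S) :
    stabilizer S P = Subgroup.normalizer ((P : Subgroup S) : Set S) :=
  Sylow.stabilizer_eq_normalizer P

theorem card_idx {S : Type*} [Group S] [Finite S] {p : ℕ} [Fact p.Prime] (P : Sylow p S) :
    Nat.card (Sylow p S) = (Subgroup.normalizer ((P : Subgroup S) : Set S)).index :=
  P.card_eq_index_normalizer

theorem arith22 {k : ℕ} (hle : k ≤ 22) (hge : 1 < k) (d1 : k * k - k ∣ 22 * 22 - 22)
    (d2 : k - 1 ∣ 22 - 1) : k = 2 ∨ k = 22 := by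
  interval_cases k <;> omega

theorem line_lemma {S Ω : Type*} [Group S] [Finite S] [MulAction S Ω] [Finite Ω]
    (hΩ : Nat.card Ω = 22)
    (h2 : ∀ a b c d : Ω, a ≠ b → c ≠ d → ∃ g : S, g • a = c ∧ g • b = d)
    (F : Ω → Subgroup S) (hF : ∀ (g : S) a, F (g • a) = MulAut.conj g • F a) {a b : Ω}
    (hab : a ≠ b) : Nat.card {c // F a ⊓ F b ≤ F c} = 2 ∨ ∀ c, F a ⊓ F b ≤ F c := by
  classical
  have := Fintype.ofFinite Ω
  set D := F a ⊓ F b with hD
  set B : Finset Ω := Finset.univ.filter fun c => D ≤ F c with hB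
  have hmem : ∀ c, c ∈ B ↔ D ≤ F c := by simp [hB]
  have hk : Nat.card {c // D ≤ F c} = B.card := by
    rw [Nat.card_eq_fintype_card, Fintype.card_subtype]
  set M := Subgroup.normalizer (D : Set S) with hM
  have hMB : ∀ g ∈ M, ∀ c, D ≤ F c → D ≤ F (g • c) := by
    intro g hg c hc
    rw [hF, ← H2.conj_smul_eq_iff_mem_normalizer.mpr hg]
    exact Subgroup.pointwise_smul_le_pointwise_smul_iff.mpr hc
  have hin : ∀ g : S, D ≤ F (g • a) → D ≤ F (g • b) → g ∈ M := by
    intro g h1 h2
    rw [hM, ← H2.conj_smul_eq_iff_mem_normalizer]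
    refine (Subgroup.eq_of_le_of_card_ge ?_ (H2.card_conj_smul D g).le).symm
    rw [hD, Subgroup.smul_inf, ← hF, ← hF]
    exact le_inf h1 h2
  have hTM : stabilizer S (a, b) ≤ M := by
    intro g hg
    have h1 : g • a = a := congrArg Prod.fst hg
    have h2 : g • b = b := congrArg Prod.snd hg
    exact hin g (by rw [h1]; exact inf_le_left) (by rw [h2]; exact inf_le_right)
  have horb : ∀ (H : Subgroup S) (s : Finset (Ω × Ω)), (∀ q, q ∈ s ↔ ∃ g ∈ H, (g • a, g • b) = q) →
      (stabilizer S (a, b)).relIndex H = s.card := by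
    intro H s hs
    rw [relIndex_stab, ← Nat.card_eq_finsetCard]
    refine Nat.card_congr (Equiv.subtypeEquivRight fun q => ?_)
    rw [hs]
    exact ⟨fun ⟨g, hg⟩ => ⟨g, g.2, hg⟩, fun ⟨g, hg, h⟩ => ⟨⟨g, hg⟩, h⟩⟩
  have hcard : (Finset.univ : Finset Ω).card = 22 := by
    rw [Finset.card_univ, ← Nat.card_eq_fintype_card, hΩ]
  have e1 := horb ⊤ Finset.univ.offDiag (fun q => by
    simp only [Finset.mem_offDiag, Finset.mem_univ, true_and, Subgroup.mem_top]
    constructor
    · intro h
      obtain ⟨g, h1, h2⟩ := h2 a b q.1 q.2 hab h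
      exact ⟨g, by rw [h1, h2]⟩
    · rintro ⟨g, rfl⟩ h
      exact hab (smul_left_cancel g h))
  have e2 := horb M B.offDiag (fun q => by
    simp only [Finset.mem_offDiag, hmem]
    constructor
    · rintro ⟨h3, h4, h⟩
      obtain ⟨g, h1, h2⟩ := h2 a b q.1 q.2 hab h
      exact ⟨g, hin g (h1 ▸ h3) (h2 ▸ h4), by rw [h1, h2]⟩
    · rintro ⟨g, hg, rfl⟩
      exact ⟨hMB g hg a inf_le_left, hMB g hg b inf_le_right, fun h => hab (smul_left_cancel g h)⟩)
  have e3 := horb (stabilizer S a) ({a} ×ˢ (Finset.univ.erase a)) (fun q => by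
    simp only [Finset.mem_product, Finset.mem_singleton, Finset.mem_erase, Finset.mem_univ,
      and_true, mem_stabilizer_iff]
    constructor
    · rintro ⟨h3, h4⟩
      obtain ⟨g, h1, h2⟩ := h2 a b a q.2 hab (Ne.symm h4)
      exact ⟨g, h1, by rw [h1, h2, ← h3]⟩
    · rintro ⟨g, hg, rfl⟩
      exact ⟨hg, fun h => hab (smul_left_cancel g (hg.trans h.symm))⟩)
  have e4 := horb (M ⊓ stabilizer S a) ({a} ×ˢ (B.erase a)) (fun q => by
    simp only [Finset.mem_product, Finset.mem_singleton, Finset.mem_erase, hmem,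
      Subgroup.mem_inf, mem_stabilizer_iff]
    constructor
    · rintro ⟨h3, h4, h5⟩
      obtain ⟨g, h1, h2⟩ := h2 a b a q.2 hab (Ne.symm h4)
      exact ⟨g, ⟨hin g (by rw [h1]; exact inf_le_left) (h2 ▸ h5), h1⟩, by rw [h1, h2, ← h3]⟩
    · rintro ⟨g, ⟨hg1, hg⟩, rfl⟩
      exact ⟨hg, fun h => hab (smul_left_cancel g (hg.trans h.symm)), hMB g hg1 b inf_le_right⟩)
  have haB : a ∈ B := (hmem a).2 inf_le_left
  have hbB : b ∈ B := (hmem b).2 inf_le_right
  rw [Finset.offDiag_card, hcard] at e1
  rw [Finset.offDiag_card] at e2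
  rw [Finset.card_product, Finset.card_singleton, one_mul,
    Finset.card_erase_of_mem (Finset.mem_univ _), hcard] at e3
  rw [Finset.card_product, Finset.card_singleton, one_mul, Finset.card_erase_of_mem haB] at e4
  have hTa : stabilizer S (a, b) ≤ stabilizer S a := fun g hg => congrArg Prod.fst hg
  have d1 : B.card * B.card - B.card ∣ 22 * 22 - 22 := by
    rw [← e1, ← e2]
    exact Dvd.intro _ (Subgroup.relIndex_mul_relIndex _ _ _ hTM le_top)
  have d2 : B.card - 1 ∣ 22 - 1 := by
    rw [← e3, ← e4]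
    exact Dvd.intro _ (Subgroup.relIndex_mul_relIndex _ _ _ (le_inf hTM hTa) inf_le_right)
  have hle : B.card ≤ 22 := hcard ▸ Finset.card_le_univ B
  have hge : 1 < B.card := Finset.one_lt_card.mpr ⟨a, haB, b, hbB, hab⟩
  rcases arith22 hle hge d1 d2 with h | h
  · left; rw [hk, h]
  · right
    intro c
    have : B = Finset.univ := Finset.eq_univ_of_card B (by rw [h, ← Finset.card_univ, hcard])
    exact (hmem c).1 (this ▸ Finset.mem_univ c)

theorem stab_two {S Ω : Type*} [Group S] [Finite S] [MulAction S Ω] [Finite Ω]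
    (hΩ : Nat.card Ω = 22)
    (h2 : ∀ a b c d : Ω, a ≠ b → c ≠ d → ∃ g : S, g • a = c ∧ g • b = d) {a b : Ω}
    (hab : a ≠ b) : (stabilizer S b).relIndex (stabilizer S a) = 21 := by
  classical
  have := Fintype.ofFinite Ω
  rw [relIndex_stab]
  have : orbit (stabilizer S a) b = ({a} : Set Ω)ᶜ := by
    ext c
    constructor
    · rintro ⟨g, rfl⟩ h
      exact hab (smul_left_cancel (g : S) (g.2.trans (Set.mem_singleton_iff.mp h).symm))
    · intro h
      obtain ⟨g, h1, h2⟩ := h2 a b a c hab (Ne.symm h)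
      exact ⟨⟨g, h1⟩, h2⟩
  rw [this, Nat.card_coe_set_eq, Set.ncard_compl, Set.ncard_singleton, hΩ]

theorem two_trans {S : Type*} [Group S] [Finite S] (h : Nat.card (Sylow 3 S) = 22) :
    ∀ a b c d : Sylow 3 S, a ≠ b → c ≠ d → ∃ g : S, g • a = c ∧ g • b = d := by
  classical
  have : Fact (Nat.Prime 3) := ⟨Nat.prime_three⟩
  have := Fintype.ofFinite (Sylow 3 S)
  intro a b c d hab hcd
  have : Nontrivial (Sylow 3 S) := ⟨a, b, hab⟩
  have hprim : IsPreprimitive S (Sylow 3 S) := by
    rw [← isCoatom_stabilizer_iff_preprimitive S a, stab_eq]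
    have hidx : (Subgroup.normalizer ((a : Subgroup S) : Set S)).index = 22 := by
      rw [← h, card_idx a]
    refine ⟨fun ht => by rw [ht, Subgroup.index_top] at hidx; omega, fun M hM => ?_⟩
    have haM : (a : Subgroup S) ≤ M := Subgroup.le_normalizer.trans hM.le
    have h1 := card_idx (a.subtype haM)
    have h2 : Subgroup.normalizer (((a.subtype haM : Sylow 3 M) : Subgroup M) : Set M) =
        (Subgroup.normalizer ((a : Subgroup S) : Set S)).subgroupOf M := by
      rw [Sylow.coe_subtype, ← Subgroup.subgroupOf_normalizer_eq haM]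
    have h3 := card_sylow_modEq_one 3 M
    rw [h1, h2] at h3
    have h4 := Subgroup.relIndex_mul_index hM.le
    rw [hidx] at h4
    change Subgroup.relIndex _ M ≡ 1 [MOD 3] at h3
    have h5 : (Subgroup.normalizer ((a : Subgroup S) : Set S)).relIndex M ≠ 1 := by
      rw [Ne, Subgroup.relIndex_eq_one]
      exact hM.not_ge
    have h6 : (Subgroup.normalizer ((a : Subgroup S) : Set S)).relIndex M = 22 := by
      have h7 := Nat.le_of_dvd (by norm_num) (Dvd.intro _ h4)
      have h8 := Dvd.intro _ h4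
      generalize (Subgroup.normalizer ((a : Subgroup S) : Set S)).relIndex M = k at *
      interval_cases k <;> simp_all [Nat.ModEq]
    rw [h6] at h4
    exact Subgroup.index_eq_one.mp (by omega)
  set f := toPermHom S (Sylow 3 S) with hf
  have hprim' : IsPreprimitive f.range (Sylow 3 S) := by
    let φ : S → f.range := fun g => ⟨f g, g, rfl⟩
    let ψ : Sylow 3 S →ₑ[φ] Sylow 3 S := ⟨id, fun _ _ => rfl⟩
    exact IsPreprimitive.of_surjective (f := ψ) Function.surjective_id
  rcases S0720.result (p := 11) (by norm_num) (by rw [← Nat.card_eq_fintype_card, h]) f.range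
    hprim' a with h2 | ⟨-, k, hk, hk2, -⟩
  · rw [is_two_pretransitive_iff] at h2
    obtain ⟨⟨_, g, rfl⟩, h3, h4⟩ := h2 hab hcd
    exact ⟨g, h3, h4⟩
  · exfalso
    have : k < 3 := by nlinarith
    interval_cases k <;> omega

theorem simple_case {S : Type*} [Group S] [Finite S] [IsSimpleGroup S] :
    Nat.card (Sylow 3 S) ≠ 22 := by
  classical
  intro h
  have : Fact (Nat.Prime 3) := ⟨Nat.prime_three⟩
  have h2 := two_trans h
  have hnt : Nontrivial (Sylow 3 S) := Finite.one_lt_card_iff_nontrivial.mp (by rw [h]; norm_num)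
  obtain ⟨P, Q, hPQ⟩ := hnt
  have hnn : ∀ R : Sylow 3 S, ¬ (R : Subgroup S).Normal := by
    intro R hR
    have := Sylow.unique_of_normal R hR
    exact hPQ (Subsingleton.elim _ _)
  have hP0 : ∀ R : Sylow 3 S, (R : Subgroup S) ≠ ⊥ := fun R hR => hnn R (hR ▸ inferInstance)
  have hPt : ∀ R : Sylow 3 S, (R : Subgroup S) ≠ ⊤ := fun R hR => hnn R (hR ▸ inferInstance)
  have hcore : pCore 3 S = ⊥ := by
    rcases (inferInstance : (pCore 3 S).Normal).eq_bot_or_eq_top with h | h
    · exact h
    · exact absurd (top_le_iff.mp (h ▸ H3.pCore_le_sylow P)) (hPt P)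
  -- `P ⊓ Q = ⊥`
  have hinf : (P : Subgroup S) ⊓ Q = ⊥ := by
    rcases line_lemma h h2 (fun R => (R : Subgroup S)) (fun g R => rfl) hPQ with h3 | h3
    · exfalso
      have hD : IsPGroup 3 ((P : Subgroup S) ⊓ Q : Subgroup S) := P.isPGroup'.to_le inf_le_left
      have h4 := hD.card_modEq_card_fixedPoints (Sylow 3 S)
      have h5 : Nat.card (fixedPoints ((P : Subgroup S) ⊓ Q : Subgroup S) (Sylow 3 S)) = 2 := by
        rw [← h3]
        refine Nat.card_congr (Equiv.subtypeEquivRight fun R => ?_)
        exact hD.sylow_mem_fixedPoints_iff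
      rw [h, h5] at h4
      exact absurd h4 (by decide)
    · rw [eq_bot_iff, ← hcore, H3.pCore_eq_iInf_sylow]
      exact le_iInf h3
  set N := stabilizer S P with hN
  set T := stabilizer S P ⊓ stabilizer S Q with hT
  have hNi : N.index = 22 := by
    rw [hN, stab_eq, ← h, card_idx P]
  have hNT : Nat.card T * 21 = Nat.card N := by
    rw [← stab_two h h2 hPQ, hT, inf_comm, H3.card_inf_mul_relIndex]
  have hPT : (P : Subgroup S) ⊓ stabilizer S Q = ⊥ := by
    rw [Sylow.stabilizer_eq_normalizer, P.isPGroup'.inf_normalizer_sylow, hinf]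
  have hPN : (P : Subgroup S) ≤ N := by
    rw [hN, stab_eq]; exact Subgroup.le_normalizer
  have hTN : T ≤ Subgroup.normalizer ((P : Subgroup S) : Set S) := by
    rw [← stab_eq]; exact inf_le_left
  have hP3 : Nat.card P = 3 := by
    have h3 := H3.card_sup_mul_card_inf_of_le_normalizer hTN
    have h4 : T ⊓ P = ⊥ := by
      rw [eq_bot_iff, ← hPT]; exact le_inf inf_le_right (inf_le_left.trans inf_le_right)
    rw [h4, Subgroup.card_bot, mul_one] at h3
    have h5 : Nat.card ↥(T ⊔ P) ∣ Nat.card N := Subgroup.card_dvd_of_le (sup_le inf_le_left hPN)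
    rw [h3, ← hNT] at h5
    have h6 := Nat.dvd_of_mul_dvd_mul_left Nat.card_pos h5
    have : Nontrivial P := (Subgroup.nontrivial_iff_ne_bot _).2 (hP0 P)
    obtain ⟨k, hk, hck⟩ := P.isPGroup'.nontrivial_iff_card.1 this
    rw [hck] at h6 ⊢
    have h7 : ¬ 2 ≤ k := fun h8 => absurd ((pow_dvd_pow 3 h8).trans h6) (by decide)
    have : k = 1 := by omega
    rw [this, pow_one]
  have hR3 : ∀ R : Sylow 3 S, Nat.card R = 3 := fun R => by
    rw [R.card_eq_multiplicity, ← P.card_eq_multiplicity, hP3]
  -- `C(P) ⊓ C(Q) = ⊥`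
  have hC : Subgroup.centralizer ((P : Subgroup S) : Set S) ⊓
      Subgroup.centralizer ((Q : Subgroup S) : Set S) = ⊥ := by
    rcases line_lemma h h2 (fun R => Subgroup.centralizer ((R : Subgroup S) : Set S))
      (fun g R => by
        ext x
        rw [H2.mem_conj_smul_iff, Subgroup.mem_centralizer_iff, Subgroup.mem_centralizer_iff]
        constructor
        · intro hx y hy
          have := hx (g * y * g⁻¹) (by
            change _ ∈ MulAut.conj g • (R : Subgroup S)
            rw [H2.mem_conj_smul_iff]; have hy' : y ∈ (R : Subgroup S) := hy; simpa [mul_assoc] using hy')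
          calc y * (g⁻¹ * x * g) = g⁻¹ * (g * y * g⁻¹ * x) * g := by group
            _ = _ := by rw [this]; group
        · intro hx y hy
          have := hx _ (H2.mem_conj_smul_iff.mp hy)
          calc y * x = g * (g⁻¹ * y * g * (g⁻¹ * x * g)) * g⁻¹ := by group
            _ = _ := by rw [this]; group) hPQ with h3 | h3
    · exfalso
      obtain ⟨y, hy, hy1⟩ := (Subgroup.bot_or_exists_ne_one (P : Subgroup S)).resolve_left (hP0 P)
      have h4 : y • Q ≠ Q := fun h4 => hy1 (by
        have : y ∈ (P : Subgroup S) ⊓ stabilizer S Q := ⟨hy, h4⟩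
        rwa [hPT] at this)
      have h5 : y • Q ≠ P := fun h5 => hPQ (by
        have h6 : y • P = P := hPN hy
        exact (smul_left_cancel y (h5.trans h6.symm)).symm)
      have h6 : Subgroup.centralizer ((P : Subgroup S) : Set S) ⊓
          Subgroup.centralizer ((Q : Subgroup S) : Set S) ≤
          Subgroup.centralizer (((y • Q : Sylow 3 S) : Subgroup S) : Set S) := by
        intro x hx z hz
        have h7 := hx.2 _ (H2.mem_conj_smul_iff.mp hz)
        have h8 := hx.1 y hy
        have h9 : y⁻¹ * x = x * y⁻¹ := by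
          calc y⁻¹ * x = y⁻¹ * (x * y) * y⁻¹ := by group
            _ = _ := by rw [← h8]; group
        calc z * x = y * (y⁻¹ * z * y) * (y⁻¹ * x) := by group
          _ = y * (y⁻¹ * z * y * x) * y⁻¹ := by rw [h9]; group
          _ = (y * x) * (y⁻¹ * z * y) * y⁻¹ := by rw [h7]; group
          _ = _ := by rw [h8]; group
      have := Fintype.ofFinite {c : Sylow 3 S // Subgroup.centralizer ((P : Subgroup S) : Set S) ⊓
          Subgroup.centralizer ((Q : Subgroup S) : Set S) ≤
          Subgroup.centralizer ((c : Subgroup S) : Set S)}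
      rw [Nat.card_eq_fintype_card] at h3
      have h7 : 2 < Fintype.card _ := Fintype.two_lt_card_iff.mpr
        ⟨(⟨P, inf_le_left⟩ : {c : Sylow 3 S // Subgroup.centralizer ((P : Subgroup S) : Set S) ⊓
          Subgroup.centralizer ((Q : Subgroup S) : Set S) ≤
          Subgroup.centralizer ((c : Subgroup S) : Set S)}), ⟨Q, inf_le_right⟩, ⟨y • Q, h6⟩,
          fun h => hPQ (congrArg Subtype.val h), fun h => h5 (congrArg Subtype.val h).symm,
          fun h => h4 (congrArg Subtype.val h).symm⟩
      omega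
    · set D := Subgroup.centralizer ((P : Subgroup S) : Set S) ⊓
          Subgroup.centralizer ((Q : Subgroup S) : Set S) with hD
      have h4 : Subgroup.normalClosure ((P : Subgroup S) : Set S) = ⊤ := by
        rcases (inferInstance : (Subgroup.normalClosure ((P : Subgroup S) : Set S)).Normal
          ).eq_bot_or_eq_top with h4 | h4
        · exact absurd (le_bot_iff.mp (h4 ▸ Subgroup.le_normalClosure)) (hP0 P)
        · exact h4
      have h5 : D ≤ Subgroup.center S := by
        intro x hx
        have h6 : Subgroup.normalClosure ((P : Subgroup S) : Set S) ≤ Subgroup.centralizer {x} := by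
          rw [Subgroup.normalClosure, Subgroup.closure_le]
          intro z hz
          obtain ⟨y, hy, hyz⟩ := Group.mem_conjugatesOfSet_iff.mp hz
          obtain ⟨g, rfl⟩ := isConj_iff.mp hyz
          rintro _ rfl
          refine (h3 (g • P) hx _ ?_).symm
          change _ ∈ MulAut.conj g • (P : Subgroup S)
          rw [H2.mem_conj_smul_iff]
          have hy' : y ∈ (P : Subgroup S) := hy
          simpa [mul_assoc] using hy'
        rw [Subgroup.mem_center_iff]
        intro g
        exact (h6 (h4 ▸ Subgroup.mem_top g) x rfl).symm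
      rcases (inferInstance : (Subgroup.center S).Normal).eq_bot_or_eq_top with h6 | h6
      · exact le_bot_iff.mp (h6 ▸ h5)
      · exfalso
        refine hnn P ⟨fun n hn g => ?_⟩
        rw [Subgroup.mem_center_iff.mp (h6 ▸ Subgroup.mem_top n : n ∈ Subgroup.center S) g]
        simpa using hn
  -- the order of `T` divides 4
  have haut : ∀ R : Sylow 3 S, Nat.card (MulAut (R : Subgroup S)) = 2 := by
    intro R
    have : IsCyclic (R : Subgroup S) := isCyclic_of_prime_card (hR3 R)
    rw [IsCyclic.card_mulAut, hR3]; decide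
  have hTQ : T ≤ Subgroup.normalizer ((Q : Subgroup S) : Set S) := by
    rw [← stab_eq]; exact inf_le_right
  have hT4 : Nat.card T ∣ 4 := by
    let φ : T →* MulAut (P : Subgroup S) × MulAut (Q : Subgroup S) :=
      ((Subgroup.normalizerMonoidHom _).comp (Subgroup.inclusion hTN)).prod
        ((Subgroup.normalizerMonoidHom _).comp (Subgroup.inclusion hTQ))
    have hφ : Function.Injective φ := by
      rw [injective_iff_map_eq_one]
      intro t ht
      have h3 : Subgroup.inclusion hTN t ∈ (Subgroup.normalizerMonoidHom (P : Subgroup S)).ker :=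
        congrArg Prod.fst ht
      have h4 : Subgroup.inclusion hTQ t ∈ (Subgroup.normalizerMonoidHom (Q : Subgroup S)).ker :=
        congrArg Prod.snd ht
      rw [Subgroup.normalizerMonoidHom_ker] at h3 h4
      have : (t : S) ∈ Subgroup.centralizer ((P : Subgroup S) : Set S) ⊓
        Subgroup.centralizer ((Q : Subgroup S) : Set S) := ⟨h3, h4⟩
      rw [hC] at this
      exact Subtype.ext this
    have := Subgroup.card_dvd_of_injective φ hφ
    rwa [Nat.card_prod, haut, haut] at this
  have hS : Nat.card S = Nat.card T * 462 := by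
    rw [← N.card_mul_index, hNi, ← hNT]; ring
  have hstab : ∀ R : Sylow 3 S, Nat.card (stabilizer S R) ∣ 84 := by
    intro R
    have h3 := (stabilizer S R).card_mul_index
    rw [stab_eq, ← card_idx, h, hS, ← stab_eq] at h3
    have : Nat.card (stabilizer S R) = Nat.card T * 21 := by omega
    rw [this]; exact Nat.mul_dvd_mul_right hT4 21
  -- Sylow 11
  have : Fact (Nat.Prime 11) := ⟨by norm_num⟩
  let X : Sylow 11 S := Classical.arbitrary _
  have hTm : Nat.card T = 1 ∨ Nat.card T = 2 ∨ Nat.card T = 4 := by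
    have := Nat.le_of_dvd (by norm_num) hT4
    generalize Nat.card T = m at this hT4 ⊢
    interval_cases m <;> simp_all
  have hX : Nat.card X = 11 := by
    rw [X.card_eq_multiplicity, hS]
    rcases hTm with h3 | h3 | h3 <;> rw [h3] <;> decide +kernel
  have hXc : IsCyclic (X : Subgroup S) := isCyclic_of_prime_card hX
  have hcent : ∀ r : ℕ, r = 3 ∨ r = 7 →
      ¬ r ∣ Nat.card (Subgroup.normalizer ((X : Subgroup S) : Set S)) := by
    intro r hr hd
    have hrp : r.Prime := by rcases hr with rfl | rfl <;> norm_num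
    have := Fact.mk hrp
    obtain ⟨y, hy⟩ := exists_prime_orderOf_dvd_card' r hd
    have h3 : y ∈ (Subgroup.normalizerMonoidHom (X : Subgroup S)).ker := by
      rw [MonoidHom.mem_ker, ← orderOf_eq_one_iff]
      have h4 := orderOf_map_dvd (Subgroup.normalizerMonoidHom (X : Subgroup S)) y
      have h5 := orderOf_dvd_natCard (Subgroup.normalizerMonoidHom (X : Subgroup S) y)
      rw [IsCyclic.card_mulAut, hX] at h5
      rw [hy] at h4
      refine Nat.eq_one_of_dvd_coprimes ?_ h4 h5
      rcases hr with rfl | rfl <;> decide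
    rw [Subgroup.normalizerMonoidHom_ker] at h3
    obtain ⟨x, hx⟩ := exists_prime_orderOf_dvd_card' (G := (X : Subgroup S)) 11 hX.symm.dvd
    have hx' : orderOf (x : S) = 11 := by rw [Subgroup.orderOf_coe, hx]
    have hy' : orderOf (y : S) = r := by rw [Subgroup.orderOf_coe, hy]
    have hcomm : Commute (x : S) (y : S) := h3 x x.2
    have hcop : (orderOf (x : S)).Coprime (orderOf (y : S)) := by
      rw [hx', hy']; rcases hr with rfl | rfl <;> decide
    have hz : orderOf ((x : S) * y) = 11 * r := by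
      rw [hcomm.orderOf_mul_eq_mul_orderOf_of_coprime hcop, hx', hy']
    set Z := Subgroup.zpowers ((x : S) * y) with hZ
    have hyZ : (y : S) ∈ Z := by
      have h4 : ((x : S) * y) ^ 22 = (y : S) ^ 22 := by
        have : (x : S) ^ 22 = 1 := by rw [← orderOf_dvd_iff_pow_eq_one, hx']; decide
        rw [hcomm.mul_pow, this, one_mul]
      have h5 : (y : S) ^ 22 = y := by
        have h6 : (y : S) ^ 21 = 1 := by
          rw [← orderOf_dvd_iff_pow_eq_one, hy']; rcases hr with rfl | rfl <;> decide
        rw [pow_succ, h6, one_mul]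
      rw [← h5, ← h4]
      exact Subgroup.pow_mem _ (Subgroup.mem_zpowers _) _
    have hfix : ∀ R : Sylow 3 S, (y : S) • R = R := by
      intro R
      have h4 := H3.card_inf_mul_relIndex (stabilizer S R) Z
      rw [relIndex_stab, hZ, Nat.card_zpowers, hz, ← hZ] at h4
      have h5 : Nat.card (orbit Z R) ≤ 22 := h ▸ Finite.card_subtype_le _
      have h6 : Nat.card ↥(stabilizer S R ⊓ Z) ∣ 84 :=
        (Subgroup.card_dvd_of_le inf_le_left).trans (hstab R)
      have h7 : Nat.card ↥(stabilizer S R ⊓ Z) = r := by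
        have h8 := Nat.le_of_dvd (by norm_num) h6
        have h9 := Dvd.intro _ h4
        generalize Nat.card ↥(stabilizer S R ⊓ Z) = a at h4 h6 h8 h9 ⊢
        rcases hr with rfl | rfl <;> interval_cases a <;> omega
      exact (S4636.mem_of_pow_eq_one r Z inferInstance _ inf_le_right h7 y hyZ
        (by rw [← hy', pow_orderOf_eq_one])).1
    have h4 : (y : S) ∈ (toPermHom S (Sylow 3 S)).ker := by
      rw [MonoidHom.mem_ker]; ext R : 1; exact hfix R
    rcases (inferInstance : (toPermHom S (Sylow 3 S)).ker.Normal).eq_bot_or_eq_top with h5 | h5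
    · rw [h5, Subgroup.mem_bot] at h4
      rw [h4, orderOf_one] at hy'
      exact hrp.one_lt.ne hy'
    · obtain ⟨g, hg, -⟩ := h2 P Q Q P hPQ hPQ.symm
      have h6 : toPermHom S (Sylow 3 S) g = 1 := (h5 ▸ Subgroup.mem_top g : g ∈ MonoidHom.ker _)
      have h7 : g • P = P := congrArg (fun σ : Equiv.Perm (Sylow 3 S) => σ P) h6
      exact hPQ (h7.symm.trans hg)
  have h3 := (Subgroup.normalizer ((X : Subgroup S) : Set S)).card_mul_index
  rw [← card_idx, hS] at h3
  have h4 : Nat.card (Sylow 11 S) % 11 = 1 := card_sylow_modEq_one 11 S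
  have h5 : 21 ∣ Nat.card (Sylow 11 S) := by
    have h6 : (21 : ℕ).Coprime (Nat.card (Subgroup.normalizer ((X : Subgroup S) : Set S))) :=
      Nat.Coprime.mul_left (m := 3) (n := 7)
        ((Nat.Prime.coprime_iff_not_dvd (by norm_num)).mpr (hcent 3 (Or.inl rfl)))
        ((Nat.Prime.coprime_iff_not_dvd (by norm_num)).mpr (hcent 7 (Or.inr rfl)))
    exact h6.dvd_of_dvd_mul_left (h3 ▸ Dvd.dvd.mul_left (by norm_num) _)
  have h6 : Nat.card (Sylow 11 S) ∣ 1848 :=
    (Dvd.intro_left _ h3).trans (Nat.mul_dvd_mul_right hT4 462)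
  obtain ⟨k, hk⟩ := h5
  rw [hk] at h4 h6
  have h7 : k ∣ 88 := Nat.dvd_of_mul_dvd_mul_left (by norm_num : 0 < 21) h6
  have h8 := Nat.le_of_dvd (by norm_num) h7
  interval_cases k <;> omega

/-- No finite group has exactly 22 Sylow 3-subgroups. -/
theorem result {G : Type*} [Group G] [Finite G] : Nat.card (Sylow 3 G) ≠ 22 := by
  have : Fact (Nat.Prime 3) := ⟨Nat.prime_three⟩
  intro h
  obtain ⟨l, hl, hm⟩ := S4303.result (G := G) 3
  rw [h] at hl
  have h1 : ∃ m ∈ l, m ≠ 1 := by
    by_contra hc
    push Not at hc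
    rw [List.prod_eq_one hc] at hl
    omega
  obtain ⟨m, hml, hm1⟩ := h1
  have hd : m ∣ 22 := hl ▸ List.dvd_prod hml
  have hle := Nat.le_of_dvd (by norm_num) hd
  rcases hm m hml with ⟨h2, h3⟩ | ⟨S, _, _, _, h2⟩
  · have : m = 22 := by interval_cases m <;> omega
    rw [this] at h2
    exact absurd h2 (by decide +kernel)
  · have h3 := card_sylow_modEq_one 3 S
    rw [← h2] at h3
    have h4 : m % 3 = 1 := h3
    have : m = 22 := by interval_cases m <;> omega
    exact simple_case (h2.symm.trans this)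

end Cfsg.Agent.S4346
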