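import Cfsg.Statements.S4347
-- import your own Cfsg.Agent.* helpers here

set_option autoImplicit false
open Cfsg

namespace Cfsg.Agent.S4347

/-- Let G be a finite group and p a prime. Say a Sylow p-subgroup Q is redundant when every element of p-power order lies in some Sylow p-subgroup other than Q. Then G has no redundant Sylow p-subgroup if and only if some element of p-power order lies in exactly one Sylow p-subgroup. -/
theorem result {G : Type*} [Group G] [Finite G]
    (p : ℕ) [Fact p.Prime] :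
    (¬ ∃ Q : Sylow p G, ∀ x : G, (∃ k : ℕ, orderOf x = p ^ k) → ∃ P : Sylow p G, P ≠ Q ∧ x ∈ P) ↔
      ∃ x : G, (∃ k : ℕ, orderOf x = p ^ k) ∧ ∃! P : Sylow p G, x ∈ P := by
  constructor
  · intro h
    obtain ⟨Q⟩ : Nonempty (Sylow p G) := inferInstance
    by_contra hc
    apply h
    refine ⟨Q, fun x hx => ?_⟩
    by_contra hn
    apply hc
    refine ⟨x, hx, Q, ?_, ?_⟩
    · have hP : IsPGroup p (Subgroup.zpowers x) := by
        obtain ⟨k, hk⟩ := hx
        exact IsPGroup.of_card (by rw [Nat.card_zpowers, hk])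
      obtain ⟨P, hP⟩ := hP.exists_le_sylow
      have hxP : x ∈ P := hP (Subgroup.mem_zpowers x)
      by_cases hPQ : P = Q
      · exact hPQ ▸ hxP
      · exact absurd ⟨P, hPQ, hxP⟩ hn
    · intro P hP
      by_contra hne
      exact hn ⟨P, hne, hP⟩
  · rintro ⟨x, ⟨k, hk⟩, P, hxP, hP⟩ ⟨Q, hQ⟩
    obtain ⟨g, hg⟩ := MulAction.exists_smul_eq G P Q
    have h1 : orderOf (MulAut.conj g x) = p ^ k := by
      rw [MulEquiv.orderOf_eq, hk]
    obtain ⟨R, hRQ, hR⟩ := hQ _ ⟨k, h1⟩
    apply hRQ
    have : g⁻¹ • R = P := by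
      apply hP
      change x ∈ ((g⁻¹ • R : Sylow p G) : Subgroup G)
      rw [Sylow.coe_subgroup_smul, Subgroup.mem_pointwise_smul_iff_inv_smul_mem]
      have hR' : MulAut.conj g x ∈ (R : Subgroup G) := hR
      simpa using hR'
    rw [← hg, ← this, smul_inv_smul]

end Cfsg.Agent.S4347
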