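import Cfsg.Statements.S4348
-- import your own Cfsg.Agent.* helpers here

set_option autoImplicit false
open Cfsg

namespace Cfsg.Agent.S4348

/-- Let G be a finite group, p a prime and P a Sylow p-subgroup of G, and let O_p(G) be the largest normal p-subgroup of G. If P/O_p(G) is cyclic, then some element of p-power order of G lies in exactly one Sylow p-subgroup. -/
theorem result {G : Type*} [Group G] [Finite G]
    (p : ℕ) [Fact p.Prime] (P : Sylow p G)
    [hn : ((Cfsg.pCore p G).subgroupOf (P : Subgroup G)).Normal]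
    (hc : IsCyclic ((P : Subgroup G) ⧸ (Cfsg.pCore p G).subgroupOf (P : Subgroup G))) :
    ∃ x : G, (∃ k : ℕ, orderOf x = p ^ k) ∧ ∃! Q : Sylow p G, x ∈ Q := by
  obtain ⟨g, hg⟩ := hc.exists_generator
  obtain ⟨x, rfl⟩ := QuotientGroup.mk_surjective g
  refine ⟨x, ?_, P, x.2, ?_⟩
  · obtain ⟨k, hk⟩ := (IsPGroup.iff_orderOf.1 P.isPGroup') x
    exact ⟨k, by rw [Subgroup.orderOf_coe, hk]⟩
  · intro Q hQ
    have hO : Cfsg.pCore p G ≤ Q := by
      apply sSup_le
      rintro N ⟨hN, hN'⟩
      exact hN'.le_sylow_of_normal Q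
    have hle : (P : Subgroup G) ≤ Q := by
      intro y hy
      obtain ⟨k, hk⟩ := hg (QuotientGroup.mk ⟨y, hy⟩)
      simp only at hk
      rw [← QuotientGroup.mk_zpow, QuotientGroup.eq, Subgroup.mem_subgroupOf] at hk
      have h1 := hO hk
      have h2 : ((x : G) ^ k) ∈ (Q : Subgroup G) := Subgroup.zpow_mem _ hQ k
      have h3 := Subgroup.mul_mem _ h2 h1
      simpa using h3
    exact Sylow.ext (P.is_maximal' Q.isPGroup' hle)

end Cfsg.Agent.S4348
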