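import Cfsg.Statements.S4349
import Cfsg.Agent.H67.Conj

set_option autoImplicit false
open Cfsg

namespace Cfsg.Agent.S4349

open Equiv Equiv.Perm

section
variable {α : Type}

/-- at most two fixed points, and the nontrivial cycles have different lengths -/
def Hyp (x : Perm α) : Prop :=
  (∀ a b c, x a = a → x b = b → x c = c → a = b ∨ a = c ∨ b = c) ∧
    ∀ a b, x a ≠ a → (∀ k : ℕ, (x ^ k) a = a ↔ (x ^ k) b = b) → ∃ k : ℕ, (x ^ k) a = b

/-- an involution with at most one fixed point -/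
def Mt (μ : Perm α) : Prop := μ * μ = 1 ∧ ∀ a b, μ a = a → μ b = b → a = b

theorem exists_per (x : Perm α) (a : α) : ∃ l : ℕ, ∀ k : ℕ, (x ^ k) a = a ↔ l ∣ k :=
  ⟨MulAction.period x a, fun k => MulAction.pow_smul_eq_iff_period_dvd (n := k) (m := x) (a := a)⟩

theorem pow_add_apply (x : Perm α) (j k : ℕ) (a : α) : (x ^ (j + k)) a = (x ^ j) ((x ^ k) a) := by
  rw [pow_add, Perm.mul_apply]

theorem comm_apply {x μ : Perm α} (h : Commute x μ) (k : ℕ) (a : α) :
    (x ^ k) (μ a) = μ ((x ^ k) a) := by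
  rw [← Perm.mul_apply, (h.pow_left k).eq, Perm.mul_apply]

theorem Mt.apply {μ : Perm α} (h : Mt μ) (a : α) : μ (μ a) = a := by
  rw [← Perm.mul_apply, h.1, Perm.one_apply]

theorem dvd_add_of {l j k : ℕ} (h1 : l ∣ j + j) (h2 : l ∣ k + k) (h3 : ¬ l ∣ j) (h4 : ¬ l ∣ k) :
    l ∣ j + k := by
  obtain ⟨u, hu⟩ := h1
  obtain ⟨v, hv⟩ := h2
  rcases Nat.even_or_odd' u with ⟨u, rfl | rfl⟩
  · exact absurd ⟨u, by nlinarith⟩ h3
  rcases Nat.even_or_odd' v with ⟨v, rfl | rfl⟩
  · exact absurd ⟨v, by nlinarith⟩ h4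
  exact ⟨u + v + 1, by nlinarith⟩

variable {x μ : Perm α}

theorem mt_ne (hm : Mt μ) (hc : Commute x μ) {a : α} (ha : x a ≠ a) : μ a ≠ a := fun h => by
  refine ha (hm.2 _ _ ?_ h)
  have := comm_apply hc 1 a
  rw [pow_one, h] at this
  exact this.symm

theorem mt_pow (hx : Hyp x) (hm : Mt μ) (hc : Commute x μ) {a : α} (ha : x a ≠ a) :
    ∃ j : ℕ, (x ^ j) a = μ a ∧ (x ^ j) ((x ^ j) a) = a := by
  obtain ⟨j, hj⟩ := hx.2 a (μ a) ha fun k => by rw [comm_apply hc, μ.injective.eq_iff]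
  exact ⟨j, hj, by rw [hj, comm_apply hc, hj, hm.apply]⟩

theorem mt_eq (hx : Hyp x) (hm : Mt μ) (hc : Commute x μ) {a : α} (ha : x a ≠ a) {k : ℕ}
    (h1 : (x ^ k) ((x ^ k) a) = a) (h2 : (x ^ k) a ≠ a) : (x ^ k) a = μ a := by
  obtain ⟨j, hj, hjj⟩ := mt_pow hx hm hc ha
  obtain ⟨l, hl⟩ := exists_per x a
  have h3 := (hl _).2 (dvd_add_of ((hl _).1 (by rw [pow_add_apply, hjj]))
    ((hl _).1 (by rw [pow_add_apply, h1])) (fun h => mt_ne hm hc ha (hj ▸ (hl _).2 h))
    (fun h => h2 ((hl _).2 h)))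
  rw [pow_add_apply] at h3
  rw [← hj]
  exact (x ^ j).injective (h3.trans hjj.symm)

theorem mt_fix (hc : Commute x μ) {a : α} (ha : x a = a) : x (μ a) = μ a := by
  have := comm_apply hc 1 a
  rwa [pow_one, ha] at this

theorem mt_fix_two (hx : Hyp x) (hm : Mt μ) (hc : Commute x μ) {a b : α} (ha : x a = a)
    (hb : x b = b) (hab : a ≠ b) : μ a = b := by
  by_contra h
  have h1 : μ a = a := by
    rcases hx.1 a b (μ a) ha hb (mt_fix hc ha) with h1 | h1 | h1
    · exact absurd h1 hab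
    · exact h1.symm
    · exact absurd h1.symm h
  rcases hx.1 b a (μ b) hb ha (mt_fix hc hb) with h2 | h2 | h2
  · exact hab h2.symm
  · exact hab (hm.2 _ _ h1 h2.symm)
  · exact hab (μ.injective (h1.trans h2))

theorem mt_unique (hx : Hyp x) {μ' : Perm α} (hm : Mt μ) (hc : Commute x μ) (hm' : Mt μ')
    (hc' : Commute x μ') : μ = μ' := by
  ext a
  by_cases ha : x a = a
  · by_cases h1 : μ a = a
    · by_contra h2
      exact h2 (mt_fix_two hx hm hc ha (mt_fix hc' ha) fun h => h2 (h1.trans h))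
    · exact (mt_fix_two hx hm' hc' ha (mt_fix hc ha) (Ne.symm h1)).symm
  · obtain ⟨j, hj, hjj⟩ := mt_pow hx hm' hc' ha
    rw [← hj, mt_eq hx hm hc ha hjj (by rw [hj]; exact mt_ne hm' hc' ha)]

theorem mt_two_mul (hx : Hyp x) (hm : Mt μ) (hc : Commute x μ) {a : α} (ha : x a ≠ a) (k : ℕ) :
    ((x ^ k) a = a ∨ (x ^ k) a = μ a) ↔ (x ^ (k + k)) a = a := by
  rw [pow_add_apply]
  constructor
  · rintro (h | h)
    · rw [h, h]
    · rw [h, comm_apply hc, h, hm.apply]
  · intro h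
    by_cases h1 : (x ^ k) a = a
    · exact Or.inl h1
    · exact Or.inr (mt_eq hx hm hc ha h h1)

theorem mt_odd (hx : Hyp x) (hm : Mt μ) (hc : Commute x μ) {a : α} (ha : x a ≠ a) (k : ℕ) :
    (x ^ (k + k + 1)) a ≠ a := by
  intro h
  obtain ⟨j, hj, hjj⟩ := mt_pow hx hm hc ha
  obtain ⟨l, hl⟩ := exists_per x a
  have h1 := (hl _).1 h
  have h2 := (hl (j + j)).1 (by rw [pow_add_apply, hjj])
  have h3 : l ∣ j := by
    have h4 : l ∣ j * (k + k + 1) := h1.mul_left j
    have h5 : l ∣ (j + j) * k := h2.mul_right k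
    have : j * (k + k + 1) = (j + j) * k + j := by ring
    rw [this] at h4
    exact (Nat.dvd_add_right h5).1 h4
  exact mt_ne hm hc ha (hj ▸ (hl _).2 h3)

theorem mt_same (hx : Hyp x) (hm : Mt μ) (hc : Commute x μ) {a b : α} (ha : x a ≠ a) (hb : x b ≠ b)
    (h : ∀ k : ℕ, (x ^ (k + k)) a = a ↔ (x ^ (k + k)) b = b) : ∃ k : ℕ, (x ^ k) a = b := by
  refine hx.2 a b ha fun k => ?_
  rcases Nat.even_or_odd' k with ⟨k, rfl | rfl⟩
  · rw [two_mul]; exact h k
  · rw [two_mul]
    exact iff_of_false (mt_odd hx hm hc ha k) (mt_odd hx hm hc hb k)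

/-- the orbits of `μ` -/
def mtS (hm : Mt μ) : Setoid α where
  r a b := b = a ∨ b = μ a
  iseqv := ⟨fun _ => Or.inl rfl, by
    rintro a b (rfl | rfl)
    · exact Or.inl rfl
    · exact Or.inr (hm.apply a).symm, by
    rintro a b c (rfl | rfl) (rfl | rfl)
    · exact Or.inl rfl
    · exact Or.inr rfl
    · exact Or.inr rfl
    · exact Or.inl (hm.apply a)⟩

theorem exists_rho (hm : Mt μ) :
    ∃ ρ : Subgroup.centralizer ({μ} : Set (Perm α)) →* Perm (Quotient (mtS hm)),
      ∀ g a, ρ g (Quotient.mk _ a) = Quotient.mk _ ((g : Perm α) a) := by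
  letI : MulAction (Subgroup.centralizer ({μ} : Set (Perm α))) (Quotient (mtS hm)) :=
    { smul := fun g => Quotient.map (g : Perm α) (by
        rintro a b (rfl | rfl)
        · exact Or.inl rfl
        · right
          rw [← Perm.mul_apply, Subgroup.mem_centralizer_singleton_iff.1 g.2, Perm.mul_apply])
      one_smul := by rintro ⟨a⟩; rfl
      mul_smul := by rintro g h ⟨a⟩; rfl }
  exact ⟨MulAction.toPermHom _ _, fun _ _ => rfl⟩

theorem hyp_quot (hx : Hyp x) (hm : Mt μ) (hc : Commute x μ) {y : Perm (Quotient (mtS hm))}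
    (hy : ∀ (k : ℕ) a, (y ^ k) (Quotient.mk _ a) = Quotient.mk _ ((x ^ k) a)) : Hyp y := by
  have key : ∀ (k : ℕ) a, (y ^ k) (Quotient.mk _ a) = Quotient.mk _ a ↔
      ((x ^ k) a = a ∨ (x ^ k) a = μ a) := fun k a => by
    rw [hy, eq_comm]; exact Quotient.eq
  have key1 : ∀ a, y (Quotient.mk _ a) = Quotient.mk _ a ↔ (x a = a ∨ x a = μ a) := fun a => by
    simpa using key 1 a
  have h1 : ∀ a b, x a = a → x b = b → (Quotient.mk (mtS hm) a) = Quotient.mk _ b := by
    intro a b ha hb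
    by_cases hab : a = b
    · rw [hab]
    · exact Quotient.sound (Or.inr (mt_fix_two hx hm hc ha hb hab).symm)
  have h2 : ∀ a, x a ≠ a → x a = μ a → ∀ k : ℕ, (x ^ (k + k)) a = a ∧ (x ^ (k + k + 1)) a = μ a := by
    intro a ha h k
    have h3 := (mt_two_mul hx hm hc ha 1).1 (Or.inr (by simpa using h))
    have h4 : (x ^ (k + k)) a = a := by
      obtain ⟨l, hl⟩ := exists_per x a
      exact (hl _).2 (((hl _).1 h3).trans ⟨k, by ring⟩)
    exact ⟨h4, by rw [pow_succ', Perm.mul_apply, h4, h]⟩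
  have h3 : ∀ a b, x a ≠ a → x b ≠ b → x a = μ a → x b = μ b →
      (Quotient.mk (mtS hm) a) = Quotient.mk _ b := by
    intro a b ha hb ha' hb'
    obtain ⟨k, rfl⟩ := mt_same hx hm hc ha hb fun k => iff_of_true (h2 a ha ha' k).1 (h2 b hb hb' k).1
    refine Quotient.sound ?_
    rcases Nat.even_or_odd' k with ⟨k, rfl | rfl⟩
    · left; rw [two_mul]; exact (h2 a ha ha' k).1
    · right; rw [two_mul]; exact (h2 a ha ha' k).2
  constructor
  · rintro ⟨a⟩ ⟨b⟩ ⟨c⟩ ha hb hc'
    have ha' := (key1 a).1 ha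
    have hb' := (key1 b).1 hb
    have hc'' := (key1 c).1 hc'
    by_cases e1 : x a = a <;> by_cases e2 : x b = b <;> by_cases e3 : x c = c
    · exact Or.inl (h1 a b e1 e2)
    · exact Or.inl (h1 a b e1 e2)
    · exact Or.inr (Or.inl (h1 a c e1 e3))
    · exact Or.inr (Or.inr (h3 b c e2 e3 (hb'.resolve_left e2) (hc''.resolve_left e3)))
    · exact Or.inr (Or.inr (h1 b c e2 e3))
    · exact Or.inr (Or.inl (h3 a c e1 e3 (ha'.resolve_left e1) (hc''.resolve_left e3)))
    · exact Or.inl (h3 a b e1 e2 (ha'.resolve_left e1) (hb'.resolve_left e2))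
    · exact Or.inl (h3 a b e1 e2 (ha'.resolve_left e1) (hb'.resolve_left e2))
  · rintro ⟨a⟩ ⟨b⟩ ha h
    have ha' : x a ≠ a := fun h1 => ha ((key1 a).2 (Or.inl h1))
    have hb' : x b ≠ b := fun h1 => ha (by
      have := (h 1).2 (by rw [pow_one]; exact (key1 b).2 (Or.inl h1))
      rwa [pow_one] at this)
    obtain ⟨k, rfl⟩ := mt_same hx hm hc ha' hb' fun k => by
      rw [← mt_two_mul hx hm hc ha', ← mt_two_mul hx hm hc hb', ← key, ← key]; exact h k
    exact ⟨k, hy k a⟩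

theorem odd_df (k : ℕ) : Odd (2 * k + 1).doubleFactorial := by
  induction k with
  | zero => simp
  | succ k ih =>
    rw [show 2 * (k + 1) + 1 = (2 * k + 1) + 2 by ring, Nat.doubleFactorial_add_two]
    exact Odd.mul ⟨k + 1, by ring⟩ ih

theorem odd_card_mt [Fintype α] [DecidableEq α] : Odd (Finset.univ.filter fun g : Perm α =>
    g.cycleType = Multiset.replicate (Fintype.card α / 2) 2).card := by
  have h := card_of_cycleType_mul_eq (α := α) (Multiset.replicate (Fintype.card α / 2) 2)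
  rw [if_pos ⟨by simp only [Multiset.sum_replicate, smul_eq_mul]; omega,
    fun a ha => (Multiset.eq_of_mem_replicate ha).ge⟩] at h
  generalize (Finset.univ.filter fun g : Perm α =>
    g.cycleType = Multiset.replicate (Fintype.card α / 2) 2).card = N at *
  generalize Fintype.card α = n at *
  have h1 : ∏ i ∈ (Multiset.replicate (n / 2) 2).toFinset,
      (Multiset.count i (Multiset.replicate (n / 2) 2)).factorial = (n / 2).factorial := by
    rcases Nat.eq_zero_or_pos (n / 2) with h0 | h0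
    · rw [h0]; simp
    · rw [Multiset.toFinset_replicate, if_neg h0.ne']; simp
  rw [h1, Multiset.sum_replicate, Multiset.prod_replicate, smul_eq_mul] at h
  have h2 : (n - n / 2 * 2).factorial = 1 := by
    have : n - n / 2 * 2 = 0 ∨ n - n / 2 * 2 = 1 := by omega
    rcases this with h | h <;> rw [h] <;> rfl
  rw [h2, one_mul, ← Nat.doubleFactorial_two_mul] at h
  rcases Nat.even_or_odd' n with ⟨k, rfl | rfl⟩
  · rw [Nat.mul_div_cancel_left _ two_pos] at h
    rcases k with _ | k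
    · simp at h; rw [h]; exact odd_one
    · rw [show 2 * (k + 1) = (2 * k + 1) + 1 by ring, Nat.factorial_eq_mul_doubleFactorial,
        mul_comm] at h
      rw [Nat.eq_of_mul_eq_mul_left (Nat.doubleFactorial_pos _) h]
      exact odd_df k
  · rw [show (2 * k + 1) / 2 = k by omega, Nat.factorial_eq_mul_doubleFactorial] at h
    rw [Nat.eq_of_mul_eq_mul_right (Nat.doubleFactorial_pos _) h]
    exact odd_df k

theorem exists_mt [Finite α] {Q : Subgroup (Perm α)} (hQ : IsPGroup 2 Q) :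
    ∃ μ : Perm α, Mt μ ∧ ∀ g ∈ Q, Commute g μ := by
  classical
  letI : Fintype α := Fintype.ofFinite α
  haveI : Fact (Nat.Prime 2) := ⟨Nat.prime_two⟩
  let X := {g : Perm α // g.cycleType = Multiset.replicate (Fintype.card α / 2) 2}
  letI : MulAction Q X :=
    { smul := fun q g => ⟨q * g.1 * (q : Perm α)⁻¹, by rw [cycleType_conj]; exact g.2⟩
      one_smul := fun g => Subtype.ext (by change (1 : Perm α) * g.1 * 1⁻¹ = g.1; simp)
      mul_smul := fun q r g => Subtype.ext (by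
        change ((q : Perm α) * r) * g.1 * ((q : Perm α) * r)⁻¹ =
          q * (r * g.1 * (r : Perm α)⁻¹) * (q : Perm α)⁻¹
        group) }
  obtain ⟨g, hg⟩ := hQ.nonempty_fixed_point_of_prime_not_dvd_card X (by
    rw [Nat.card_eq_fintype_card, Fintype.card_subtype, ← even_iff_two_dvd, Nat.not_even_iff_odd]
    exact odd_card_mt)
  refine ⟨g.1, ⟨?_, fun a b ha hb => ?_⟩, fun q hq => ?_⟩
  · rw [← pow_two, pow_prime_eq_one_iff, g.2]
    exact fun c hc => Multiset.eq_of_mem_replicate hc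
  · by_contra hab
    have h1 := g.1.sum_cycleType
    rw [g.2, Multiset.sum_replicate, smul_eq_mul] at h1
    have h2 : g.1.support ⊆ Finset.univ \ {a, b} := by
      intro c hc
      simp only [Finset.mem_sdiff, Finset.mem_univ, Finset.mem_insert, Finset.mem_singleton, true_and]
      rintro (rfl | rfl)
      · exact mem_support.1 hc ha
      · exact mem_support.1 hc hb
    have h3 := Finset.card_le_card h2
    rw [Finset.card_sdiff_of_subset (Finset.subset_univ _), Finset.card_pair hab,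
      Finset.card_univ] at h3
    have h4 : 2 ≤ Fintype.card α := by
      rw [← Finset.card_pair hab]; exact Finset.card_le_univ _
    omega
  · have h1 : q * g.1 * q⁻¹ = g.1 := congrArg Subtype.val (hg ⟨q, hq⟩)
    exact mul_inv_eq_iff_eq_mul.1 h1

end

theorem main (n : ℕ) : ∀ (α : Type) [Finite α], Nat.card α ≤ n → ∀ x : Perm α, Hyp x →
    ∃ P : Subgroup (Perm α), IsPGroup 2 P ∧ ∀ Q : Subgroup (Perm α), IsPGroup 2 Q → x ∈ Q → Q ≤ P := by
  induction n using Nat.strong_induction_on with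
  | _ n ih =>
  intro α _ hn x hx
  by_cases h0 : ∃ μ : Perm α, Mt μ ∧ Commute x μ
  swap
  · refine ⟨⊥, IsPGroup.of_bot, fun Q hQ hxQ => ?_⟩
    obtain ⟨μ, hm, hc⟩ := exists_mt hQ
    exact absurd ⟨μ, hm, hc x hxQ⟩ h0
  obtain ⟨μ, hm, hc⟩ := h0
  by_cases h1 : ∀ a, μ a = a
  · refine ⟨⊥, IsPGroup.of_bot, fun Q _ _ g _ => ?_⟩
    rw [Subgroup.mem_bot]
    ext a
    exact hm.2 _ _ (h1 _) (h1 _)
  push Not at h1
  obtain ⟨a, ha⟩ := h1
  have hlt : Nat.card (Quotient (mtS hm)) < Nat.card α := by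
    classical
    letI : Fintype α := Fintype.ofFinite α
    letI : Fintype (Quotient (mtS hm)) := Fintype.ofFinite _
    rw [Nat.card_eq_fintype_card, Nat.card_eq_fintype_card]
    exact Fintype.card_lt_of_surjective_not_injective (Quotient.mk _) Quotient.mk_surjective
      fun h => ha (h (Quotient.sound (Or.inr rfl : (mtS hm).r a (μ a)))).symm
  obtain ⟨ρ, hρ⟩ := exists_rho hm
  have hxC : x ∈ Subgroup.centralizer ({μ} : Set (Perm α)) :=
    Subgroup.mem_centralizer_singleton_iff.2 hc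
  obtain ⟨P, hP, hPQ⟩ := ih _ (hlt.trans_le hn) _ le_rfl (ρ ⟨x, hxC⟩)
    (hyp_quot hx hm hc fun k a => by rw [← map_pow, hρ]; rfl)
  have hker : IsPGroup 2 ρ.ker := by
    intro g
    refine ⟨1, Subtype.ext (Subtype.ext (Equiv.ext fun a => ?_))⟩
    have h2 : ∀ a, g.1.1 a = a ∨ g.1.1 a = μ a := fun a => by
      have h3 := hρ g.1 a
      rw [g.2] at h3
      exact Quotient.exact h3
    change g.1.1 (g.1.1 a) = a
    rcases h2 a with h3 | h3
    · rw [h3, h3]
    · rw [h3, ← Perm.mul_apply, Subgroup.mem_centralizer_singleton_iff.1 g.1.2, Perm.mul_apply, h3,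
        hm.apply]
  refine ⟨(P.comap ρ).map (Subgroup.subtype _), (hP.comap_of_ker_isPGroup ρ hker).map _,
    fun Q hQ hxQ g hg => ?_⟩
  obtain ⟨μ', hm', hc'⟩ := exists_mt hQ
  obtain rfl := mt_unique hx hm hc hm' (hc' x hxQ)
  refine ⟨⟨g, Subgroup.mem_centralizer_singleton_iff.2 (hc' g hg)⟩, ?_, rfl⟩
  exact hPQ ((Q.subgroupOf _).map ρ) ((hQ.comap_subtype).map ρ) ⟨⟨x, hxC⟩, hxQ, rfl⟩ ⟨_, hg, rfl⟩

section
variable {α : Type} [Fintype α] [DecidableEq α] {x : Perm α}

theorem swap_comm_of {a b c d : α} (h1 : c = a ↔ d = b) (h2 : c = b ↔ d = a) :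
    Commute (swap a b) (swap c d) := by
  by_cases e1 : c = a
  · rw [e1, h1.1 e1]
  by_cases e2 : c = b
  · rw [e2, h2.1 e2, swap_comm b a]
  have e3 : d ≠ b := fun h => e1 (h1.2 h)
  have e4 : d ≠ a := fun h => e2 (h2.2 h)
  have := mul_swap_eq_swap_mul (swap a b) c d
  rwa [swap_apply_of_ne_of_ne e1 e2, swap_apply_of_ne_of_ne e4 e3] at this

/-- a transposition commuting with its conjugates under `x` lies with `x` in a Sylow 2-subgroup -/
theorem exists_sylow (hx : ∃ k : ℕ, orderOf x = 2 ^ k) {a b : α}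
    (h1 : ∀ k : ℕ, (x ^ k) a = a ↔ (x ^ k) b = b) (h2 : ∀ k : ℕ, (x ^ k) a = b ↔ (x ^ k) b = a) :
    ∃ P : Sylow 2 (Perm α), x ∈ P ∧ swap a b ∈ P := by
  haveI : Fact (Nat.Prime 2) := ⟨Nat.prime_two⟩
  let s : ℕ → Perm α := fun k => swap ((x ^ k) a) ((x ^ k) b)
  have hs : ∀ j k, x ^ j * s k * (x ^ j)⁻¹ = s (j + k) := fun j k => by
    simp only [s, pow_add_apply]; exact (swap_apply_apply _ _ _).symm
  have hc0 : ∀ k, Commute (s 0) (s k) := fun k => swap_comm_of (h1 k) (h2 k)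
  have hc1 : ∀ j k, Commute (s j) (s (j + k)) := fun j k => by
    have := (hc0 k).conj (x ^ j)
    rwa [hs, hs] at this
  have hc : ∀ j k, Commute (s j) (s k) := fun j k => by
    rcases le_total j k with h | h
    · obtain ⟨m, rfl⟩ := Nat.exists_eq_add_of_le h; exact hc1 j m
    · obtain ⟨m, rfl⟩ := Nat.exists_eq_add_of_le h; exact (hc1 k m).symm
  let E := Subgroup.closure (Set.range s)
  have hE : ∀ g ∈ E, g * g = 1 ∧ ∀ k, Commute g (s k) := by
    intro g hg
    induction hg using Subgroup.closure_induction_right with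
    | one => exact ⟨one_mul 1, fun _ => Commute.one_left _⟩
    | mul_right g _ y hy ih =>
      obtain ⟨j, rfl⟩ := hy
      refine ⟨?_, fun k => (ih.2 k).mul_left (hc j k)⟩
      rw [mul_assoc, ← mul_assoc (s j), ← (ih.2 j).eq, mul_assoc, swap_mul_self, mul_one, ih.1]
    | mul_inv_cancel g _ y hy ih =>
      obtain ⟨j, rfl⟩ := hy
      rw [swap_inv]
      refine ⟨?_, fun k => (ih.2 k).mul_left (hc j k)⟩
      change g * s j * (g * s j) = 1
      rw [mul_assoc, ← mul_assoc (s j), ← (ih.2 j).eq, mul_assoc, swap_mul_self, mul_one, ih.1]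
  have hE2 : IsPGroup 2 E := fun g => ⟨1, Subtype.ext (by simpa [pow_two] using (hE g g.2).1)⟩
  have hn : x ∈ Subgroup.normalizer (E : Set (Perm α)) := by
    refine H67.mem_normalizer_of_cj_le ?_
    rw [H67.cj_closure, Subgroup.closure_le]
    rintro _ ⟨_, ⟨k, rfl⟩, rfl⟩
    refine Subgroup.subset_closure ⟨1 + k, ?_⟩
    rw [← hs, pow_one]
  have hz : IsPGroup 2 (Subgroup.zpowers x) := by
    obtain ⟨k, hk⟩ := hx
    exact IsPGroup.of_card (by rw [Nat.card_zpowers, hk])
  obtain ⟨P, hP⟩ := (hz.to_sup_of_normal_right' hE2 (Subgroup.zpowers_le.2 hn)).exists_le_sylow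
  exact ⟨P, hP (Subgroup.mem_sup_left (Subgroup.mem_zpowers x)),
    hP (Subgroup.mem_sup_right (Subgroup.subset_closure ⟨0, rfl⟩))⟩

theorem not_both {P : Sylow 2 (Perm α)} {a b c : α} (hab : a ≠ b) (hac : a ≠ c) (hbc : b ≠ c)
    (h1 : swap a b ∈ P) (h2 : swap a c ∈ P) : False := by
  obtain ⟨k, hk⟩ := P.isPGroup' ⟨_, mul_mem h1 h2⟩
  have h3 : (swap a b * swap a c) ^ 2 ^ k = 1 := congrArg Subtype.val hk
  have h4 := orderOf_dvd_of_pow_eq_one h3
  rw [(isThreeCycle_swap_mul_swap_same hab hac hbc).orderOf] at h4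
  have := Nat.Prime.dvd_of_dvd_pow Nat.prime_three h4
  omega

theorem pow_apply_iff {a : α} (ha : x a ≠ a) (k : ℕ) :
    (x ^ k) a = a ↔ (x.cycleOf a).support.card ∣ k :=
  (isCycleOn_support_cycleOf x a).pow_apply_eq (mem_support_cycleOf_iff' ha |>.2 (SameCycle.refl _ _))

theorem hyp_iff : Hyp x ↔ (Fintype.card α ≤ x.support.card + 2 ∧ x.cycleType.Nodup) := by
  have e1 : Fintype.card α ≤ x.support.card + 2 ↔ ¬ 2 < x.supportᶜ.card := by
    rw [Finset.card_compl]; omega
  refine and_congr ?_ ?_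
  · rw [e1, Finset.two_lt_card]
    simp only [Finset.mem_compl, notMem_support]
    constructor
    · rintro h ⟨a, ha, b, hb, c, hc, h1, h2, h3⟩
      rcases h a b c ha hb hc with h | h | h <;> contradiction
    · intro h a b c ha hb hc
      by_contra h1
      push Not at h1
      exact h ⟨a, ha, b, hb, c, hc, h1⟩
  · rw [cycleType_def, Multiset.nodup_map_iff_inj_on x.cycleFactorsFinset.nodup]
    constructor
    · intro h c hc d hd hcd
      obtain ⟨a, ha⟩ := (mem_cycleFactorsFinset_iff.1 hc).1.nonempty_support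
      obtain ⟨b, hb⟩ := (mem_cycleFactorsFinset_iff.1 hd).1.nonempty_support
      have ha' := mem_support.1 (mem_cycleFactorsFinset_support_le hc ha)
      have hb' := mem_support.1 (mem_cycleFactorsFinset_support_le hd hb)
      have e2 := cycle_is_cycleOf ha hc
      have e3 := cycle_is_cycleOf hb hd
      obtain ⟨k, hk⟩ := h a b ha' fun k => by
        rw [pow_apply_iff ha', pow_apply_iff hb', ← e2, ← e3]
        exact iff_of_eq (congrArg (· ∣ k) hcd)
      rw [e2, e3]
      exact SameCycle.cycleOf_eq ⟨k, by rw [zpow_natCast, hk]⟩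
    · intro h a b ha hk
      have hb : x b ≠ b := fun h1 => ha (by simpa using (hk 1).2 (by simpa using h1))
      have h1 := h _ (cycleOf_mem_cycleFactorsFinset_iff.2 (mem_support.2 ha)) _
        (cycleOf_mem_cycleFactorsFinset_iff.2 (mem_support.2 hb)) (Nat.dvd_antisymm
          ((pow_apply_iff ha _).1 ((hk _).2 ((pow_apply_iff hb _).2 dvd_rfl)))
          ((pow_apply_iff hb _).1 ((hk _).1 ((pow_apply_iff ha _).2 dvd_rfl))))
      obtain ⟨i, -, hi⟩ := ((sameCycle_iff_cycleOf_eq_of_mem_support (mem_support.2 ha)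
        (mem_support.2 hb)).2 h1).exists_pow_eq'
      exact ⟨i, hi⟩

theorem hyp_of_unique (hx : ∃ k : ℕ, orderOf x = 2 ^ k) (h : ∃! P : Sylow 2 (Perm α), x ∈ P) :
    Hyp x := by
  obtain ⟨P, -, hP⟩ := h
  constructor
  · intro a b c ha hb hc
    by_contra h1
    push Not at h1
    have key : ∀ d, x d = d → ∀ k : ℕ, (x ^ k) d = d := fun d hd k => pow_apply_eq_self_of_apply_eq_self hd k
    obtain ⟨Q, hQ, hs⟩ := exists_sylow hx (a := a) (b := b) (fun k => by rw [key a ha, key b hb]; simp)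
      (fun k => by rw [key a ha, key b hb, eq_comm])
    obtain ⟨R, hR, ht⟩ := exists_sylow hx (a := a) (b := c) (fun k => by rw [key a ha, key c hc]; simp)
      (fun k => by rw [key a ha, key c hc, eq_comm])
    rw [hP Q hQ] at hs
    rw [hP R hR] at ht
    exact not_both h1.1 h1.2.1 h1.2.2 hs ht
  · intro a b ha hk
    by_contra h1
    push Not at h1
    have h2 : ∀ k : ℕ, (x ^ k) b ≠ a := by
      intro k h
      obtain ⟨i, -, hi⟩ := (SameCycle.symm (⟨k, by rw [zpow_natCast, h]⟩ : SameCycle x b a)).exists_pow_eq'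
      exact h1 i hi
    obtain ⟨l, hl⟩ := exists_per x a
    obtain ⟨m, hm⟩ := hx
    have h3 : l ∣ 2 ^ m := (hl _).1 (by rw [← hm, pow_orderOf_eq_one, Perm.one_apply])
    obtain ⟨i, -, rfl⟩ := (Nat.dvd_prime_pow Nat.prime_two).1 h3
    rcases i with _ | i
    · exact ha (by simpa using (hl 1).2 (by simp))
    have h4 : (x ^ 2 ^ i) ((x ^ 2 ^ i) a) = a := by
      rw [← pow_add_apply, hl, pow_succ, mul_two]
    have h5 : (x ^ 2 ^ i) a ≠ a := fun h => by
      have := Nat.le_of_dvd (by positivity) ((hl _).1 h)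
      rw [pow_succ] at this
      have h6 : 0 < 2 ^ i := by positivity
      omega
    have hcm : ∀ k : ℕ, (x ^ k) ((x ^ 2 ^ i) a) = (x ^ 2 ^ i) ((x ^ k) a) := fun k => by
      rw [← pow_add_apply, ← pow_add_apply, add_comm]
    obtain ⟨Q, hQ, hs⟩ := exists_sylow ⟨m, hm⟩ (a := a) (b := b) hk
      (fun k => iff_of_false (h1 k) (h2 k))
    obtain ⟨R, hR, ht⟩ := exists_sylow ⟨m, hm⟩ (a := a) (b := (x ^ 2 ^ i) a)
      (fun k => by rw [hcm, (x ^ 2 ^ i).injective.eq_iff])
      (fun k => by rw [hcm, ← (x ^ 2 ^ i).injective.eq_iff, h4])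
    rw [hP Q hQ] at hs
    rw [hP R hR] at ht
    exact not_both (fun h => h1 0 (by simpa using h)) h5.symm (h1 _).symm hs ht

end


/-- Let n ≥ 2 and let x be an element of 2-power order of the symmetric group of degree n. Then x lies in exactly one Sylow 2-subgroup if and only if x has at most two fixed points and the nontrivial cycles of x have pairwise different lengths. -/
theorem result (n : ℕ) (hn : 2 ≤ n)
    (x : Equiv.Perm (Fin n)) (hx : ∃ k : ℕ, orderOf x = 2 ^ k) :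
    (∃! P : Sylow 2 (Equiv.Perm (Fin n)), x ∈ P) ↔ (n ≤ x.support.card + 2 ∧ x.cycleType.Nodup) := by
  haveI : Fact (Nat.Prime 2) := ⟨Nat.prime_two⟩
  have e := hyp_iff (x := x)
  rw [Fintype.card_fin] at e
  rw [← e]
  refine ⟨hyp_of_unique hx, fun h => ?_⟩
  obtain ⟨P, hP, hPQ⟩ := main _ (Fin n) le_rfl x h
  have hz : IsPGroup 2 (Subgroup.zpowers x) := by
    obtain ⟨k, hk⟩ := hx
    exact IsPGroup.of_card (by rw [Nat.card_zpowers, hk])
  obtain ⟨Q, hQ⟩ := hz.exists_le_sylow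
  have key : ∀ R : Sylow 2 (Equiv.Perm (Fin n)), x ∈ R → P = R := fun R hR =>
    R.is_maximal' hP (hPQ R R.isPGroup' hR)
  refine ⟨Q, hQ (Subgroup.mem_zpowers x), fun R hR => Sylow.ext ?_⟩
  rw [← key R hR, ← key Q (hQ (Subgroup.mem_zpowers x))]

end Cfsg.Agent.S4349
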