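import Cfsg.Statements.S4355
import Cfsg.Agent.H51.CamHer

set_option autoImplicit false
open Cfsg

namespace Cfsg.Agent.S4355

/-- If every element of 2-power order of a finite group has a conjugacy class of odd size, then the Sylow 2-subgroups of the group are abelian. -/
theorem result {G : Type*} [Group G] [Finite G]
    (h : ∀ x : G, (∃ k : ℕ, orderOf x = 2 ^ k) → ¬ 2 ∣ (Subgroup.centralizer ({x} : Set G)).index) (P : Sylow 2 G) :
    IsMulCommutative P := by
  refine H51.sylow_comm_of_twoCentral (fun x ⟨k, hk⟩ => ?_) P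
  obtain ⟨j, -, hj⟩ := (Nat.dvd_prime_pow Nat.prime_two).1 (orderOf_dvd_of_pow_eq_one hk)
  have h1 := h x ⟨j, hj⟩
  obtain ⟨T, hT⟩ := H8.exists_isSylowIn 2 (Subgroup.centralizer ({x} : Set G))
  have h2 := hT.trans_of_not_dvd (K := ⊤) le_top (by simpa using h1)
  exact ⟨h2.toSylowTop, hT.le⟩

end Cfsg.Agent.S4355
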