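import Cfsg.Statements.S4363
import Cfsg.Agent.H88.TuMain

set_option autoImplicit false
open Cfsg

namespace Cfsg.Agent.S4363

open Cfsg.Agent.H88 Subgroup

/-- Let G be a finite solvable group and σ an automorphism of G of prime order r not dividing the order of G, with fixed-point subgroup C. Then the Fitting height of G exceeds that of C by at most 2: if C has a chain of normal subgroups 1 = C₀ ≤ ⋯ ≤ Cₙ = C with nilpotent factors, then G has such a chain of length n + 2. -/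
theorem result {G : Type*} [Group G] [Finite G]
    (hG : Group.IsSolvable G) (σ : MulAut G) (r : ℕ) (hr : r.Prime) (hσ : orderOf σ = r) (hcop : ¬ r ∣ Nat.card G)
    (C : Subgroup G) (hC : ∀ g : G, g ∈ C ↔ σ g = g) (n : ℕ) (hn : (∃ F : Fin (n + 1) → Subgroup ↥C, F 0 = ⊥ ∧ F (Fin.last n) = ⊤ ∧ Monotone F ∧ (∀ i, (F i).Normal) ∧ ∀ i : Fin n, ∃ k : ℕ, (F i.succ).lowerCentralSeries k ≤ F i.castSucc)) :
    (∃ F : Fin ((n + 2) + 1) → Subgroup G, F 0 = ⊥ ∧ F (Fin.last (n + 2)) = ⊤ ∧ Monotone F ∧ (∀ i, (F i).Normal) ∧ ∀ i : Fin (n + 2), ∃ k : ℕ, (F i.succ).lowerCentralSeries k ≤ F i.castSucc) := by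
  let φ : zpowers σ →* MulAut G := (zpowers σ).subtype
  have := H4.Ext.finite_semidirect φ
  have hc : Nat.card (zpowers σ) = r := by rw [Nat.card_zpowers, hσ]
  have hfix : ⊤ ⊓ H4.Ext.fix φ = C := by
    ext g
    rw [top_inf_eq, H4.Ext.mem_fix, hC]
    refine ⟨fun h => h ⟨σ, mem_zpowers σ⟩, fun h a => ?_⟩
    exact (zpowers_le (H := MulAction.stabilizer (MulAut G) g)).2 h a.2
  refine ch_iff_fin.mp (ch_of_L φ (Tu.turull (by rwa [H4.Ext.card_R, card_top, hc]) (norm_RL φ)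
    (cop_RL φ (hc ▸ (Nat.Prime.coprime_iff_not_dvd hr).2 hcop)) (sol_L φ hG) ?_))
  rw [H4.Ext.L_inf_centralizer, hfix]
  exact (ch_iff_fin.mpr hn).of_surjective
    (C.equivMapOfInjective _ SemidirectProduct.inl_injective).toMonoidHom (MulEquiv.surjective _)

end Cfsg.Agent.S4363
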