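import Cfsg.Statements.S4398
import Cfsg.Agent.H89.SecRank
import Cfsg.Agent.H9.SelfCent
import Cfsg.Agent.S4143

set_option autoImplicit false
open Cfsg

namespace Cfsg.Agent.S4398

open Subgroup H89

/-- Let S be a finite 2-group of sectional 2-rank at most 2 that contains a subgroup isomorphic to the dihedral group of order 8 or to the quaternion group of order 8. Then S is dihedral of order at least 8, semidihedral of order at least 16 (order 2^(k+4) with an element a of order 2^(k+3) and an involution b with b a b⁻¹ = a^(2^(k+2)−1)), or generalized quaternion of order at least 8. -/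
theorem result {S : Type*} [Group S] [Finite S] (h2 : IsPGroup 2 S) (hr : Cfsg.SectionalPRankLE 2 2 S)
    (hsub : ∃ H : Subgroup S, Nonempty (↥H ≃* DihedralGroup 4) ∨ Nonempty (↥H ≃* QuaternionGroup 2)) :
    ((∃ k : ℕ, Nonempty (S ≃* DihedralGroup (2 ^ (k + 2)))) ∨
      (∃ k : ℕ, Nat.card S = 2 ^ (k + 4) ∧ ∃ a b : S, orderOf a = 2 ^ (k + 3) ∧ orderOf b = 2 ∧ b * a * b⁻¹ = a ^ (2 ^ (k + 2) - 1)) ∨
      (∃ k : ℕ, Nonempty (S ≃* QuaternionGroup (2 ^ (k + 1))))) := by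
  have := Fact.mk Nat.prime_two
  obtain ⟨H, a, b, h⟩ : ∃ (H : Subgroup S) (a b : S), H9.MC H a b 1 := by
    obtain ⟨H, ⟨⟨e⟩⟩ | ⟨⟨e⟩⟩⟩ := hsub
    · obtain ⟨a, b, n, h, -, -, h1⟩ := H9.exists_MC_of_dihedral' e (h2.to_subgroup H) (by norm_num)
      obtain rfl : 1 = n := by
        have := Nat.pow_right_injective le_rfl (show 2 ^ 2 = 2 ^ (n + 1) from h1)
        omega
      exact ⟨H, a, b, h⟩
    · obtain ⟨a, b, n, h, -, -, h1⟩ := H9.exists_MC_of_quaternion' e (h2.to_subgroup H) le_rfl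
      obtain rfl : 1 = n := Nat.pow_right_injective le_rfl (show 2 ^ 1 = 2 ^ n from h1)
      exact ⟨H, a, b, h⟩
  have hsq : ∀ x ∈ H, x ^ 2 ∈ zpowers (a ^ 2 ^ 1) := fun x hx => by
    by_cases hxa : x ∈ zpowers a
    · obtain ⟨i, rfl⟩ := hxa
      exact ⟨i, by simp only [pow_one]; group⟩
    · rw [sq]
      exact h.mem_zpowers_z_iff.2 (h.of_mem hx hxa).sq
  have hC : centralizer (H : Set S) ≤ H := by
    intro x hx
    by_contra hxH
    obtain ⟨j, h3, h4⟩ := H9.exists_pow_not_mem_pow_mem h2 hxH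
    have h5 : x ^ 2 ^ j ∈ centralizer (H : Set S) := pow_mem hx _
    generalize x ^ 2 ^ j = c at h3 h4 h5
    have h6 : c ^ 2 ∈ zpowers (a ^ 2 ^ 1) := h.mem_zpowers_z_iff.2 ((h.central_iff h4).1
      fun s hs => (show Commute s c from h5 s hs).symm.pow_left 2)
    have h7 := sec4_of_sectional hr (H ⊔ zpowers c) (zpowers (a ^ 2 ^ 1)) fun y hy => by
      have h7 : zpowers c ≤ normalizer (H : Set S) :=
        (zpowers_le.2 h5).trans (centralizer_le_normalizer _)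
      rw [← SetLike.mem_coe, coe_mul_of_right_le_normalizer_left _ _ h7] at hy
      obtain ⟨u, hu, _, ⟨i, rfl⟩, rfl⟩ := hy
      simp only
      rw [((show Commute u c from h5 u hu).zpow_right i).mul_pow]
      exact mul_mem (hsq u hu) (by
        rw [show (c ^ i) ^ 2 = (c ^ 2) ^ i by group]; exact zpow_mem h6 i)
    have h8 := card_mul_relIndex ((zpowers_le.2 h.z_mem).trans (le_sup_left (b := zpowers c)))
    rw [Nat.card_zpowers, h.orderOf_z] at h8
    have h9 : H = H ⊔ zpowers c := eq_of_le_of_card_ge le_sup_left (by rw [h.card]; omega)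
    exact h3 (h9 ▸ mem_sup_right (mem_zpowers c))
  obtain ⟨n, hn⟩ := IsPGroup.iff_card.1 h2
  have h3 := S4143.result (p := 2) n hn H h.card (fun h3 => h.not_commute
    (comm_of_isMulCommutative h3 h.b_mem h.a_mem)) hC
  obtain ⟨m, rfl⟩ : ∃ m, n = m + 3 := ⟨n - 3, by
    have := (Nat.pow_dvd_pow_iff_le_right one_lt_two).1 (hn ▸ h.card ▸ card_subgroup_dvd_card H)
    omega⟩
  obtain ⟨a, b, h⟩ := H9.exists_MC_of_maxClass (n := m + 1) (by omega) hn h3
  obtain ⟨c, hc, ⟨h4, h5⟩ | ⟨h4, h5⟩ | ⟨h6, h4, h5⟩⟩ := h.normalize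
  · obtain ⟨e⟩ := hc.equiv_dihedral h4 h5
    exact Or.inl ⟨m, ⟨topEquiv.symm.trans e⟩⟩
  · obtain ⟨e⟩ := hc.equiv_quaternion h4 h5
    exact Or.inr (Or.inr ⟨m, ⟨topEquiv.symm.trans e⟩⟩)
  · obtain ⟨k, rfl⟩ : ∃ k, m = k + 1 := ⟨m - 1, by omega⟩
    refine Or.inr (Or.inl ⟨k, hn, a, c, hc.ord, H9.orderOf_eq_two_iff.2 ⟨?_, h4⟩, ?_⟩)
    · rintro rfl
      exact hc.not_mem (one_mem _)
    · rw [h5, H9.inv_mul_pow_eq a Nat.one_le_two_pow]

end Cfsg.Agent.S4398
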