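import Cfsg.Statements.S4408
import Cfsg.Agent.S1349

set_option autoImplicit false
open Cfsg

namespace Cfsg.Agent.S4408

/-- Let S be a finite solvable group whose Fitting subgroup F(S) has odd order, and let I be an elementary abelian 2-subgroup of S of order 2ⁿ with n ≥ 1. Then F(S) contains subgroups A₁, …, Aₙ of prime order, each normalized by I, pairwise commuting and generating a subgroup A of order |A₁|⋯|Aₙ| (their internal direct product), such that no non-identity element of I centralizes A. -/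
theorem result {S : Type*} [Group S] [Finite S]
    [Group.IsSolvable S] (hF : Odd (Nat.card ↥(Cfsg.fittingSubgroup S)))
    (I : Subgroup S) (hI : Cfsg.IsElementaryAbelian 2 I) (n : ℕ) (hn : 1 ≤ n) (hIn : Nat.card ↥I = 2 ^ n) :
    ∃ f : Fin n → Subgroup S, (∀ i, (Nat.card ↥(f i)).Prime) ∧ (∀ i, f i ≤ Cfsg.fittingSubgroup S) ∧
      (∀ i, I ≤ Subgroup.normalizer ((f i) : Set S)) ∧ (∀ i j, i ≠ j → ∀ a ∈ f i, ∀ b ∈ f j, a * b = b * a) ∧
      Nat.card ↥(⨆ i, f i) = ∏ i, Nat.card ↥(f i) ∧ I ⊓ Subgroup.centralizer ((⨆ i, f i : Subgroup S) : Set S) = ⊥ := by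

  have hA1 : I ≠ ⊥ := H55.ne_bot_of_pow_le_card (p := 2) (by omega) hIn.ge
  have hN := H52.fitting_normal (G := S)
  have hAF : I ≤ Subgroup.normalizer (fittingSubgroup S : Set S) := by
    rw [Subgroup.normalizer_eq_top]; exact le_top
  obtain ⟨V, hVF, hab, hFV, hAV, hC⟩ := S1349.exists_abelian hI hA1 hF H52.fitting_isNilpotent hAF
  have hVo : Odd (Nat.card V) := hF.of_dvd_nat (Subgroup.card_dvd_of_le hVF)
  have h2 : ∀ a ∈ I, a * a = 1 := fun a ha => by rw [← sq]; exact hI.2 a ha
  obtain ⟨b, x, h1, h3, -, h4⟩ := S1349.fam hI hA1 hVo hAV (fun a ha h =>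
    H8.eq_one_of_pow_eq_one_of_coprime (hI.2 a ha) (Nat.coprime_two_right.mpr
      (H10.odd_orderOf_of_mem hF (H52.centralizer_fitting_le_of_isSolvable
        (S1349.cent_of_selfcent hF (h2 a ha) (hAF ha) hFV hC h))))) n I le_rfl hIn
  have hy : ∀ i, ∃ y ∈ Subgroup.zpowers (x i), (orderOf y).Prime := fun i => by
    have h5 : orderOf (x i) ≠ 1 := fun h => (h1 i).2.2.1 (orderOf_eq_one_iff.mp h ▸ Commute.one_right _)
    obtain ⟨p, hp, hd⟩ := Nat.exists_prime_and_dvd h5
    exact ⟨x i ^ (orderOf (x i) / p), Subgroup.npow_mem_zpowers _ _, by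
      rwa [orderOf_pow_orderOf_div (orderOf_pos _).ne' hd]⟩
  choose y hyx hyp using hy
  have hyV : ∀ i, ∀ g ∈ Subgroup.zpowers (y i), g ∈ V := fun i =>
    Subgroup.zpowers_le_of_mem (Subgroup.zpowers_le_of_mem (h1 i).2.1 (hyx i))
  have hinv : ∀ i, ∀ g ∈ Subgroup.zpowers (y i), b i * g * (b i)⁻¹ = g⁻¹ := fun i g hg => by
    obtain ⟨k, rfl⟩ := Subgroup.mem_zpowers_iff.mp (Subgroup.zpowers_le_of_mem (hyx i) hg)
    rw [← conj_zpow, (h1 i).2.2.2, inv_zpow]
  have hone : ∀ i, ∀ g ∈ Subgroup.zpowers (y i), Commute (b i) g → g = 1 := fun i g hg h => by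
    have h5 := hinv i g hg
    rw [h.eq, mul_inv_cancel_right, eq_inv_iff_mul_eq_one, ← sq] at h5
    exact H8.eq_one_of_pow_eq_one_of_coprime h5
      (Nat.coprime_two_right.mpr (H10.odd_orderOf_of_mem hVo (hyV i g hg)))
  have hcom : ∀ i j, i ≠ j → Subgroup.zpowers (y j) ≤ Subgroup.centralizer {b i} := fun i j h => by
    refine (Subgroup.zpowers_le_of_mem (hyx j)).trans (Subgroup.zpowers_le_of_mem ?_)
    exact Subgroup.mem_centralizer_singleton_iff.mpr (h3 i j h).symm
  have hc : Pairwise fun i j => ∀ u v : S, u ∈ Subgroup.zpowers (y i) →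
      v ∈ Subgroup.zpowers (y j) → Commute u v :=
    fun i j _ u v hu hv => H53.comm_of_mem hab (hyV i u hu) (hyV j v hv)
  refine ⟨fun i => Subgroup.zpowers (y i), fun i => by rw [Nat.card_zpowers]; exact hyp i,
    fun i g hg => hVF (hyV i g hg), fun i => ?_, fun i j h u hu v hv => hc h u v hu hv, ?_, ?_⟩
  · rw [← h4]
    refine iSup_le fun j => H55.le_normalizer_of_forall fun a ha u hu => ?_
    rcases H86.eq_or_eq_of_mem_zpowers_inv (h2 _ (h1 j).1) ha with rfl | rfl
    · simpa using hu
    · by_cases h : j = i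
      · subst h
        rw [hinv j u hu]; exact inv_mem hu
      · rwa [← Subgroup.mem_centralizer_singleton_iff.mp (hcom j i h hu), mul_inv_cancel_right]
  · rw [← Subgroup.noncommPiCoprod_range (hcomm := hc), ← Nat.card_pi]
    refine (Nat.card_congr (MonoidHom.ofInjective
      (Subgroup.injective_noncommPiCoprod_of_iSupIndep fun i => ?_)).toEquiv).symm
    refine Subgroup.disjoint_def.mpr fun {g} hg hg' => hone i g hg ?_
    exact (Subgroup.mem_centralizer_singleton_iff.mp
      ((iSup₂_le fun j hj => hcom i j (Ne.symm hj) : _ ≤ Subgroup.centralizer {b i}) hg')).symm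
  · have key : ∀ s : Finset (Fin n), ∀ a ∈ ⨆ i ∈ s, Subgroup.zpowers (b i),
        (∀ i, Commute a (y i)) → a = 1 := by
      intro s
      induction s using Finset.induction_on with
      | empty => intro a ha _; simpa using ha
      | insert k s hk ih =>
        intro a ha h
        rw [Finset.iSup_insert] at ha
        obtain ⟨c, hc, d, hd, rfl⟩ := (H53.mem_sup_of_le_normalizer ((iSup₂_le fun i _ =>
          Subgroup.zpowers_le_of_mem (h1 i).1).trans ((H55.ea_le_centralizer hI
            (Subgroup.zpowers_le_of_mem (h1 k).1)).trans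
              (Subgroup.centralizer_le_normalizer _)))).mp ha
        have h5 : Commute d (y k) := Subgroup.mem_centralizer_singleton_iff.mp
          ((iSup₂_le fun i hi => Subgroup.zpowers_le_of_mem
            (Subgroup.mem_centralizer_singleton_iff.mpr (Subgroup.mem_centralizer_singleton_iff.mp
              (hcom i k (fun e => hk (e ▸ hi)) (Subgroup.mem_zpowers _))).symm) :
            _ ≤ Subgroup.centralizer {y k}) hd)
        rcases H86.eq_or_eq_of_mem_zpowers_inv (h2 _ (h1 k).1) hc with rfl | rfl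
        · rw [one_mul] at h ⊢
          exact ih d hd h
        · have h6 := hone k _ (Subgroup.mem_zpowers _) (by simpa using (h k).mul_left h5.inv_left)
          exact absurd (hyp k) (by rw [h6, orderOf_one]; exact Nat.not_prime_one)
    refine eq_bot_iff.mpr fun a ha => Subgroup.mem_bot.mpr (key Finset.univ a ?_ fun i => ?_)
    · simpa [h4] using ha.1
    · exact (Subgroup.mem_centralizer_iff.mp ha.2 _
        (Subgroup.mem_iSup_of_mem i (Subgroup.mem_zpowers _))).symm

end Cfsg.Agent.S4408
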