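import Cfsg.Statements.S4419
import Cfsg.Agent.H89.MetaNpc
import Cfsg.Agent.H3.Fitting

set_option autoImplicit false
open Cfsg

namespace Cfsg.Agent.S4419

open Subgroup H89

/-- Let p be a prime and G a finite group whose Sylow p-subgroups are metacyclic (a cyclic normal subgroup with cyclic quotient). Then G has a normal p-complement if and only if the order of G/O_{p′,p}(G) is coprime to p² − 1. -/
theorem result {G : Type*} [Group G] [Finite G] (p : ℕ) [Fact p.Prime] (S : Sylow p G) (hS : Cfsg.IsMetacyclic ↥(S : Subgroup G)) : Cfsg.HasNormalPComplement p G ↔ Nat.Coprime (Nat.card (G ⧸ Cfsg.pPrimePCore p G)) (p ^ 2 - 1) := by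
  have hp : p.Prime := Fact.out
  rw [← index_eq_card, pPrimePCore, index_comap_of_surjective _ (QuotientGroup.mk'_surjective _)]
  constructor
  · intro h
    obtain ⟨P, N, hN, h1⟩ := H8.HasNormalPComplement.quotient h (pPrimeCore p G)
    have h2 : N = ⊥ := le_bot_iff.1 ((H3.pPrimeCore_quotient_pPrimeCore p G) ▸
      le_sSup ⟨hN, by
        rw [← h1.index_eq_card]
        exact (hp.coprime_iff_not_dvd.2 P.not_dvd_index).symm⟩)
    have h3 : (P : Subgroup (G ⧸ pPrimeCore p G)) = ⊤ := by simpa [h2] using h1.sup_eq_top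
    have h4 : pCore p (G ⧸ pPrimeCore p G) = ⊤ :=
      top_le_iff.1 (le_sSup ⟨inferInstance, h3 ▸ P.isPGroup'⟩)
    rw [h4, index_top]
    exact Nat.coprime_one_left _
  · intro h
    refine H8.hasNormalPComplement_of_quotient
      (hp.coprime_iff_not_dvd.1 (H3.pPrimeCore_coprime p G).symm)
      (npc_of_metacyclic (S.mapSurjective (QuotientGroup.mk'_surjective _))
        (H71.isMetacyclic_map hS _) fun q hq hd h1 => ?_)
    rw [← (pCore p _).card_mul_index] at hd
    rcases (Nat.Prime.dvd_mul hq).1 hd with h2 | h2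
    · obtain ⟨k, hk⟩ := IsPGroup.iff_card.1 (H3.pCore_isPGroup p (G ⧸ pPrimeCore p G))
      have h3 := (hq.dvd_of_dvd_pow (hk ▸ h2)).trans (dvd_pow_self p two_ne_zero)
      exact hq.one_lt.ne' (Nat.dvd_one.1 (by
        simpa [Nat.sub_sub_self (Nat.one_le_pow 2 p hp.pos)] using Nat.dvd_sub h3 h1))
    · exact hq.one_lt.ne' (Nat.eq_one_of_dvd_coprimes h h2 h1)

end Cfsg.Agent.S4419
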