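import Cfsg.Statements.S4544
import Cfsg.Agent.H26.K4D

set_option autoImplicit false
open Cfsg

namespace Cfsg.Agent.S4544

/-- Let B be a 2-block of the finite group G (relative to a maximal ideal M of the algebraic integers containing 2) whose defect group D contains a cyclic subgroup of index at most 4 in D. Then B contains at most as many irreducible characters as D has elements. -/
theorem result {G : Type*} [Group G] [Finite G] (M : Ideal Cfsg.AlgInt) (hM : Cfsg.IsPModular 2 M) (B : Set (Cfsg.IrrCharacter G)) (hB : Cfsg.IsPBlock M B) (D : Subgroup G) (hD : Cfsg.IsDefectGroup 2 M B D) (C : Subgroup G) (hCD : C ≤ D) (hcyc : IsCyclic C) (hidx : C.relIndex D ≤ 4) : Nat.card B ≤ Nat.card D := by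
  obtain ⟨⟨a, ha⟩, h⟩ := hcyc.exists_generator
  have h1 : Subgroup.zpowers a = C := le_antisymm (Subgroup.zpowers_le.2 ha) fun g hg =>
    (h ⟨g, hg⟩).imp fun _ hi => congrArg Subtype.val hi
  refine H26.K4.card_le_of_cy hM hB hD ⟨a, hCD ha, ?_⟩
  rw [← Nat.card_zpowers, h1, ← (C.subgroupOf D).index_mul_card,
    Nat.card_congr (Subgroup.subgroupOfEquivOfLe hCD).toEquiv]
  exact Nat.mul_le_mul_right _ hidx

end Cfsg.Agent.S4544
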