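import Cfsg.Statements.S4545
import Cfsg.Agent.H89.OlAsm
import Cfsg.Agent.H86.OlCh
import Cfsg.Agent.H64.OlTrn
import Cfsg.Agent.H34.OlE5b
import Cfsg.Agent.H23.OlE3
import Cfsg.Agent.H49.OlE5A
import Cfsg.Agent.H91.OlE5O
import Cfsg.Agent.H36.OlE5c
import Cfsg.Agent.H68.OlGb2
import Cfsg.Agent.H29.OlGc1
import Cfsg.Agent.H62.OlGc3
import Cfsg.Agent.H66.OlGc0
import Cfsg.Agent.H96.OlCl
import Cfsg.Agent.H28.OlAv
import Cfsg.Agent.H40.OlT1
import Cfsg.Agent.H57.OlEss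
import Cfsg.Agent.H43.OlGa1
import Cfsg.Agent.H10.OlGa0
import Cfsg.Agent.H60.OlGa7
import Cfsg.Agent.H33.OlGa31
import Cfsg.Agent.H88.OlGc2
import Cfsg.Agent.H3.OlCf

set_option autoImplicit false
open Cfsg

namespace Cfsg.Agent.S4545

/-- Let B be a 2-block of the finite group G (relative to a maximal ideal M of the algebraic integers containing 2) whose defect group D has order at most 32. Then the number of members of B of height zero is at most the index of the commutator subgroup of D in D (Olsson's bound holds for B). -/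
theorem result {G : Type*} [Group G] [Finite G] (M : Ideal Cfsg.AlgInt) (hM : Cfsg.IsPModular 2 M) (B : Set (Cfsg.IrrCharacter G)) (hB : Cfsg.IsPBlock M B) (D : Subgroup G) (hD : Cfsg.IsDefectGroup 2 M B D) (hcard : Nat.card D ≤ 32) : Nat.card {χ : Cfsg.IrrCharacter G // χ ∈ B ∧ Cfsg.blockHeight 2 B (χ : G → ℂ) = 0} ≤ (commutator ↥D).index := by
  have := Fintype.ofFinite G
  have : Fact (Nat.Prime 2) := ⟨Nat.prime_two⟩
  obtain ⟨e, he⟩ := H21.exists_isMaxPair hM hB hD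
  exact H89.Ol.main
    (H89.Ol.ab (H89.Ol.ga H10.OlGa.ga0 H43.OlGa1.ga1 H10.OlGa.ga3
      (H89.Ol.H60Ga7.ga7 H10.OlGa.gai) H33.OlGa31.ga31) H64.OlTrn.tr H64.OlTrn.nil
      (H23.OlE3.e3 H64.OlTrn.tr H64.OlTrn.fu H64.OlTrn.nil)
      (H49.OlE5A.e5a (H91.OlE5O.e5o H64.OlTrn.fu) H64.OlTrn.nil H64.OlTrn.fu) H34.OlE.e5b
      H36.OlE5c.e5c)
    H40.OlT1.t1 H57.OlEss.ess (H96.OlCl.cl H28.OlAv.av H3.OlCf.cf) H66.OlGc0.gb1
    (H68.Ol.gb2 H86.Ol.ch) H66.OlGc0.gc0 H29.OlGc1.gc1 H88.Ol.gc2 (H62.OlGc3.gc3 H86.Ol.ch)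
    ⟨hM, hB, he⟩ hcard

end Cfsg.Agent.S4545
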