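import Cfsg.Statements.S4587
import Cfsg.Agent.S0081
import Cfsg.Agent.S3807
import Cfsg.Agent.H9.Taussky
import Cfsg.Agent.H1.Npc
import Cfsg.Agent.H3.Frattini
import Cfsg.Agent.H8.SylowIn
import Cfsg.Agent.H8.Alperin
import Cfsg.Agent.H3.Fitting

set_option autoImplicit false
open Cfsg

namespace Cfsg.Agent.S4587

section
open Subgroup

theorem comm_bot {X : Type*} [Group X] [Finite X] {p : ℕ} [hp : Fact p.Prime] (hX : IsPGroup p X)
    (h : (commutator X).index ∣ p) : commutator X = ⊥ := by
  have hc : IsCyclic (X ⧸ commutator X) := isCyclic_of_card_dvd_prime (p := p) h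
  have := H9.isCyclic_of_isCyclic_quotient_commutator hX hc
  have : IsMulCommutative X := IsCyclic.isMulCommutative
  rw [_root_.commutator_def, commutator_eq_bot_iff_le_centralizer]
  intro x _
  rw [mem_centralizer_iff]
  intro y _
  exact mul_comm' y x

theorem lemB {X : Type*} [Group X] [Finite X] {p : ℕ} [hp : Fact p.Prime] (hX : IsPGroup p X)
    (h : (commutator X).index = p ^ 2) (M : Subgroup X) [M.Normal] (hM : ¬ M ≤ commutator X) :
    commutator X ≤ M ∧ M.index ∣ p := by
  have h1 : (M ⊔ commutator X).index ∣ p := by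
    have hd : (M ⊔ commutator X).index ∣ p ^ 2 := h ▸ index_dvd_of_le le_sup_right
    obtain ⟨k, hk, hk'⟩ := (Nat.dvd_prime_pow hp.out).mp hd
    have : k ≠ 2 := by
      rintro rfl
      apply hM
      have : commutator X = M ⊔ commutator X := by
        apply eq_of_le_of_card_ge le_sup_right
        have e1 := (commutator X).card_mul_index
        have e2 := (M ⊔ commutator X).card_mul_index
        rw [hk'] at e2
        rw [h, ← e2] at e1
        exact (Nat.eq_of_mul_eq_mul_right (pow_pos hp.out.pos 2) e1).ge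
      rw [this]; exact le_sup_left
    rw [hk']
    have : k = 0 ∨ k = 1 := by omega
    rcases this with rfl | rfl <;> simp
  have h2 : commutator (X ⧸ M) = ⊥ := by
    apply comm_bot (hX.to_quotient M)
    have : commutator (X ⧸ M) = (commutator X).map (QuotientGroup.mk' M) := by
      rw [_root_.commutator_def, _root_.commutator_def, map_commutator,
        map_top_of_surjective _ (QuotientGroup.mk'_surjective M)]
    rw [this, ← index_comap_of_surjective _ (QuotientGroup.mk'_surjective M), comap_map_eq,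
      QuotientGroup.ker_mk', sup_comm]
    exact h1
  have h3 : commutator X ≤ M := by
    have : (commutator X).map (QuotientGroup.mk' M) = ⊥ := by
      rw [← h2, _root_.commutator_def, _root_.commutator_def, map_commutator,
        map_top_of_surjective _ (QuotientGroup.mk'_surjective M)]
    rwa [Subgroup.map_eq_bot_iff, QuotientGroup.ker_mk'] at this
  refine ⟨h3, ?_⟩
  rwa [sup_of_le_left h3] at h1

theorem lemC0 {X : Type*} [Group X] [Finite X] {p : ℕ} [hp : Fact p.Prime] (hX : IsPGroup p X)
    (h : (commutator X).index = p ^ 2) (hna : commutator X ≠ ⊥) (M : Subgroup X)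
    (hM : IsMulCommutative M) (hi : M.index = p) (x : X) (hx : x ∉ M) :
    Nat.card (centralizer ({x} : Set X)) = p ^ 2 := by
  have hna' : ¬ IsMulCommutative X := by
    intro hc
    apply hna
    rw [_root_.commutator_def, commutator_eq_bot_iff_le_centralizer]
    intro x _
    rw [mem_centralizer_iff]
    intro y _
    exact mul_comm' y x
  have h1 := (S3807.result p hX hna' M hM hi).1
  have hZ : Nat.card (center X) = p := by
    have e1 := (center X).card_mul_index
    have e2 := (commutator X).card_mul_index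
    rw [h1, ← e2, h] at e1
    have : Nat.card (center X) * (p * Nat.card (commutator X)) = p * (p * Nat.card (commutator X)) := by
      rw [e1]; ring
    exact Nat.eq_of_mul_eq_mul_right (Nat.mul_pos hp.out.pos Nat.card_pos) this
  apply le_antisymm
  · have hle : M ⊓ centralizer {x} ≤ center X := by
      rintro y ⟨hyM, hyx⟩
      have hmax : IsCoatom M := H3.isCoatom_of_index_prime (hi ▸ hp.out)
      have : centralizer ({y} : Set X) = ⊤ := by
        apply hmax.2
        refine lt_of_le_of_ne ?_ ?_
        · intro m hm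
          rw [mem_centralizer_iff]
          rintro _ rfl
          exact congrArg Subtype.val (hM.is_comm.comm (⟨_, hyM⟩ : M) ⟨m, hm⟩)
        · intro he
          apply hx
          rw [he, mem_centralizer_iff]
          rintro _ rfl
          exact (hyx x rfl).symm
      rw [mem_center_iff]
      intro g
      have hg : g ∈ centralizer ({y} : Set X) := this ▸ mem_top g
      exact (hg y rfl).symm
    have e := H3.card_inf_mul_relIndex M (centralizer {x})
    have e1 : Nat.card ↥(M ⊓ centralizer {x}) ≤ p := hZ ▸ card_le_of_le hle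
    have e2 : M.relIndex (centralizer {x}) ≤ p := by
      rw [← hi, ← relIndex_top_right]
      exact relIndex_le_of_le_right le_top (by rw [relIndex_top_right, hi]; exact hp.out.ne_zero)
    rw [← e, sq]
    exact Nat.mul_le_mul e1 e2
  · rw [← h]; exact H9.index_commutator_le_card_centralizer x

theorem transfer_eq {X A : Type*} [Group X] [Finite X] [CommGroup A] (H : Subgroup X) [hn : H.Normal]
    (φ : H →* A) (g : H) (h : ∀ t : X, t ∉ H → φ ⟨t⁻¹ * g * t, hn.conj_mem' _ g.2 t⟩ = 1) :
    MonoidHom.transfer φ (g : X) = φ g := by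
  classical
  let T : H.LeftTransversal := default
  rw [MonoidHom.transfer_def φ T, leftTransversals.diff]
  have key : ∀ q : X ⧸ H, ((((g : X) • T).2.leftQuotientEquiv q : X)) = g * T.2.leftQuotientEquiv q := by
    intro q
    rw [smul_apply_eq_smul_apply_inv_smul, smul_eq_mul]
    have : (g : X)⁻¹ • q = q := by
      obtain ⟨t, rfl⟩ := QuotientGroup.mk_surjective q
      rw [MulAction.Quotient.smul_mk, QuotientGroup.eq, smul_eq_mul]
      have := hn.conj_mem' _ g.2 t
      simpa [mul_assoc] using this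
    rw [this]
  have hq : ∀ q : X ⧸ H, ((T.2.leftQuotientEquiv q : X) : X ⧸ H) = q := fun q =>
    T.2.quotientGroupMk_leftQuotientEquiv q
  rw [Finset.prod_eq_single (1 : X ⧸ H)]
  · have ht : (T.2.leftQuotientEquiv 1 : X) ∈ H := (QuotientGroup.eq_one_iff _).mp (hq 1)
    have : φ g = φ ((⟨_, ht⟩ : H)⁻¹ * g * ⟨_, ht⟩) := by
      rw [map_mul, map_mul, map_inv, mul_comm (φ _)⁻¹, mul_assoc, inv_mul_cancel, mul_one]
    rw [this]
    congr 1
    ext
    simp only [key, coe_mul, coe_inv, mul_assoc]
  · intro q _ hq1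
    have ht : (T.2.leftQuotientEquiv q : X) ∉ H := fun ht =>
      hq1 ((hq q).symm.trans ((QuotientGroup.eq_one_iff _).mpr ht))
    rw [← h _ ht]
    congr 1
    ext
    simp only [key, mul_assoc]
  · simp

theorem lemE {H : Type*} [Group H] [Finite H] {p : ℕ} [hp : Fact p.Prime] (T C : Subgroup H) [T.Normal]
    [C.Normal] (hd : T ⊓ C = ⊥) (hs : T ⊔ C = ⊤) (Q : Sylow p H) (q : H) (hq : q ∈ (Q : Subgroup H)) :
    ∃ t ∈ T, t ∈ (Q : Subgroup H) ∧ t⁻¹ * q ∈ C := by
  let S : Subgroup H := ((Q : Subgroup H).map (QuotientGroup.mk' C)).comap (QuotientGroup.mk' C) ⊓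
    ((Q : Subgroup H).map (QuotientGroup.mk' T)).comap (QuotientGroup.mk' T)
  have hS : IsPGroup p S := by
    rintro ⟨s, hs1, hs2⟩
    obtain ⟨a, ha⟩ := (Q.isPGroup'.map (QuotientGroup.mk' C)) ⟨_, hs1⟩
    obtain ⟨b, hb⟩ := (Q.isPGroup'.map (QuotientGroup.mk' T)) ⟨_, hs2⟩
    have ha' : s ^ p ^ a ∈ C := by
      rw [← QuotientGroup.eq_one_iff]
      exact congrArg Subtype.val ha
    have hb' : s ^ p ^ b ∈ T := by
      rw [← QuotientGroup.eq_one_iff]
      exact congrArg Subtype.val hb
    refine ⟨a + b, Subtype.ext ?_⟩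
    have : s ^ p ^ (a + b) ∈ T ⊓ C := by
      refine ⟨?_, ?_⟩
      · rw [pow_add, mul_comm, pow_mul]; exact T.pow_mem hb' _
      · rw [pow_add, pow_mul]; exact C.pow_mem ha' _
    rw [hd] at this
    simpa using this
  have hQS : (Q : Subgroup H) ≤ S := le_inf (le_comap_map _ _) (le_comap_map _ _)
  have hSQ := Q.is_maximal' hS hQS
  have : q ∈ T ⊔ C := hs ▸ mem_top q
  obtain ⟨t, ht, c, hc, rfl⟩ := mem_sup_of_normal_right.mp this
  refine ⟨t, ht, ?_, by simpa using hc⟩
  rw [← hSQ]
  refine ⟨⟨t * c, hq, ?_⟩, ?_⟩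
  · simp [QuotientGroup.eq, hc]
  · have : QuotientGroup.mk' T t = 1 := (QuotientGroup.eq_one_iff _).mpr ht
    show QuotientGroup.mk' T t ∈ (Q : Subgroup H).map (QuotientGroup.mk' T)
    rw [this]
    exact one_mem _

open scoped Pointwise commutatorElement

theorem comm_eq {G : Type*} [Group G] (P : Subgroup G) : commutator P = (⁅P, P⁆).subgroupOf P := by
  rw [← map_subtype_commutator, subgroupOf, comap_map_eq_self_of_injective P.subtype_injective]

theorem lemSyl {G : Type*} [Group G] [Finite G] {p : ℕ} [hp : Fact p.Prime] (P : Sylow p G) (x : G)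
    (hx : IsPGroup p (zpowers x)) : ∃ g : G, ∃ hy : g * x * g⁻¹ ∈ (P : Subgroup G),
      Nat.card (centralizer ({⟨g * x * g⁻¹, hy⟩} : Set (P : Subgroup G))) =
        p ^ (Nat.card (centralizer ({x} : Set G))).factorization p := by
  have hxC : zpowers x ≤ centralizer ({x} : Set G) := by
    rw [zpowers_le, mem_centralizer_iff]; rintro _ rfl; rfl
  obtain ⟨S, hS, hxS⟩ := H8.exists_isSylowIn_ge hx hxC
  obtain ⟨g, -, hg⟩ := (H8.isSylowIn_top P).exists_conj_le hS.isPGroup le_top
  have hy : g * x * g⁻¹ ∈ (P : Subgroup G) := hg (H8.conj_mem_conj_smul.mpr (hxS (mem_zpowers x)))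
  refine ⟨g, hy, ?_⟩
  have hC : centralizer ({g * x * g⁻¹} : Set G) = MulAut.conj g • centralizer ({x} : Set G) := by
    ext z
    rw [H8.mem_conj_smul, mem_centralizer_singleton_iff, mem_centralizer_singleton_iff]
    constructor
    · intro h
      calc g⁻¹ * z * g * x = g⁻¹ * (z * (g * x * g⁻¹)) * g := by group
        _ = x * (g⁻¹ * z * g) := by rw [h]; group
    · intro h
      calc z * (g * x * g⁻¹) = g * (g⁻¹ * z * g * x) * g⁻¹ := by group
        _ = g * x * g⁻¹ * z := by rw [h]; group
  have h1 : centralizer ({⟨g * x * g⁻¹, hy⟩} : Set (P : Subgroup G)) =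
      (centralizer ({g * x * g⁻¹} : Set G)).subgroupOf P := by
    ext z
    rw [mem_subgroupOf, mem_centralizer_singleton_iff, mem_centralizer_singleton_iff, Subtype.ext_iff]
    rfl
  have hS' := hS.conj_smul g
  rw [← hC] at hS'
  have h2 : centralizer ({g * x * g⁻¹} : Set G) ⊓ P = MulAut.conj g • S :=
    hS'.eq_of_le (P.isPGroup'.to_inf_right) inf_le_left (le_inf hS'.le hg)
  rw [h1, H3.card_subgroupOf, h2, H8.card_conj_smul, hS.card_eq]

theorem lemA {G : Type*} [Group G] [Finite G] {p : ℕ} [hp : Fact p.Prime] (P : Sylow p G)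
    (M : Subgroup G) (hPM : (P : Subgroup G) ≤ normalizer (M : Set G))
    (h : M ⊓ P ≤ ⁅(P : Subgroup G), (P : Subgroup G)⁆) (hc : pPrimeCore p M = ⊥) : IsPGroup p M := by
  let P' := P.subtype hPM
  have hP' : (P' : Subgroup (normalizer (M : Set G))) = (P : Subgroup G).subgroupOf _ := P.coe_subtype hPM
  have hn : HasNormalPComplement p (M.subgroupOf (normalizer (M : Set G))) := by
    apply S0081.result P'
    refine le_trans ?_ (H3.commutator_le_map_frattini P'.isPGroup')
    rw [← map_le_map_iff_of_injective (normalizer (M : Set G)).subtype_injective, map_commutator, hP',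
      subgroupOf_map_subtype, inf_of_le_left hPM]
    refine le_trans ?_ h
    rintro _ ⟨y, ⟨hy1, hy2⟩, rfl⟩
    exact ⟨hy1, hy2⟩
  let e := subgroupOfEquivOfLe (le_normalizer (H := M))
  refine (H1.isPGroup_of_npc_of_core hn ?_).of_equiv e
  rw [← H3.comap_pPrimeCore_equiv e, hc]
  exact (MonoidHom.ker_eq_bot_iff _).mpr e.injective

theorem lemB' {G : Type*} [Group G] [Finite G] {p : ℕ} [hp : Fact p.Prime] (P : Subgroup G)
    (hP : IsPGroup p P) (h : (⁅P, P⁆).relIndex P = p ^ 2) (M : Subgroup G)
    (hPM : P ≤ normalizer (M : Set G)) (hM : ¬ M ⊓ P ≤ ⁅P, P⁆) : ⁅P, P⁆ ≤ M ∧ M.relIndex P ∣ p := by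
  haveI : (M.subgroupOf P).Normal := normal_subgroupOf_of_le_normalizer hPM
  have := lemB hP (by rw [comm_eq]; exact h) (M.subgroupOf P) (by
    intro hle
    apply hM
    rintro y ⟨hy1, hy2⟩
    have := hle (show (⟨y, hy2⟩ : P) ∈ M.subgroupOf P from hy1)
    rw [comm_eq] at this
    exact this)
  refine ⟨?_, this.2⟩
  intro y hy
  have hyP : y ∈ P := commutator_le_self P hy
  have h2 := this.1 (show (⟨y, hyP⟩ : P) ∈ commutator P by rw [comm_eq]; exact hy)
  exact h2

theorem lemC {G : Type*} [Group G] [Finite G] {p : ℕ} [hp : Fact p.Prime] (P : Sylow p G)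
    (h : (⁅(P : Subgroup G), (P : Subgroup G)⁆).relIndex P = p ^ 2)
    (hna : ⁅(P : Subgroup G), (P : Subgroup G)⁆ ≠ ⊥) (N : Subgroup G) [hN : N.Normal]
    (hab : ⁅N ⊓ P, N ⊓ P⁆ = ⊥) (hi : N.relIndex P ∣ p) :
    ∃ x : G, (∃ k : ℕ, orderOf x = p ^ k) ∧
      (Nat.card (Subgroup.centralizer ({x} : Set G))).factorization p = 2 := by
  have hPN : ¬ (P : Subgroup G) ≤ N := by
    intro hle
    rw [inf_of_le_right hle] at hab
    exact hna hab
  have hi' : N.relIndex P = p := by
    rcases (Nat.dvd_prime hp.out).mp hi with h1 | h1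
    · exact absurd (relIndex_eq_one.mp h1) hPN
    · exact h1
  obtain ⟨x, hxP, hxN⟩ := SetLike.not_le_iff_exists.mp hPN
  have hx : IsPGroup p (zpowers x) := P.isPGroup'.to_le (zpowers_le.mpr hxP)
  obtain ⟨g, hy, hc⟩ := lemSyl P x hx
  refine ⟨x, ?_, ?_⟩
  · obtain ⟨k, hk⟩ := IsPGroup.iff_card.mp hx
    exact ⟨k, by rw [← hk, Nat.card_zpowers]⟩
  · have := lemC0 P.isPGroup' (by rw [comm_eq]; exact h) (by
      intro h0
      apply hna
      rw [← map_subtype_commutator, h0, Subgroup.map_bot]) (N.subgroupOf P) (by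
        rw [commutator_eq_bot_iff_le_centralizer] at hab
        refine ⟨⟨fun a b => Subtype.ext (Subtype.ext ?_)⟩⟩
        exact hab ⟨b.2, b.1.2⟩ _ ⟨a.2, a.1.2⟩) hi' ⟨_, hy⟩ (by
        intro h0
        apply hxN
        have := hN.conj_mem' _ (mem_subgroupOf.mp h0) g
        simpa [mul_assoc] using this)
    rw [this] at hc
    exact (Nat.pow_right_injective hp.out.two_le hc).symm

/-- the non-normalized case. -/
theorem lemT {G : Type*} [Group G] [Finite G] {p : ℕ} [hp : Fact p.Prime] (P : Sylow p G)
    (h : (⁅(P : Subgroup G), (P : Subgroup G)⁆).relIndex P = p ^ 2) (N T : Subgroup G) [hN : N.Normal]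
    (hle : ⁅(P : Subgroup G), (P : Subgroup G)⁆ ≤ N) (hi : N.relIndex P ∣ p)
    (hTN : T ≤ N) (hNT : N ≤ normalizer (T : Set G)) (hd : T ⊓ centralizer (T : Set G) = ⊥)
    (hs : N ≤ T ⊔ (centralizer (T : Set G) ⊓ N))
    (hc : ∀ g : G, g ∉ normalizer (T : Set G) → MulAut.conj g • T ≤ centralizer (T : Set G))
    (hP : ¬ (P : Subgroup G) ≤ normalizer (T : Set G)) :
    ⁅N ⊓ P, N ⊓ P⁆ ≤ centralizer (T : Set G) := by
  have hPN : ¬ (P : Subgroup G) ≤ N := fun h => hP (h.trans hNT)
  have hi' : N.relIndex P = p := by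
    rcases (Nat.dvd_prime hp.out).mp hi with h1 | h1
    · exact absurd (relIndex_eq_one.mp h1) hPN
    · exact h1
  let H : Subgroup (P : Subgroup G) := N.subgroupOf P
  let ι : H →* G := (P : Subgroup G).subtype.comp H.subtype
  let K : Subgroup H := (centralizer (T : Set G)).comap ι
  haveI hK : K.Normal := by
    refine ⟨fun n hn g => ?_⟩
    have hg : ι g ∈ normalizer ((centralizer (T : Set G) : Subgroup G) : Set G) :=
      H8.normalizer_le_normalizer_centralizer T (hNT g.2)
    show ι (g * n * g⁻¹) ∈ centralizer (T : Set G)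
    rw [map_mul, map_mul, map_inv]
    exact (mem_normalizer_iff.mp hg _).mp hn
  let φ : H →* Abelianization (H ⧸ K) := Abelianization.of.comp (QuotientGroup.mk' K)
  have hmax : IsCoatom H := H3.isCoatom_of_index_prime (by show (N.relIndex P).Prime; rw [hi']; exact hp.out)
  have hnorm : ∀ t : (P : Subgroup G), t ∉ H → (t : G) ∉ normalizer (T : Set G) := by
    intro t ht htn
    apply hP
    have : (normalizer (T : Set G)).subgroupOf P = ⊤ := by
      apply hmax.2
      refine lt_of_le_of_ne (fun y hy => hNT hy) ?_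
      intro he
      apply ht
      rw [he]; exact htn
    exact subgroupOf_eq_top.mp this
  have htr : ∀ g : H, ι g ∈ T → MonoidHom.transfer φ (g : (P : Subgroup G)) = φ g := by
    intro g hg
    apply transfer_eq
    intro t ht
    have h1 := hc (t : G)⁻¹ (by rw [inv_mem_iff]; exact hnorm t ht)
      (H8.conj_mem_conj_smul.mpr hg)
    have : QuotientGroup.mk' K ⟨t⁻¹ * g * t, Normal.conj_mem' inferInstance _ g.2 t⟩ = 1 := by
      rw [QuotientGroup.mk'_apply, QuotientGroup.eq_one_iff]
      show ι _ ∈ centralizer (T : Set G)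
      simpa [ι] using h1
    show Abelianization.of (QuotientGroup.mk' K _) = 1
    rw [this, map_one]
  -- surjectivity on `H ∩ T`
  have hsurj : ∀ a : Abelianization (H ⧸ K), ∃ g : H, ι g ∈ T ∧ φ g = a := by
    intro a
    obtain ⟨b, rfl⟩ := QuotientGroup.mk_surjective a
    obtain ⟨q, rfl⟩ := QuotientGroup.mk_surjective b
    have hSyl := H8.isSylowIn_inf_normal P N
    haveI : (T.subgroupOf N).Normal := normal_subgroupOf_of_le_normalizer hNT
    haveI : ((centralizer (T : Set G)).subgroupOf N).Normal :=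
      normal_subgroupOf_of_le_normalizer (hNT.trans (H8.normalizer_le_normalizer_centralizer T))
    obtain ⟨t, ht, htQ, htc⟩ := lemE (T.subgroupOf N) ((centralizer (T : Set G)).subgroupOf N)
      (by rw [subgroupOf, subgroupOf, ← comap_inf, hd]; exact (MonoidHom.ker_eq_bot_iff _).mpr N.subtype_injective)
      (by
        apply map_injective N.subtype_injective
        rw [Subgroup.map_sup, subgroupOf_map_subtype, subgroupOf_map_subtype, inf_of_le_left hTN,
          ← MonoidHom.range_eq_map, range_subtype]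
        exact le_antisymm (sup_le hTN inf_le_right) hs) hSyl.toSylow ⟨ι q, q.2⟩ ⟨q.1.2, q.2⟩
    refine ⟨⟨⟨t, htQ.1⟩, t.2⟩, ht, ?_⟩
    have : QuotientGroup.mk' K ⟨⟨t, htQ.1⟩, t.2⟩ = (q : H ⧸ K) := by
      rw [QuotientGroup.mk'_apply, QuotientGroup.eq]
      exact htc
    show Abelianization.of (QuotientGroup.mk' K _) = _
    rw [this]; rfl
  let V : H →* Abelianization (H ⧸ K) := (MonoidHom.transfer φ).comp H.subtype
  have hV : Function.Surjective V := by
    intro a
    obtain ⟨g, hg, rfl⟩ := hsurj a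
    exact ⟨g, htr g hg⟩
  have hcH : commutator (P : Subgroup G) ≤ H := by
    rw [comm_eq]; exact fun y hy => hle hy
  have hker : (commutator (P : Subgroup G)).subgroupOf H ≤ V.ker := by
    intro y hy
    exact Abelianization.commutator_subset_ker (MonoidHom.transfer φ) hy
  have hidx : (commutator (P : Subgroup G)).relIndex H = p := by
    have e := relIndex_mul_index hcH
    have e1 : H.index = p := hi'
    have e2 : (commutator (P : Subgroup G)).index = p ^ 2 := by rw [comm_eq]; exact h
    rw [e1, e2, sq] at e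
    exact Nat.eq_of_mul_eq_mul_right hp.out.pos e
  have hcard : (commutator (H ⧸ K)).index ∣ p := by
    have e1 : V.ker.index = Nat.card (Abelianization (H ⧸ K)) := by
      rw [index_ker, MonoidHom.range_eq_top.mpr hV, card_top]
    have e2 : (commutator (H ⧸ K)).index = Nat.card (Abelianization (H ⧸ K)) := rfl
    rw [e2, ← e1]
    exact (index_dvd_of_le hker).trans (dvd_of_eq hidx)
  have hbot := comm_bot ((P.isPGroup'.to_subgroup H).to_quotient K) hcard
  rw [commutator_le]
  rintro a ⟨ha1, ha2⟩ b ⟨hb1, hb2⟩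
  have : ⁅QuotientGroup.mk' K ⟨⟨a, ha2⟩, ha1⟩, QuotientGroup.mk' K ⟨⟨b, hb2⟩, hb1⟩⁆ ∈ commutator (H ⧸ K) :=
    commutator_mem_commutator (mem_top _) (mem_top _)
  rw [hbot, mem_bot, ← map_commutatorElement, QuotientGroup.mk'_apply, QuotientGroup.eq_one_iff] at this
  exact this

structure MinN {G : Type*} [Group G] (N T : Subgroup G) : Prop where
  le : T ≤ N
  norm : N ≤ normalizer (T : Set G)
  ne : T ≠ ⊥
  min : ∀ K ≤ T, N ≤ normalizer (K : Set G) → K = ⊥ ∨ K = T

theorem exists_minN {G : Type*} [Group G] [Finite G] (N : Subgroup G) (hN : N ≠ ⊥) : ∃ T, MinN N T := by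
  obtain ⟨T, -, hT⟩ := exists_minimal_le_of_wellFoundedLT
    (fun T : Subgroup G => T ≤ N ∧ N ≤ normalizer (T : Set G) ∧ T ≠ ⊥) N ⟨le_rfl, le_normalizer, hN⟩
  refine ⟨T, hT.1.1, hT.1.2.1, hT.1.2.2, fun K hK hn => ?_⟩
  by_cases h : K = ⊥
  · exact Or.inl h
  · exact Or.inr (le_antisymm hK (hT.2 ⟨hK.trans hT.1.1, hn, h⟩ hK))

theorem MinN.conj {G : Type*} [Group G] {N T : Subgroup G} [hN : N.Normal] (h : MinN N T) (g : G) :
    MinN N (MulAut.conj g • T) := by
  have hNg : ∀ g : G, MulAut.conj g • N = N := fun g => Normal.conj_smul_eq_self g N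
  refine ⟨?_, ?_, ?_, ?_⟩
  · rw [← hNg g]; exact pointwise_smul_le_pointwise_smul_iff.mpr h.le
  · rw [H8.normalizer_conj_smul, ← hNg g]; exact pointwise_smul_le_pointwise_smul_iff.mpr h.norm
  · intro h0
    apply h.ne
    rw [← H8.conj_inv_smul_conj_smul T g, h0, smul_bot]
  · intro K hK hn
    rcases h.min (MulAut.conj g⁻¹ • K) (by
      rw [← H8.conj_inv_smul_conj_smul T g]; exact pointwise_smul_le_pointwise_smul_iff.mpr hK) (by
      rw [H8.normalizer_conj_smul, ← hNg g⁻¹]; exact pointwise_smul_le_pointwise_smul_iff.mpr hn) with h1 | h1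
    · left; rw [← H8.conj_smul_conj_inv_smul K g, h1, smul_bot]
    · right; rw [← h1, H8.conj_smul_conj_inv_smul]

theorem MinN.cent {G : Type*} [Group G] {N T T' : Subgroup G} (h : MinN N T) (h' : MinN N T')
    (hne : T' ≠ T) : T' ≤ centralizer (T : Set G) := by
  have hd : T ⊓ T' = ⊥ := by
    rcases h.min (T ⊓ T') inf_le_left ((le_inf h.norm h'.norm).trans inf_normalizer_le_normalizer_inf)
      with h1 | h1
    · exact h1
    · rcases h'.min T (inf_eq_left.mp h1) h.norm with h2 | h2
      · exact absurd h2 h.ne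
      · exact absurd h2.symm hne
  intro b hb
  rw [mem_centralizer_iff]
  intro a ha
  have : a * b * a⁻¹ * b⁻¹ ∈ T ⊓ T' := by
    refine ⟨?_, ?_⟩
    · have := (mem_normalizer_iff.mp (h.norm (h'.le hb)) a⁻¹).mp (T.inv_mem ha)
      have := T.mul_mem ha this
      simpa [mul_assoc] using this
    · exact T'.mul_mem ((mem_normalizer_iff.mp (h'.norm (h.le ha)) b).mp hb) (T'.inv_mem hb)
  rw [hd, mem_bot] at this
  calc a * b = a * b * a⁻¹ * b⁻¹ * (b * a) := by group
    _ = b * a := by rw [this, one_mul]

theorem main {G : Type*} [Group G] [Finite G] (p : ℕ) [hp : Fact p.Prime] (P : Sylow p G)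
    (hcore : Cfsg.pPrimeCore p G = ⊥)
    (hcore' : (⁅(P : Subgroup G), (P : Subgroup G)⁆).normalCore = ⊥)
    (hnas : ¬ ∃ S : Subgroup G, S.Normal ∧ IsSimpleGroup S ∧ ¬ IsMulCommutative S ∧
      Subgroup.centralizer (S : Set G) = ⊥)
    (h : (⁅(P : Subgroup G), (P : Subgroup G)⁆).relIndex (P : Subgroup G) = p ^ 2)
    (hna : ⁅(P : Subgroup G), (P : Subgroup G)⁆ ≠ ⊥) :
    ∃ N : Subgroup G, N.Normal ∧ ⁅N ⊓ P, N ⊓ P⁆ = ⊥ ∧ N.relIndex P ∣ p := by
  haveI : Nontrivial G := by
    by_contra hnt
    rw [not_nontrivial_iff_subsingleton] at hnt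
    exact hna (Subsingleton.elim _ _)
  obtain ⟨N, hN, hN0, hmin⟩ := H3.exists_minimal_normal G
  refine ⟨N, hN, ?_⟩
  have hNP' : ¬ N ≤ ⁅(P : Subgroup G), (P : Subgroup G)⁆ := by
    intro hle
    apply hN0
    rw [eq_bot_iff, ← hcore']
    exact normal_le_normalCore.mpr hle
  by_cases hNp : IsPGroup p N
  · have hNP : N ≤ P := (H3.le_pCore hNp).trans (H3.pCore_le_sylow P)
    refine ⟨?_, (lemB' _ P.isPGroup' h N le_normalizer_of_normal (by rwa [inf_of_le_left hNP])).2⟩
    rw [inf_of_le_left hNP]
    rcases hmin ⁅N, N⁆ inferInstance (commutator_le_self N) with h1 | h1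
    · exact h1
    · exact absurd (h1.ge.trans (commutator_mono hNP hNP)) hNP'
  have hNc : N ⊓ pCore p G = ⊥ := by
    rcases hmin (N ⊓ pCore p G) inferInstance inf_le_left with h1 | h1
    · exact h1
    · exact absurd ((H3.pCore_isPGroup p G).to_le (inf_eq_left.mp h1)) hNp
  have hsub : ∀ M ≤ N, N ≤ normalizer (M : Set G) → M.IsSubnormal := fun M hM hn =>
    IsSubnormal.step M N hM hN.isSubnormal (normal_subgroupOf_of_le_normalizer hn)
  have K1 : ∀ M ≤ N, N ≤ normalizer (M : Set G) → M ≠ ⊥ → (P : Subgroup G) ≤ normalizer (M : Set G) →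
      ⁅(P : Subgroup G), (P : Subgroup G)⁆ ≤ M ∧ M.relIndex P ∣ p := by
    intro M hM hn hM0 hPM
    apply lemB' _ P.isPGroup' h M hPM
    intro hle
    apply hM0
    have hs := hsub M hM hn
    have hc : pPrimeCore p M = ⊥ := by
      have := H3.map_pPrimeCore_le_pPrimeCore_of_isSubnormal (p := p) hs
      rw [hcore, le_bot_iff] at this
      exact (Subgroup.map_eq_bot_iff_of_injective _ M.subtype_injective).mp this
    rw [eq_bot_iff, ← hNc]
    exact le_inf hM (H3.le_pCore_of_isSubnormal hs (lemA P M hPM hle hc))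
  have K2 : ∀ T, MinN N T → T ⊓ centralizer (T : Set G) = ⊥ := by
    intro T hT
    rcases hT.min (T ⊓ centralizer (T : Set G)) inf_le_left
      ((le_inf hT.norm (hT.norm.trans (H8.normalizer_le_normalizer_centralizer T))).trans
        inf_normalizer_le_normalizer_inf) with h1 | h1
    · exact h1
    · exfalso
      have hTC : T ≤ centralizer (T : Set G) := inf_eq_left.mp h1
      have hcard : Nat.card T ≠ 1 := fun h0 => hT.ne (card_eq_one.mp h0)
      obtain ⟨r, hr, hrd⟩ := Nat.exists_prime_and_dvd hcard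
      haveI := Fact.mk hr
      obtain ⟨y, hy⟩ := exists_prime_orderOf_dvd_card' r hrd
      have hy' : orderOf (y : G) = r := by rw [orderOf_coe, hy]
      have hyT : zpowers (y : G) ≤ T := zpowers_le.mpr y.2
      have hs : (zpowers (y : G)).IsSubnormal := by
        refine IsSubnormal.step _ T hyT (hsub T hT.le hT.norm) (normal_subgroupOf_of_le_normalizer ?_)
        exact (hTC.trans (centralizer_le hyT)).trans (centralizer_le_normalizer _)
      have hy1 : zpowers (y : G) ≠ ⊥ := by
        rw [Ne, zpowers_eq_bot]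
        intro h0
        rw [h0, orderOf_one] at hy'
        exact hr.one_lt.ne hy'
      apply hy1
      by_cases hrp : r = p
      · rw [eq_bot_iff, ← hNc]
        refine le_inf (hyT.trans hT.le) (H3.le_pCore_of_isSubnormal hs ?_)
        exact IsPGroup.of_card (n := 1) (by rw [Nat.card_zpowers, hy', hrp, pow_one])
      · rw [eq_bot_iff, ← hcore]
        refine H3.le_pPrimeCore_of_isSubnormal hs ?_
        rw [Nat.card_zpowers, hy']
        exact (Nat.coprime_primes hr hp.out).mpr hrp
  obtain ⟨hP'N, hi⟩ := K1 N le_rfl le_normalizer hN0 le_normalizer_of_normal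
  refine ⟨?_, hi⟩
  obtain ⟨T, hT⟩ := exists_minN N hN0
  by_cases hTN : T = N
  · exfalso
    subst hTN
    have hd := K2 T hT
    have hC : centralizer (T : Set G) ≠ ⊥ := by
      intro hC
      apply hnas
      refine ⟨T, hN, ?_, ?_, hC⟩
      · haveI : Nontrivial T := (nontrivial_iff_ne_bot T).mpr hN0
        refine ⟨fun K hK => ?_⟩
        rcases hT.min (K.map T.subtype) (map_subtype_le K) (by
          have := le_normalizer_map (H := K) T.subtype
          rwa [normalizer_eq_top, ← MonoidHom.range_eq_map, range_subtype] at this) with h1 | h1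
        · exact Or.inl ((Subgroup.map_eq_bot_iff_of_injective _ T.subtype_injective).mp h1)
        · right
          apply map_injective T.subtype_injective
          rw [h1, ← MonoidHom.range_eq_map, range_subtype]
      · intro hc
        apply hN0
        rw [← hd, left_eq_inf]
        exact le_centralizer T
    have hCP : centralizer (T : Set G) ⊓ P ≠ ⊥ := by
      intro h0
      apply hC
      have hS := H8.isSylowIn_inf_normal P (centralizer (T : Set G))
      rw [inf_comm, h0] at hS
      rw [eq_bot_iff, ← hcore]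
      apply H3.le_pPrimeCore
      have := hS.card_eq
      rw [card_bot] at this
      have h2 : (Nat.card (centralizer (T : Set G))).factorization p = 0 :=
        (Nat.pow_eq_one.mp this.symm).resolve_left hp.out.one_lt.ne'
      rw [Nat.coprime_comm, hp.out.coprime_iff_not_dvd]
      intro hdv
      exact (hp.out.factorization_pos_of_dvd Nat.card_pos.ne' hdv).ne' h2
    have := (lemB' _ P.isPGroup' h (centralizer (T : Set G)) le_normalizer_of_normal (by
      intro hle
      apply hCP
      rw [eq_bot_iff, ← hd]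
      exact le_inf (hle.trans hP'N) inf_le_left)).1
    apply hna
    rw [eq_bot_iff, ← hd]
    exact le_inf hP'N this
  have hcl : ∀ T, MinN N T → N = normalClosure (T : Set G) := by
    intro T hT
    rcases hmin (normalClosure (T : Set G)) inferInstance (normalClosure_le_normal hT.le) with h1 | h1
    · exact absurd (le_bot_iff.mp (h1 ▸ le_normalClosure)) hT.ne
    · exact h1.symm
  have K3 : ∀ T, MinN N T → T ≠ N → ⁅N ⊓ P, N ⊓ P⁆ ≤ centralizer (T : Set G) := by
    intro T hT hTN
    have hc : ∀ g : G, g ∉ normalizer (T : Set G) → MulAut.conj g • T ≤ centralizer (T : Set G) :=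
      fun g hg => hT.cent (hT.conj g) (fun h0 => hg (H8.mem_normalizer_iff_conj_smul_eq.mpr h0))
    have hs : N ≤ T ⊔ (centralizer (T : Set G) ⊓ N) := by
      conv_lhs => rw [hcl T hT]
      rw [normalClosure, closure_le]
      intro y hy
      obtain ⟨t, ht, hty⟩ := Group.mem_conjugatesOfSet_iff.mp hy
      obtain ⟨g, rfl⟩ := isConj_iff.mp hty
      by_cases hg : g ∈ normalizer (T : Set G)
      · exact mem_sup_left ((mem_normalizer_iff.mp hg t).mp ht)
      · exact mem_sup_right ⟨hc g hg (H8.conj_mem_conj_smul.mpr ht), hN.conj_mem _ (hT.le ht) g⟩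
    by_cases hPT : (P : Subgroup G) ≤ normalizer (T : Set G)
    · exfalso
      have h1 := (K1 T hT.le hT.norm hT.ne hPT).1
      have h2 := (K1 (centralizer (T : Set G) ⊓ N) inf_le_right
        ((le_inf (hT.norm.trans (H8.normalizer_le_normalizer_centralizer T)) le_normalizer).trans
          inf_normalizer_le_normalizer_inf) (by
          intro h0
          rw [h0, sup_bot_eq] at hs
          exact hTN (le_antisymm hT.le hs))
        ((le_inf (hPT.trans (H8.normalizer_le_normalizer_centralizer T)) le_normalizer_of_normal).trans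
          inf_normalizer_le_normalizer_inf)).1
      apply hna
      rw [eq_bot_iff, ← K2 T hT]
      exact le_inf h1 (h2.trans inf_le_left)
    · exact lemT P h N T hP'N hi hT.le hT.norm (K2 T hT) hs hc hPT
  have hZ : N ⊓ centralizer (N : Set G) = ⊥ := by
    rcases hmin (N ⊓ centralizer (N : Set G)) inferInstance inf_le_left with h1 | h1
    · exact h1
    · exfalso
      apply hT.ne
      rw [← K2 T hT, left_eq_inf]
      exact hT.le.trans ((inf_eq_left.mp h1).trans (centralizer_le hT.le))
  rw [eq_bot_iff, ← hZ]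
  refine le_inf ((commutator_le_self _).trans inf_le_left) ?_
  rw [le_centralizer_iff]
  conv_lhs => rw [hcl T hT]
  rw [normalClosure, closure_le]
  intro y hy
  obtain ⟨t, ht, hty⟩ := Group.mem_conjugatesOfSet_iff.mp hy
  obtain ⟨g, rfl⟩ := isConj_iff.mp hty
  have := K3 _ (hT.conj g) (by
    intro h0
    apply hTN
    rw [← H8.conj_inv_smul_conj_smul T g, h0, Normal.conj_smul_eq_self])
  rw [le_centralizer_iff] at this
  exact this (H8.conj_mem_conj_smul.mpr ht)

end

/-- Let G be a finite group, p a prime and P a Sylow p-subgroup of order at least p². Assume that G has no nontrivial normal subgroup of order prime to p, that the derived subgroup P' of P contains no nontrivial normal subgroup of G, and that G is not almost simple (there is no non-abelian simple normal subgroup of G with trivial centralizer). Then [P : P'] = p² if and only if some p-element x of G has centralizer whose order has p-part exactly p². -/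
theorem result {G : Type*} [Group G] [Finite G] (p : ℕ) [Fact p.Prime] (P : Sylow p G) (hbig : p ^ 2 ∣ Nat.card G) (hcore : Cfsg.pPrimeCore p G = ⊥)
    (hcore' : (⁅(P : Subgroup G), (P : Subgroup G)⁆).normalCore = ⊥) (hnas : ¬ ∃ S : Subgroup G, S.Normal ∧ IsSimpleGroup S ∧ ¬ IsMulCommutative S ∧ Subgroup.centralizer (S : Set G) = ⊥) :
    (⁅(P : Subgroup G), (P : Subgroup G)⁆).relIndex (P : Subgroup G) = p ^ 2 ↔
      ∃ x : G, (∃ k : ℕ, orderOf x = p ^ k) ∧ (Nat.card (Subgroup.centralizer ({x} : Set G))).factorization p = 2 := by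
  have hp : p.Prime := Fact.out
  have hP : Nat.card (P : Subgroup G) = p ^ (Nat.card G).factorization p := P.card_eq_multiplicity
  constructor
  · intro h
    by_cases hna : ⁅(P : Subgroup G), (P : Subgroup G)⁆ = ⊥
    · refine ⟨1, ⟨0, by simp⟩, ?_⟩
      have : Subgroup.centralizer ({1} : Set G) = ⊤ := by
        rw [eq_top_iff]; intro y _; rw [Subgroup.mem_centralizer_singleton_iff]; simp
      rw [this, Subgroup.card_top]
      rw [hna, Subgroup.relIndex_bot_left, hP] at h
      exact Nat.pow_right_injective hp.two_le h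
    · obtain ⟨N, hN, h1, h2⟩ := main p P hcore hcore' hnas h hna
      exact lemC P h hna N h1 h2
  · rintro ⟨x, ⟨k, hk⟩, hx⟩
    obtain ⟨g, hy, hc⟩ := lemSyl P x (IsPGroup.of_card (n := k) (by rw [Nat.card_zpowers, hk]))
    have h1 := H9.index_commutator_le_card_centralizer (⟨_, hy⟩ : (P : Subgroup G))
    rw [hc, hx] at h1
    obtain ⟨n, hn⟩ := P.isPGroup'.index (commutator (P : Subgroup G))
    have h2 : n ≤ 2 := by
      rw [hn] at h1
      exact (Nat.pow_le_pow_iff_right hp.one_lt).mp h1
    have h3 : ¬ n ≤ 1 := by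
      intro h3
      have hd : (commutator (P : Subgroup G)).index ∣ p := by
        rw [hn]; exact (pow_dvd_pow p h3).trans (by simp)
      have h0 := comm_bot P.isPGroup' hd
      rw [h0, Subgroup.index_bot, hP] at hn
      have h4 := Nat.pow_right_injective hp.two_le hn
      have h5 := (hp.pow_dvd_iff_le_factorization Nat.card_pos.ne').mp hbig
      omega
    have : n = 2 := by omega
    subst this
    rw [comm_eq] at hn
    exact hn

end Cfsg.Agent.S4587
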