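import Cfsg.Statements.S4843
import Mathlib
import Cfsg.Agent.H11.Kernel
import Cfsg.Agent.H3.Fitting
import Cfsg.Agent.H12.Galois

set_option autoImplicit false
open Cfsg

namespace Cfsg.Agent.S4843


open Cfsg.Agent.H11
open scoped ComplexConjugate commutatorElement

theorem sum_conj_mul {G Γ : Type*} [Group G] [Fintype G] [Group Γ] {Θ : Γ → ℂ}
    (hΘ : IsCharacter Γ Θ) (f : G →* Γ) (hirr : IsIrrCharacter G (fun g => Θ (f g))) (x y : Γ) :
    Θ 1 * ∑ g : G, Θ (f g * x * (f g)⁻¹ * y) = Nat.card G * (Θ x * Θ y) := by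
  obtain ⟨n, ρ, rfl⟩ := hΘ
  let σ : Representation ℂ G (Fin n → ℂ) := ρ.comp f
  haveI : σ.IsIrreducible := (isIrreducible_iff_isIrrCharacter σ).2 hirr
  set T : (Fin n → ℂ) →ₗ[ℂ] (Fin n → ℂ) := ∑ g : G, ρ (f g * x * (f g)⁻¹) with hT
  have hcomm : ∀ h, T * σ h = σ h * T := by
    intro h
    simp only [hT, Finset.sum_mul, Finset.mul_sum]
    refine (Fintype.sum_equiv (Equiv.mulLeft h) _ _ fun g => ?_).symm
    change ρ (f h) * ρ _ = ρ _ * ρ (f h)
    rw [← map_mul, ← map_mul]
    congr 1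
    simp only [Equiv.coe_mulLeft, map_mul]
    group
  obtain ⟨c, hc⟩ := exists_eq_smul_id_of_commute σ T hcomm
  have h1 : ∀ y, ∑ g : G, ρ.character (f g * x * (f g)⁻¹ * y) = c * ρ.character y := by
    intro y
    have : LinearMap.trace ℂ _ (T * ρ y) = c * ρ.character y := by
      rw [hc, smul_mul_assoc, map_smul]
      rfl
    rw [← this, hT, Finset.sum_mul, map_sum]
    refine Finset.sum_congr rfl fun g _ => ?_
    rw [← map_mul]; rfl
  have h2 : c * ρ.character 1 = Nat.card G * ρ.character x := by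
    rw [← h1 1]
    simp only [mul_one]
    rw [Finset.sum_congr rfl fun g _ => ρ.char_conj x (f g)]
    simp
  rw [h1 y]
  linear_combination ρ.character y * h2

/-- Let G be a finite group with a faithful irreducible character χ (taking the value χ(1) only at the identity) and let k be prime to the order of G, so that g ↦ χ(g^k) is a Galois conjugate of χ. If the pointwise product g ↦ χ(g)·χ(g^k) is again an irreducible character, then the Fitting subgroup of G equals its centre. -/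
theorem result {G : Type*} [Group G] [Finite G] (χ : Cfsg.IrrCharacter G) (hfaith : ∀ g : G, (χ : G → ℂ) g = (χ : G → ℂ) 1 → g = 1) (k : ℕ) (hk : Nat.Coprime k (Nat.card G)) (hirr : Cfsg.IsIrrCharacter G (fun g => (χ : G → ℂ) g * (χ : G → ℂ) (g ^ k))) : Cfsg.fittingSubgroup G = Subgroup.center G := by
  classical
  letI := Fintype.ofFinite G
  have hχ := irr_isCharacter χ
  have hcl := isClassFunction_of_isCharacter hχ
  have hd : (χ : G → ℂ) 1 ≠ 0 := irr_apply_one_ne_zero χ.2
  have hG := card_ne_zero G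
  have hψ : IsCharacter G (fun g => (χ : G → ℂ) (g ^ k)) := H12.isCharacter_comp_pow hχ hk
  have hΘ : IsCharacter (G × G) (fun x => (χ : G → ℂ) x.1 * (χ : G → ℂ) (x.2 ^ k)) :=
    isCharacter_mul (isCharacter_comp hχ (MonoidHom.fst G G)) (isCharacter_comp hψ (MonoidHom.snd G G))
  -- the key identity
  have key : ∀ n : G, ∃ j : ℕ, (n⁻¹ ^ j) ^ k = n⁻¹ ∧ (χ : G → ℂ) 1 ^ 2 *
      ∑ g : G, (χ : G → ℂ) (g * n * g⁻¹ * n⁻¹) *
        (χ : G → ℂ) ((g * n⁻¹ ^ j * g⁻¹ * (n⁻¹ ^ j)⁻¹) ^ k) =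
      Nat.card G * ((χ : G → ℂ) n * (χ : G → ℂ) n⁻¹) ^ 2 := by
    intro n
    obtain ⟨j, hj⟩ := exists_pow_eq_self_of_coprime (x := n⁻¹)
      (Nat.Coprime.coprime_dvd_right (orderOf_dvd_natCard _) hk)
    have hj' : (n⁻¹ ^ j) ^ k = n⁻¹ := by rw [← pow_mul, mul_comm, pow_mul, hj]
    refine ⟨j, hj', ?_⟩
    have h := sum_conj_mul hΘ ((MonoidHom.id G).prod (MonoidHom.id G)) hirr (n, n⁻¹ ^ j)
      (n⁻¹, (n⁻¹ ^ j)⁻¹)
    simp only [Prod.fst_one, Prod.snd_one, one_pow, MonoidHom.prod_apply, MonoidHom.id_apply,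
      Prod.mk_mul_mk, Prod.inv_mk] at h
    rw [inv_pow (n⁻¹ ^ j), hj', inv_inv] at h
    linear_combination h
  have hterm : ∀ (n g : G) (j : ℕ), (n⁻¹ ^ j) ^ k = n⁻¹ → Commute (g * n * g⁻¹) n →
      (χ : G → ℂ) ((g * n⁻¹ ^ j * g⁻¹ * (n⁻¹ ^ j)⁻¹) ^ k) =
        conj ((χ : G → ℂ) (g * n * g⁻¹ * n⁻¹)) := by
    intro n g j hj hc
    rw [conj_apply hχ]
    refine congrArg (χ : G → ℂ) ?_
    have h1 : g * n⁻¹ ^ j * g⁻¹ = (g * n * g⁻¹)⁻¹ ^ j := by
      rw [← conj_pow]; congr 1; group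
    have h2 : Commute (g * n⁻¹ ^ j * g⁻¹) (n⁻¹ ^ j)⁻¹ := by
      rw [h1]; exact (hc.inv_inv.pow_pow j j).inv_right
    rw [h2.mul_pow, conj_pow, inv_pow (n⁻¹ ^ j), hj, inv_inv]
    calc g * n⁻¹ * g⁻¹ * n = (g * n * g⁻¹)⁻¹ * n := by group
      _ = n * (g * n * g⁻¹)⁻¹ := hc.inv_left.eq
      _ = _ := by group
  have hA : ∀ n : G, (∀ g, Commute (g * n * g⁻¹) n) → n ∈ Subgroup.center G := by
    intro n hn
    obtain ⟨j, hj, h⟩ := key n
    simp only [hterm n _ j hj (hn _)] at h
    have h1 := sum_conj_mul hχ (MonoidHom.id G) χ.2 n n⁻¹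
    simp only [MonoidHom.id_apply] at h1
    set w : G → ℂ := fun g => (χ : G → ℂ) (g * n * g⁻¹ * n⁻¹) with hw
    set r : ℂ := (χ : G → ℂ) n * (χ : G → ℂ) n⁻¹ / (χ : G → ℂ) 1 with hr
    have hr1 : ∑ g, w g = Nat.card G * r := by
      rw [hr]; field_simp; linear_combination h1
    have hr2 : ∑ g, w g * conj (w g) = Nat.card G * r ^ 2 := by
      rw [hr]; field_simp; linear_combination h
    have hrc : conj r = r := by
      rw [hr, map_div₀, map_mul, conj_apply hχ, conj_apply hχ, conj_apply hχ, inv_inv, inv_one,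
        mul_comm]
    have hr3 : ∑ g, conj (w g) = Nat.card G * r := by
      rw [← map_sum, hr1, map_mul, hrc, map_natCast]
    have h0 : ∑ g, (w g - r) * conj (w g - r) = 0 := by
      simp only [map_sub, hrc, mul_sub, sub_mul, Finset.sum_sub_distrib, ← Finset.sum_mul,
        ← Finset.mul_sum, hr1, hr2, hr3, Finset.sum_const, Finset.card_univ, nsmul_eq_mul,
        ← Nat.card_eq_fintype_card]
      ring
    have h0' : ∑ g, Complex.normSq (w g - r) = 0 := by
      simp only [Complex.mul_conj] at h0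
      exact_mod_cast h0
    have hall : ∀ g, w g = r := fun g => sub_eq_zero.1 (Complex.normSq_eq_zero.1
      ((Finset.sum_eq_zero_iff_of_nonneg fun g _ => Complex.normSq_nonneg _).1 h0' g
        (Finset.mem_univ _)))
    have hr1' : r = (χ : G → ℂ) 1 := by rw [← hall 1]; simp [hw]
    rw [Subgroup.mem_center_iff]
    intro g
    have h2 := hfaith _ ((hall g).trans hr1')
    calc g * n = g * n * g⁻¹ * n⁻¹ * (n * g) := by group
      _ = n * g := by rw [h2, one_mul]
  have hker : charKer (χ : G → ℂ) = ⊥ := by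
    rw [eq_bot_iff]; intro g hg; exact hfaith g (apply_eq_of_mem_charKer hg)
  have hB : ∀ N : Subgroup G, N.Normal → ⁅N, N⁆ ≤ Subgroup.center G → N ≤ Subgroup.center G := by
    intro N hN hNN
    have hvan : ∀ x ∈ N, x ∉ Subgroup.center G → (χ : G → ℂ) x = 0 := by
      intro x hx hxz
      obtain ⟨y, hy, hxy⟩ : ∃ y ∈ N, ¬ Commute y x := by
        by_contra hc
        push Not at hc
        exact hxz (hA x fun g => hc _ (hN.conj_mem x hx g))
      have hz : ⁅y, x⁆ ∈ Subgroup.center G := hNN (Subgroup.commutator_mem_commutator hy hx)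
      have h1 := apply_mul_of_mem_charCenter hd (center_le_charCenter χ.2 hz) x
      have h2 : ⁅y, x⁆ * x = y * x * y⁻¹ := by rw [commutatorElement_def]; group
      rw [h2, hcl] at h1
      by_contra hne
      have h3 : (χ : G → ℂ) ⁅y, x⁆ = (χ : G → ℂ) 1 := by
        field_simp at h1
        exact h1.symm
      exact hxy (commutatorElement_eq_one_iff_commute.1 (hfaith _ h3))
    intro n hn
    by_contra hnz
    obtain ⟨j, hj, h⟩ := key n
    rw [hvan n hn hnz] at h
    have h1 : ∑ g : G, (χ : G → ℂ) (g * n * g⁻¹ * n⁻¹) *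
        (χ : G → ℂ) ((g * n⁻¹ ^ j * g⁻¹ * (n⁻¹ ^ j)⁻¹) ^ k) =
        ∑ g : G, ((Complex.normSq ((χ : G → ℂ) (g * n * g⁻¹ * n⁻¹)) : ℝ) : ℂ) := by
      refine Finset.sum_congr rfl fun g _ => ?_
      by_cases hz : g * n * g⁻¹ * n⁻¹ ∈ Subgroup.center G
      · rw [hterm n g j hj, Complex.mul_conj]
        have h2 : g * n * g⁻¹ = (g * n * g⁻¹ * n⁻¹) * n := by group
        rw [h2]
        exact Commute.mul_left (Subgroup.mem_center_iff.1 hz n).symm (Commute.refl n)
      · rw [hvan _ (N.mul_mem (hN.conj_mem n hn g) (N.inv_mem hn)) hz]; simp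
    rw [h1] at h
    have h2 : ∑ g : G, Complex.normSq ((χ : G → ℂ) (g * n * g⁻¹ * n⁻¹)) = 0 := by
      have h3 : (χ : G → ℂ) 1 ^ 2 *
        ∑ g : G, ((Complex.normSq ((χ : G → ℂ) (g * n * g⁻¹ * n⁻¹)) : ℝ) : ℂ) = 0 := by
        rw [h]; simp
      rcases mul_eq_zero.1 h3 with h4 | h4
      · exact absurd (pow_eq_zero_iff two_ne_zero |>.1 h4) hd
      · exact_mod_cast h4
    have h5 := (Finset.sum_eq_zero_iff_of_nonneg fun g _ => Complex.normSq_nonneg _).1 h2 1
      (Finset.mem_univ _)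
    simp only [one_mul, inv_one, mul_one, mul_inv_cancel, Complex.normSq_eq_zero] at h5
    exact hd h5
  haveI := H3.fitting_normal G
  apply le_antisymm
  · obtain ⟨m, hm⟩ := (Subgroup.isNilpotent_iff_lowerCentralSeries _).1 (H3.fitting_isNilpotent G)
    have hnorm : ∀ i, ((fittingSubgroup G).lowerCentralSeries i).Normal := by
      intro i
      induction i with
      | zero => simpa
      | succ i ih => rw [Subgroup.lowerCentralSeries_succ]; infer_instance
    have hstep : ∀ i, (fittingSubgroup G).lowerCentralSeries i ≤ Subgroup.center G →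
        fittingSubgroup G ≤ Subgroup.center G := by
      intro i
      induction i with
      | zero => simp
      | succ i ih =>
        intro h
        refine ih (hB _ (hnorm i) (le_trans ?_ h))
        rw [Subgroup.lowerCentralSeries_succ]
        exact Subgroup.commutator_mono le_rfl
          ((fittingSubgroup G).lowerCentralSeries_antitone (Nat.zero_le i))
    exact hstep m (by rw [hm]; exact bot_le)
  · exact H3.le_fitting H3.isNilpotent_of_isMulCommutative

end Cfsg.Agent.S4843
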