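import Cfsg.Statements.S4756
import Mathlib
import Cfsg.Agent.S4843
import Cfsg.Agent.H4.CoprimeGen

set_option autoImplicit false
open Cfsg

namespace Cfsg.Agent.S4756


open Cfsg.Agent.H11
open scoped ComplexConjugate commutatorElement

variable {G : Type*} [Group G] [Finite G]

/-- fixed-point-free elements: every element of `D` is a commutator -/
theorem exists_comm (D : Subgroup G) [hD : D.Normal] {h : G}
    (hf : ∀ d ∈ D, h * d = d * h → d = 1) {e : G} (he : e ∈ D) :
    ∃ d ∈ D, e = h⁻¹ * d * h * d⁻¹ := by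
  let f : D → D := fun d => ⟨h⁻¹ * d * h * d⁻¹, D.mul_mem (by simpa using hD.conj_mem _ d.2 h⁻¹)
    (D.inv_mem d.2)⟩
  have hinj : Function.Injective f := by
    intro a b hab
    have h1 : h⁻¹ * a * h * (a : G)⁻¹ = h⁻¹ * b * h * (b : G)⁻¹ := congrArg Subtype.val hab
    have h2 := hf ((b : G)⁻¹ * a) (D.mul_mem (D.inv_mem b.2) a.2) (by
      have h3 : (a : G) * h * (a : G)⁻¹ = b * h * (b : G)⁻¹ := by
        have := congrArg (h * ·) h1
        simpa [mul_assoc] using this
      calc h * ((b : G)⁻¹ * a) = (b : G)⁻¹ * (b * h * (b : G)⁻¹) * a := by group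
        _ = (b : G)⁻¹ * (a * h * (a : G)⁻¹) * a := by rw [h3]
        _ = _ := by group)
    exact Subtype.ext (inv_mul_eq_one.1 h2).symm
  obtain ⟨d, hd⟩ := Finite.surjective_of_injective hinj ⟨e, he⟩
  exact ⟨d, d.2, (congrArg Subtype.val hd).symm⟩

theorem eq_one_of_coprime {x : G} {m n : ℕ} (h : m.Coprime n) (h1 : x ^ m = 1) (h2 : x ^ n = 1) :
    x = 1 := by
  have := Nat.dvd_gcd (orderOf_dvd_of_pow_eq_one h1) (orderOf_dvd_of_pow_eq_one h2)
  rw [h] at this
  exact orderOf_eq_one_iff.1 (Nat.dvd_one.1 this)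

theorem prime_eq_of_isPGroup {p r a : ℕ} (hp : p.Prime) (hr : r.Prime) {x : G} (hx : x ≠ 1)
    (ho : orderOf x = r ^ a) {k : ℕ} (hk : x ^ p ^ k = 1) : r = p := by
  by_contra hne
  exact hx (eq_one_of_coprime (((Nat.coprime_primes hr hp).2 hne).pow a k)
    (by rw [← ho, pow_orderOf_eq_one]) hk)

/-- For a finite group G the following are equivalent. (1) χ(x y) = χ(x) χ(y) for every irreducible character χ and all non-identity elements x, y of prime power orders for two different primes. (2) G is a p-group for some prime p, or G is abelian, or for some prime p: G = A P with P a normal Sylow p-subgroup and A a nontrivial cyclic subgroup of order prime to p such that, with C = C_P(A) and D = [A, P], one has P = C D, C abelian, D normal in G, C ∩ D = 1, and A acts fixed-point-freely on D (no non-identity element of A centralizes a non-identity element of D). -/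
theorem result {G : Type*} [Group G] [Finite G] : (∀ (x y : G) (χ : Cfsg.IrrCharacter G), x ≠ 1 → y ≠ 1 → (∃ p q a b : ℕ, p.Prime ∧ q.Prime ∧ p ≠ q ∧ orderOf x = p ^ a ∧ orderOf y = q ^ b) → (χ : G → ℂ) (x * y) = (χ : G → ℂ) x * (χ : G → ℂ) y) ↔ ((∃ p : ℕ, p.Prime ∧ IsPGroup p G) ∨ IsMulCommutative G ∨ ∃ (p : ℕ) (_ : Fact p.Prime) (P : Sylow p G) (A : Subgroup G), (P : Subgroup G).Normal ∧ IsCyclic ↥A ∧ A ≠ ⊥ ∧ (Nat.card ↥A).Coprime p ∧ A ⊔ (P : Subgroup G) = ⊤ ∧ IsMulCommutative ↥((P : Subgroup G) ⊓ Subgroup.centralizer (A : Set G)) ∧ (⁅A, (P : Subgroup G)⁆).Normal ∧ ((P : Subgroup G) ⊓ Subgroup.centralizer (A : Set G)) ⊔ ⁅A, (P : Subgroup G)⁆ = (P : Subgroup G) ∧ ((P : Subgroup G) ⊓ Subgroup.centralizer (A : Set G)) ⊓ ⁅A, (P : Subgroup G)⁆ = ⊥ ∧ ∀ a ∈ A, a ≠ 1 → ∀ d ∈ ⁅A, (P : Subgroup G)⁆, a * d = d * a → d = 1) := by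
  classical
  letI := Fintype.ofFinite G
  letI := Fintype.ofFinite (IrrCharacter G)
  constructor
  · intro H
    by_cases hpg : ∃ p : ℕ, p.Prime ∧ IsPGroup p G
    · exact Or.inl hpg
    by_cases hab : IsMulCommutative G
    · exact Or.inr (Or.inl hab)
    refine Or.inr (Or.inr ?_)
    have hK : ∀ x y : G, x ≠ 1 → y ≠ 1 → ∀ p q : ℕ, p.Prime → q.Prime → p ≠ q → orderOf x = p →
        orderOf y = q → ∀ d ∈ commutator G, IsConj (x * y) (x * y * d) := by
      intro x y hx hy p q hp hq hpq hox hoy d hd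
      have hzero : ∀ χ : IrrCharacter G, (χ : G → ℂ) 1 ≠ 1 → (χ : G → ℂ) (x * y) = 0 := by
        intro χ h1
        have h2 := S4843.sum_conj_mul (irr_isCharacter χ) (MonoidHom.id G) χ.2 x y
        have h3 : ∀ g : G, (χ : G → ℂ) (g * x * g⁻¹ * y) = (χ : G → ℂ) x * (χ : G → ℂ) y := by
          intro g
          rw [H _ y χ (by simpa using hx) hy ⟨p, q, 1, 1, hp, hq, hpq, by
            rw [pow_one, ← hox]; exact (MulAut.conj g).orderOf_eq x, by rw [pow_one, hoy]⟩,
            isClassFunction_of_irr χ.2]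
        simp only [MonoidHom.id_apply, h3, Finset.sum_const, Finset.card_univ, nsmul_eq_mul,
          ← Nat.card_eq_fintype_card] at h2
        rw [H x y χ hx hy ⟨p, q, 1, 1, hp, hq, hpq, by rw [pow_one, hox], by rw [pow_one, hoy]⟩]
        have h4 : ((χ : G → ℂ) 1 - 1) * Nat.card G * ((χ : G → ℂ) x * (χ : G → ℂ) y) = 0 := by
          linear_combination h2
        exact (mul_eq_zero.1 h4).resolve_left (mul_ne_zero (sub_ne_zero.2 h1) (card_ne_zero G))
      by_contra hc
      have h1 := column_orthogonality_of_not_isConj hc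
      have h2 : ∀ χ : IrrCharacter G, (χ : G → ℂ) (x * y) * conj ((χ : G → ℂ) (x * y * d)) =
          (χ : G → ℂ) (x * y) * conj ((χ : G → ℂ) (x * y)) := by
        intro χ
        by_cases h3 : (χ : G → ℂ) 1 = 1
        · rw [apply_mul_of_mem_charKer' (isClassFunction_of_irr χ.2)
            (commutator_le_charKer (irr_isCharacter χ) h3 hd)]
        · rw [hzero χ h3, zero_mul, zero_mul]
      simp only [h2] at h1
      rw [column_orthogonality_of_isConj (IsConj.refl _)] at h1
      exact card_ne_zero _ h1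
    have hG' : commutator G ≠ ⊥ := by
      intro h
      apply hab
      refine ⟨⟨fun a b => ?_⟩⟩
      rw [← commutatorElement_eq_one_iff_mul_comm, ← Subgroup.mem_bot, ← h]
      exact Subgroup.commutator_mem_commutator (Subgroup.mem_top a) (Subgroup.mem_top b)
    have helt : ∀ (K : Subgroup G) (r : ℕ), r.Prime → r ∣ Nat.card K → ∃ x ∈ K, x ≠ 1 ∧ orderOf x = r := by
      intro K r hr h
      haveI := Fact.mk hr
      obtain ⟨x, hx⟩ := exists_prime_orderOf_dvd_card' r h
      refine ⟨x, x.2, fun h1 => hr.one_lt.ne' ?_, by rw [Subgroup.orderOf_coe, hx]⟩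
      rw [← hx, ← Subgroup.orderOf_coe, h1, orderOf_one]
    obtain ⟨p, hp, hpd⟩ := Nat.exists_prime_and_dvd
      (fun h => hG' (Subgroup.eq_bot_of_card_eq _ h))
    haveI := Fact.mk hp
    obtain ⟨x, hxG, hx1, hox⟩ := helt _ p hp hpd
    have hpG' : IsPGroup p (commutator G) := by
      rw [IsPGroup.iff_card]
      refine ⟨_, Nat.eq_prime_pow_of_unique_prime_dvd Nat.card_pos.ne' fun {q} hq hqd => ?_⟩
      by_contra hne
      obtain ⟨y, hyG, hy1, hoy⟩ := helt _ q hq hqd
      have h1 := hK x y hx1 hy1 p q hp hq (Ne.symm hne) hox hoy (x * y)⁻¹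
        (inv_mem (mul_mem hxG hyG))
      rw [mul_inv_cancel, isConj_one_left] at h1
      apply hne
      rw [← hox, ← hoy, eq_inv_of_mul_eq_one_right h1, orderOf_inv]
    obtain ⟨P⟩ : Nonempty (Sylow p G) := inferInstance
    have hG'P : commutator G ≤ P := (H3.le_pCore hpG').trans (H3.pCore_le_sylow P)
    haveI hPn : (P : Subgroup G).Normal := H3.normal_of_commutator_le hG'P
      (Subgroup.commutator_mono le_rfl le_top)
    obtain ⟨A, hA⟩ := Subgroup.exists_right_complement'_of_coprime (N := (P : Subgroup G))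
      (P.card_coprime_index)
    have hAc : (Nat.card A).Coprime p := by
      rw [← hA.symm.index_eq_card]
      exact ((Nat.Prime.coprime_iff_not_dvd hp).2 P.not_dvd_index).symm
    have hAP : A ⊓ (P : Subgroup G) = ⊥ := by rw [inf_comm]; exact hA.disjoint.eq_bot
    have hA1 : A ≠ ⊥ := by
      intro h
      apply hpg
      refine ⟨p, hp, ?_⟩
      have : (P : Subgroup G) = ⊤ := by simpa [h] using hA.sup_eq_top
      exact (P.isPGroup'.of_equiv (MulEquiv.subgroupCongr this)).of_equiv Subgroup.topEquiv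
    have hAab : IsMulCommutative A := ⟨⟨fun a b => Subtype.ext (by
      have : ⁅(a : G), (b : G)⁆ ∈ A ⊓ (P : Subgroup G) :=
        Subgroup.mem_inf.2 ⟨by
            rw [commutatorElement_def]
            exact mul_mem (mul_mem (mul_mem a.2 b.2) (inv_mem a.2)) (inv_mem b.2),
          hG'P (Subgroup.commutator_mem_commutator (Subgroup.mem_top _) (Subgroup.mem_top _))⟩
      rw [hAP, Subgroup.mem_bot, commutatorElement_eq_one_iff_mul_comm] at this
      exact this)⟩⟩
    have hfpf : ∀ a ∈ A, a ≠ 1 → ∀ d ∈ commutator G, a * d = d * a → d = 1 := by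
      intro a ha ha1 d hd had
      obtain ⟨q, hq, hqd⟩ := Nat.exists_prime_and_dvd (n := Nat.card (Subgroup.zpowers a))
        (fun h => ha1 (by simpa using Subgroup.eq_bot_of_card_eq _ h))
      obtain ⟨y, hy, hy1, hoy⟩ := helt _ q hq hqd
      have hqp : q.Coprime p := Nat.Coprime.coprime_dvd_left
        (hqd.trans (Subgroup.card_dvd_of_le (Subgroup.zpowers_le.2 ha))) hAc
      have hne : p ≠ q := fun h => by
        rw [h, Nat.coprime_self] at hqp; exact hq.one_lt.ne' hqp
      have hyd : Commute y d := by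
        obtain ⟨k, rfl⟩ := Subgroup.mem_zpowers_iff.1 hy
        exact (show Commute a d from had).zpow_left k
      have hn : (commutator G).Normal := inferInstance
      have hx' : y⁻¹ * x⁻¹ * y ∈ commutator G := by simpa using hn.conj_mem _ (inv_mem hxG) y⁻¹
      have h1 := hK x y hx1 hy1 p q hp hq hne hox hoy _ hx'
      have h2 := hK x y hx1 hy1 p q hp hq hne hox hoy _ (mul_mem hx' hd)
      have h3 : IsConj y (y * d) := by
        have e1 : x * y * (y⁻¹ * x⁻¹ * y) = y := by group
        have e2 : x * y * (y⁻¹ * x⁻¹ * y * d) = y * d := by group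
        rw [e1] at h1; rw [e2] at h2
        exact h1.symm.trans h2
      have h4 : (y * d) ^ q = 1 := by
        have := h3.pow q
        rw [← hoy, pow_orderOf_eq_one] at this
        rw [← hoy]
        exact isConj_one_right.1 this
      rw [hyd.mul_pow, ← hoy, pow_orderOf_eq_one, one_mul, hoy] at h4
      obtain ⟨k, hk⟩ := hpG' ⟨d, hd⟩
      exact eq_one_of_coprime (hqp.pow_right k) h4 (congrArg Subtype.val hk)
    have hcyc : IsCyclic A := by
      by_contra hc
      apply hG'
      rw [eq_bot_iff]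
      obtain ⟨k, hk⟩ := hpG'.exists_card_eq
      refine H4.le_of_centralizer_singleton_le hc Subgroup.le_normalizer_of_normal
        (by rw [hk]; exact hAc.pow_right k) fun a ha ha1 d hd => ?_
      exact hfpf a ha ha1 d hd.1 (by
        have := Subgroup.mem_centralizer_iff.1 hd.2 a rfl
        exact this)
    obtain ⟨a, ha⟩ := IsCyclic.exists_generator (α := A)
    have ha1 : (a : G) ≠ 1 := by
      intro h
      apply hA1
      rw [eq_bot_iff]
      intro b hb
      obtain ⟨k, hk⟩ := Subgroup.mem_zpowers_iff.1 (ha ⟨b, hb⟩)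
      have := congrArg Subtype.val hk
      simp only [SubgroupClass.coe_zpow, h, one_zpow] at this
      exact this.symm
    have hD : ⁅A, (P : Subgroup G)⁆ = commutator G := by
      refine le_antisymm (Subgroup.commutator_mono le_top le_top) fun e he => ?_
      obtain ⟨d, hd, rfl⟩ := exists_comm (commutator G) (hfpf a a.2 ha1) he
      have := Subgroup.commutator_mem_commutator (A.inv_mem a.2) (hG'P hd)
      rwa [commutatorElement_def, inv_inv] at this
    have hCD : ((P : Subgroup G) ⊓ Subgroup.centralizer (A : Set G)) ⊓ commutator G = ⊥ := by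
      rw [eq_bot_iff]
      intro d hd
      exact hfpf a a.2 ha1 d hd.2 (Subgroup.mem_centralizer_iff.1 hd.1.2 a a.2)
    refine ⟨p, inferInstance, P, A, hPn, hcyc, hA1, hAc, by rw [sup_comm]; exact hA.sup_eq_top,
      ?_, by rw [hD]; infer_instance, ?_, by rw [hD]; exact hCD, by rw [hD]; exact hfpf⟩
    · refine ⟨⟨fun b c => Subtype.ext ?_⟩⟩
      have : ⁅(b : G), (c : G)⁆ ∈ ((P : Subgroup G) ⊓ Subgroup.centralizer (A : Set G)) ⊓
          commutator G :=
        Subgroup.mem_inf.2 ⟨by
            rw [commutatorElement_def]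
            exact mul_mem (mul_mem (mul_mem b.2 c.2) (inv_mem b.2)) (inv_mem c.2),
          Subgroup.commutator_mem_commutator (Subgroup.mem_top _) (Subgroup.mem_top _)⟩
      rw [hCD, Subgroup.mem_bot, commutatorElement_eq_one_iff_mul_comm] at this
      exact this
    · rw [hD]
      refine le_antisymm (sup_le inf_le_left hG'P) fun u hu => ?_
      have h1 : (a : G)⁻¹ * u * a * u⁻¹ ∈ commutator G := by
        have := Subgroup.commutator_mem_commutator (Subgroup.mem_top (a : G)⁻¹) (Subgroup.mem_top u)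
        rwa [commutatorElement_def, inv_inv] at this
      obtain ⟨d, hd, h2⟩ := exists_comm (commutator G) (hfpf a a.2 ha1) h1
      have h3 : Commute (a : G) (d⁻¹ * u) := by
        have h4 : u * a * u⁻¹ = d * a * d⁻¹ := by
          have := congrArg ((a : G) * ·) h2
          simpa [mul_assoc] using this
        calc a * (d⁻¹ * u) = d⁻¹ * (d * a * d⁻¹) * u := by group
          _ = d⁻¹ * (u * a * u⁻¹) * u := by rw [h4]
          _ = d⁻¹ * u * a := by group
      have h5 : d⁻¹ * u ∈ (P : Subgroup G) ⊓ Subgroup.centralizer (A : Set G) := by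
        refine Subgroup.mem_inf.2 ⟨mul_mem (inv_mem (hG'P hd)) hu, Subgroup.mem_centralizer_iff.2 fun b hb => ?_⟩
        obtain ⟨k, hk⟩ := Subgroup.mem_zpowers_iff.1 (ha ⟨b, hb⟩)
        have : (a : G) ^ k = b := congrArg Subtype.val hk
        rw [← this]
        exact h3.zpow_left k
      have : u = d * (d⁻¹ * u) := by group
      rw [this]
      exact mul_mem (Subgroup.mem_sup_right hd) (Subgroup.mem_sup_left h5)
  · rintro (⟨p, hp, hG⟩ | hab | ⟨p, hp, P, A, hPn, hcyc, hA1, hAc, hAP, hCab, hDn, hCD, hCD', hfpf⟩)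
      x y χ hx hy ⟨r, s, a, b, hr, hs, hrs, hox, hoy⟩
    · obtain ⟨k, hk⟩ := hG x
      obtain ⟨l, hl⟩ := hG y
      exact absurd ((prime_eq_of_isPGroup hp hr hx hox hk).trans
        (prime_eq_of_isPGroup hp hs hy hoy hl).symm) hrs
    · exact map_mul_of_apply_one_eq_one (irr_isCharacter χ)
        (irr_apply_one_of_comm hab.is_comm.comm χ.2) x y
    by_cases h1 : (χ : G → ℂ) 1 = 1
    · exact map_mul_of_apply_one_eq_one (irr_isCharacter χ) h1 x y
    set D := ⁅A, (P : Subgroup G)⁆ with hD
    set C := (P : Subgroup G) ⊓ Subgroup.centralizer (A : Set G) with hC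
    have hdec : ∀ g : G, ∃ a ∈ A, ∃ c ∈ C, ∃ d ∈ D, g = a * c * d := by
      intro g
      have h2 : g ∈ ((A ⊔ (P : Subgroup G) : Subgroup G) : Set G) := hAP ▸ Subgroup.mem_top g
      rw [Subgroup.mul_normal] at h2
      obtain ⟨a, ha, u, hu, rfl⟩ := h2
      have h3 : u ∈ ((C ⊔ D : Subgroup G) : Set G) := by rw [hCD]; exact hu
      rw [Subgroup.mul_normal] at h3
      obtain ⟨c, hc, d, hd, rfl⟩ := h3
      exact ⟨a, ha, c, hc, d, hd, (mul_assoc _ _ _).symm⟩
    have hac : ∀ a ∈ A, ∀ c ∈ C, Commute a c := fun a ha c hc =>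
      Subgroup.mem_centralizer_iff.1 hc.2 a ha
    have hG'D : commutator G ≤ D := by
      rw [← QuotientGroup.ker_mk' D]
      letI : CommGroup (G ⧸ D) := { (inferInstance : Group (G ⧸ D)) with
        mul_comm := by
          intro u v
          obtain ⟨g, rfl⟩ := QuotientGroup.mk_surjective u
          obtain ⟨h, rfl⟩ := QuotientGroup.mk_surjective v
          obtain ⟨a, ha, c, hc, d, hd, rfl⟩ := hdec g
          obtain ⟨a', ha', c', hc', d', hd', rfl⟩ := hdec h
          rw [QuotientGroup.mk_mul_of_mem _ hd, QuotientGroup.mk_mul_of_mem _ hd',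
            ← QuotientGroup.mk_mul, ← QuotientGroup.mk_mul]
          congr 1
          have haa : Commute a a' := by
            letI := hcyc.commGroup
            exact congrArg Subtype.val (mul_comm (⟨a, ha⟩ : A) ⟨a', ha'⟩)
          have hcc : Commute c c' := congrArg Subtype.val (hCab.is_comm.comm (⟨c, hc⟩ : C) ⟨c', hc'⟩)
          exact ((haa.mul_right (hac a ha c' hc')).mul_left
            ((hac a' ha' c hc).symm.mul_right hcc)).eq }
      exact Abelianization.commutator_subset_ker _
    have hDk : ¬ D ≤ charKer (χ : G → ℂ) := fun h =>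
      h1 (irr_apply_one_of_commutator_le χ.2 (hG'D.trans h))
    have hDP : D ≤ P := by rw [← hCD]; exact le_sup_right
    have hvan : ∀ g : G, g ∉ (P : Subgroup G) → (χ : G → ℂ) g = 0 := by
      intro g hg
      obtain ⟨a, ha, c, hc, d, hd, rfl⟩ := hdec g
      have ha1 : a ≠ 1 := by
        rintro rfl
        exact hg (mul_mem (by rw [one_mul]; exact hc.1) (hDP hd))
      have hf : ∀ e ∈ D, a * c * e = e * (a * c) → e = 1 := by
        intro e he hce
        obtain ⟨k, hk⟩ := P.isPGroup' ⟨c, hc.1⟩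
        have hk' : c ^ p ^ k = 1 := congrArg Subtype.val hk
        have h2 : Commute ((a * c) ^ p ^ k) e := (show Commute (a * c) e from hce).pow_left _
        rw [(hac a ha c hc).mul_pow, hk', mul_one] at h2
        refine hfpf _ (pow_mem ha _) (fun h3 => ha1 ?_) e he h2
        exact eq_one_of_coprime (hAc.pow_right k)
          (congrArg Subtype.val (pow_card_eq_one' (x := (⟨a, ha⟩ : A)))) h3
      have hconst : ∀ e ∈ D, (χ : G → ℂ) (a * c * e) = (χ : G → ℂ) (a * c) := by
        intro e he
        obtain ⟨f, -, rfl⟩ := exists_comm D hf he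
        rw [← isClassFunction_of_irr χ.2 (a * c) f]
        congr 1; group
      have h2 := sum_coset_eq_zero χ.2 D hDk (a * c)
      have h3 : ∀ n : D, (χ : G → ℂ) (n * (a * c)) = (χ : G → ℂ) (a * c) := fun n => by
        rw [classFun_mul_comm (isClassFunction_of_irr χ.2), hconst n n.2]
      simp only [h3, Finset.sum_const, Finset.card_univ, nsmul_eq_mul,
        ← Nat.card_eq_fintype_card] at h2
      rw [hconst d hd]
      exact (mul_eq_zero.1 h2).resolve_left (card_ne_zero D)
    have hin : ∀ (z : G) (t c : ℕ), z ≠ 1 → t.Prime → orderOf z = t ^ c → z ∈ (P : Subgroup G) →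
        t = p := by
      intro z t c hz ht ho hzP
      obtain ⟨k, hk⟩ := P.isPGroup' ⟨z, hzP⟩
      exact prime_eq_of_isPGroup hp.out ht hz ho (congrArg Subtype.val hk)
    have hnot : ¬ (x ∈ (P : Subgroup G) ∧ y ∈ (P : Subgroup G)) := fun h =>
      hrs ((hin x r a hx hr hox h.1).trans (hin y s b hy hs hoy h.2).symm)
    have hxy : x * y ∉ (P : Subgroup G) := by
      intro h
      apply hnot
      have h2 : ((x : G ⧸ (P : Subgroup G))) = (y : G ⧸ (P : Subgroup G))⁻¹ := by
        rw [eq_inv_iff_mul_eq_one, ← QuotientGroup.mk_mul, QuotientGroup.eq_one_iff]; exact h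
      have h3 : ((x : G ⧸ (P : Subgroup G))) = 1 := by
        refine eq_one_of_coprime (((Nat.coprime_primes hr hs).2 hrs).pow a b) ?_ ?_
        · rw [← QuotientGroup.mk_pow, ← hox, pow_orderOf_eq_one, QuotientGroup.mk_one]
        · rw [h2, inv_pow, ← QuotientGroup.mk_pow, ← hoy, pow_orderOf_eq_one, QuotientGroup.mk_one,
            inv_one]
      have h4 := (QuotientGroup.eq_one_iff x).1 h3
      exact ⟨h4, (Subgroup.mul_mem_cancel_left _ h4).1 h⟩
    rw [hvan _ hxy]
    by_cases h2 : x ∈ (P : Subgroup G)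
    · rw [hvan y fun h => hnot ⟨h2, h⟩, mul_zero]
    · rw [hvan x h2, zero_mul]

end Cfsg.Agent.S4756
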