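import Cfsg.Statements.S4762
import Cfsg.Agent.H24.FrobQuot
import Cfsg.Agent.H24.Ito
import Cfsg.Agent.H52.Fitting
import Cfsg.Agent.H5.SmallP
import Cfsg.Agent.H14.ExtraChar
import Cfsg.Agent.H7.PBasic
import Cfsg.Agent.H92.ClassSize

set_option autoImplicit false
open Cfsg

namespace Cfsg.Agent.S4762

open Cfsg Cfsg.Agent.H11 Cfsg.Agent.H24

open Classical in
theorem sum_not_le {G : Type*} [Group G] [Finite G] [Fintype (IrrCharacter G)] (N : Subgroup G)
    [N.Normal] :
    N.index + ∑ χ : IrrCharacter G with ¬ N ≤ charKer χ.1, charDegree χ.1 ^ 2 = Nat.card G := by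
  rw [← sum_deg_sq_le_charKer N, Finset.sum_filter_add_sum_filter_not, sum_deg_sq]

theorem dvd_iff {G : Type*} [Group G] [Finite G] {p : ℕ} [hp : Fact p.Prime] (hG : IsPGroup p G)
    {χ : G → ℂ} (hχ : IsIrrCharacter G χ) : p ∣ charDegree χ ↔ ¬ commutator G ≤ charKer χ := by
  rw [← deg_eq_one_iff_commutator_le hχ]
  obtain ⟨k, hk⟩ := exists_deg_eq_pow_of_isPGroup hG hχ
  rw [hk]
  constructor
  · intro h h1
    exact hp.out.not_dvd_one (h1 ▸ h)
  · intro h
    rcases k with _ | k
    · simp at h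
    · exact dvd_pow_self p k.succ_ne_zero

theorem isPGroup {G : Type*} [Group G] [Finite G] [hn : Group.IsNilpotent G] {p : ℕ}
    [hp : Fact p.Prime] {χ : G → ℂ} (hχ : IsIrrCharacter G χ) (h1 : p ∣ charDegree χ)
    (h2 : ∀ ψ, IsIrrCharacter G ψ → p ∣ charDegree ψ → ψ = χ) : IsPGroup p G := by
  have h3 := H52.pCore_sup_pPrimeCore_of_isNilpotent (p := p) hn
  set P := pCore p G with hP
  set H := pPrimeCore p G with hH
  have hPp : IsPGroup p P := H3.pCore_isPGroup p G
  have hHp : (Nat.card H).Coprime p := H3.pPrimeCore_coprime p G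
  have hPH : P ⊓ H = ⊥ := H3.pCore_inf_pPrimeCore p G
  have h4 := H3.card_sup_mul_card_inf P H
  rw [h3, hPH, Subgroup.card_top, Subgroup.card_bot, mul_one] at h4
  have h5 : H.index = Nat.card P := by
    apply Nat.eq_of_mul_eq_mul_right (Nat.card_pos (α := H))
    rw [Subgroup.index_mul_card, h4]
  have h6 : P.index = Nat.card H := by
    apply Nat.eq_of_mul_eq_mul_right (Nat.card_pos (α := P))
    rw [Subgroup.index_mul_card, h4, mul_comm]
  have h7 : ¬ commutator G ≤ H := by
    intro h7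
    refine not_dvd_cd_of_normal_abelian P (fun x hx y hy => ?_) ?_ _ (deg_mem_cd hχ) h1
    · rw [← commutatorElement_eq_one_iff_mul_comm, ← Subgroup.mem_bot, ← hPH]
      exact ⟨Subgroup.commutator_le_left P P (Subgroup.commutator_mem_commutator hx hy),
        h7 (commutatorElement_mem_commutator' x y)⟩
    · rw [h6]
      exact H3.not_dvd_card_pPrimeCore p G
  obtain ⟨ψ, hψ, hψH, hψ1⟩ := exists_irr_le_charKer_deg_ne_one H h7
  have h8 : p ∣ charDegree ψ := by
    have h8 : charDegree ψ ∣ Nat.card P :=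
      h5 ▸ dvd_card_of_mem_cd (deg_mem_cd_quotient hψ H hψH)
    obtain ⟨k, hk⟩ := IsPGroup.iff_card.1 hPp
    rw [hk, Nat.dvd_prime_pow hp.out] at h8
    obtain ⟨j, -, hj⟩ := h8
    rcases j with _ | j
    · exact absurd hj hψ1
    · rw [hj]; exact dvd_pow_self p j.succ_ne_zero
  obtain rfl := h2 ψ hψ h8
  by_contra h9
  have h10 : P ≠ ⊤ := fun h => h9 (H3.pCore_eq_top_iff.1 h)
  have h11 := commutator_sup_ne_top P h10
  have h12 : ¬ H ≤ commutator G ⊔ P := fun h =>
    h11 (top_le_iff.1 (h3 ▸ sup_le le_sup_right h))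
  obtain ⟨g, hg, hg'⟩ := SetLike.not_le_iff_exists.1 h12
  obtain ⟨lam, -, hlam⟩ := exists_monoidHom_ne_one (commutator G ⊔ P) le_sup_left hg'
  have h13 := congrFun (h2 _ (isIrr_lin_mul (Lin.mk lam) hψ) (by rwa [deg_lin_mul])) g
  rw [Pi.mul_apply, apply_eq_of_mem_charKer (hψH hg)] at h13
  apply hlam
  apply Units.ext
  exact mul_right_cancel₀ (irr_apply_one_ne_zero hψ) (h13.trans (one_mul _).symm)

/-- Let p be a prime and G a finite nilpotent group. Then G has exactly one irreducible complex character of degree divisible by p if and only if p = 2 and G is an extraspecial 2-group. -/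
theorem result {G : Type*} [Group G] [Finite G] [Group.IsNilpotent G] (p : ℕ) [Fact p.Prime] : Nat.card {χ : Cfsg.IrrCharacter G // p ∣ Cfsg.charDegree (χ : G → ℂ)} = 1 ↔ (p = 2 ∧ Cfsg.IsExtraspecial 2 G) := by
  classical
  have := Fintype.ofFinite (IrrCharacter G)
  have hp : p.Prime := Fact.out
  have hs := sum_not_le (commutator G)
  constructor
  · intro h
    obtain ⟨⟨χ, hχ⟩, h1⟩ := Nat.card_eq_one_iff_exists.1 h
    have h2 : ∀ ψ, IsIrrCharacter G ψ → p ∣ charDegree ψ → ψ = χ := fun ψ hψ h2 =>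
      congrArg (fun x => x.1.1) (h1 ⟨⟨ψ, hψ⟩, h2⟩)
    have hG := isPGroup χ.2 hχ h2
    have h3 : (Finset.univ.filter fun ψ : IrrCharacter G => ¬ commutator G ≤ charKer ψ.1) = {χ} := by
      ext ψ
      simp only [Finset.mem_filter, Finset.mem_univ, true_and, Finset.mem_singleton,
        ← dvd_iff hG ψ.2]
      exact ⟨fun h => Subtype.ext (h2 _ ψ.2 h), fun h => h ▸ hχ⟩
    rw [h3, Finset.sum_singleton, ← (commutator G).index_mul_card] at hs
    obtain ⟨k, hk⟩ := exists_deg_eq_pow_of_isPGroup hG χ.2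
    obtain ⟨a, ha⟩ := IsPGroup.iff_card.1 (hG.to_subgroup (commutator G))
    have hi : 0 < (commutator G).index := Nat.pos_of_ne_zero Subgroup.index_ne_zero_of_finite
    have h4 : Nat.card (commutator G) - 1 ∣ p ^ (k * 2) := by
      refine ⟨(commutator G).index, ?_⟩
      rw [pow_mul, ← hk, Nat.sub_mul, mul_comm _ (commutator G).index, ← hs]
      omega
    obtain ⟨j, -, hj⟩ := (Nat.dvd_prime_pow hp).1 h4
    have h5 : a ≠ 0 := by
      rintro rfl
      have := pow_pos hp.pos j
      rw [ha] at hj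
      simp at hj
      omega
    have h6 : j = 0 := by
      by_contra h6
      have h7 : p ∣ Nat.card (commutator G) := ha ▸ dvd_pow_self p h5
      have h8 : p ∣ Nat.card (commutator G) - 1 := hj ▸ dvd_pow_self p h6
      have h9 := Nat.dvd_sub h7 h8
      have : 0 < Nat.card (commutator G) := Nat.card_pos
      rw [show Nat.card (commutator G) - (Nat.card (commutator G) - 1) = 1 by omega] at h9
      exact hp.not_dvd_one h9
    have h7 : Nat.card (commutator G) = 2 := by
      rw [h6, pow_zero] at hj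
      omega
    have h8 : p = 2 := by
      have h8 : p ∣ 2 := h7 ▸ ha ▸ dvd_pow_self p h5
      exact (Nat.prime_dvd_prime_iff_eq hp Nat.prime_two).1 h8
    subst h8
    have h9 : commutator G ≤ Subgroup.center G := H7.le_center_of_card_le hG h7.le
    have h10 : commutator G = Subgroup.center G := by
      have h10 := deg_sq_le_index_center χ.2
      rw [h7] at hs
      exact H92.eq_of_le_of_index_le h9 (by omega)
    refine ⟨rfl, ⟨hG, le_antisymm (H5.frattini_le_center_of_card_commutator hG h7)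
      (h10 ▸ H3.commutator_le_frattini hG), h10⟩, h10 ▸ h7⟩
  · rintro ⟨rfl, hE⟩
    obtain ⟨⟨hG, -, h1⟩, h2⟩ := id hE
    have h3 : ∀ ψ ∈ (Finset.univ.filter fun ψ : IrrCharacter G => ¬ commutator G ≤ charKer ψ.1),
        charDegree ψ.1 ^ 2 = (commutator G).index := by
      intro ψ hψ
      rw [Finset.mem_filter, h1] at hψ
      rw [h1]
      exact H14.degree_sq_eq_index_of_vanish ψ.2 _ (center_le_charCenter ψ.2)
        (fun x hx => H14.extraspecial_vanish hE ψ.2 hψ.2 hx) (irr_deg ψ.2)
    rw [Finset.sum_congr rfl h3, Finset.sum_const, smul_eq_mul, ← (commutator G).index_mul_card,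
      h1, h2, ← h1] at hs
    have hi : 0 < (commutator G).index := Nat.pos_of_ne_zero Subgroup.index_ne_zero_of_finite
    rw [Nat.card_eq_fintype_card, Fintype.card_subtype,
      Finset.filter_congr fun ψ _ => dvd_iff hG ψ.2]
    nlinarith

end Cfsg.Agent.S4762
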