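import Cfsg.Statements.S4776
import Cfsg.Agent.H23.RelGraph
import Cfsg.Agent.H24.DegGraph

set_option autoImplicit false
open Cfsg

namespace Cfsg.Agent.S4776

open Subgroup H23 H23.RG

/-- Let N be a normal subgroup of the finite group G that is not perfect and is contained in the derived subgroup of G. Consider the common-divisor graph on the relative degree set cd(G|N) (the degrees of the irreducible complex characters of G whose kernel does not contain N; two distinct degrees adjacent when they have a common divisor greater than one). Then this graph has at most two connected components; and if a, b ∈ cd(G|N) lie in different components, then one of a, b is coprime to the index m of the derived subgroup of N in N while the other is divisible by every prime divisor of m. -/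
theorem result {G : Type*} [Group G] [Finite G] (N : Subgroup G) [N.Normal] (hN : ⁅N, N⁆ < N) (hNG : N ≤ commutator G) : Nat.card (Cfsg.commonDivisorGraph.induce (Cfsg.relCharDegrees N)).ConnectedComponent ≤ 2 ∧ ∀ (a b : ℕ) (ha : a ∈ Cfsg.relCharDegrees N) (hb : b ∈ Cfsg.relCharDegrees N), ¬ (Cfsg.commonDivisorGraph.induce (Cfsg.relCharDegrees N)).Reachable ⟨a, ha⟩ ⟨b, hb⟩ → (Nat.Coprime a (⁅N, N⁆.relIndex N) ∧ ∀ r : ℕ, r.Prime → r ∣ ⁅N, N⁆.relIndex N → r ∣ b) ∨ (Nat.Coprime b (⁅N, N⁆.relIndex N) ∧ ∀ r : ℕ, r.Prime → r ∣ ⁅N, N⁆.relIndex N → r ∣ a) := by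
  have hm : ⁅N, N⁆.relIndex N = (commutator N).index := by
    rw [relIndex, subgroupOf, ← map_subtype_commutator,
      comap_map_eq_self_of_injective N.subtype_injective]
  have h1 : ⁅N, N⁆.relIndex N ≠ 1 := fun h => hN.not_ge (relIndex_eq_one.1 h)
  obtain ⟨p, hp, hd⟩ := Nat.exists_prime_and_dvd h1
  rw [hm] at hd ⊢
  obtain ⟨c, hc⟩ := exists_base hNG hp hd
  refine ⟨H24.card_connectedComponent_le_two _ fun a b d => ?_, fun a b ha hb hab => ?_⟩
  · have h2 : ∀ a b : relCharDegrees N, (p ∣ a.1 ↔ p ∣ b.1) →
        (commonDivisorGraph.induce (relCharDegrees N)).Reachable a b := fun a b h => by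
      by_cases h3 : p ∣ a.1
      · exact (R.of_dvd a.2 b.2 hp.one_lt.ne' h3 (h.1 h3)).2.2
      · exact ((hc p hp hd _ a.2 h3).trans (hc p hp hd _ b.2 fun h4 => h3 (h.2 h4)).symm).2.2
    have := h2 a b
    have := h2 a d
    have := h2 b d
    tauto
  · have h2 : ∀ a b, a ∈ relCharDegrees N → b ∈ relCharDegrees N → ¬ R N a b → ¬ R N b c →
        a.Coprime (commutator N).index ∧ ∀ r : ℕ, r.Prime → r ∣ (commutator N).index → r ∣ b :=
      fun a b ha hb h3 h4 => by
        have h5 : ∀ r : ℕ, r.Prime → r ∣ (commutator N).index → r ∣ b := fun r hr h5 =>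
          by_contra fun h6 => h4 (hc r hr h5 b hb h6)
        exact ⟨Nat.coprime_of_dvd fun r hr h6 h7 =>
          h3 (R.of_dvd ha hb hr.one_lt.ne' h6 (h5 r hr h7)), h5⟩
    have h3 : ¬ R N a b := fun h => hab h.2.2
    by_cases h4 : R N b c
    · exact Or.inr (h2 b a hb ha (fun h => h3 h.symm) fun h => h3 (h.trans h4.symm))
    · exact Or.inl (h2 a b ha hb h3 h4)

end Cfsg.Agent.S4776
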