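import Cfsg.Statements.S4783
import Cfsg.Agent.H22.Cd4D

set_option autoImplicit false
open Cfsg

namespace Cfsg.Agent.S4783

/-- A finite solvable group with exactly four distinct irreducible complex character degrees has trivial fourth derived subgroup (derived length at most 4). -/
theorem result {G : Type*} [Group G] [Finite G] [Group.IsSolvable G] (hcd : Nat.card ↥(Cfsg.charDegrees G) = 4) : derivedSeries G 4 = ⊥ := by
  have h0 : (charDegrees G).ncard = 4 := hcd
  have h1 := Set.ncard_sdiff_singleton_add_one (H24.one_mem_cd (G := G)) H24.cd_finite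
  obtain ⟨a, b, e, -, -, -, h⟩ := Set.ncard_eq_three.1 (show (charDegrees G \ {1}).ncard = 3 by omega)
  refine H22.Cd4.four G inferInstance b e a fun d hd => ?_
  by_cases h4 : d = 1
  · exact Or.inl h4
  · exact Or.inr (h ▸ (⟨hd, h4⟩ : d ∈ charDegrees G \ {1}) : d ∈ ({a, b, e} : Set ℕ))

end Cfsg.Agent.S4783
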