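import Cfsg.Statements.S4850
import Cfsg.Agent.H22.VanP
import Cfsg.Agent.S0064

set_option autoImplicit false
open Cfsg

namespace Cfsg.Agent.S4850


/-- Let p be a prime and G a finite solvable group whose vanishing elements (elements at which some irreducible character is zero) of order divisible by p all have the same order, with at least one such element. Let P be a Sylow p-subgroup of G. Then the derived subgroup of P is subnormal in G and the image of P in G/O_p(G) is cyclic. -/
theorem result {G : Type*} [Group G] [Finite G] [hs : Group.IsSolvable G] (p : ℕ) [Fact p.Prime] (b : ℕ) (hvo : {n : ℕ | p ∣ n ∧ ∃ (g : G) (χ : Cfsg.IrrCharacter G), orderOf g = n ∧ (χ : G → ℂ) g = 0} = {b}) (P : Sylow p G) :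
    ((commutator ↥(P : Subgroup G)).map (P : Subgroup G).subtype).IsSubnormal ∧ IsCyclic ↥((P : Subgroup G).map (QuotientGroup.mk' (Cfsg.pCore p G))) := by
  have key : ∀ x : G, H22.VanP.Van x → p ∣ orderOf x → orderOf x = b := by
    intro x hx hpx
    rw [← Set.mem_singleton_iff, ← hvo]
    obtain ⟨χ, hχ, h0⟩ := hx
    exact ⟨hpx, x, ⟨χ, hχ⟩, rfl, h0⟩
  have h2 := H22.VanP.relIndex_dvd (p := p) (fun x y hx hy hx' hy' =>
    (key x hx hx').trans (key y hy hy').symm) P
  rw [← H3.card_map_mk'] at h2
  have hc : IsCyclic ↥((P : Subgroup G).map (QuotientGroup.mk' (Cfsg.pCore p G))) :=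
    isCyclic_of_card_dvd_prime h2
  refine ⟨?_, hc⟩
  have hle : (commutator ↥(P : Subgroup G)).map (P : Subgroup G).subtype ≤ Cfsg.pCore p G := by
    rw [Subgroup.map_subtype_commutator, Subgroup.commutator_le]
    intro x hx y hy
    rw [← QuotientGroup.eq_one_iff]
    change QuotientGroup.mk' _ _ = 1
    rw [map_commutatorElement, commutatorElement_eq_one_iff_mul_comm]
    exact setLike_mul_comm (s := (P : Subgroup G).map (QuotientGroup.mk' (Cfsg.pCore p G)))
      ⟨x, hx, rfl⟩ ⟨y, hy, rfl⟩
  have hn : Group.IsNilpotent (Cfsg.pCore p G) := (H3.pCore_isPGroup p G).isNilpotent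
  exact Subgroup.IsSubnormal.trans hle ((S0064.result.1 hn) _)
    (inferInstance : (Cfsg.pCore p G).Normal).isSubnormal

end Cfsg.Agent.S4850
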