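import Cfsg.Statements.S4924
import Cfsg.Agent.H29.K0R0
import Cfsg.Agent.H47.K0R
import Cfsg.Agent.H49.K0Gal
import Cfsg.Agent.H26.K0Ineq
import Cfsg.Agent.H54.K0Tri
import Cfsg.Agent.H52.K0Conv
import Cfsg.Agent.H66.K0Fw2
import Cfsg.Agent.H44.K0Fw3
import Cfsg.Agent.H1.K0Ar

set_option autoImplicit false
open Cfsg

namespace Cfsg.Agent.S4924

/-- Let G be a finite group, p a prime, M a maximal ideal of the algebraic integers containing p, P a Sylow p-subgroup of G, and k = 2 or k = 3. Then the principal p-block of G contains exactly k irreducible characters of degree not divisible by p (its height-zero characters) if and only if P has order k. -/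
theorem result {G : Type*} [Group G] [Finite G] (p : ℕ) [Fact p.Prime] (M : Ideal Cfsg.AlgInt) (hM : Cfsg.IsPModular p M) (P : Sylow p G) (k : ℕ) (hk : k = 2 ∨ k = 3) :
    Nat.card {χ : Cfsg.IrrCharacter G // χ ∈ Cfsg.principalBlock M G ∧ ¬ p ∣ Cfsg.charDegree (χ : G → ℂ)} = k ↔ Nat.card P = k := by
  have r0 := H29.K0R0.r0 H47.K0R.r
  have ineq := H26.K0Ineq.ineq H49.K0Gal.gal
  refine ⟨fun h => ?_, H52.K0Conv.conv r0 G p M hM P k hk⟩
  rcases hk with rfl | rfl
  · exact H66.K0Fw2.fw2 r0 (H54.K0Tri.duo ineq) G p M hM P h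
  · exact H44.K0Fw3.fw3 r0 (H54.K0Tri.tri ineq) H1.K0Ar.ar G p M hM P h

end Cfsg.Agent.S4924
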