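import Cfsg.Statements.S4926
import Cfsg.Agent.H44.K5Asm
import Cfsg.Agent.H49.K5Ch
import Cfsg.Agent.H26.K5Uni
import Cfsg.Agent.H52.K5Herm
import Cfsg.Agent.H19.K5Cyc
import Cfsg.Agent.H42.K5Nei

set_option autoImplicit false
open Cfsg

namespace Cfsg.Agent.S4926

/-- Let G be a finite group, p a prime, M a maximal ideal of the algebraic integers containing p, and P a Sylow p-subgroup of G with normalizer N and centralizer C. Then the principal p-block of G contains exactly five irreducible characters of degree not divisible by p if and only if either P has order 5 and the index of C in N is 1 or 4, or P has order 7 and the index of C in N is 2 or 3. -/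
theorem result {G : Type*} [Group G] [Finite G] (p : ℕ) [Fact p.Prime] (M : Ideal Cfsg.AlgInt) (hM : Cfsg.IsPModular p M) (P : Sylow p G) :
    Nat.card {χ : Cfsg.IrrCharacter G // χ ∈ Cfsg.principalBlock M G ∧ ¬ p ∣ Cfsg.charDegree (χ : G → ℂ)} = 5 ↔
      ((Nat.card P = 5 ∧ ((Subgroup.centralizer ((P : Subgroup G) : Set G)).relIndex (Subgroup.normalizer ((P : Subgroup G) : Set G)) = 1 ∨ (Subgroup.centralizer ((P : Subgroup G) : Set G)).relIndex (Subgroup.normalizer ((P : Subgroup G) : Set G)) = 4)) ∨
        (Nat.card P = 7 ∧ ((Subgroup.centralizer ((P : Subgroup G) : Set G)).relIndex (Subgroup.normalizer ((P : Subgroup G) : Set G)) = 2 ∨ (Subgroup.centralizer ((P : Subgroup G) : Set G)).relIndex (Subgroup.normalizer ((P : Subgroup G) : Set G)) = 3))) := by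
  exact Cfsg.Agent.H44.K5.main (Cfsg.Agent.H49.K5Ch.ch (Cfsg.Agent.H42.K5Nei.nei
    (Cfsg.Agent.H26.K5Uni.uni Cfsg.Agent.H52.K5Herm.herm))) Cfsg.Agent.H19.K5Cyc.cyc p M hM P

end Cfsg.Agent.S4926
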