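import Cfsg.Statements.S4997
import Cfsg.Agent.H22.VanP

set_option autoImplicit false
open Cfsg

namespace Cfsg.Agent.S4997


/-- Let p be an odd prime and G a finite solvable group with exactly one conjugacy class consisting of vanishing elements (elements at which some irreducible complex character is zero) of order divisible by p. Let P be a Sylow p-subgroup of G. Then the order of P is at most p times the order of the largest normal p-subgroup of G. -/
theorem result {G : Type*} [Group G] [Finite G] (hsolv : Group.IsSolvable G) (p : ℕ) [Fact p.Prime] (hp : p ≠ 2) (h1 : Set.ncard {C : ConjClasses G | (∀ g ∈ C.carrier, ∃ χ : Cfsg.IrrCharacter G, (χ : G → ℂ) g = 0) ∧ ∃ g ∈ C.carrier, p ∣ orderOf g} = 1) (P : Sylow p G) : Nat.card ↥(P : Subgroup G) ≤ p * Nat.card ↥(Cfsg.pCore p G) := by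
  obtain ⟨C, hC⟩ := Set.ncard_eq_one.1 h1
  have key : ∀ x : G, H22.VanP.Van x → p ∣ orderOf x → ConjClasses.mk x = C := by
    intro x hx hpx
    rw [← Set.mem_singleton_iff, ← hC]
    obtain ⟨χ, hχ, h0⟩ := hx
    refine ⟨fun g hg => ⟨⟨χ, hχ⟩, ?_⟩, x, ConjClasses.mem_carrier_mk, hpx⟩
    obtain ⟨c, hc⟩ := isConj_iff.1 (ConjClasses.mk_eq_mk_iff_isConj.1
      (ConjClasses.mem_carrier_iff_mk_eq.1 hg)).symm
    change χ g = 0
    rw [← hc, H11.isClassFunction_of_irr hχ x c, h0]
  have h2 := H22.VanP.relIndex_dvd (p := p) (fun x y hx hy hx' hy' => by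
    obtain ⟨c, hc⟩ := isConj_iff.1 (ConjClasses.mk_eq_mk_iff_isConj.1
      ((key x hx hx').trans (key y hy hy').symm))
    rw [← hc]
    exact (MulAut.conj c).orderOf_eq x |>.symm) P
  rw [← H3.card_mul_relIndex (H3.pCore_le_sylow P), mul_comm]
  exact Nat.mul_le_mul_right _ (Nat.le_of_dvd (Fact.out : p.Prime).pos h2)

end Cfsg.Agent.S4997
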