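import Cfsg.Statements.S5053
import Cfsg.Agent.H36.NonDeg

set_option autoImplicit false
open Cfsg

namespace Cfsg.Agent.S5053

open Cfsg.Agent.H36

/-- Let G be a finite group generated by a non-degenerate conjugacy class D of root involutions (some two different members commute, some two have product of odd order, some two have product of order 4) and T a weak TI-subset of D: a subset with more than one element, different from D, whose conjugate by any member of D equals T or is disjoint from it. Then T generates an abelian subgroup. -/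
theorem result {G : Type*} [Group G] [Finite G] {D : Set G} (hD : Cfsg.IsNondegenerateRootInvolutionSet D)
    (hcl : Cfsg.IsRootInvolutionClass D)     {T : Set G} (hT : Cfsg.IsWeakTISubsetOfElements D T) : IsMulCommutative ↥(Subgroup.closure T) := by
  have hR := RI.of hD.1
  have h1 := oneClass_of_class hcl
  obtain ⟨hTD, -, hne, hTI⟩ := hT
  have kA : ∀ d ∈ D, ∀ t ∈ T, d * t = t * d → d ∈ Subgroup.normalizer T := by
    intro d hd t ht h
    rcases hTI d hd with e | e
    · rw [Subgroup.mem_set_normalizer_iff]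
      intro n
      refine ⟨fun hn => e ▸ ⟨n, hn, rfl⟩, fun hn => ?_⟩
      rw [← e] at hn
      obtain ⟨m, hm, e'⟩ := hn
      have : m = n := by simpa using e'
      exact this ▸ hm
    · exact (Set.disjoint_left.mp e ⟨t, ht, conj_eq_of_comm h⟩ ht).elim
  have kN : ∀ g ∈ Subgroup.normalizer T, ∀ t ∈ T, g * t * g⁻¹ ∈ T := fun g hg t ht =>
    (Subgroup.mem_set_normalizer_iff.mp hg t).mp ht
  have kB : ∀ a ∈ T, ∀ b ∈ T, ¬ Opp b a := fun a ha b hb ho => by
    refine hne (Set.Subset.antisymm hTD fun e he => ?_)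
    obtain ⟨g, hg, rfl⟩ := hR.subset_of_partners h1 hD.2.2.2 (hTD ha) (hTD hb) ho
      (H := Subgroup.normalizer T) (by rw [hD.1.generates]; exact le_top) (kA b (hTD hb) b hb rfl)
      (fun c hc h _ => kA c hc a ha h.symm) e he
    exact kN g hg a ha
  have kC : ∀ a ∈ T, ∀ b ∈ T, a * b = b * a := fun a ha b hb => by
    by_contra hab
    have ha' := hTD ha
    have hb' := hTD hb
    obtain ⟨c1, c2, c3, c4, -, c6, -⟩ := hR.comm_facts ha' hb' (kB b hb a ha) hab
    generalize (a * b) ^ 2 = c at c1 c2 c3 c4 c6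
    obtain ⟨z, hz, z1, z2⟩ := hR.exists_comm_of_not_E h1 c1 ha' c2 (c2 ▸ c6) fun e =>
      hab (hR.comm_of_AA_eq' h1 c1 ha' e hb' c3.symm).symm
    have z3 : c * z ≠ z * c := fun e =>
      hR.ne_one ha' (by rw [← z2]; exact four_of_comm (hR.sq c1) (hR.sq hz) e)
    obtain ⟨-, -, d3, d4, -, -, -⟩ := hR.comm_facts c1 hz z1 z3
    rw [z2] at d3 d4
    have ho : Opp b z := by
      by_contra ho
      have h4 := hR.four_of_not_opp hb' hz ho
      have ea : (b * z) * a * (b * z)⁻¹ = c * a := by
        rw [c4, mul_inv_rev, hR.inv hb', mul_assoc b z a, ← d3]; group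
      have ec : (b * z) * c * (b * z)⁻¹ = a := by
        rw [mul_inv_rev, hR.inv hb', hR.inv hz]
        calc b * z * c * (z * b) = b * (z * c * z) * b := by group
          _ = (b * a * b) * (b * c * b) := by rw [← d4]; simp [mul_assoc, sq' (hR.sq hb')]
          _ = a := by rw [← c4, ← c3, mul_assoc c b b, hR.sq hb', mul_one, mul_assoc, ← c2, sq' (hR.sq c1)]
      generalize b * z = g at h4 ea ec
      have e2 : g * (c * a) * g⁻¹ = c := by
        rw [← conj_mul, ea, ec, ← mul_assoc, ← c2, mul_assoc, hR.sq ha', mul_one]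
      have : g ^ 4 * a * (g ^ 4)⁻¹ = c * a := by
        calc g ^ 4 * a * (g ^ 4)⁻¹ = g * (g * (g * (g * a * g⁻¹) * g⁻¹) * g⁻¹) * g⁻¹ := by
              simp only [pow_succ, pow_zero, one_mul, mul_inv_rev, mul_assoc]
          _ = c * a := by rw [ea, e2, ec, ea]
      rw [h4] at this
      exact hR.ne_one c1 (by simpa using this.symm)
    obtain ⟨k, hk⟩ := exists_conj_of_odd (hR.sq hb') (hR.sq hz) ho.2
    exact kB z (hk ▸ kN _ (Subgroup.pow_mem _ (Subgroup.mul_mem _ (kA b hb' b hb rfl)
      (kA z hz a ha d3.symm)) k) b hb) b hb ho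
  exact Subgroup.isMulCommutative_closure fun a ha b hb => kC a ha b hb

end Cfsg.Agent.S5053
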