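import Cfsg.Statements.S5055
import Cfsg.Agent.H18.RootC

set_option autoImplicit false
open Cfsg

namespace Cfsg.Agent.S5055

open Cfsg.Agent.H36 Cfsg.Agent.H18RI
open scoped commutatorElement

/-- The Root Structure Theorem for root involutions. Let G be a finite group with O₂(G) = 1 and trivial centre, generated by a non-degenerate class D of root involutions such that for every d ∈ D the members of D with the same commuting members as d, together with 1, form a subgroup E(d). For d ∈ D let M_d be the subgroup generated by d and the members e ≠ d of D commuting with d with ed ∈ D, let W_d be the set of members of D commuting with d that have no partner with product of odd order among the members commuting with d, and let N_d be the subgroup generated by W_d. Then N_d = M_d; the members of D in N_d are d and the e just described; the commutator subgroup of N_d is E(d); and the members of D central in N_d are exactly those with the same commuting members as d. -/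
theorem result {G : Type*} [Group G] [Finite G] {D : Set G} (hD : Cfsg.IsNondegenerateRootInvolutionSet D)
    (hcl : Cfsg.IsRootInvolutionClass D) (hO : Cfsg.pCore 2 G = ⊥) (hZ : Subgroup.center G = ⊥)
    (hE : ∀ d ∈ D, (Cfsg.sameCommutingSubgroup D d : Set G) = Cfsg.sameCommutingClass D d ∪ {1}) {d : G} (hd : d ∈ D) :
    Subgroup.closure {w | Cfsg.IsIsolatedElem (Cfsg.OddAdj (Cfsg.commutingMembers D d)) (Cfsg.commutingMembers D d) w} =
      Subgroup.closure (Cfsg.productPartners D d ∪ {d}) ∧
    D ∩ (Subgroup.closure (Cfsg.productPartners D d ∪ {d}) : Set G) = Cfsg.productPartners D d ∪ {d} ∧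
    ⁅Subgroup.closure (Cfsg.productPartners D d ∪ {d}), Subgroup.closure (Cfsg.productPartners D d ∪ {d})⁆ =
      Cfsg.sameCommutingSubgroup D d ∧
    Cfsg.sameCommutingClass D d = {e | e ∈ D ∧ e ∈ Subgroup.closure (Cfsg.productPartners D d ∪ {d}) ∧
      ∀ y ∈ Subgroup.closure (Cfsg.productPartners D d ∪ {d}), e * y = y * e} := by
  have hR := RI.of hD.1
  have h1 := oneClass_of_class hcl
  have C : Ctx D := by
    refine ⟨hR, h1, ctx_of hD hcl hZ, fun a ha e he h hne => ?_⟩
    have h2 : a * e ∈ (sameCommutingSubgroup D a : Set G) := by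
      refine Subgroup.mul_mem _ (Subgroup.subset_closure ?_) (Subgroup.subset_closure ?_)
      · rw [EE_eq hR h1 ha]; exact EE.self ha
      · rw [EE_eq hR h1 ha]; exact ⟨he, h.symm⟩
    rw [hE a ha] at h2
    rcases h2 with h2 | h2
    · exact h2.1
    · exact absurd (by rw [eq_inv_of_mul_eq_one_left h2, hR.inv he]) hne
  rw [← C.WW_eq hd]
  have hW : {w | IsIsolatedElem (OddAdj (commutingMembers D d)) (commutingMembers D d) w} = WW D d := by
    ext w
    rw [Set.mem_ofPred_eq, isolated_iff]
    exact ⟨fun h => ⟨h.1.1, h.1.2, fun v hv hvd => h.2 v ⟨hv, hvd⟩⟩,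
      fun h => ⟨⟨h.1, h.2.1⟩, fun v hv => h.2.2 v hv.1 hv.2⟩⟩
  refine ⟨by rw [hW], ?_, ?_, ?_⟩
  · ext y
    exact ⟨fun h => mem_WW_of_MM hR h.1 h.2, fun h => ⟨h.1, Subgroup.subset_closure h⟩⟩
  · apply le_antisymm
    · rw [Subgroup.commutator_le]
      intro m hm u hu
      rcases C.commutator_MM hd hu hm with h | h
      · rw [h]; exact Subgroup.one_mem _
      · exact Subgroup.subset_closure (by rw [EE_eq hR h1 hd]; exact h)
    · rw [sameCommutingSubgroup, Subgroup.closure_le, EE_eq hR h1 hd]
      intro e he
      obtain ⟨a, b, s⟩ := exists_sp_comm hR h1 hD.2.2.2 he.1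
      have ha : a ∈ WW D d := WW.congr hR h1 he.1 hd he.2
        (WW.of_col hR he.1 s.hu (s.uq ▸ s.mul_mem' hR))
      have hb : b ∈ WW D d := WW.congr hR h1 he.1 hd he.2
        (WW.of_col hR he.1 s.hp (s.pq ▸ s.mul_mem hR))
      have : e = ⁅a, b⁆ := by
        rw [commutatorElement_def, hR.inv s.hu, hR.inv s.hp, ← s.sq hR]
        simp only [pow_two, mul_assoc]
      rw [this]
      exact Subgroup.commutator_mem_commutator (Subgroup.subset_closure ha) (Subgroup.subset_closure hb)
  · rw [EE_eq hR h1 hd]
    ext e
    constructor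
    · intro he
      refine ⟨he.1, Subgroup.subset_closure (WW.of_ev hR h1 hd (WW.self hR hd) he.1 he.2.symm), ?_⟩
      intro y hy
      exact comm_closure (fun s hs => (comm_of_ev hR h1 hd he.1 he.2.symm hs.1 hs.2.1).symm) hy
    · rintro ⟨he, hm, h⟩
      refine ⟨he, (ev_of_cent hR h1 C.gen hd he (MM.comm hm) fun b hb hdb => ?_).symm⟩
      exact h b (Subgroup.subset_closure (WW.of_col hR hd hb hdb))

end Cfsg.Agent.S5055
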