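import Cfsg.Statements.S5175
import Cfsg.Agent.H82.HnMain
import Cfsg.Agent.H82.HnF2
import Cfsg.Agent.H82.HnL
import Cfsg.Agent.H82.HnJ
import Cfsg.Agent.H82.HnCrd
import Cfsg.Agent.H82.HnRt
import Cfsg.Agent.H82.HnNof
import Cfsg.Agent.H82.HnExt
import Cfsg.Agent.H82.HnEmb
import Cfsg.Agent.H16.HnG2
import Cfsg.Agent.H16.HnG3
import Cfsg.Agent.H16.HnFA
import Cfsg.Agent.H16.HnFB
import Cfsg.Agent.H47.HnA6
import Cfsg.Agent.H47.HnL33
import Cfsg.Agent.H5.HnEss
import Cfsg.Agent.H2.HnHost
import Cfsg.Agent.H1.HenMc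
import Cfsg.Agent.H64.HnJuv
import Cfsg.Agent.H10.HenJu
import Cfsg.Agent.H10.HenJ3
import Cfsg.Agent.H57.HenJ2
import Cfsg.Agent.H12.HnLift
import Cfsg.Agent.H37.HenJ1
import Cfsg.Agent.H87.HnJub
import Cfsg.Agent.H90.HnU32
-- import your own Cfsg.Agent.* helpers here

set_option autoImplicit false
universe u
open Cfsg

namespace Cfsg.Agent.S5175

/-- A classification of minimal 2-fusion systems in the pushing-up case. Let F be a saturated fusion system over a finite 2-group S that is minimal: its largest normal subgroup is trivial and the normalizer system of every nontrivial fully normalized subgroup is solvable (solvable meaning that every factor system by a proper strongly closed subgroup has a nontrivial normal subgroup). Suppose there is a proper saturated subsystem N of F over S that contains the normalizer system N_F(R) of every nontrivial normal subgroup R of S for which N_F(R) contains N_F(S). Then F is realized by a finite group G with S as a Sylow 2-subgroup such that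 one of the following holds: S is dihedral of order at least 16 and G is isomorphic to PSL(2, r) or PGL(2, r) with r odd; S is quasi-dihedral and G has a normal subgroup of index 2 with trivial centralizer isomorphic to PSL(2, r²) with r odd; S is quasi-dihedral of order 16 and G is isomorphic to PSL(3,3); S has order 32 and G is isomorphic to the automorphism group of the alternating group of degree 6 or of PSL(3,3); S has order 2⁷ and G is isomorphic to the Janko group J₃; or the generalized Fitting subgroup of G is isomorphic to PSL(3, q) or to PSp(4, 2ᵉ) with e odd, has odd index in O²(G) (the subgroup generated by the elements of odd order), and O²(G) has index 2 in G. -/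
theorem result {Ω : Type u} [Group Ω] {S : Subgroup Ω} [Finite S] (hS : IsPGroup 2 S)
    (F : Cfsg.FusionSystem S) (hF : F.IsSaturated 2) (hO : F.core = ⊥)
    (hmin : ∀ U : Subgroup Ω, U ≠ ⊥ → F.IsFullyNormalized U →
      ∀ E : Cfsg.FusionSystem (Cfsg.FusionSystem.normalizerIn S U), F.IsNormalizerSystem U E →
        E.IsSolvableSystem)
    (N : Cfsg.FusionSystem S) (hNsat : N.IsSaturated 2) (hNle : N ≤ F) (hNne : N ≠ F)
    (hpar : ∀ R : Subgroup Ω, R ≠ ⊥ → R ≤ S → S ≤ Subgroup.normalizer (R : Set Ω) →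
      (∀ P : Subgroup Ω, F.normalizerHom S P ⊆ F.normalizerHom R P) →
      ∀ P : Subgroup Ω, F.normalizerHom R P ⊆ N.Hom P) :
    ∃ (G : Type u) (_ : Group G) (_ : Finite G) (ι : ↥S →* G),
      F.IsRealizedBy ι ∧ (∃ T : Sylow 2 G, (T : Subgroup G) = ι.range) ∧
      (((∃ m : ℕ, 8 ≤ m ∧ Nonempty (↥S ≃* DihedralGroup m)) ∧
          ∃ (K : Type) (_ : Field K) (_ : Fintype K), Odd (Fintype.card K) ∧
            (Nonempty (G ≃* Matrix.ProjectiveSpecialLinearGroup (Fin 2) K) ∨
              Nonempty (G ≃* GL (Fin 2) K ⧸ Subgroup.center (GL (Fin 2) K)))) ∨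
        (Cfsg.IsQuasiDihedral ↥S ∧
          ∃ (K : Type) (_ : Field K) (_ : Fintype K) (r : ℕ), Odd r ∧ Fintype.card K = r ^ 2 ∧
            ∃ L : Subgroup G, L.Normal ∧ L.index = 2 ∧ Subgroup.centralizer (L : Set G) = ⊥ ∧
              Nonempty (↥L ≃* Matrix.ProjectiveSpecialLinearGroup (Fin 2) K)) ∨
        (Cfsg.IsQuasiDihedral ↥S ∧ Nat.card S = 16 ∧
          Nonempty (G ≃* Matrix.ProjectiveSpecialLinearGroup (Fin 3) (ZMod 3))) ∨
        (Nat.card S = 32 ∧ (Nonempty (G ≃* MulAut ↥(alternatingGroup (Fin 6))) ∨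
          Nonempty (G ≃* MulAut (Matrix.ProjectiveSpecialLinearGroup (Fin 3) (ZMod 3))))) ∨
        (Nat.card S = 2 ^ 7 ∧ Cfsg.Spor.IsoJ3 G) ∨
        (∃ (K : Type) (_ : Field K) (_ : Fintype K),
          (Nonempty (↥(Cfsg.generalizedFittingSubgroup G) ≃* Matrix.ProjectiveSpecialLinearGroup (Fin 3) K) ∨
            (Nonempty (↥(Cfsg.generalizedFittingSubgroup G) ≃* Cfsg.PSp 2 K) ∧
              ∃ e : ℕ, Odd e ∧ Fintype.card K = 2 ^ e)) ∧
          Cfsg.generalizedFittingSubgroup G ≤ Cfsg.pResidual 2 G ∧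
          Odd ((Cfsg.generalizedFittingSubgroup G).subgroupOf (Cfsg.pResidual 2 G)).index ∧
          (Cfsg.pResidual 2 G).index = 2)) := by
  obtain ⟨Γ, _, _, S', Φ, F', N', θ, θ', h1, h2⟩ :=
    H2Host.host Ω S F N hS hF hO hmin hNsat hNle hNne hpar
  exact H12.HnL.lift Ω S F Γ S' F' θ θ' h1 (H82.HN.concl_of_hs
    (H82.HN.front H82.HN.embStmt H82.HN.lStmt) H82.HN.nxStmt H82.HN.jStmt H82.HN.dihStmt
    H82.HN.q2Stmt H1.HenMc.mc (H90.U32.u32 H5.HnE.ess) H47.HnA6.a6 H47.HnL33.l33 H82.HN.crdStmt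
    H82.HN.nofStmt H82.HN.t2Stmt
    (fun sp => by cases sp; exacts [H16.HnG.gl3, H16.HnG.gsp])
    (H16.HnG.fusA H82.HN.rtIsoStmt H82.HN.extStmt) (H16.HnG.fusB H5.HnE.ess) H12.HnL.str
    (H37.HJ.j1 H5.HnE.ess) H57.HenJ2.j2Stmt (H10.HJu.ju H5.HnE.ess H87.HnJub.jub H64.Juv.juv) H10.HJu.j3 h2)


end Cfsg.Agent.S5175
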