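import Cfsg.Statements.S5177
import Cfsg.Agent.H97.XSMain
import Cfsg.Agent.H47.XsI
import Cfsg.Agent.H21.XsC2b
import Cfsg.Agent.H67.XsN
import Cfsg.Agent.H37.XsM
import Cfsg.Agent.H45.XsC2a
import Cfsg.Agent.H69.XsC1b
import Cfsg.Agent.H32.XsMsu
import Cfsg.Agent.H5.XSPearl
import Cfsg.Agent.H20.XSC1
import Cfsg.Agent.H64.XsC
-- import your own Cfsg.Agent.* helpers here

set_option autoImplicit false
universe u
open Cfsg

namespace Cfsg.Agent.S5177

/-- Let p be an odd prime, S a finite p-group of order at least p⁶ containing an extraspecial subgroup Q of index p, and F a saturated fusion system over S whose largest subgroup normal in F is trivial. Then S is isomorphic to a Sylow p-subgroup of SL(4,p), to a Sylow p-subgroup of SU(4,p), to a Sylow p-subgroup of G₂(p) with p ≥ 5, or p ≥ 11 and S has order p^(p−1), exponent p and maximal nilpotency class. -/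
theorem result {Ω : Type u} [Group Ω] {S : Subgroup Ω} [Finite S] (p : ℕ) [Fact p.Prime] (hp : Odd p) (hS : IsPGroup p S)
    (Q : Subgroup Ω) (hQS : Q ≤ S) (hQ : Cfsg.IsExtraspecial p ↥Q) (hQi : (Q.subgroupOf S).index = p)
    (h6 : p ^ 6 ≤ Nat.card S)
    (F : Cfsg.FusionSystem S) (hF : F.IsSaturated p) (hO : F.core = ⊥) [Group.IsNilpotent ↥S] :
    (∃ P : Sylow p (Matrix.SpecialLinearGroup (Fin 4) (ZMod p)),
        Nonempty (↥S ≃* ↥(P : Subgroup (Matrix.SpecialLinearGroup (Fin 4) (ZMod p))))) ∨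
      (∃ (K : Type) (_ : Field K) (_ : Fintype K), Fintype.card K = p ^ 2 ∧
        ∃ P : Sylow p ↥(Cfsg.SU 4 K p), Nonempty (↥S ≃* ↥(P : Subgroup ↥(Cfsg.SU 4 K p)))) ∨
      (5 ≤ p ∧ ∃ P : Sylow p ↥(Cfsg.Lie.G2 (ZMod p)), Nonempty (↥S ≃* ↥(P : Subgroup ↥(Cfsg.Lie.G2 (ZMod p))))) ∨
      (11 ≤ p ∧ Nat.card S = p ^ (p - 1) ∧ (∀ x : ↥S, x ^ p = 1) ∧ Group.nilpotencyClass ↥S = p - 2) := by
  exact H97.XS.main H67.XsN.n22Stmt H67.XsN.nG2Stmt H47.XsI.i22 H47.XsI.iG2 H37.XsM.mSL H32.XsU4.msu H37.XsM.mG2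
    (H20.XS.c1Stmt H69.XsC1b.c1b) H45.XS.c2a H21.XS.c2b H64.XsC.c2c H5.PE.xs_pearl p hp hS Q hQS hQ hQi h6 F hF hO

end Cfsg.Agent.S5177
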