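import Cfsg.Statements.S5179
import Cfsg.Agent.H5.DerP

set_option autoImplicit false
universe u
open Cfsg

namespace Cfsg.Agent.S5179

/-- Let p be an odd prime, S a finite p-group of order at least p⁶ containing an extraspecial subgroup Q of index p, and F a saturated fusion system over S whose largest subgroup normal in F is trivial. Then no proper subgroup of Q is essential in F: an essential subgroup of F contained in Q equals Q. -/
theorem result {Ω : Type u} [Group Ω] {S : Subgroup Ω} [Finite S] (p : ℕ) [Fact p.Prime] (hp : Odd p) (hS : IsPGroup p S)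
    (Q : Subgroup Ω) (hQS : Q ≤ S) (hQ : Cfsg.IsExtraspecial p ↥Q) (hQi : (Q.subgroupOf S).index = p)
    (h6 : p ^ 6 ≤ Nat.card S)
    (F : Cfsg.FusionSystem S) (hF : F.IsSaturated p) (hO : F.core = ⊥)
    (E : Subgroup Ω) (hEQ : E ≤ Q) (hE : F.IsEssential p E) : E = Q := by
  open Cfsg.Agent.H5 Cfsg.Agent.H97 Cfsg.Agent.H98 Cfsg.Agent.H96 Cfsg.FusionSystem in
  open scoped commutatorElement in
  have := finite_of_le hQS
  have hi : Q.relIndex S ∣ p := hQi.dvd
  have hn := le_normalizer_of_relIndex_dvd hS hQS hi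
  have hQ' : ⁅Q, Q⁆ = centralizerIn Q Q := by
    rw [← Subgroup.map_subtype_commutator, hQ.1.2.2, map_center_eq]
  have hc : Nat.card (centralizerIn Q Q) = p := by rw [card_center_eq, hQ.2]
  have := finite_of_card_eq_prime hc
  have hZ : centralizerIn Q Q ≤ centralizerIn S S := le_center_of_card_eq hS
    (H97.centralizerIn_le.trans hQS) hc fun g hg => mem_normalizer_of_conj_mem fun x hx =>
      mem_centralizerIn_comm.2 ⟨nconj (hn hg) hx.1, fun y hy => by
        have := (mem_centralizerIn_comm.1 hx).2 _ (nconj' (hn hg) hy)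
        calc y * (g * x * g⁻¹) = g * (g⁻¹ * y * g * x) * g⁻¹ := by group
          _ = _ := by rw [this]; group⟩
  have hZE := hZ.trans (ess_center_le hE)
  have hK : Q ≤ normalizerIn S E := le_inf hQS (le_normalizer_of_commutator_mem fun x hx y hy =>
    hZE (hQ'.le (comm_mem_comm hx (hEQ hy))))
  have h1 : ∀ g ∈ Q, ∀ x ∈ E, x⁻¹ * (g * x * g⁻¹) ∈ centralizerIn Q Q := fun g hg x hx =>
    hQ'.le (inv_mul_conj_mem_comm (hEQ hx) hg)
  by_cases hab : ∀ x ∈ E, ∀ y ∈ E, x * y = y * x
  swap
  · exact le_antisymm hEQ (ess_le_of_not_comm hS hE hK hEQ hc h1 hab)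
  have h2 := ess_relIndex_dvd_of_tv hS hF hE hK hc hZE h1 fun g hg x hx => by
    rw [(mem_centralizerIn_comm.1 hx).2 g hg, mul_inv_cancel_right]
  have h3 := relIndex_center_dvd (hS.to_le hQS) hEQ h2 hab hc fun x hx g hg =>
    hQ'.le (comm_mem_comm (hEQ hx) hg)
  have h4 : Nat.card S ∣ p * p * p * p := by
    rw [← card_mul_relIndex' hQS, ← card_mul_relIndex' hEQ, ← card_mul_relIndex' hZE, hc]
    exact Nat.mul_dvd_mul (Nat.mul_dvd_mul (Nat.mul_dvd_mul_left _ h3) h2) hi
  have h5 := (Fact.out : p.Prime).one_lt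
  have h7 := h6.trans (Nat.le_of_dvd (by positivity) h4)
  rw [show p * p * p * p = p ^ 4 by ring, Nat.pow_le_pow_iff_right h5] at h7
  omega

end Cfsg.Agent.S5179
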