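import Cfsg.Statements.S5181
import Cfsg.Agent.H5.SR3

set_option autoImplicit false
universe u
open Cfsg

namespace Cfsg.Agent.S5181

/-- Let p be an odd prime, S a finite p-group of sectional p-rank exactly 3, and F a saturated fusion system over S whose largest subgroup normal in F is trivial. Then either S is isomorphic to a Sylow p-subgroup of Sp(4,p), or some essential subgroup of F is not normal in S. -/
theorem result {Ω : Type u} [Group Ω] {S : Subgroup Ω} [Finite S] (p : ℕ) [Fact p.Prime] (hp : Odd p) (hS : IsPGroup p S) (hsr : Cfsg.SectionalPRankLE p 3 ↥S ∧ ¬ Cfsg.SectionalPRankLE p 2 ↥S)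
    (F : Cfsg.FusionSystem S) (hF : F.IsSaturated p) (hO : F.core = ⊥) :
    (∃ P : Sylow p ↥(Matrix.symplecticGroup (Fin 2) (ZMod p)),
        Nonempty (↥S ≃* ↥(P : Subgroup ↥(Matrix.symplecticGroup (Fin 2) (ZMod p))))) ∨
      ∃ E : Subgroup Ω, F.IsEssential p E ∧ ¬ S ≤ Subgroup.normalizer (E : Set Ω) := by
  have h2 : p ≠ 2 := fun e => by subst e; exact absurd hp (by decide)
  refine or_iff_not_imp_right.2 fun h => ?_
  push Not at h
  exact (H5.all_normal hS hF h2 (H5.R3.of_sectional hS hsr.1) hsr.2 hO h).1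

end Cfsg.Agent.S5181
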