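import Cfsg.Statements.S5185
import Cfsg.Agent.H5.EssSmall

set_option autoImplicit false
universe u
open Cfsg

namespace Cfsg.Agent.S5185

open Cfsg.Agent.H5

/-- Let F be a saturated fusion system over a finite p-group S and H an essential subgroup of order p². Then H is elementary abelian (isomorphic to C_p × C_p) and its F-automorphism group contains a subgroup isomorphic to SL(2,p). -/
theorem result {Ω : Type u} [Group Ω] {S : Subgroup Ω} [Finite S] (p : ℕ) [Fact p.Prime] (hS : IsPGroup p S)
    (F : Cfsg.FusionSystem S) (hF : F.IsSaturated p) (H : Subgroup Ω) (hH : F.IsEssential p H) (hcard : Nat.card H = p ^ 2) :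
    Cfsg.IsElementaryAbelian p H ∧
      ∃ K : Subgroup ↥(F.autGroup H), Nonempty (↥K ≃* Matrix.SpecialLinearGroup (Fin 2) (ZMod p)) := by
  obtain ⟨Φ, h1, h2⟩ := ess_exists_SL2 hS hF hH hcard
  exact ⟨ess_elementary_of_card_sq hS hF hH hcard, Φ.range.subgroupOf _,
    ⟨(Subgroup.subgroupOfEquivOfLe h2).trans (MonoidHom.ofInjective h1).symm⟩⟩

end Cfsg.Agent.S5185
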