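import Cfsg.Statements.S5188
import Cfsg.Agent.H5.EssSmall
import Cfsg.Agent.H49.XS

set_option autoImplicit false
universe u
open Cfsg

namespace Cfsg.Agent.S5188

open Cfsg.Agent.H5

/-- Let F be a saturated fusion system over a finite p-group S and H an essential subgroup of order p⁴. Then H is isomorphic to one of: C_p⁴ or C_{p²} × C_p × C_p (any p); C_{p²} × C_{p²} with p ∈ {2, 3}; p^{1+2}_+ × C_p with p odd (the direct product of an extraspecial group of order p³ and exponent p with a group of order p); Q₈ × C₂ (p = 2); or the non-abelian group of order p⁴ of exponent p² whose centre is cyclic of order p² (the central product of an extraspecial group of order p³ with a cyclic group of order p²; for p = 2 this is D₈ ∘ C₄). -/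
theorem result {Ω : Type u} [Group Ω] {S : Subgroup Ω} [Finite S] (p : ℕ) [Fact p.Prime] (hS : IsPGroup p S)
    (F : Cfsg.FusionSystem S) (hF : F.IsSaturated p) (H : Subgroup Ω) (hH : F.IsEssential p H) (hcard : Nat.card H = p ^ 4) :
    Cfsg.IsElementaryAbelian p H ∨
      Nonempty (↥H ≃* Multiplicative (ZMod (p ^ 2) × ZMod p × ZMod p)) ∨
      ((p = 2 ∨ p = 3) ∧ Nonempty (↥H ≃* Multiplicative (ZMod (p ^ 2) × ZMod (p ^ 2)))) ∨
      (Odd p ∧ ∃ (E : Type) (_ : Group E) (_ : Finite E), Cfsg.IsExtraspecial p E ∧ Nat.card E = p ^ 3 ∧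
        (∀ x : E, x ^ p = 1) ∧ Nonempty (↥H ≃* E × Multiplicative (ZMod p))) ∨
      (p = 2 ∧ Nonempty (↥H ≃* QuaternionGroup 2 × Multiplicative (ZMod 2))) ∨
      (¬ IsMulCommutative ↥H ∧ (∀ x ∈ H, x ^ (p ^ 2) = 1) ∧ IsCyclic ↥(Subgroup.center ↥H) ∧
        Nat.card (Subgroup.center ↥H) = p ^ 2) := by
  have := Cfsg.Agent.H98.finite_of_le (ess_le hH)
  have hp : p.Prime := Fact.out
  have hN := ess_noChain hS hF hH
  by_cases hc : IsMulCommutative H
  · obtain ⟨k, hk, e⟩ := exists_index_eq (H := frattini H) hcard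
    have h1 := hN.one
    interval_cases k
    · simp [e] at h1
    · simp [e] at h1
    · rcases ess_abelian_rank_two hS hF hH hc e.dvd with h | ⟨h3, k, ⟨f⟩⟩
      · exact Or.inl h.1
      · have h2 := Nat.card_congr f.toEquiv
        rw [nat_card_multiplicative_prod, hcard, ← pow_add] at h2
        have h4 := Nat.pow_right_injective hp.two_le h2
        obtain rfl : k = 2 := by omega
        refine Or.inr (Or.inr (Or.inl ⟨?_, ⟨f⟩⟩))
        have := hp.two_le
        omega
    · exact Or.inr (Or.inl (equiv_of_abelian_rank_three hcard hc.is_comm.comm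
        ((card_eq_of_index (a := 1) hcard e).trans (pow_one p))))
    · have := (Cfsg.Agent.H3.frattini_eq_bot_iff (IsPGroup.of_card hcard)).1
        (Subgroup.card_eq_one.1 (card_eq_of_index (a := 0) hcard e))
      exact Or.inl ⟨hc, fun a ha => congrArg Subtype.val (this.2 ⟨a, ha⟩)⟩
  · rcases hN.card_four hcard hc with ⟨h2, R, h3, h4, h5, ⟨f⟩⟩ | h | h
    · obtain ⟨E, _, _, ⟨g⟩⟩ := Finite.exists_type_univ_nonempty_mulEquiv.{u, 0} R
      refine Or.inr (Or.inr (Or.inr (Or.inl ⟨hp.odd_of_ne_two h2, E, inferInstance, inferInstance,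
        Cfsg.Agent.H49.isExtraspecial_of_mulEquiv h3 g, (Nat.card_congr g.toEquiv).symm.trans h4,
        fun x => ?_, ⟨f.trans (g.prodCongr (MulEquiv.refl _))⟩⟩)))
      obtain ⟨y, rfl⟩ := g.surjective x
      rw [← map_pow, show y ^ p = 1 from Subtype.ext (h5 y), map_one]
    · exact Or.inr (Or.inr (Or.inr (Or.inr (Or.inl h))))
    · exact Or.inr (Or.inr (Or.inr (Or.inr (Or.inr
        ⟨hc, fun x hx => congrArg Subtype.val (h.1 ⟨x, hx⟩), h.2⟩))))

end Cfsg.Agent.S5188
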