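import Cfsg.Statements.S5192
import Cfsg.Agent.H98.CenterTrace

set_option autoImplicit false
open Cfsg

namespace Cfsg.Agent.S5192

/-- A Thompson-type transfer for saturated fusion systems. Let F be a saturated fusion system on a finite 2-group S, T a subgroup of S of index 2, and i an involution of S such that every fully normalized F-conjugate of i lies in S but outside T. Then i does not lie in the hyperfocal subgroup of F (the Sylow group of the 2-residual subsystem). -/
theorem result {Ω : Type*} [Group Ω] [Finite Ω] {S : Subgroup Ω}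
    (hS : IsPGroup 2 ↥S) (F : Cfsg.FusionSystem S) (hF : F.IsSaturated 2)
    (T : Subgroup Ω) (hTS : T ≤ S) (hT : T.relIndex S = 2)
    (i : Ω) (hi : i ∈ S) (hi2 : orderOf i = 2)
    (h : ∀ j : Ω, F.IsConjElt i j → F.IsFullyNormalized (Subgroup.zpowers j) → j ∉ T) :
    i ∉ F.hyperfocalSubgroup 2 := by
  intro hyp
  obtain ⟨Q, hiQ, hQ⟩ := H96.exists_fullyNormalized F (Subgroup.zpowers_le.2 hi)
  obtain ⟨f, hf, rfl⟩ := H97.isConj_iff.1 hiQ
  have hij := hf.isConjElt (Subgroup.mem_zpowers i)
  have himg : ∀ (x : Ω) (g : Ω → Ω), H97.HomOn (Subgroup.zpowers x) g →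
      H97.img (Subgroup.zpowers x) g = Subgroup.zpowers (g x) := fun x g hz => by
    refine le_antisymm (H97.img_le_iff.2 ?_) (Subgroup.zpowers_le.2
      (H97.mem_img_of_mem g (Subgroup.mem_zpowers _)))
    rintro _ ⟨k, rfl⟩
    exact ⟨k, (hz.map_zpow (Subgroup.mem_zpowers _) k).symm⟩
  rw [himg i f hf.homOn] at hQ
  have hj : f i ∈ S := hf.mem (Subgroup.mem_zpowers i)
  have hj2 : orderOf (f i) = 2 := (H96.mor_orderOf_eq hf (Subgroup.mem_zpowers i)).trans hi2
  have hn : (T.subgroupOf S).Normal := Subgroup.normal_of_index_eq_two hT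
  have hc : ⁅S, S⁆ ≤ T := by
    have : IsCyclic (S ⧸ T.subgroupOf S) := isCyclic_of_prime_card hT
    have hc : commutator S ≤ T.subgroupOf S :=
      Subgroup.Normal.quotient_commutative_iff_commutator_le.1 IsCyclic.isMulCommutative
    conv_lhs => rw [← Subgroup.range_subtype S, MonoidHom.range_eq_map, ← Subgroup.map_commutator]
    exact (Subgroup.map_mono hc).trans (Subgroup.map_comap_le _ _)
  obtain ⟨A, _, χ, hχ, hker, -, hA⟩ := H98.exists_char_ker hc
  rw [hT] at hA
  obtain ⟨a, ha, ha'⟩ := (Nat.card_eq_two_iff' (1 : A)).1 hA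
  refine H98.not_mem_foc_of_char hS hF (fun a => hA ▸ pow_card_eq_one') hχ hj
    (hj2 ▸ pow_orderOf_eq_one _) ha (fun g hg => ha' _ fun h1 => ?_)
    (H98.hyp_le_foc F 2 (H96.mem_of_stronglyClosed (H98.stronglyClosed_hyp hS hF) hf
      (Subgroup.mem_zpowers i) hyp))
  have hN : Cfsg.FusionSystem.normalizerIn S (Subgroup.zpowers (f i)) ≤
      Cfsg.FusionSystem.centralizerIn S (Subgroup.zpowers (f i)) := fun y hy => by
    refine H96.mem_centralizerIn_conj.2 ⟨hy.1, fun z hz => ?_⟩
    have hcard : Nat.card (Subgroup.zpowers (f i)) = 2 := by rw [Nat.card_zpowers, hj2]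
    obtain ⟨b, -, hb⟩ := (Nat.card_eq_two_iff' (1 : Subgroup.zpowers (f i))).1 hcard
    by_cases hz1 : z = 1
    · simp [hz1]
    · have e1 := hb ⟨z, hz⟩ fun h => hz1 (congrArg Subtype.val h)
      have e2 := hb ⟨_, H96.conj_mem_of_mem_normalizerIn hy hz⟩ fun h => hz1 (by
        simpa using congrArg Subtype.val h)
      exact congrArg Subtype.val (e2.trans e1.symm)
  have hle := (H97.le_normalizerIn hQ.1).trans hN
  have h2 := (H96.iso_restrict hg hle).fullyNormalized_of_mor hg hN hQ
  rw [himg _ g (hg.mono hle).homOn] at h2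
  have h3 : F.IsConjElt i (g (f i)) :=
    (hf.comp hg fun x hx => hle (himg i f hf.homOn ▸ H97.mem_img_of_mem f hx)).isConjElt
      (Subgroup.mem_zpowers i)
  exact h _ h3 h2 ((hker _ (hg.mem (hle (Subgroup.mem_zpowers _)))).1 h1)

end Cfsg.Agent.S5192
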