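import Cfsg.Statements.S5200
import Cfsg.Agent.H95.ES
import Cfsg.Agent.H98.CenterTrace
import Cfsg.Agent.S5193
import Cfsg.Agent.H96.ThompsonJ

set_option autoImplicit false
open Cfsg
open Cfsg.Agent.H95 Cfsg.Agent.H96 Cfsg.Agent.H97 Cfsg.Agent.H98

namespace Cfsg.Agent.S5200

/-- Let F be a saturated fusion system over a finite p-group S and E a normal subsystem of F over T whose centralizer in S lies in T: every subgroup Y of C_S(T) such that E is contained in the centralizer fusion system of Y in F satisfies Y ≤ T. Then T·C_S(T)/T is abelian (the commutator subgroup of T·C_S(T) lies in T), and if p is odd then C_S(T) ≤ T. -/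
theorem result {Ω : Type*} [Group Ω] {S : Subgroup Ω} [Finite S] (p : ℕ) [Fact p.Prime] (hS : IsPGroup p S) (F : Cfsg.FusionSystem S) (hF : F.IsSaturated p) {T : Subgroup Ω} (E : Cfsg.FusionSystem T) (hE : E.IsNormalIn F p) (hCE : ∀ Y : Subgroup Ω, Y ≤ Cfsg.FusionSystem.centralizerIn S T → (∀ C : Cfsg.FusionSystem (Cfsg.FusionSystem.centralizerIn S Y), F.IsCentralizerSystem Y C → E.IsSubsystemOf C) → Y ≤ T) : ⁅T ⊔ Cfsg.FusionSystem.centralizerIn S T, T ⊔ Cfsg.FusionSystem.centralizerIn S T⁆ ≤ T ∧ (p ≠ 2 → Cfsg.FusionSystem.centralizerIn S T ≤ T) := by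
  have hI := normalIn_inv hE
  have hT := inv_stronglyClosed hI
  have hSn := le_normalizer_of_stronglyClosed hT
  have hC : ∀ Y, Y ≤ FusionSystem.centralizerIn S T → CentBy F E Y → Y ≤ T := fun Y h1 h2 =>
    hCE Y h1 fun C hC => (centBy_iff_sub hC).1 h2
  have hcomm : ∀ C : Subgroup Ω, C ≤ FusionSystem.centralizerIn S T → ⁅C, C⁆ ≤ T →
      ⁅T ⊔ C, T ⊔ C⁆ ≤ T := fun C h1 h2 => Subgroup.commutator_le.2 fun a ha b hb => by
    obtain ⟨t, ht, c, hc, rfl⟩ := H95.mem_sup_of_comm (h1.trans inf_le_right) ha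
    obtain ⟨t', ht', c', hc', rfl⟩ := H95.mem_sup_of_comm (h1.trans inf_le_right) hb
    have h3 := h2 (Subgroup.commutator_mem_commutator hc hc')
    have h4 := H96.conj_mem_of_mem_normalizer (hSn (h1 hc).1) ht'
    have h5 := H96.conj_mem_of_mem_normalizer (hSn (h1 hc').1) (T.inv_mem ht)
    convert T.mul_mem (T.mul_mem (T.mul_mem (T.mul_mem ht h4) h3) h5) (T.inv_mem ht') using 1
    simp only [commutatorElement_def]
    group
  refine ⟨hcomm _ le_rfl ?_, fun hp x hx => ?_⟩
  · obtain ⟨D, hD⟩ := exists_centralizerSystem F hT.1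
    exact (commutator_le_foc D).trans ((foc_le_CS hS hE hD).trans (hC _ CS_le (centBy_CS hS hE)))
  have hxC : Subgroup.zpowers x ≤ FusionSystem.centralizerIn S T := Subgroup.zpowers_le.2 hx
  have hRS : T ⊔ Subgroup.zpowers x ≤ S := sup_le hT.1 (hxC.trans centralizerIn_le)
  have hRR := hcomm _ hxC ((Subgroup.commutator_eq_bot_iff_le_centralizer.2
    (Subgroup.le_centralizer _)).le.trans bot_le)
  have hxZ : x ∈ FusionSystem.centralizerIn (T ⊔ Subgroup.zpowers x) (T ⊔ Subgroup.zpowers x) :=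
    ⟨Subgroup.mem_sup_right (Subgroup.mem_zpowers x), Subgroup.zpowers_le.1
      (Subgroup.le_centralizer_iff.1 (sup_le (Subgroup.le_centralizer_iff.1 (hxC.trans inf_le_right))
        (Subgroup.le_centralizer _)))⟩
  have hTR : T ≤ T ⊔ Subgroup.zpowers x := le_sup_left
  generalize T ⊔ Subgroup.zpowers x = R at hRS hRR hxZ hTR
  have := finite_of_le_S hRS
  have hR := hS.to_le hRS
  have hES := saturated_ES hS hE
  obtain ⟨D, hD, hDi⟩ := exists_pIndex hS hES hRS ((hyp_ES_le hS hI).trans hTR)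
  have hfoc : D.focalSubgroup ≤ T := foc_eq_hyp_sup hR hD ▸
    sup_le ((pIndex_hyp_eq hS hES hDi).le.trans (hyp_ES_le hS hI)) hRR
  have hJ := thompsonSubgroupAOf_le' R
  have hn := Subgroup.le_normalizer.trans (normalizer_le_normalizer_thompsonSubgroupAOf R)
  obtain ⟨N, hN⟩ := exists_normalizerSystem D hJ
  have hZ := (S5193.result p hR D hD N hN).2 (Or.inl hp)
  have := finite_of_le_S (H97.normalizerIn_le (S := R) (P := thompsonSubgroupAOf R))
  have hND : N.IsSubsystemOf D := isSubsystemOf_iff.2 fun P f hf => by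
    obtain ⟨-, g, hg, e, -⟩ := (mor_normalizerSystem_iff hN).1 hf
    exact (hg.mono le_sup_left).congr e
  obtain ⟨τ, m, hm, -, h1, -, h3⟩ := exists_trace (hR.to_le H97.normalizerIn_le)
    (normalizerSystem_saturated hR hD (fullyNormalized_of_le_normalizer D hJ hn) hN)
    (H99.nsys_isNormal hN hJ) fun z hz => centralizerIn_thompsonSubgroupAOf_le R
      ⟨hz.1.1, Subgroup.centralizer_le (le_normalizerIn hJ) hz.2⟩
  have hx' : x ∈ FusionSystem.centralizerIn (FusionSystem.normalizerIn R (thompsonSubgroupAOf R))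
      (FusionSystem.normalizerIn R (thompsonSubgroupAOf R)) :=
    ⟨⟨hxZ.1, hn hxZ.1⟩, Subgroup.centralizer_le H97.normalizerIn_le hxZ.2⟩
  have hED := sub_of_pIndex hS (normalIn_sat hE) (sub_ES hS hI (normalIn_sat hE)) hDi hTR
  have hDF : D.IsSubsystemOf F := fun P => (pIndex_sub hDi P).trans (ES_sub hI P)
  have hZC : D.center ≤ FusionSystem.centralizerIn S T := fun z hz =>
    ⟨hRS (center_le_centralizerIn D hz).1,
      Subgroup.centralizer_le hTR (center_le_centralizerIn D hz).2⟩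
  have hZT := hC _ hZC (centBy_iff.2 ⟨Subgroup.le_centralizer_iff.1 (hZC.trans inf_le_right),
    fun P f hf => by
      obtain ⟨g, hg, e⟩ := (isCentral_iff.1 (isCentral_center D)).2 P f (hf.of_sub hED)
      exact ⟨g, hg.of_sub hDF, e⟩⟩)
  refine H98.mem_of_pow_mem hS hx.1 hm ?_
  have := T.mul_mem (hZT (hZ ▸ h1 x hx')) (T.inv_mem (hfoc (foc_mono hND (h3 x hx'))))
  rwa [mul_inv_rev, inv_inv, mul_inv_cancel_left] at this

end Cfsg.Agent.S5200
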