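import Cfsg.Statements.S5217
import Cfsg.Agent.H97.BcNN
import Cfsg.Agent.H58.BcStr
import Cfsg.Agent.H70.BcAlpha
import Cfsg.Agent.H89.BcLoc1
import Cfsg.Agent.H57.BcNorm
import Cfsg.Agent.H98.BcAmal
import Cfsg.Agent.H4.BcCyc
import Cfsg.Agent.H33.BcL2B
-- import your own Cfsg.Agent.* helpers here

set_option autoImplicit false
open Cfsg

namespace Cfsg.Agent.S5217

/-- Let S be a finite bicyclic 2-group (S = ⟨x⟩⟨y⟩) that is not metacyclic. Then S supports a saturated fusion system other than its inner fusion system if and only if the commutator subgroup of S is cyclic. -/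
theorem result {Ω : Type*} [Group Ω] {S : Subgroup Ω} [Finite S] (hS : IsPGroup 2 S) (hb : ∃ x y : ↥S, ∀ g : ↥S, ∃ i j : ℤ, g = x ^ i * y ^ j) (hm : ¬ Cfsg.IsMetacyclic ↥S) : (∃ F : Cfsg.FusionSystem S, F.IsSaturated 2 ∧ ¬ ∀ P : Subgroup Ω, F.Hom P = (Cfsg.innerFusionSystem S).Hom P) ↔ IsCyclic ↥(commutator ↥S) := by
  exact H97.Bc.main H58.BcStr.str H89.Bc.loc1 H33.Bc.loc2 H57.BcN.norm H97.Bc.nonNorm H98.Bc.amal
    H70.BcA.alpha H4.BcCyc.cyc hS hb hm

end Cfsg.Agent.S5217
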