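import Cfsg.Statements.S5233
import Cfsg.Agent.H5.StrCl

set_option autoImplicit false
open Cfsg

namespace Cfsg.Agent.S5233

open Cfsg.Agent.H5 Cfsg.Agent.H97 Cfsg.Agent.H98 Cfsg.Agent.H96 Cfsg.FusionSystem
open scoped commutatorElement

theorem structure_aux {Ω : Type*} [Group Ω] {p : ℕ} [hp : Fact p.Prime] {P : Subgroup Ω} [Finite P]
    (hP : IsPGroup p P) (hD : Nat.card (⁅P, P⁆ : Subgroup Ω) = p) (hZ : ∀ z ∈ centralizerIn P P, z ^ p = 1)
    {a g : Ω} (ha : a ∈ P) (hg : g ∈ P) (hag : a * g ≠ g * a) (hap : a ^ p = 1) (hgp : g ^ p ∈ ⁅P, P⁆)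
    (e : centralizerIn P P ⊔ Subgroup.zpowers a ⊔ Subgroup.zpowers g = P) :
    Nat.card (⁅P, P⁆ ⊔ Subgroup.zpowers a ⊔ Subgroup.zpowers g : Subgroup Ω) = p ^ 3 ∧
      ∃ (A : Type) (_ : CommGroup A), (∀ a : A, a ^ p = 1) ∧
        Nonempty (P ≃* (⁅P, P⁆ ⊔ Subgroup.zpowers a ⊔ Subgroup.zpowers g : Subgroup Ω) × A) := by
  have hDZ := der_le_center hP hD
  have hZP : centralizerIn P P ≤ P := H97.centralizerIn_le
  have hnorm : ∀ {A : Subgroup Ω}, ⁅P, P⁆ ≤ A → A ≤ P → P ≤ Subgroup.normalizer (A : Set Ω) :=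
    fun h1 h2 => le_normalizer_of_commutator_mem fun x hx y hy => h1 (comm_mem_comm hx (h2 hy))
  have h1 : ⁅P, P⁆ ⊔ Subgroup.zpowers a ≤ P := sup_le (commutator_self_le P) (Subgroup.zpowers_le_of_mem ha)
  have h2 : ⁅P, P⁆ ⊔ Subgroup.zpowers a ⊔ Subgroup.zpowers g ≤ P := sup_le h1 (Subgroup.zpowers_le_of_mem hg)
  have := finite_of_le h1
  have := finite_of_le h2
  have := finite_of_le hZP
  set X := ⁅P, P⁆ ⊔ Subgroup.zpowers a ⊔ Subgroup.zpowers g
  have haX : a ∈ X := Subgroup.mem_sup_left (Subgroup.mem_sup_right (Subgroup.mem_zpowers a))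
  have hgX : g ∈ X := Subgroup.mem_sup_right (Subgroup.mem_zpowers g)
  have hc : Nat.card X = p ^ 3 := by
    rw [← card_mul_relIndex' (le_sup_left : ⁅P, P⁆ ⊔ Subgroup.zpowers a ≤ X),
      ← card_mul_relIndex' (le_sup_left : ⁅P, P⁆ ≤ ⁅P, P⁆ ⊔ Subgroup.zpowers a), hD,
      relIndex_eq_of_dvd_of_not_le (hP.to_le h1) (fun h => hag (center_comm (hDZ (h
        (Subgroup.mem_sup_right (Subgroup.mem_zpowers a)))) hg).symm)
        (relIndex_sup_zpowers_dvd (hnorm le_rfl (commutator_self_le P) ha) (hap ▸ Subgroup.one_mem _)),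
      relIndex_eq_of_dvd_of_not_le (hP.to_le h2) (fun h => hag (comm_of_sup_zpowers
        (fun b hb => (center_comm (hDZ hb) ha).symm) rfl g (h hgX)).symm)
        (relIndex_sup_zpowers_dvd (hnorm le_sup_left h1 hg) (Subgroup.mem_sup_left hgp))]
    ring
  obtain ⟨A, hA, hAD, hAs⟩ := exists_compl_of_elementary (fun x hx y hy => center_comm hy hx.1) hZ hDZ
  have hXZ : ⁅P, P⁆ = centralizerIn X X := by
    have := finite_of_le (H97.centralizerIn_le (S := X) (P := X))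
    refine eq_of_le_of_card_ge' (fun x hx => ⟨Subgroup.mem_sup_left (Subgroup.mem_sup_left hx),
      (centralizerIn_anti h2 (hDZ hx)).2⟩) ?_
    rw [card_center_eq, (isExtraspecial_of_card_cube hc fun h =>
      hag (congrArg Subtype.val (h.1.1 ⟨a, haX⟩ ⟨g, hgX⟩))).2, hD]
  obtain ⟨f⟩ := nonempty_equiv_prod (X := X) (A := A) (P := P) (fun x hx y hy => center_comm (hA hy) (h2 hx))
    (eq_bot_iff.2 fun x hx => hAD.le ⟨hx.2, hXZ.ge ⟨hx.1, (centralizerIn_anti h2 (hA hx.2)).2⟩⟩)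
    (by rw [sup_right_comm, sup_right_comm _ _ A, sup_comm _ A, hAs, e])
  have := finite_of_le hA
  refine ⟨hc, Shrink.{0} A, { (inferInstance : Group (Shrink.{0} A)) with
    mul_comm := fun x y => Shrink.mulEquiv.injective (by
      rw [map_mul, map_mul]
      exact Subtype.ext (center_comm (hA (Shrink.mulEquiv y).2) (hA (Shrink.mulEquiv x).2).1)) },
    fun x => Shrink.mulEquiv.injective (by
      rw [map_pow, map_one]
      exact Subtype.ext (hZ _ (hA (Shrink.mulEquiv x).2))),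
    ⟨f.trans ((MulEquiv.refl X).prodCongr Shrink.mulEquiv.symm)⟩⟩

/-- Let F be a saturated fusion system over a finite p-group S and P a subgroup of S strongly closed in F that is generalized extraspecial (its Frattini subgroup equals its commutator subgroup and has order p) and not isomorphic to E × A with A elementary abelian and E dihedral of order 8 (p = 2) or extraspecial of order p³ and exponent p (p odd). Then P is normal in F. -/
theorem result {Ω : Type*} [Group Ω] {S : Subgroup Ω} [Finite S] (p : ℕ) [Fact p.Prime] (hS : IsPGroup p S) (F : Cfsg.FusionSystem S) (hF : F.IsSaturated p) (P : Subgroup Ω) (hP : F.StronglyClosed P) (hge : frattini ↥P = commutator ↥P ∧ Nat.card ↥(commutator ↥P) = p) (h2 : p = 2 → ¬ ∃ (A : Type) (_ : CommGroup A), (∀ a : A, a ^ 2 = 1) ∧ Nonempty (↥P ≃* DihedralGroup 4 × A)) (hodd : p ≠ 2 → ¬ ∃ (E : Type) (_ : Group E) (A : Type) (_ : CommGroup A), Cfsg.IsExtraspecial p E ∧ Nat.card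 E = p ^ 3 ∧ Monoid.exponent E = p ∧ (∀ a : A, a ^ p = 1) ∧ Nonempty (↥P ≃* E × A)) : F.IsNormal P := by
  refine sat_isNormal_of_stronglyClosed hS hF hP fun E hE => ?_
  by_contra hPE
  have hp : p.Prime := Fact.out
  have hPS : P ≤ S := hP.1
  have hES := ess_le hE
  have := finite_of_le hPS
  have := finite_of_le hES
  have hPp := hS.to_le hPS
  have hSP := le_normalizer_of_stronglyClosed hP
  obtain ⟨g, hgP, hg, hgE, -⟩ := exists_normalizer_not_mem hS hES hPS (hES.trans hSP) hPE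
  have hQ := autInv_inf_of_stronglyClosed hES hP
  have hD := (card_commutator_eq P).trans hge.2
  have hΦ : Phi P = ⁅P, P⁆ := by rw [Phi, hge.1, Subgroup.map_subtype_commutator]
  have hDZ : ⁅P, P⁆ ≤ centralizerIn S S := le_center_of_card_eq hS ((commutator_self_le P).trans hPS) hD
    (hΦ ▸ hSP.trans (normalizer_le_normalizer_Phi P))
  have hDE := hDZ.trans (ess_center_le hE)
  have hDQ : ⁅P, P⁆ ≤ P ⊓ E := le_inf (commutator_self_le P) hDE
  set Q := P ⊓ E
  have hQE : Q ≤ E := inf_le_right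
  have hQP : Q ≤ P := inf_le_left
  have := finite_of_le hQE
  have hQp := hPp.to_le hQP
  have g2 : ∀ g ∈ P, ∀ x ∈ Q, x⁻¹ * (g * x * g⁻¹) ∈ ⁅P, P⁆ := fun g hg x hx => inv_mul_conj_mem_comm hx.1 hg
  have g3 : ∀ g ∈ P, ∀ x ∈ ⁅P, P⁆, x⁻¹ * (g * x * g⁻¹) ∈ Phi Q := fun g hg x hx => by
    rw [center_comm (hDZ hx) (hPS hg)]; simp
  have hΦD : Phi Q ≤ ⁅P, P⁆ := Phi_le_of hDQ (fun x hx y hy => comm_mem_comm hx.1 hy.1)
    fun x hx => hΦ ▸ pow_mem_Phi hPp hx.1
  have hΦ0 : Phi Q = ⊥ := by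
    by_contra h
    exact hgE (ess_mem_of_sec_triv hS hE hQE hQ hg (sc_comm_mem hP hES hgP hg)
      (eq_of_le_of_card_eq_prime hD hΦD h ▸ g2 g hgP))
  have hQc : ∀ x ∈ Q, ∀ y ∈ Q, x * y = y * x := fun x hx y hy => by
    have := hΦ0.le (comm_mem_Phi hQp hx hy)
    rwa [Subgroup.mem_bot, mul_inv_eq_one, mul_inv_eq_iff_eq_mul] at this
  have hQe : ∀ x ∈ Q, x ^ p = 1 := fun x hx => hΦ0.le (pow_mem_Phi hQp hx)
  obtain ⟨γ, hγ, hγ1⟩ := ess_exists_not_mem_extAut hS hF hE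
  have key : ∀ h ∈ P, h ∈ normalizerIn S E → h ∉ E → ∃ d ∈ ⁅P, P⁆, ext γ d * h ≠ h * ext γ d :=
    fun h hhP hh hhE => by
      obtain ⟨d, hd, e⟩ := ess_sec_pair hS hF hE hQE hQ hγ hγ1 hh hhE hg hgE (sc_comm_mem hP hES hhP hh)
        (sc_comm_mem hP hES hgP hg) hΦD hDQ (g2 h hhP) (g2 g hgP) (g3 h hhP) (g3 g hgP)
      exact ⟨d, hd, fun e' => e (by rw [← e']; simp)⟩
  obtain ⟨d, hd, hdg⟩ := key g hgP hg hgE
  have hd1 : d ≠ 1 := by
    rintro rfl
    rw [(homOn_ext γ).map_one] at hdg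
    simp at hdg
  have haQ := hQ γ hγ d (hDQ hd)
  have haZ := autInv_center F E γ hγ d ⟨hDE hd, (centralizerIn_anti hES (hDZ hd)).2⟩
  have hC : P ⊓ Subgroup.centralizer {ext γ d} ≤ E := by
    by_contra h
    have := finite_of_le (inf_le_left : P ⊓ Subgroup.centralizer {ext γ d} ≤ P)
    obtain ⟨c, hc, hcN, hcE, -⟩ := exists_normalizer_not_mem hS hES (inf_le_left.trans hPS)
      (fun e he => mem_normalizer_of_conj_mem fun y hy => ⟨nconj (hSP (hES he)) hy.1,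
        Subgroup.mul_mem _ (Subgroup.mul_mem _ (Subgroup.mem_centralizer_singleton_iff.2
          (center_comm haZ he)) hy.2) (Subgroup.inv_mem _ (Subgroup.mem_centralizer_singleton_iff.2
          (center_comm haZ he)))⟩) h
    obtain ⟨d', hd', e⟩ := key c hc.1 hcN hcE
    obtain ⟨k, rfl⟩ := mem_zpowers_of_card_eq hD hd hd1 hd'
    rw [(homOn_ext γ).map_zpow (hDE hd)] at e
    exact e (Commute.zpow_left (Subgroup.mem_centralizer_singleton_iff.1 hc.2).symm k)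
  have hi : Q.relIndex P ∣ p := by
    have := finite_of_card_eq_prime hD
    have h1 := relIndex_dvd_of_le_prime hPp (hD ▸ relIndex_centralizer_le (B := P) (g := ext γ d)
      fun x hx => comm_mem_comm hx haQ.1)
    rw [← Subgroup.inf_relIndex_left] at h1
    exact (Subgroup.relIndex_dvd_of_le_left P (le_inf inf_le_left hC)).trans h1
  have hA : AbIdx p P Q := ⟨hQP, hQc, hi, fun h => hdg (h _ haQ.1 g hgP)⟩
  have hgp : g ^ p ∈ ⁅P, P⁆ := hΦ ▸ pow_mem_Phi hPp hgP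
  have eP : ∀ g ∈ P, ext γ d * g ≠ g * ext γ d →
      centralizerIn P P ⊔ Subgroup.zpowers (ext γ d) ⊔ Subgroup.zpowers g = P := fun g hg h => by
    rw [sup_zpowers_eq_of_relIndex_dvd hA.center_le ((hA.relIndex_center hPp).trans hD).dvd haQ
      fun e => h (center_comm e hg).symm, hA.sup hg fun e => h (hQc _ haQ g e)]
  have hZe : ∀ z ∈ centralizerIn P P, z ^ p = 1 := fun z hz => hQe z (hA.center_le hz)
  by_cases hp2 : p = 2
  · subst hp2
    have a2 : ext γ d * ext γ d = 1 := by rw [← pow_two]; exact hQe _ haQ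
    have hcomm : ∀ g ∈ P, ext γ d * g ≠ g * ext γ d → ext γ d * g * (ext γ d)⁻¹ * g⁻¹ = d := fun g hg h =>
      eq_of_card_two hD hd hd1 (comm_mem_comm haQ.1 hg) fun e =>
        h (by rwa [mul_inv_eq_one, mul_inv_eq_iff_eq_mul] at e)
    obtain ⟨r, hr, hdr, hr2⟩ : ∃ r ∈ P, ext γ d * r ≠ r * ext γ d ∧ r * r = d := by
      by_cases h : g * g = 1
      · refine ⟨ext γ d * g, P.mul_mem haQ.1 hgP, fun e => hdg (mul_left_cancel (e.trans (mul_assoc _ _ _))), ?_⟩
        refine Eq.trans ?_ (hcomm g hgP hdg)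
        rw [inv_eq_of_mul_eq_one_right a2, inv_eq_of_mul_eq_one_right h, mul_assoc (_ * _)]
      · exact ⟨g, hgP, hdg, eq_of_card_two hD hd hd1 (pow_two g ▸ hgp) h⟩
    obtain ⟨hc, A, _, hAe, ⟨f⟩⟩ := structure_aux hPp hD hZe haQ.1 hr hdr (hQe _ haQ)
      (by rw [pow_two, hr2]; exact hd) (eP r hr hdr)
    set X := ⁅P, P⁆ ⊔ Subgroup.zpowers (ext γ d) ⊔ Subgroup.zpowers r
    have haX : ext γ d ∈ X := Subgroup.mem_sup_left (Subgroup.mem_sup_right (Subgroup.mem_zpowers _))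
    have hrX : r ∈ X := Subgroup.mem_sup_right (Subgroup.mem_zpowers r)
    have hd2 : d * d = 1 := by rw [← pow_two]; exact pow_eq_one_of_card_eq hD hd
    have : Finite X := Nat.finite_of_card_ne_zero (by rw [hc]; norm_num)
    obtain ⟨k⟩ := H9.equiv_dihedral_of_card (n := 4) (⟨r, hrX⟩ : X) ⟨_, haX⟩
      (orderOf_eq_prime_pow (p := 2) (n := 1) (fun h => hd1 (by
        rw [← hr2, ← pow_two]; exact congrArg Subtype.val h)) (Subtype.ext (by
        change r ^ (2 * 2) = 1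
        rw [pow_mul, pow_two r, hr2, pow_two, hd2]))) (Subtype.ext a2) (Subtype.ext (by
        change ext γ d * r * (ext γ d)⁻¹ = r⁻¹
        rw [mul_inv_eq_iff_eq_mul.1 (hcomm r hr hdr), eq_inv_iff_mul_eq_one, mul_assoc, hr2, hd2]))
      (fun ⟨k, hk⟩ => hdr (by
        rw [← show r ^ k = ext γ d from congrArg Subtype.val hk]
        exact (Commute.zpow_left rfl k).eq)) hc
    exact h2 rfl ⟨A, inferInstance, hAe, ⟨f.trans (k.prodCongr (MulEquiv.refl A))⟩⟩
  have hmul : ∀ x ∈ P, ∀ y ∈ P, (x * y) ^ p = x ^ p * y ^ p := fun x hx y hy =>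
    congrArg Subtype.val (mul_pow_of_card_commutator hPp hp2 hge.2 ⟨x, hx⟩ ⟨y, hy⟩)
  have hg1 : g ^ p = 1 := by
    obtain ⟨w, hw, he, hneg⟩ := ess_sec_neg hS hF hE hQE hQ hg hgE (sc_comm_mem hP hES hgP hg) hΦD hDQ
      (by rw [hΦ0, Subgroup.relIndex_bot_left, hD]) (g2 g hgP) (g3 g hgP)
    have hgR : g ∈ E ⊔ Subgroup.zpowers g := Subgroup.mem_sup_right (Subgroup.mem_zpowers g)
    have heQ : w g * g⁻¹ ∈ Q := ⟨P.mul_mem (mem_of_stronglyClosed hP hw hgR hgP) (P.inv_mem hgP), he⟩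
    have h1 := hneg _ hgp
    rw [hw.map_pow hgR, ← inv_mul_cancel_right (w g) g, hmul _ heQ.1 g hgP, hQe _ heQ, one_mul, hΦ0] at h1
    by_contra h
    have h3 := dvd_of_zpow_mem (A := ⊥) h (hQe _ (hDQ hgp)) (i := (2 : ℕ)) (by
      simpa [zpow_natCast, pow_two] using h1)
    exact hp2 ((Nat.prime_dvd_prime_iff_eq hp Nat.prime_two).1 (Int.natCast_dvd_natCast.1 h3))
  obtain ⟨hc, A, _, hAe, ⟨f⟩⟩ := structure_aux hPp hD hZe haQ.1 hgP hdg (hQe _ haQ) hgp (eP g hgP hdg)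
  set X := ⁅P, P⁆ ⊔ Subgroup.zpowers (ext γ d) ⊔ Subgroup.zpowers g
  have haX : ext γ d ∈ X := Subgroup.mem_sup_left (Subgroup.mem_sup_right (Subgroup.mem_zpowers _))
  have hgX : g ∈ X := Subgroup.mem_sup_right (Subgroup.mem_zpowers g)
  have : Finite X := Nat.finite_of_card_ne_zero (by rw [hc]; exact pow_ne_zero _ hp.ne_zero)
  have hXe : ∀ x ∈ X, x ^ p = 1 := fun x hx => pow_eq_one_of_mem_Om (P := P)
    (fun x hx y hy h1 h3 => by rw [hmul x hx y hy, h1, h3, one_mul])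
    ((sup_le (sup_le (fun y hy => mem_Om_of (hDQ hy).1 (hQe y (hDQ hy)))
      (Subgroup.zpowers_le_of_mem (mem_Om_of haQ.1 (hQe _ haQ))))
      (Subgroup.zpowers_le_of_mem (mem_Om_of hgP hg1)) : X ≤ Om P p) hx)
  have hc' : Nat.card (Shrink.{0} X) = p ^ 3 := (Nat.card_congr Shrink.mulEquiv.toEquiv).trans hc
  have hna : ¬ IsMulCommutative (Shrink.{0} X) := fun h => hdg (by
    have := congrArg (fun x => (Shrink.mulEquiv x).1) (h.1.1 (Shrink.mulEquiv.symm ⟨_, haX⟩)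
      (Shrink.mulEquiv.symm ⟨_, hgX⟩))
    simpa using this)
  have : Nontrivial (Shrink.{0} X) := Finite.one_lt_card_iff_nontrivial.1
    (hc' ▸ Nat.one_lt_pow (by norm_num) hp.one_lt)
  exact hodd hp2 ⟨Shrink.{0} X, inferInstance, A, inferInstance, isExtraspecial_of_card_cube hc' hna, hc',
    (Monoid.exponent_eq_prime_iff hp).2 fun x hx => orderOf_eq_prime (Shrink.mulEquiv.injective (by
      rw [map_pow, map_one]; exact Subtype.ext (hXe _ (Shrink.mulEquiv x).2))) hx, hAe,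
    ⟨f.trans (Shrink.mulEquiv.symm.prodCongr (MulEquiv.refl A))⟩⟩

end Cfsg.Agent.S5233
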