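import Cfsg.Statements.S5234
import Cfsg.Agent.H5.StrCl
import Cfsg.Agent.H90.Metacyclic
import Cfsg.Agent.H71.Meta

set_option autoImplicit false
open Cfsg

namespace Cfsg.Agent.S5234

open Cfsg.Agent.H5 Cfsg.Agent.H97 Cfsg.Agent.H98 Cfsg.Agent.H96 Cfsg.FusionSystem
open scoped commutatorElement

/-- Let p be an odd prime, F a saturated fusion system over a finite p-group S and P a metacyclic subgroup of S strongly closed in F. Then P is normal in F. -/
theorem result {Ω : Type*} [Group Ω] {S : Subgroup Ω} [Finite S] (p : ℕ) [Fact p.Prime] (hS : IsPGroup p S) (F : Cfsg.FusionSystem S) (hF : F.IsSaturated p) (P : Subgroup Ω) (hP : F.StronglyClosed P) (hp : p ≠ 2) (hm : Cfsg.IsMetacyclic ↥P) : F.IsNormal P := by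
  refine sat_isNormal_of_stronglyClosed hS hF hP fun E hE => ?_
  by_contra hPE
  have hPS : P ≤ S := hP.1
  have hES := ess_le hE
  obtain ⟨g, hgP, hg, hgE, hgp⟩ := exists_normalizer_not_mem hS hES hPS
    (hES.trans (le_normalizer_of_stronglyClosed hP)) hPE
  have hQ := autInv_inf_of_stronglyClosed hES hP
  have g1 := sc_comm_mem hP hES hgP hg
  set Q := P ⊓ E
  have hQE : Q ≤ E := inf_le_right
  have hRP : Q ⊔ Subgroup.zpowers g ≤ P := sup_le inf_le_left (Subgroup.zpowers_le_of_mem hgP)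
  have := finite_of_le (hQE.trans hES)
  have := finite_of_le (hRP.trans hPS)
  have hQp := hS.to_le (hQE.trans hES)
  have hRp := hS.to_le (hRP.trans hPS)
  have hgQ : g ∈ Subgroup.normalizer (Q : Set Ω) :=
    mem_normalizer_of_conj_mem fun x hx => hQ.conj_mem hES hQE hg hx
  have hRQ : Q ⊔ Subgroup.zpowers g ≤ Subgroup.normalizer (Q : Set Ω) :=
    sup_le Subgroup.le_normalizer (Subgroup.zpowers_le_of_mem hgQ)
  have hRΦ := hRQ.trans (normalizer_le_normalizer_Phi Q)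
  have hgR : g ∈ Q ⊔ Subgroup.zpowers g := Subgroup.mem_sup_right (Subgroup.mem_zpowers g)
  have hrk : ∀ H ≤ Q ⊔ Subgroup.zpowers g, Phi Q ≤ H → (∀ x ∈ H, x ^ p ∈ Phi Q) →
      (Phi Q).relIndex H ∣ p ^ 2 := fun H h1 h2 h3 => by
    have := (Subgroup.normal_subgroupOf_iff_le_normalizer h2).2 (h1.trans hRΦ)
    have h4 := H90.relIndex_dvd_sq_of_metacyclic (H71.isMetacyclic_of_le hm (h1.trans hRP))
      (N := (Phi Q).subgroupOf H) (H := ⊤) fun x _ => h3 x x.2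
    rwa [Subgroup.relIndex_top_right] at h4
  have hnt : ¬ ∀ x ∈ Q, x⁻¹ * (g * x * g⁻¹) ∈ Phi Q := fun h =>
    hgE (ess_mem_of_sec_triv hS hE hQE hQ hg g1 h)
  obtain ⟨x, hx, hxΦ, hxp, hxc⟩ := exists_central_mod' hRp le_sup_left hRΦ hRQ fun h => hnt fun y hy =>
    h (Q.mul_mem (Q.inv_mem hy) (nconj hgQ hy))
  have hDQ : Phi Q ⊔ Subgroup.zpowers x ≤ Q := sup_le (Phi_le Q) (Subgroup.zpowers_le_of_mem hx)
  have hΦD : Phi Q < Phi Q ⊔ Subgroup.zpowers x := left_lt_sup.2 fun h => hxΦ (h (Subgroup.mem_zpowers x))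
  have hi' : (Phi Q ⊔ Subgroup.zpowers x).relIndex Q ∣ p := by
    simpa using relIndex_dvd_of_lt_left hQp hΦD hDQ (k := 1)
      (hrk Q le_sup_left (Phi_le Q) fun y hy => pow_mem_Phi hQp hy)
  have g3 := triv_conj_of_sup (k := g) ((hDQ.trans le_sup_left).trans hRΦ)
    (fun y hy => Subgroup.mul_mem _ (Subgroup.inv_mem _ hy) (nconj (hRΦ hgR) hy))
    (triv_conj_of_zpowers (hRΦ (Subgroup.mem_sup_left hx)) (hxc g hgR))
  have g2 := conj_triv_of_relIndex_dvd hS (hQE.trans hES) hDQ hi' hg.1 (fun y => nconj hgQ) fun y hy => by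
    simpa using Subgroup.mul_mem _ hy (Subgroup.mem_sup_left (g3 y hy))
  obtain ⟨w, hw, he, hneg⟩ := ess_sec_neg hS hF hE hQE hQ hg hgE g1 le_sup_left hDQ
    (relIndex_sup_zpowers_dvd (hRΦ (Subgroup.mem_sup_left hx)) hxp) g2 g3
  have hgR' : g ∈ E ⊔ Subgroup.zpowers g := Subgroup.mem_sup_right (Subgroup.mem_zpowers g)
  have heQ : w g * g⁻¹ ∈ Q := ⟨P.mul_mem (mem_of_stronglyClosed hP hw hgR' hgP) (P.inv_mem hgP), he⟩
  have hgpQ : g ^ p ∈ Q := ⟨P.pow_mem hgP p, hgp⟩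
  have hgD : g ^ p ∈ Phi Q ⊔ Subgroup.zpowers x := by
    by_contra h
    refine hnt fun y hy => triv_conj_of_sup (((sup_zpowers_eq_of_relIndex_dvd hDQ hi' hgpQ h).le.trans
      le_sup_left).trans hRΦ) g3 (triv_conj_of_zpowers (hRΦ (Subgroup.pow_mem _ hgR p)) ?_) y
      ((sup_zpowers_eq_of_relIndex_dvd hDQ hi' hgpQ h).ge hy)
    rw [show (g ^ p)⁻¹ * (g * g ^ p * g⁻¹) = 1 by group]
    exact Subgroup.one_mem _
  have hpow : ∀ q ∈ Q, ∀ y ∈ Subgroup.zpowers g, (y ^ p)⁻¹ * (q * y) ^ p ∈ Phi Q := fun q hq y hy => by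
    have hyR : y ∈ Q ⊔ Subgroup.zpowers g := Subgroup.mem_sup_right hy
    have hc : ⁅y, q⁆ ∈ Phi Q ⊔ Subgroup.zpowers x := by
      simpa [commutatorElement_def, mul_assoc] using Subgroup.inv_mem _
        (triv_conj_zpowers hDQ (isOfFinOrder_of_mem hg.1) g2 y hy _ (Q.inv_mem hq))
    have h1 := mul_pow_mod hp ((Phi_le Q).trans le_sup_left) hRΦ (Subgroup.mem_sup_left hq) hyR
      (by simpa [mul_assoc] using comm_mem_Phi hQp (Q.inv_mem (hDQ hc)) hq)
      (triv_conj_zpowers le_sup_left (isOfFinOrder_of_mem hg.1) g3 y hy _ hc) (pow_mem_Phi hQp (hDQ hc))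
    simpa [mul_assoc] using Subgroup.mul_mem _
      (nconj' (hRΦ (Subgroup.pow_mem _ hyR p)) (pow_mem_Phi hQp hq)) h1
  have hgΦ : g ^ p ∈ Phi Q := by
    by_contra h
    have h1 := Subgroup.mul_mem _ (hneg _ hgD) (Subgroup.inv_mem _ (hpow _ heQ g (Subgroup.mem_zpowers g)))
    rw [hw.map_pow hgR', inv_mul_cancel_right] at h1
    have h2 := dvd_of_zpow_mem h (pow_mem_Phi hQp hgpQ) (i := (2 : ℕ)) (by
      simpa [mul_assoc, zpow_natCast, pow_two] using h1)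
    exact hp ((Nat.prime_dvd_prime_iff_eq Fact.out Nat.prime_two).1 (Int.natCast_dvd_natCast.1 h2))
  have h1 := hrk _ le_rfl ((Phi_le Q).trans le_sup_left) fun r hr => by
    obtain ⟨q, hq, k, rfl⟩ := (mem_sup_zpowers_iff hgQ).1 hr
    have h2 : (g ^ k) ^ p ∈ Phi Q := by
      rw [← zpow_natCast, ← zpow_mul, mul_comm, zpow_mul, zpow_natCast]
      exact Subgroup.zpow_mem _ hgΦ k
    simpa using Subgroup.mul_mem _ h2 (hpow q hq _ (Subgroup.zpow_mem_zpowers g k))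
  have h2 := relIndex_dvd_of_lt_left hRp (lt_of_le_of_ne hDQ fun e => hnt fun y hy => g3 y (e.ge hy))
    le_sup_left (relIndex_dvd_of_lt_left hRp hΦD (hDQ.trans le_sup_left) h1)
  rw [pow_zero, Nat.dvd_one, Subgroup.relIndex_eq_one] at h2
  exact hgE (h2 hgR).2

end Cfsg.Agent.S5234
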