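import Cfsg.Statements.S5244
import Cfsg.Agent.H5.AbIdx

set_option autoImplicit false
open Cfsg

namespace Cfsg.Agent.S5244

open Cfsg.Agent.H5 Cfsg.Agent.H97 Cfsg.Agent.H98 Cfsg.Agent.H96 Cfsg.FusionSystem

/-- Let p be an odd prime, S a finite nonabelian p-group with a unique abelian subgroup A of index p, and F a saturated fusion system over S with no nontrivial normal subgroup (O_p(F) = 1) in which A is not F-essential. Then some subgroup Z(S)⟨x⟩ with x ∈ S outside A is F-essential, the centre Z(S) is contained in the commutator subgroup of S, and S has maximal nilpotency class (if S has order pⁿ with n ≥ 3, the term of index n − 2 of its lower central series, counting S itself as the term of index 0, is nontrivial). -/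
theorem result {Ω : Type*} [Group Ω] {S : Subgroup Ω} [Finite S] (p : ℕ) [Fact p.Prime] (hS : IsPGroup p S) (F : Cfsg.FusionSystem S) (hF : F.IsSaturated p) (hp : p ≠ 2) (hna : ¬ IsMulCommutative ↥S) (A : Subgroup Ω) (hA : A ≤ S ∧ IsMulCommutative ↥A ∧ (A.subgroupOf S).index = p) (huniq : ∀ B : Subgroup Ω, B ≤ S → IsMulCommutative ↥B → (B.subgroupOf S).index = p → B = A) (hcore : F.core = ⊥) (hAe : ¬ F.IsEssential p A) : (∃ x ∈ S, x ∉ A ∧ F.IsEssential p ((S ⊓ Subgroup.centralizer (S : Set Ω)) ⊔ Subgroup.zpowers x)) ∧ (S ⊓ Subgroup.centralizer (S : Set Ω)) ≤ (commutator ↥S).map S.subtype ∧ ∀ n : ℕ, Nat.card S = p ^ n → 3 ≤ n → Subgroup.lowerCentralSeries S (n - 2) ≠ ⊥ := by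
  have h : AbIdx p S A := ⟨hA.1, fun a ha b hb => congrArg Subtype.val (hA.2.1.1.1 ⟨a, ha⟩ ⟨b, hb⟩),
    hA.2.2.dvd, fun e => hna ⟨⟨fun a b => Subtype.ext (e a a.2 b b.2)⟩⟩⟩
  obtain ⟨h1, h2, x, hx, hxA, hE⟩ := h.center_le_comm hS hF hp hcore hAe
  rw [Subgroup.map_subtype_commutator]
  refine ⟨⟨x, hx, hxA, hE⟩, h2, fun n hn h3 h4 => ?_⟩
  have hp1 := (Fact.out : p.Prime).one_lt
  have h5 := h.relIndex_le_of_lcs hS (k := n - 3) (by
    rw [h.relIndex_center_ucs hS, inf_eq_left.2 h2, h1]) (eq_bot_iff.2 (by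
      rw [← h4, show n - 2 = n - 3 + 1 by omega]
      exact Subgroup.commutator_mono inf_le_left le_rfl))
  have h6 := Nat.mul_le_mul_left p (Nat.mul_le_mul_right p h5)
  rw [← mul_assoc, ← pow_succ, ← pow_succ'] at h6
  rw [← card_mul_relIndex' h.le, ← card_mul_relIndex' h.center_le, h1,
    show A.relIndex S = p from hA.2.2] at hn
  rw [hn, Nat.pow_le_pow_iff_right hp1] at h6
  omega

end Cfsg.Agent.S5244
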