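import Cfsg.Statements.S5245
import Cfsg.Agent.H96.Sparse

set_option autoImplicit false
open Cfsg

namespace Cfsg.Agent.S5245

open Cfsg.FusionSystem Cfsg.Agent.H97 Cfsg.Agent.H98 Cfsg.Agent.H96


/-- Let F be an extremely sparse fusion system over a finite p-group S (saturated, not the inner system, and every saturated fusion system over any subgroup T of S contained in F is F itself or the inner system of T). Then S is normal in F, the focal and hyperfocal subgroups of F are both S, and Aut_F(S) is generated by the inner automorphisms of S together with a single automorphism of prime order q ≠ p (F is the fusion system of the semidirect product of S by a cyclic group of prime order). -/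
theorem result {Ω : Type*} [Group Ω] {S : Subgroup Ω} [Finite S] (p : ℕ) [Fact p.Prime] (hS : IsPGroup p S) (F : Cfsg.FusionSystem S) (hF : F.IsSaturated p) (hxs : ¬ (∀ P : Subgroup Ω, F.Hom P = (Cfsg.innerFusionSystem S).Hom P) ∧ ∀ (T : Subgroup Ω) (E : Cfsg.FusionSystem T), E.IsSaturated p → E.IsSubsystemOf F → (T = S ∧ ∀ P : Subgroup Ω, E.Hom P = F.Hom P) ∨ (∀ P : Subgroup Ω, E.Hom P = (Cfsg.innerFusionSystem T).Hom P)) : F.IsNormal S ∧ F.focalSubgroup = S ∧ F.hyperfocalSubgroup p = S ∧ ∃ (q : ℕ) (β : MulAut ↥S), q.Prime ∧ q ≠ p ∧ β ∈ F.autGroup S ∧ orderOf β = q ∧ (F.autGroup S : Subgroup (MulAut ↥S)) = Cfsg.Inn ↥S ⊔ Subgroup.zpowers β := by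
  obtain ⟨hne, hxs⟩ := hxs
  rw [← nil_iff_hom] at hne
  have : ∃ P : Subgroup Ω, (P = S ∨ F.IsEssential p P) ∧ ¬ IsPGroup p (F.autGroup P) := by
    by_contra hcon
    exact hne (nil_of_pGroups hS hF fun P hP => by_contra fun h => hcon ⟨P, hP, h⟩)
  obtain ⟨P, hP, hA⟩ := this
  have hc : F.IsCentric P := by
    rcases hP with rfl | hP
    · exact isCentric_top F
    · exact (isEssential_iff.1 hP).1
  haveI := finite_autGroup F hc.1
  haveI := finite_of_le_S hc.1
  obtain ⟨q, β, hβ, hq, hqp, hβq⟩ := exists_prime_order_of_not_isPGroup hA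
  have hcop : (orderOf β).Coprime p := hβq ▸ (Nat.coprime_primes hq Fact.out).2 hqp
  obtain ⟨E, h1, h2, h3, h4⟩ := exists_cyclic_sub hS hF hc hβ hcop
  rcases hxs P E h1 h2 with ⟨rfl, hE⟩ | hE
  · obtain rfl : E = F := fs_ext hE
    have hh : E.hyperfocalSubgroup p = P := by
      have hle := (stronglyClosed_hyp hS hF).1
      obtain ⟨D, d1, d2⟩ := exists_pIndex hS hF hle le_rfl
      rcases hxs _ D d1 (pIndex_sub d2) with ⟨h, -⟩ | h
      · exact h
      · haveI := finite_of_le_S hle
        refine absurd (nil_of_hyp_eq_bot hS hF ?_) hne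
        rw [← pIndex_hyp_eq hS hF d2]
        exact (nil_iff_hom.2 h).hyp_eq_bot (hS.to_le hle)
    refine ⟨h3, le_antisymm (foc_le_iff.2 fun R f hf x hx =>
      P.mul_mem (P.inv_mem (hf.le hx)) (hf.mem hx)) (hh.ge.trans (hyp_le_foc E p)), hh,
      q, β, hq, hqp, hβ, hβq, h4⟩
  · exfalso
    have h5 := (nil_iff_hom.2 hE).isPGroup_autGroup (hS.to_le hc.1) P
    have h6 : β = 1 := aut_eq_one fun x _ => ext_eq_self_of_coprime h5
      (h4 ▸ Subgroup.mem_sup_right (Subgroup.mem_zpowers β)) hcop x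
    rw [h6, orderOf_one] at hβq
    exact hq.one_lt.ne hβq

end Cfsg.Agent.S5245
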