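import Cfsg.Statements.S5254
import Cfsg.Agent.H5.AbIdx

set_option autoImplicit false
open Cfsg

namespace Cfsg.Agent.S5254

open Cfsg.Agent.H5 Cfsg.Agent.H97 Cfsg.Agent.H98 Cfsg.Agent.H96 Cfsg.FusionSystem

/-- Let p be an odd prime, S a finite nonabelian p-group with a unique abelian subgroup A of index p, and F a saturated fusion system over S. Then every F-essential subgroup P is A, or Z(S)⟨x⟩ for some x ∈ S outside A, or (when the second centre Z₂(S) lies in A) Z₂(S)⟨x⟩ for some x ∈ S outside A; and P has index p in its normalizer in S. -/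
theorem result {Ω : Type*} [Group Ω] {S : Subgroup Ω} [Finite S] (p : ℕ) [Fact p.Prime] (hS : IsPGroup p S) (F : Cfsg.FusionSystem S) (hF : F.IsSaturated p) (hp : p ≠ 2) (hna : ¬ IsMulCommutative ↥S) (A : Subgroup Ω) (hA : A ≤ S ∧ IsMulCommutative ↥A ∧ (A.subgroupOf S).index = p) (huniq : ∀ B : Subgroup Ω, B ≤ S → IsMulCommutative ↥B → (B.subgroupOf S).index = p → B = A) (P : Subgroup Ω) (hP : F.IsEssential p P) : (P = A ∨ (∃ x ∈ S, x ∉ A ∧ P = (S ⊓ Subgroup.centralizer (S : Set Ω)) ⊔ Subgroup.zpowers x) ∨ (((upperCentralSeries ↥S 2).map S.subtype) ≤ A ∧ ∃ x ∈ S, x ∉ A ∧ P = ((upperCentralSeries ↥S 2).map S.subtype) ⊔ Subgroup.zpowers x)) ∧ (P.subgroupOf (S ⊓ Subgroup.normalizer (P : Set Ω))).index = p := by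
  have h : AbIdx p S A := ⟨hA.1, fun a ha b hb => congrArg Subtype.val (hA.2.1.1.1 ⟨a, ha⟩ ⟨b, hb⟩),
    hA.2.2.dvd, fun e => hna ⟨⟨fun a b => Subtype.ext (e a a.2 b b.2)⟩⟩⟩
  have := finite_of_le (H97.normalizerIn_le (S := S) (P := P))
  have key : P.relIndex (normalizerIn S P) ∣ p → P.relIndex (normalizerIn S P) = p :=
    relIndex_eq_of_dvd_of_not_le (hS.to_le H97.normalizerIn_le) (ess_lt_normalizerIn hS hF hP).not_ge
  by_cases hPA : P = A
  · exact ⟨Or.inl hPA, key (relIndex_dvd_of_le_right' hS H97.normalizerIn_le (hPA ▸ h.index))⟩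
  obtain ⟨x, hx, hxA, h1, -, h2 | h2⟩ := h.ess hS hF hP hPA
  · exact ⟨Or.inr (Or.inl ⟨x, ess_le hP hx, hxA, h2.1⟩), key h1⟩
  · exact ⟨Or.inr (Or.inr ⟨h2.1, x, ess_le hP hx, hxA, h2.2.1⟩), key h1⟩

end Cfsg.Agent.S5254
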