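import Cfsg.Statements.S5257
import Cfsg.Agent.H5.AbIdx

set_option autoImplicit false
open Cfsg

namespace Cfsg.Agent.S5257

open Cfsg.Agent.H5 Cfsg.Agent.H97 Cfsg.Agent.H98 Cfsg.Agent.H96 Cfsg.FusionSystem

/-- Let p be an odd prime, S a finite nonabelian p-group with a unique abelian subgroup A of index p, and F a saturated fusion system over S having an F-essential subgroup other than A. Then the second centre Z₂(S) lies in A; Z(S) ∩ [S, S] has order p; Z(S)[S, S] has index p in A; Z(S) has index p in Z₂(S); and S/Z(S) has maximal nilpotency class (if S/Z(S) has order pᵐ with m ≥ 3 then the term of index m − 2 of the lower central series of S, counting S as index 0, is not contained in Z(S)). -/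
theorem result {Ω : Type*} [Group Ω] {S : Subgroup Ω} [Finite S] (p : ℕ) [Fact p.Prime] (hS : IsPGroup p S) (F : Cfsg.FusionSystem S) (hF : F.IsSaturated p) (hp : p ≠ 2) (hna : ¬ IsMulCommutative ↥S) (A : Subgroup Ω) (hA : A ≤ S ∧ IsMulCommutative ↥A ∧ (A.subgroupOf S).index = p) (huniq : ∀ B : Subgroup Ω, B ≤ S → IsMulCommutative ↥B → (B.subgroupOf S).index = p → B = A) (P : Subgroup Ω) (hP : F.IsEssential p P) (hPA : P ≠ A) : ((upperCentralSeries ↥S 2).map S.subtype) ≤ A ∧ Nat.card ↥((S ⊓ Subgroup.centralizer (S : Set Ω)) ⊓ ((commutator ↥S).map S.subtype)) = p ∧ (((S ⊓ Subgroup.centralizer (S : Set Ω)) ⊔ ((commutator ↥S).map S.subtype)).subgroupOf A).index = p ∧ (((S ⊓ Subgroup.centralizer (S : Set Ω))).subgroupOf ((upperCentralSeries ↥S 2).map S.subtype)).index = p ∧ ∀ m : ℕ, ((S ⊓ Subgroup.centralizer (S : Set Ω)).subgroupOf S).index = p ^ m → 3 ≤ m → ¬ Subgroup.lowerCentralSeries S (m - 2) ≤ (S ⊓ Subgroup.centralizer (S : Set Ω)) := by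
  have h : AbIdx p S A := ⟨hA.1, fun a ha b hb => congrArg Subtype.val (hA.2.1.1.1 ⟨a, ha⟩ ⟨b, hb⟩),
    hA.2.2.dvd, fun e => hna ⟨⟨fun a b => Subtype.ext (e a a.2 b b.2)⟩⟩⟩
  have hD := h.card_center_inf hS hF hP hPA
  have h1 := (h.relIndex_center_ucs hS).trans hD
  have hp1 := (Fact.out : p.Prime).one_lt
  have hZA : (centralizerIn S S).relIndex A * p = (centralizerIn S S).relIndex S :=
    hA.2.2 ▸ Subgroup.relIndex_mul_relIndex _ _ S h.center_le h.le
  have h2 : ucs S 2 ≤ A := fun y hy => by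
    by_contra hyA
    have hyS := ucs_le 2 hy
    have h3 : A ≤ ucs S 2 := fun a ha => h.mem_ucs_two hyS hyA ha (by
      simpa [mul_assoc] using Subgroup.inv_mem _ ((mem_ucs_two.1 hy).2 a (h.le ha)))
    rw [inf_eq_right.2 h3] at h1
    have hB : centralizerIn S S ⊔ Subgroup.zpowers y ≤ S :=
      sup_le H97.centralizerIn_le (Subgroup.zpowers_le_of_mem hyS)
    have := finite_of_le hB
    have hc := abelian_sup_zpowers (A := centralizerIn S S) (fun a ha b hb => center_comm hb ha.1)
      fun a ha => (center_comm ha hyS).symm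
    have h4 : (centralizerIn S S ⊔ Subgroup.zpowers y).relIndex S ∣ p := by
      simpa using relIndex_dvd_of_lt_left hS (k := 1) (left_lt_sup.2 fun e => hyA (h.center_le
        (e (Subgroup.mem_zpowers y)))) hB (by rw [← hZA, h1, pow_two])
    exact hyA ((huniq _ hB ⟨⟨fun a b => Subtype.ext (hc a a.2 b b.2)⟩⟩ (relIndex_eq_of_dvd_of_not_le hS
      (fun e => h.nonab fun a ha b hb => hc a (e ha) b (e hb)) h4)).le
      (Subgroup.mem_sup_right (Subgroup.mem_zpowers y)))
  rw [Subgroup.map_subtype_commutator]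
  refine ⟨h2, hD, (h.relIndex_sup_comm hS).trans hD, by rwa [inf_eq_left.2 h2] at h1, fun m hm h3 h4 => ?_⟩
  have h5 := h.relIndex_le_of_lcs hS h1.dvd (k := m - 2) (eq_bot_iff.2 (Subgroup.commutator_le.2
    fun a ha b hb => by rw [Subgroup.mem_bot, commutatorElement_eq_one_iff_mul_comm, center_comm (h4 ha.1) hb]))
  have h6 := Nat.mul_le_mul_right p h5
  rw [hZA, ← pow_succ, show (centralizerIn S S).relIndex S = p ^ m from hm, Nat.pow_le_pow_iff_right hp1] at h6
  omega

end Cfsg.Agent.S5257
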