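import Cfsg.Statements.S5265
import Cfsg.Agent.H5.DerP

set_option autoImplicit false
open Cfsg

namespace Cfsg.Agent.S5265

open Cfsg.Agent.H5 Cfsg.Agent.H97 Cfsg.Agent.H98 Cfsg.Agent.H96 Cfsg.FusionSystem

/-- Let p be a prime, S a nontrivial finite p-group whose centre has index at most p², and F a saturated fusion system over S with no nontrivial normal subgroup and with hyperfocal subgroup equal to S. Then S is extraspecial of order p³; for odd p it has exponent p, and for p = 2 it is dihedral of order 8. -/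
theorem result {Ω : Type*} [Group Ω] {S : Subgroup Ω} [Finite S] (p : ℕ) [Fact p.Prime] (hS : IsPGroup p ↥S) (F : Cfsg.FusionSystem S) (hF : F.IsSaturated p) (hS1 : S ≠ ⊥) (hcore : F.core = ⊥) (hhyp : F.hyperfocalSubgroup p = S) (hZ : (Subgroup.center ↥S).index ≤ p ^ 2) : Cfsg.IsExtraspecial p ↥S ∧ Nat.card S = p ^ 3 ∧ (p ≠ 2 → Monoid.exponent ↥S = p) ∧ (p = 2 → Nonempty (↥S ≃* DihedralGroup 4)) := by
  have hp : p.Prime := Fact.out
  have hna : ¬ IsMulCommutative S := fun h => not_comm_of_core hS hF hcore (stronglyClosed_top F) hS1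
    fun x hx y hy => congrArg Subtype.val (h.1.1 ⟨x, hx⟩ ⟨y, hy⟩)
  have hi : (Subgroup.center S).index = p ^ 2 := by
    have h1 := relIndex_dvd_pow_of_le hS ((relIndex_center_eq S).trans_le hZ)
    rw [relIndex_center_eq] at h1
    obtain ⟨k, hk, e⟩ := (Nat.dvd_prime_pow hp).1 h1
    rcases hk.lt_or_eq with h | rfl
    · exact absurd (e ▸ (pow_dvd_pow p (Nat.lt_succ_iff.1 h)).trans (pow_one p).dvd)
        (not_index_center_dvd hna)
    · exact e
  have hD' := H24.card_commutator_of_index_center hp hi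
  have hD := (card_commutator_eq S).trans hD'
  by_cases h2 : p = 2
  · subst h2
    obtain ⟨h1, h3⟩ := der_two hS hF hD hcore
      (le_antisymm (focalSubgroup_le F) (hhyp.ge.trans (hyp_le_foc F 2)))
    exact ⟨isExtraspecial_of_card_cube h1 hna, h1, fun h => absurd rfl h, fun _ => h3⟩
  have hZD := der_center_eq hS hF hD h2 hcore
  have hc : Nat.card S = p ^ 3 := by
    rw [← (Subgroup.center S).card_mul_index, hi, ← card_center_eq, hZD, hD]; ring
  refine ⟨isExtraspecial_of_card_cube hc hna, hc, fun _ => ?_, fun h => absurd h h2⟩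
  have hpow : ∀ x ∈ Om S p, x ^ p = 1 := fun x hx => pow_eq_one_of_mem_Om (fun x hx y hy h1 h3 => by
    have := congrArg Subtype.val (mul_pow_of_card_commutator hS h2 hD' ⟨x, hx⟩ ⟨y, hy⟩)
    simpa [h1, h3] using this) hx
  have hZO : centralizerIn S S ≤ Om S p := fun x hx =>
    mem_Om_of hx.1 (pow_eq_one_of_card_eq hD (hZD.le hx))
  have hO : Om S p = S := by
    by_contra hne
    have h1 : (centralizerIn S S).relIndex (Om S p) ∣ p := by
      simpa using relIndex_dvd_of_lt_right hS hZO (lt_of_le_of_ne (Om_le p) hne) (k := 1)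
        ((relIndex_center_eq S).trans hi).dvd
    refine not_comm_of_core hS hF hcore (Q := Om S p) (stronglyClosed_iff.2 ⟨Om_le p, fun P f hf x hx hx' =>
      mem_Om_of (hf.mem hx) (by rw [← hf.map_pow hx, hpow x hx', hf.map_one])⟩)
      (fun h => centralizerIn_self_ne_bot hS hS1 (eq_bot_iff.2 (hZO.trans h.le))) ?_
    have hcz : ∀ z ∈ centralizerIn S S, ∀ x ∈ S, z * x = x * z := fun z hz x hx =>
      ((mem_centralizerIn_comm.1 hz).2 x hx).symm
    by_cases h : Om S p ≤ centralizerIn S S
    · exact fun x hx y hy => hcz x (h hx) y (Om_le p hy)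
    · obtain ⟨a, ha, haZ⟩ := SetLike.not_le_iff_exists.1 h
      rw [← sup_zpowers_eq_of_relIndex_dvd hZO h1 ha haZ]
      exact abelian_sup_zpowers (fun x hx y hy => hcz x hx y hy.1) fun x hx => hcz x hx a (Om_le p ha)
  have : Nontrivial S := (Subgroup.nontrivial_iff_ne_bot S).2 hS1
  exact (Monoid.exponent_eq_prime_iff hp).2 fun g hg =>
    orderOf_eq_prime (Subtype.ext (hpow g (hO.ge g.2))) hg

end Cfsg.Agent.S5265
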