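import Cfsg.Statements.S5267
import Cfsg.Agent.H5.PE7

set_option autoImplicit false
open Cfsg

namespace Cfsg.Agent.S5267

/-- Let p be a prime and S a finite p-group of maximal class of order p^n with n ≥ 4 (nilpotency class n − 1: the term γ_{n−1}(S) of its lower central series, reached from S after n − 2 commutator steps, is nontrivial), F a saturated fusion system over S and E an F-essential subgroup. Write Γ₁ for the two-step centralizer C_S([S,S]/γ₄(S)) (the elements of S whose commutators with [S,S] lie in the fourth term γ₄(S) of the lower central series) and Z₂(S) for the second centre. Then E is a pearl — elementary abelian of order p², or extraspecial of order p³ of exponent p (p odd) or quaternion of order 8 (p = 2) — or E = Γ₁, or E = C_S(Z₂(S)). Moreover, if Γ₁ ≠ C_S(Z₂(S)) then every pearl of F is elementary abelian of order p². -/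
theorem result {Ω : Type*} [Group Ω] {S : Subgroup Ω} [Finite S] (p : ℕ) [Fact p.Prime] (hS : IsPGroup p ↥S) (n : ℕ) (hn : Nat.card S = p ^ n) (h4 : 4 ≤ n) (hmax : Subgroup.lowerCentralSeries S (n - 2) ≠ ⊥) (F : Cfsg.FusionSystem S) (hF : F.IsSaturated p) (Γ₁ : Subgroup Ω) (hΓ₁ : ∀ x : Ω, x ∈ Γ₁ ↔ x ∈ S ∧ ∀ y ∈ Subgroup.lowerCentralSeries S 1, x * y * x⁻¹ * y⁻¹ ∈ Subgroup.lowerCentralSeries S 3) : (∀ E : Subgroup Ω, F.IsEssential p E → (Nat.card ↥E = p ^ 2 ∧ Cfsg.IsElementaryAbelian p E) ∨ (Nat.card ↥E = p ^ 3 ∧ Cfsg.IsExtraspecial p ↥E ∧ (p ≠ 2 → Monoid.exponent ↥E = p) ∧ (p = 2 → Nonempty (↥E ≃* QuaternionGroup 2))) ∨ E = Γ₁ ∨ E = (S ⊓ Subgroup.centralizer (((Subgroup.upperCentralSeries ↥S 2).map S.subtype) : Set Ω))) ∧ (Γ₁ ≠ (S ⊓ Subgroup.centralizer (((Subgroup.upperCentralSeries ↥S 2).map S.subtype) : Set Ω)) → ∀ E : Subgroup Ω, F.IsEssential p E → (Nat.card ↥E = p ^ 3 ∧ Cfsg.IsExtraspecial p ↥E ∧ (p ≠ 2 → Monoid.exponent ↥E = p) ∧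 (p = 2 → Nonempty (↥E ≃* QuaternionGroup 2))) → False) := by
  have h : H5.PE.MX p S (n - 2) := ⟨H5.MxC.of hn (by omega) hmax, by omega⟩
  have e1 : Γ₁ = H5.PE.PP S 0 := Subgroup.ext fun x => by
    rw [hΓ₁]
    refine and_congr_right fun _ => forall₂_congr fun y hy => ⟨fun e => ?_, fun e => ?_⟩
    · simpa [mul_assoc] using H5.nconj' (H5.lc_normal 3 (H5.lc_le 1 hy)) e
    · simpa [mul_assoc] using H5.nconj (H5.lc_normal 3 (H5.lc_le 1 hy)) e
  have e2 := h.centralizer_ucs_two h.c2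
  refine ⟨fun E hE => ?_, fun hx E hE k => ?_⟩
  · rcases h.tri hF hE with ⟨x, h1, h2⟩ | e | e
    · exact ((⟨h, hF, hE⟩ : H5.PE.EX p F E _).pearl h1 h2).imp_right Or.inl
    · exact Or.inr (Or.inr (Or.inl (e.trans e1.symm)))
    · exact Or.inr (Or.inr (Or.inr (e.trans e2.symm)))
  have hx' : H5.Kc S (n - 2 - 1) ≠ H5.PE.PP S 0 := fun e => hx (e1.trans (e.symm.trans e2.symm))
  have := (h.exc hx').2.1
  have key : Nat.card E ≠ p ^ (n - 2 + 1) := fun e => by
    have := Nat.pow_right_injective (Fact.out : p.Prime).two_le (e.symm.trans k.1)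
    omega
  rcases h.tri hF hE with ⟨x, h1, h2⟩ | rfl | rfl
  · exact (⟨h, hF, hE⟩ : H5.PE.EX p F E _).exc_pearl hx' h1 h2 k.1
  · exact key (h.card_PP (by omega))
  · exact key h.card_Q

end Cfsg.Agent.S5267
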