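import Cfsg.Statements.S5269
import Cfsg.Agent.H5.NE7

set_option autoImplicit false
open Cfsg

namespace Cfsg.Agent.S5269

/-- Let p ≥ 5 be a prime, S a finite p-group of maximal class of order p^n with n ≥ 4, F a saturated fusion system over S, and E an F-essential subgroup that is normal in S. Then E has index p in S; moreover E is the two-step centralizer Γ₁ = C_S([S,S]/γ₄(S)) or E = C_S(Z₂(S)), unless S has order p^4 and E is extraspecial of order p³ and exponent p. -/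
theorem result {Ω : Type*} [Group Ω] {S : Subgroup Ω} [Finite S] (p : ℕ) [Fact p.Prime] (hS : IsPGroup p ↥S) (n : ℕ) (hn : Nat.card S = p ^ n) (h4 : 4 ≤ n) (hmax : Subgroup.lowerCentralSeries S (n - 2) ≠ ⊥) (F : Cfsg.FusionSystem S) (hF : F.IsSaturated p) (hp : 5 ≤ p) (Γ₁ : Subgroup Ω) (hΓ₁ : ∀ x : Ω, x ∈ Γ₁ ↔ x ∈ S ∧ ∀ y ∈ Subgroup.lowerCentralSeries S 1, x * y * x⁻¹ * y⁻¹ ∈ Subgroup.lowerCentralSeries S 3) (E : Subgroup Ω) (hE : F.IsEssential p E) (hEn : (E.subgroupOf S).Normal) : (E.subgroupOf S).index = p ∧ (E = Γ₁ ∨ E = (S ⊓ Subgroup.centralizer (((Subgroup.upperCentralSeries ↥S 2).map S.subtype) : Set Ω)) ∨ (n = 4 ∧ Nat.card ↥E = p ^ 3 ∧ Cfsg.IsExtraspecial p ↥E ∧ Monoid.exponent ↥E = p)) := by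
  have h := H5.MxC.of (p := p) hn (by omega) hmax
  have hc : 2 ≤ n - 2 := by omega
  obtain ⟨h1, h2⟩ := H5.NE.index_eq h hF hp hc hE
    ((Subgroup.normal_subgroupOf_iff_le_normalizer (H5.ess_le hE)).1 hEn)
  refine ⟨h2, (H5.NE.cases_of_index h hF (by omega) hc hE h1 h2).imp (fun e => e.trans (Subgroup.ext fun x => ?_))
    (Or.imp (fun e => e.trans (h.centralizer_ucs_two hc).symm) fun e => ⟨by omega, e.2⟩)⟩
  rw [hΓ₁, H5.mem_Kc]
  refine and_congr_right fun _ => forall₂_congr fun y hy => ⟨fun e => ?_, fun e => ?_⟩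
  · simpa [mul_assoc] using H5.nconj (H5.lc_normal 3 (H5.lc_le 1 hy)) e
  · simpa [mul_assoc] using H5.nconj' (H5.lc_normal 3 (H5.lc_le 1 hy)) e

end Cfsg.Agent.S5269
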