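import Cfsg.Statements.S5270
import Cfsg.Agent.H5.MaxCl

set_option autoImplicit false
open Cfsg

namespace Cfsg.Agent.S5270

open Cfsg.Agent.H5 Cfsg.Agent.H97 Cfsg.Agent.H98 Cfsg.Agent.H96 Cfsg.FusionSystem

/-- Let p ≥ 5 be a prime, S a finite p-group of maximal class of order p^n with n ≥ 4, and F a saturated fusion system over S. If some map of F defined on the second centre Z₂(S) with image Z₂(S) does not carry Z(S) into itself, then the centralizer C_S(Z₂(S)) is an F-essential subgroup. -/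
theorem result {Ω : Type*} [Group Ω] {S : Subgroup Ω} [Finite S] (p : ℕ) [Fact p.Prime] (hS : IsPGroup p ↥S) (n : ℕ) (hn : Nat.card S = p ^ n) (h4 : 4 ≤ n) (hmax : Subgroup.lowerCentralSeries S (n - 2) ≠ ⊥) (F : Cfsg.FusionSystem S) (hF : F.IsSaturated p) (hp : 5 ≤ p) (φ : ↥((Subgroup.upperCentralSeries ↥S 2).map S.subtype) →* Ω) (hφ : φ ∈ F.Hom ((Subgroup.upperCentralSeries ↥S 2).map S.subtype)) (hφZ : φ.range = ((Subgroup.upperCentralSeries ↥S 2).map S.subtype)) (hmove : ∃ (z : Ω) (hz : z ∈ ((Subgroup.upperCentralSeries ↥S 2).map S.subtype)), z ∈ ((Subgroup.center ↥S).map S.subtype) ∧ φ ⟨z, hz⟩ ∉ ((Subgroup.center ↥S).map S.subtype)) : F.IsEssential p (S ⊓ Subgroup.centralizer (((Subgroup.upperCentralSeries ↥S 2).map S.subtype) : Set Ω)) := by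
  have h := MxC.of hn (by omega) hmax
  change F.IsEssential p (centralizerIn S (ucs S 2))
  by_contra hne
  have hf : Iso F (ucs S 2) (ucs S 2) (fn φ) := iso_of_img (mor_of_mem hφ) 
    ((range_eq_img φ fun x => (fn_coe φ x).symm).symm.trans hφZ)
  obtain ⟨g, hg, e, -⟩ := hf.extend_centralizer (sat_receptive_of_fullyNormalized hS hF
    (fullyNormalized_of_le_normalizer F (ucs_le 2) (h.ucs_two_eq (by omega) ▸ lc_normal _)))
  obtain ⟨β, -, e'⟩ := exists_aut_of_relIndex_dvd hS hF (by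
    rw [h.centralizer_ucs_two (by omega), h.relIndex_Kc (by omega) (by omega)]) hne (hg.mono le_sup_right)
  obtain ⟨z, hz, h1, h2⟩ := hmove
  refine h2 ?_
  rw [fn_coe φ ⟨z, hz⟩ |>.symm, ← e z hz, e' z (centralizerIn_anti (ucs_le 2) ((map_center_eq S).le h1))]
  exact ext_mem_map_of_char _ β h1

end Cfsg.Agent.S5270
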