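import Cfsg.Statements.S5271
import Cfsg.Agent.H98.WeakEmb

set_option autoImplicit false
open Cfsg

namespace Cfsg.Agent.S5271

open H96 H97 H98 H98.WE

/-- A nilpotency criterion for fusion systems. Let F be a saturated fusion system over a finite p-group S of order at least p². Call a subgroup Q of S weakly embedded in F when there is a subgroup P of S strongly closed in F such that both the product QP and the intersection Q ∩ P are strongly closed in F. Then F is the inner fusion system of S if and only if there is a subgroup D of S with 1 < D < S such that every subgroup of S of the same order as D is weakly embedded in F and, for every fully normalized subgroup H of S of that order, the normalizer fusion system of H in F is the inner fusion system of N_S(H). -/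
theorem result {Ω : Type*} [Group Ω] {S : Subgroup Ω} [Finite S] (p : ℕ) [Fact p.Prime] (hS : IsPGroup p ↥S) (F : Cfsg.FusionSystem S) (hF : F.IsSaturated p) (hcard : p ^ 2 ≤ Nat.card S) : (∀ P : Subgroup Ω, F.Hom P = (Cfsg.innerFusionSystem S).Hom P) ↔ ∃ D : Subgroup Ω, ⊥ < D ∧ D < S ∧ (∀ Q : Subgroup Ω, Q ≤ S → Nat.card ↥Q = Nat.card ↥D → ∃ P : Subgroup Ω, F.StronglyClosed P ∧ F.StronglyClosed (Q ⊔ P) ∧ F.StronglyClosed (Q ⊓ P)) ∧ (∀ H : Subgroup Ω, F.IsFullyNormalized H → Nat.card ↥H = Nat.card ↥D → ∀ N : Cfsg.FusionSystem (Cfsg.FusionSystem.normalizerIn S H), F.IsNormalizerSystem H N → ∀ P : Subgroup Ω, N.Hom P = (Cfsg.innerFusionSystem (Cfsg.FusionSystem.normalizerIn S H)).Hom P) := by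
  have hp := (Fact.out : p.Prime).one_lt
  rw [← nil_iff_hom]
  constructor
  · intro h
    obtain ⟨M, -, h4, -, h5⟩ := exists_normal_index_p hS (T := ⊥) (bot_lt_iff_ne_bot.2 fun e => by
      rw [e, Subgroup.card_bot] at hcard; nlinarith)
    have h6 := Subgroup.relIndex_mul_relIndex ⊥ M S bot_le h4.le
    rw [Subgroup.relIndex_bot_left, Subgroup.relIndex_bot_left, h5] at h6
    refine ⟨M, bot_lt_iff_ne_bot.2 fun e => ?_, h4, fun Q hQ h7 => ⟨⊥, stronglyClosed_bot F, ?_,
      by simpa using stronglyClosed_bot F⟩, fun H hH _ => (nNil_iff_forall hH.1).1 (h.nNil H)⟩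
    · rw [e, Subgroup.card_bot] at h6; nlinarith
    obtain ⟨N, h8, h9, h10, h11⟩ := exists_normal_index_p hS (T := Q) (lt_of_le_of_ne hQ fun e => by
      rw [← h7, e] at h6; have := @Nat.card_pos S; nlinarith)
    have h12 := Subgroup.relIndex_mul_relIndex ⊥ N S bot_le h9.le
    rw [Subgroup.relIndex_bot_left, Subgroup.relIndex_bot_left, h11, ← h6, ← h7,
      Nat.mul_left_inj (by omega)] at h12
    haveI := finite_of_le_S h9.le
    rw [sup_bot_eq, Subgroup.eq_of_le_of_card_ge h8 h12.le]
    exact stronglyClosed_of_hyp_le hS hF h9.le (Subgroup.le_normalizer_iff_commutator_le_right.2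
      ((Subgroup.commutator_mono le_rfl h9.le).trans h10)) (h.hyp_eq_bot hS ▸ bot_le)
  · rintro ⟨D, h1, h2, h3, h4⟩
    haveI := finite_of_le_S h2.le
    obtain ⟨k, hk⟩ := IsPGroup.iff_card.1 (hS.to_le h2.le)
    rw [hk] at h3 h4
    exact nil_of_emb _ rfl hS hF h3 (fun e => h1.ne' (Subgroup.card_eq_one.1 (by rw [hk, e, pow_zero])))
      (fun H hH h5 => (nNil_iff_forall hH.1).2 (h4 H hH h5)) (hk ▸ card_lt_of_lt h2 le_rfl)

end Cfsg.Agent.S5271
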