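import Cfsg.Statements.S5278
import Cfsg.Agent.H99.Agemo
import Cfsg.Agent.H99.Torus
import Cfsg.Agent.H96.ThompsonJ

set_option autoImplicit false
open Cfsg

namespace Cfsg.Agent.S5278

open Cfsg.FusionSystem Cfsg.Agent.H97 Cfsg.Agent.H96 Cfsg.Agent.H99

/-- Let p be an odd prime, F a saturated fusion system over a finite p-group S, and T a subgroup of Z(S) such that the normalizer fusion system of J(S) in F is contained in the normalizer fusion system of T, J(S) being the subgroup generated by the abelian subgroups of S of largest order. Then either T is weakly closed in F, or Aut_F(T) has a nontrivial cyclic subgroup X of order prime to p that permutes transitively the non-identity elements of the commutator [T, X] (the subgroup of T generated by the elements ψ(t)·t⁻¹ with ψ in X and t in T). -/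
theorem result {Ω : Type*} [Group Ω] {S : Subgroup Ω} [Finite S] (p : ℕ) [Fact p.Prime] (hS : IsPGroup p ↥S) (F : Cfsg.FusionSystem S) (hF : F.IsSaturated p) (hp : p ≠ 2) (T : Subgroup Ω) (hT : T ≤ S ⊓ Subgroup.centralizer (S : Set Ω)) (hJT : ∀ NJ : Cfsg.FusionSystem (Cfsg.FusionSystem.normalizerIn S (Cfsg.thompsonSubgroupAOf S)), F.IsNormalizerSystem (Cfsg.thompsonSubgroupAOf S) NJ → ∀ NT : Cfsg.FusionSystem (Cfsg.FusionSystem.normalizerIn S T), F.IsNormalizerSystem T NT → NJ.IsSubsystemOf NT) : F.WeaklyClosed T ∨ ∃ X : Subgroup (MulAut ↥T), X ≤ F.autGroup T ∧ X ≠ ⊥ ∧ IsCyclic ↥X ∧ (Nat.card ↥X).Coprime p ∧ ∀ a b : ↥T, a ∈ Subgroup.closure {y : ↥T | ∃ ψ ∈ X, ∃ t : ↥T, y = ψ t * t⁻¹} → b ∈ Subgroup.closure {y : ↥T | ∃ ψ ∈ X, ∃ t : ↥T, y = ψ t * t⁻¹} → a ≠ 1 → b ≠ 1 → ∃ ψ ∈ X, ψ a = b := by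
  by_contra hcon
  rw [not_or] at hcon
  obtain ⟨hwc, hX⟩ := hcon
  have hTS : T ≤ S := hT.trans inf_le_left
  haveI : Finite T := finite_of_le_S hTS
  have hTc : ∀ U, U ≤ S → T ≤ U → T ≤ centralizerIn U U := fun U hU hTU =>
    le_inf hTU ((hT.trans inf_le_right).trans (Subgroup.centralizer_le hU))
  have hTJ : ∀ U, U ≤ S → T ≤ U → T ≤ thompsonSubgroupAOf U := fun U hU hTU => by
    haveI : Finite U := finite_of_le_S hU
    exact (hTc U hU hTU).trans ((centralizerIn_anti (thompsonSubgroupAOf_le' U)).trans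
      (centralizerIn_thompsonSubgroupAOf_le U))
  have himg : ∀ P f, Mor F P f → T ≤ P → (∀ x ∈ T, f x ∈ T) → img T f = T :=
    fun P f hf hTP h => (hf.mono hTP).img_eq_of_mapsTo h
  -- the automorphisms of `J(S)`
  have htop : ∀ f, Iso F (thompsonSubgroupAOf S) (thompsonSubgroupAOf S) f → ∀ x ∈ T, f x ∈ T := by
    intro f hf x hx
    obtain ⟨NJ, hNJ⟩ := exists_normalizerSystem F (thompsonSubgroupAOf_le' S)
    obtain ⟨NT, hNT⟩ := exists_normalizerSystem F hTS
    have h1 : Mor NJ (thompsonSubgroupAOf S) f :=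
      (nsys_mor_iff_of_le hNJ le_rfl).2 ⟨le_normalizerIn hf.le, hf.mor, hf.img_eq⟩
    have h2 := ((nsys_mor_iff_of_le hNT (hTJ S le_rfl hTS)).1
      (h1.of_sub (hJT NJ hNJ NT hNT))).2.2
    exact h2.le (mem_img_of_mem f hx)
  let Bad : Subgroup Ω → Prop := fun R => R ≤ S ∧ T ≤ R ∧ ∃ f, Iso F R R f ∧ ∃ x ∈ T, f x ∉ T
  let m : Subgroup Ω → ℕ := fun R => Nat.card (normalizerIn S R) * (Nat.card S + 1) + Nat.card R
  have hgood : ∀ R, R ≤ S → T ≤ R → ¬ Bad R → ∀ f, Iso F R R f → ∀ x ∈ T, f x ∈ T :=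
    fun R hR hTR h f hf x hx => by_contra fun h' => h ⟨hR, hTR, f, hf, x, hx, h'⟩
  have hlarge : ∀ n, (∀ Q, Q ≤ S → T ≤ Q → n ≤ Nat.card Q → ¬ Bad Q) →
      ∀ P f, Mor F P f → T ≤ P → n ≤ Nat.card P → ∀ x ∈ T, f x ∈ T := by
    intro n h
    refine alperin_induction' hS hF (fun P f => T ≤ P → n ≤ Nat.card P → ∀ x ∈ T, f x ∈ T)
      (fun P f g _ e h1 hTP hn x hx => e x (hTP hx) ▸ h1 hTP hn x hx)
      (fun P _ _ _ x hx => hx) ?_
    intro P Q f g hf _ hg hPQ h1 hTP hn x hx
    haveI : Finite Q := finite_of_le_S hg.le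
    have hTQ : T ≤ Q := by
      rw [← himg P f hf hTP (h1 hTP hn), img_le_iff]
      exact fun y hy => hPQ y (hTP hy)
    exact hgood Q hg.le hTQ (h Q hg.le hTQ (hn.trans (mor_card_le hf hPQ))) g hg _ (h1 hTP hn x hx)
  have hex : ∃ R, Bad R := by
    by_contra h
    push Not at h
    exact hwc (weaklyClosed_iff.2 ⟨hTS, fun f hf => himg T f hf le_rfl
      (hlarge 0 (fun Q _ _ _ => h Q) T f hf le_rfl (Nat.zero_le _))⟩)
  obtain ⟨R, ⟨hRS, hTR, f, hf, x, hx, hfx⟩, hmax⟩ := exists_max_subgroup Bad (fun _ h => h.1) hex m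
  have hcard : ∀ Q, Q ≤ S → Nat.card Q ≤ Nat.card S := fun Q hQ => Subgroup.card_le_of_le hQ
  have hmax1 : ∀ Q, Nat.card (normalizerIn S R) < Nat.card (normalizerIn S Q) → ¬ Bad Q := by
    intro Q hQ hb
    have h1 := hmax Q hb
    have h2 := hcard R hRS
    have h3 : (Nat.card (normalizerIn S R) + 1) * (Nat.card S + 1) ≤
        Nat.card (normalizerIn S Q) * (Nat.card S + 1) := Nat.mul_le_mul_right _ hQ
    simp only [m] at h1
    nlinarith
  have hmax2 : ∀ Q, normalizerIn S R ≤ normalizerIn S Q → R < Q → ¬ Bad Q := by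
    intro Q hQ hRQ hb
    have h1 := hmax Q hb
    have h2 := card_lt_of_lt hRQ hb.1
    have h3 : Nat.card (normalizerIn S R) * (Nat.card S + 1) ≤
        Nat.card (normalizerIn S Q) * (Nat.card S + 1) :=
      Nat.mul_le_mul_right _ (Subgroup.card_le_of_le hQ)
    simp only [m] at h1
    omega
  -- `R` is fully normalized
  have hRn : F.IsFullyNormalized R := by
    by_contra hRn
    have hNS : normalizerIn S R < S := lt_of_le_of_ne normalizerIn_le fun h =>
      hRn (fullyNormalized_of_le_normalizer F hRS (h.ge.trans inf_le_right))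
    obtain ⟨Q, g, hQ, hg, hRQ, -⟩ := sat_exists_normalizer_map hS hF hRS
    have h1 : Nat.card (normalizerIn S R) < Nat.card (normalizerIn S Q) := by
      by_contra h
      exact hRn (fullyNormalized_of_card_le hQ (isConj_symm hRQ.isConj) (not_lt.1 h))
    have h2 := hlarge (Nat.card (normalizerIn S R)) (fun Q' hQ' _ hc => hmax1 Q' (by
      rcases hQ'.lt_or_eq with h | rfl
      · exact hc.trans_lt (card_lt_of_lt (lt_normalizerIn hS h) normalizerIn_le)
      · exact (card_lt_of_lt hNS le_rfl).trans_le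
          (Subgroup.card_le_of_le (le_normalizerIn le_rfl))))
      _ g hg (hTR.trans (le_normalizerIn hRS)) le_rfl
    have h3 := himg R g hRQ.mor hTR h2
    obtain ⟨g', hg', e1, e2⟩ := hRQ.exists_inv
    have hTQ : T ≤ Q := by
      rw [← h3, img_le_iff]
      exact fun y hy => hRQ.mem y (hTR hy)
    have h4 := hgood Q hQ.1 hTQ (hmax1 Q h1) _ ((hg'.trans hf).trans hRQ) (g x) (h2 x hx)
    rw [e1 x (hTR hx), ← h3] at h4
    exact hfx ((hRQ.mor.mem_img_iff hTR (hf.mem x (hTR hx))).1 h4)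
  -- `R` is centric
  have hRc : centralizerIn S R ≤ R := by
    by_contra hc
    obtain ⟨g, hg, e, hgc⟩ := hf.extend_centralizer (sat_receptive_of_fullyNormalized hS hF hRn)
    haveI : Finite (R ⊔ centralizerIn S R : Subgroup Ω) := finite_of_le_S hg.le
    refine hmax2 (R ⊔ centralizerIn S R) ?_ (left_lt_sup.2 hc) ⟨hg.le, hTR.trans le_sup_left, g,
      iso_self hg (hg.homOn.mem_of_sup (fun y hy => Subgroup.mem_sup_left (e y hy ▸ hf.mem y hy))
        (fun y hy => Subgroup.mem_sup_right (hgc y hy))), x, hx, by rwa [e x (hTR hx)]⟩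
    exact le_inf normalizerIn_le (H85.le_normalizer_sup inf_le_right (H85.le_normalizer_inf
      (inf_le_left.trans Subgroup.le_normalizer)
      (inf_le_right.trans (H85.normalizer_le_normalizer_centralizer R))))
  have hRc' : F.IsCentric R := isCentric_of_fullyCentralized (sat_fullyCentralized hS hF hRn) hRc
  obtain ⟨N, hN⟩ := exists_normalizerSystem F hRS
  obtain ⟨G, _, ι, hG⟩ := exists_nsys_model hS hF hRn hRc' hN
  haveI := hG.1
  obtain ⟨P, hP⟩ := hG.2.2.1
  let U := normalizerIn S R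
  have hUS : U ≤ S := normalizerIn_le
  have hTU : T ≤ U := hTR.trans (le_normalizerIn hRS)
  have hι := hG.2.1.1
  have hw : img (thompsonSubgroupAOf U) (fn ι) = thompsonSubgroupAOf (P : Subgroup G) :=
    img_wf_range (map_thompsonA p) (isPGroup_normalizerIn hS R) hι hP
  have hJU := thompsonSubgroupAOf_le' U
  have hJgood : ∀ f', Iso F (thompsonSubgroupAOf U) (thompsonSubgroupAOf U) f' →
      ∀ x ∈ T, f' x ∈ T := by
    rcases hUS.lt_or_eq with h | h
    · refine hgood _ (hJU.trans hUS) (hTJ U hUS hTU) (hmax1 _ ?_)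
      exact (card_lt_of_lt (lt_normalizerIn hS h) normalizerIn_le).trans_le
        (Subgroup.card_le_of_le (inf_le_inf_left S
          (normalizer_le_normalizer_thompsonSubgroupAOf U)))
    · rw [h]; exact htop
  set T' := img T (fn ι) with hT'
  have hT'P : T' ≤ (P : Subgroup G) ⊓ Subgroup.centralizer ((P : Subgroup G) : Set G) := by
    rw [hP, hT', img_le_iff]
    refine fun y hy => ⟨fn_mem_range ι y, fun z hz => ?_⟩
    obtain ⟨u, hu, rfl⟩ := mem_range_iff_fn.1 hz
    rw [← fn_mul ι hu (hTU hy), ← fn_mul ι (hTU hy) hu, (hT hy).2 u (hUS hu)]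
  -- realizing elements normalizing the image of a subgroup
  have hreal : ∀ L, L ≤ U → ∀ g ∈ Subgroup.normalizer ((img L (fn ι) : Subgroup G) : Set G),
      ∃ f', Iso F L L f' ∧ ∀ y ∈ L, fn ι (f' y) = g * fn ι y * g⁻¹ := by
    intro L hL g hg
    haveI : Finite L := finite_of_le_S (hL.trans hUS)
    have h1 : ∀ y ∈ L, g * fn ι y * g⁻¹ ∈ img L (fn ι) := fun y hy =>
      H96.conj_mem_of_mem_normalizer hg (mem_img_of_mem _ hy)
    obtain ⟨f', hf', e⟩ := Realized.exists_mor hG.2.1 hL fun y hy => img_fn_le_range ι L (h1 y hy)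
    exact ⟨f', iso_self (nsys_mor hN hf') fun y hy =>
      (fn_mem_img_iff hι hL (hf'.mem hy)).1 (e y hy ▸ h1 y hy), e⟩
  rcases le_normalizer_or_torus (H85.isSyl_top P) (H54.charIn_top_iff.2 hG.2.2.2) hT'P (by
      rintro g ⟨-, hg⟩
      rw [← H51.thompsonSubgroupAOf_eq, ← hw] at hg
      obtain ⟨f', hf', e⟩ := hreal _ hJU g hg
      refine mem_normalizer_of_conj_mem fun y hy => ?_
      obtain ⟨z, hz, rfl⟩ := (mem_img_fn hTU).1 hy
      rw [← e z (hTJ U hUS hTU hz)]
      exact mem_img_of_mem _ (hJgood f' hf' z hz)) with h | ⟨t, -, ht, hto, Z, hZ, hfix, hpow, htr⟩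
  · have h1 : Mor N R f := (nsys_mor_iff_of_le hN le_rfl).2 ⟨le_normalizerIn hRS, hf.mor, hf.img_eq⟩
    obtain ⟨g, hg⟩ := Realized.exists_conj hG.2.1 h1
    have h2 := H96.conj_mem_of_mem_normalizer (h (Subgroup.mem_top g)) (mem_img_of_mem (fn ι) hx)
    rw [← hg x (hTR hx)] at h2
    exact hfx ((fn_mem_img_iff hι hTU (h1.mem (hTR hx))).1 h2)
  obtain ⟨f', hf', e⟩ := hreal T hTU t ht
  obtain ⟨α, hα, eα⟩ := hf'.exists_aut
  have epow : ∀ (j : ℕ) (y : T), fn ι ((α ^ j) y : T) = t ^ j * fn ι y * (t ^ j)⁻¹ := by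
    intro j
    induction j with
    | zero => intro y; simp
    | succ j ih =>
      intro y
      rw [pow_succ', MulAut.mul_apply, ← ext_coe α, eα _ (SetLike.coe_mem _),
        e _ (SetLike.coe_mem _), ih, pow_succ']
      group
  have hαo : (orderOf α).Coprime p := by
    refine Nat.Coprime.coprime_dvd_left (orderOf_dvd_of_pow_eq_one ?_) hto
    ext y
    refine fn_inj hι (hTU (SetLike.coe_mem _)) (hTU (SetLike.coe_mem _)) ?_
    rw [epow, pow_orderOf_eq_one, one_mul, inv_one, mul_one, MulAut.one_apply]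
  let κ : T →* G := ι.comp (Subgroup.inclusion hTU)
  have hκ : ∀ y : T, κ y = fn ι y := fun y => (fn_apply ι (hTU y.2)).symm
  obtain ⟨h1, h2⟩ := torus_transitive hp (hS.to_le hTS)
    (H51.isMulCommutative_iff_le_centralizer.2 ((hTc T hTS le_rfl).trans inf_le_right)) α hαo
    (Z.comap κ) (fun h => hZ (by
      rw [hT', img_le_iff]
      intro y hy
      have : (⟨y, hy⟩ : T) ∈ Z.comap κ := h.ge (Subgroup.mem_top _)
      rwa [Subgroup.mem_comap, hκ] at this))
    (fun z hz => by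
      refine Subtype.ext (fn_inj hι (hTU (SetLike.coe_mem _)) (hTU (SetLike.coe_mem _)) ?_)
      have := epow 1 z
      rw [pow_one, pow_one] at this
      rw [this]
      exact hfix _ (hκ z ▸ hz))
    (fun y => by
      rw [Subgroup.mem_comap, map_pow, hκ]
      exact hpow _ (mem_img_of_mem _ y.2))
    (fun y z hy hz => by
      rw [Subgroup.mem_comap, hκ] at hy hz
      obtain ⟨j, hj⟩ := htr _ (mem_img_of_mem _ y.2) _ (mem_img_of_mem _ z.2) hy hz
      refine ⟨j, ?_⟩
      rw [Subgroup.mem_comap, map_mul, map_inv, hκ, hκ, epow]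
      exact hj)
  exact hX ⟨Subgroup.zpowers α, Subgroup.zpowers_le.2 hα, h1, inferInstance,
    by rwa [Nat.card_zpowers], h2⟩

end Cfsg.Agent.S5278
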