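import Cfsg.Statements.S5283
import Cfsg.Agent.H5.MaxCl
import Cfsg.Agent.H5.Huppert
import Cfsg.Agent.H95.Tools

set_option autoImplicit false
open Cfsg

namespace Cfsg.Agent.S5283

open Cfsg.Agent.H5 Cfsg.Agent.H97 Cfsg.Agent.H98 Cfsg.Agent.H96 Cfsg.FusionSystem
open scoped commutatorElement

section

variable {Ω : Type*} [Group Ω] {S A B : Subgroup Ω} {p : ℕ} [hp : Fact p.Prime] {F : FusionSystem S}

omit hp in
theorem mul_pow_mem_iff {a y : Ω} (hy : y ∈ Subgroup.normalizer (A : Set Ω)) (ha : a ∈ A) (n : ℕ) :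
    (a * y) ^ n ∈ A ↔ y ^ n ∈ A := by
  have := inv_pow_mul_mul_pow_mem hy (nconj' hy ha) n
  rw [show y * (y⁻¹ * a * y) = a * y by group] at this
  exact ⟨fun h => by simpa using A.mul_mem h (A.inv_mem this), fun h => by simpa using A.mul_mem h this⟩

/-- Chains of strongly closed subgroups with steps of index dividing `p`. -/
inductive SC (F : FusionSystem S) (p : ℕ) : Subgroup Ω → Prop
  | bot : SC F p ⊥
  | step {A B : Subgroup Ω} : SC F p A → A ≤ B → F.StronglyClosed B → A.relIndex B ∣ p → SC F p B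

omit hp in
theorem SC.sc (h : SC F p A) : F.StronglyClosed A := by
  cases h with
  | bot => exact stronglyClosed_bot F
  | step _ _ h _ => exact h

theorem SC.cyclic [Finite S] (h : SC F p A) {j : ℕ} {x : Ω} (hx : x ^ p ^ j ∈ A)
    (hB : F.StronglyClosed (A ⊔ Subgroup.zpowers x)) : SC F p (A ⊔ Subgroup.zpowers x) := by
  induction j generalizing x with
  | zero => rwa [sup_eq_left.2 (Subgroup.zpowers_le_of_mem (by simpa using hx))]
  | succ j ih =>
    by_cases h1 : x ^ p ^ j ∈ A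
    · exact ih h1 hB
    have hxS : x ∈ S := hB.1 (Subgroup.mem_sup_right (Subgroup.mem_zpowers x))
    have hn := le_normalizer_of_stronglyClosed h.sc
    have hle : A ⊔ Subgroup.zpowers (x ^ p) ≤ A ⊔ Subgroup.zpowers x :=
      sup_le_sup_left (Subgroup.zpowers_le_of_mem (Subgroup.npow_mem_zpowers x p)) A
    have hB' : F.StronglyClosed (A ⊔ Subgroup.zpowers (x ^ p)) :=
      stronglyClosed_iff.2 ⟨hle.trans hB.1, fun R f hf y hy hy' => by
        obtain ⟨a, ha, k, e⟩ := (mem_sup_zpowers_iff (hn (S.pow_mem hxS p))).1 hy'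
        obtain ⟨b, hb, l, e'⟩ := (mem_sup_zpowers_iff (hn hxS)).1 (mem_of_stronglyClosed hB hf hy (hle hy'))
        have h2 : y ^ p ^ j ∈ A := by
          rw [e, mul_pow_mem_iff (hn (S.zpow_mem (S.pow_mem hxS p) k)) ha, ← zpow_natCast, ← zpow_mul, mul_comm,
            zpow_mul, zpow_natCast, ← pow_mul, ← pow_succ']
          exact A.zpow_mem hx k
        have h3 := mem_of_stronglyClosed h.sc hf (R.pow_mem hy _) h2
        rw [hf.map_pow hy, e', mul_pow_mem_iff (hn (S.zpow_mem hxS l)) hb, ← zpow_natCast, ← zpow_mul, mul_comm,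
          zpow_mul, zpow_natCast] at h3
        obtain ⟨l, rfl⟩ := dvd_of_zpow_mem h1 (by rwa [← pow_mul, ← pow_succ]) h3
        rw [e', zpow_mul, zpow_natCast]
        exact Subgroup.mul_mem_sup hb (Subgroup.zpow_mem_zpowers _ l)⟩
    refine (ih (by rwa [← pow_mul, ← pow_succ']) hB').step hle hB (relIndex_dvd_of_le_sup_zpowers
      (le_normalizer_of_stronglyClosed hB' hxS) (Subgroup.mem_sup_right (Subgroup.mem_zpowers _)) hle
      (sup_le_sup_right le_sup_left _))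

def Ch (F : FusionSystem S) (B : Subgroup Ω) : Prop :=
  ∃ (m : ℕ) (c : Fin (m + 1) → Subgroup Ω), c 0 = ⊥ ∧ c (Fin.last m) = B ∧
    (∀ i : Fin (m + 1), F.StronglyClosed (c i)) ∧
    ∀ i : Fin m, c i.castSucc ≤ c i.succ ∧ ∃ x ∈ S, c i.succ = c i.castSucc ⊔ Subgroup.zpowers x

theorem ch_iff [Finite S] (hS : IsPGroup p S) : Ch F B ↔ SC F p B := by
  refine ⟨fun ⟨m, c, h0, h1, h2, h3⟩ => h1 ▸ Fin.induction (motive := fun i => SC F p (c i)) (h0 ▸ SC.bot)
    (fun i ih => ?_) (Fin.last m), fun h => ?_⟩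
  · obtain ⟨-, x, hx, e⟩ := h3 i
    obtain ⟨k, hk⟩ := hS ⟨x, hx⟩
    exact e ▸ ih.cyclic (j := k) ((show x ^ p ^ k = 1 from congrArg Subtype.val hk) ▸ one_mem _) (e ▸ h2 _)
  induction h with
  | bot => exact ⟨0, fun _ => ⊥, rfl, rfl, fun _ => stronglyClosed_bot F, fun i => i.elim0⟩
  | @step A B _ hAB hB hi ih =>
    obtain ⟨m, c, h0, h1, h2, h3⟩ := ih
    refine ⟨m + 1, Fin.snoc c B, (Fin.snoc_castSucc (α := fun _ => Subgroup Ω) B c 0).trans h0, by simp,
      fun i => Fin.lastCases (by simpa using hB) (fun i => by simpa using h2 i) i,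
      fun i => Fin.lastCases ?_ (fun i => by simpa [← Fin.castSucc_succ] using h3 i) i⟩
    rw [Fin.succ_last, Fin.snoc_last, Fin.snoc_castSucc, h1]
    refine ⟨hAB, ?_⟩
    by_cases e : B ≤ A
    · exact ⟨1, one_mem _, by simpa using le_antisymm e hAB⟩
    · obtain ⟨x, hx, hxA⟩ := SetLike.not_le_iff_exists.1 e
      exact ⟨x, hB.1 hx, (sup_zpowers_eq_of_relIndex_dvd hAB hi hx hxA).symm⟩

theorem SC.isNormal [Finite S] (hS : IsPGroup p S) (hF : F.IsSaturated p) (h : SC F p S) : F.IsNormal S := by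
  refine sat_isNormal_of_stronglyClosed hS hF (stronglyClosed_top F) fun E hE =>
    (ess_not_invChain hS hF hE ?_).elim
  have key : ∀ B, SC F p B → InvChain F E (normalizerIn S E) (B ⊓ E) := fun B h => by
    induction h with
    | bot => simpa using InvChain.bot
    | @step A B _ hAB hB hi ih =>
      have := finite_of_le hB.1
      refine ih.step_dvd hS (ess_le hE) le_rfl (inf_le_inf_right _ hAB) inf_le_right
        (autInv_inf_of_stronglyClosed (ess_le hE) hB) ?_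
      rw [← Subgroup.inf_relIndex_right, inf_assoc, inf_of_le_right (inf_le_right : B ⊓ E ≤ E),
        Subgroup.inf_relIndex_right]
      exact relIndex_dvd_of_le_right' (hS.to_le hB.1) inf_le_left hi
  simpa [inf_of_le_right (ess_le hE)] using key S h

theorem mulAut_of_card_dvd {Q : Type*} [Group Q] (h : Nat.card Q ∣ p) (a b : MulAut Q) :
    ⁅a, b⁆ = 1 ∧ a ^ (p - 1) = 1 := by
  have := isCyclic_of_card_dvd_prime h
  have : Finite Q := Nat.finite_of_card_ne_zero fun e => hp.out.ne_zero (zero_dvd_iff.1 (e ▸ h))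
  refine ⟨commutatorElement_eq_one_iff_mul_comm.2 ((IsCyclic.mulAutMulEquiv Q).injective (by
    rw [map_mul, map_mul, mul_comm])), ?_⟩
  rcases (Nat.dvd_prime hp.out).1 h with h | h
  · have := (Nat.card_eq_one_iff_unique.1 h).1
    exact MulEquiv.ext fun _ => Subsingleton.elim _ _
  · rw [← Nat.totient_prime hp.out, ← h, ← IsCyclic.card_mulAut, pow_card_eq_one']

/-- Commutators and `(p-1)`-th powers of elements of `G`. -/
def CP (p : ℕ) (G : Subgroup (MulAut S)) : Set (MulAut S) :=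
  {α | ∃ a ∈ G, ∃ b ∈ G, α = ⁅a, b⁆ ∨ α = a ^ (p - 1)}

omit hp in
theorem CP_subset {G : Subgroup (MulAut S)} : CP p G ⊆ G := by
  rintro _ ⟨a, ha, b, hb, rfl | rfl⟩
  exacts [commutator_self_le G (Subgroup.commutator_mem_commutator ha hb), G.pow_mem ha _]

theorem pt_CP [Finite S] (hS : IsPGroup p S) {G : Subgroup (MulAut S)} (hAB : A ≤ B) (hBS : B ≤ S)
    (hA : Inv (G : Set (MulAut S)) A) (hB : Inv (G : Set (MulAut S)) B) (hi : A.relIndex B ∣ p) :
    PT p (CP p G) A B := by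
  have := finite_of_le hBS
  have := (Subgroup.normal_subgroupOf_iff_le_normalizer hAB).2
    (le_normalizer_of_relIndex_dvd (hS.to_le hBS) hAB hi)
  obtain ⟨ρ, hρ⟩ := exists_sectionAction G hBS hB hA
  have key : ∀ α : G, ρ α = 1 → ∀ x ∈ B, x⁻¹ * ext α.1 x ∈ A := fun α h x hx => by
    have := hρ α x hx
    rw [h, ext_one] at this
    exact (QuotientGroup.eq (a := (⟨x, hx⟩ : B))).1 this
  have hc : Nat.card (⊤ : Subgroup (B ⧸ A.subgroupOf B)) ∣ p := by rwa [Subgroup.card_top]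
  refine PT.triv hAB ?_
  rintro _ ⟨a, ha, b, hb, rfl | rfl⟩
  · exact key ⁅(⟨a, ha⟩ : G), (⟨b, hb⟩ : G)⁆ (by rw [map_commutatorElement, (mulAut_of_card_dvd hc _ _).1])
  · exact key (⟨a, ha⟩ ^ (p - 1)) (by rw [map_pow, (mulAut_of_card_dvd hc _ 1).2])

omit hp in
theorem of_pt_CP [Finite S] {G H : Subgroup (MulAut S)} (h : PT p (CP p G) ⊥ S) (hH : H ≤ G)
    (hc : (Nat.card H).Coprime p) : IsMulCommutative H ∧ ∀ h ∈ H, h ^ (p - 1) = 1 := by
  have key : ∀ α ∈ H, α ∈ CP p G → α = 1 := fun α h1 h2 => by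
    obtain ⟨k, hk⟩ := exists_pow_eq_one_of_isPGroup h.isPGroup (Subgroup.subset_closure h2)
    exact orderOf_eq_one_iff.1 (Nat.eq_one_of_dvd_coprimes (hc.pow_right k)
      (H.orderOf_dvd_natCard h1) (orderOf_dvd_of_pow_eq_one hk))
  exact ⟨⟨⟨fun a b => Subtype.ext (commutatorElement_eq_one_iff_mul_comm.1 (key _
    (commutator_self_le H (Subgroup.commutator_mem_commutator a.2 b.2)) ⟨a, hH a.2, b, hH b.2, Or.inl rfl⟩))⟩⟩,
    fun a ha => key _ (H.pow_mem ha _) ⟨a, hH ha, a, hH ha, Or.inr rfl⟩⟩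

theorem SC.pt [Finite S] (hS : IsPGroup p S) (h : SC F p B) : PT p (CP p (F.autGroup S)) ⊥ B := by
  have hinv : ∀ {B}, F.StronglyClosed B → Inv (F.autGroup S : Set (MulAut S)) B := fun h α hα x hx =>
    mem_of_stronglyClosed h (mor_of_mem_autGroup le_rfl hα) (h.1 hx) hx
  induction h with
  | bot => exact PT.refl inv_bot
  | step h hAB hB hi ih => exact ih.bot_trans hS (pt_CP hS hAB hB.1 (hinv h.sc) (hinv hB) hi) hAB hB.1

theorem exists_eigen {P : Subgroup Ω} [Finite P] {X : Set (MulAut P)} {M : Subgroup Ω} (hM : M ≤ P)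
    (h0 : M ≠ ⊥) (hX : Inv X M) (hc : ∀ x ∈ M, ∀ y ∈ M, x * y = y * x) (he : ∀ x ∈ M, x ^ p = 1)
    (h1 : ∀ α ∈ X, ∀ β ∈ X, ∀ x ∈ M, ext α (ext β x) = ext β (ext α x))
    (h2 : ∀ α ∈ X, ∀ x ∈ M, ext (α ^ (p - 1)) x = x) :
    ∃ x ∈ M, x ≠ 1 ∧ ∀ α ∈ X, ext α x ∈ Subgroup.zpowers x := by
  induction hn : Nat.card M using Nat.strong_induction_on generalizing M with
  | _ n ih =>
  have := finite_of_le hM
  by_cases h : ∀ α ∈ X, ∃ a : ℕ, ∀ x ∈ M, ext α x = x ^ a
  · obtain ⟨x, hx, hx1⟩ := M.bot_or_exists_ne_one.resolve_left h0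
    exact ⟨x, hx, hx1, fun α hα => let ⟨a, ha⟩ := h α hα; ha x hx ▸ Subgroup.npow_mem_zpowers x a⟩
  push Not at h
  obtain ⟨α, hα, h⟩ := h
  obtain ⟨β, hβ⟩ := exists_restrict hM (hX α hα)
  have := (Subgroup.nontrivial_iff_ne_bot M).2 h0
  let : CommGroup M := { (inferInstance : Group M) with mul_comm := fun a b => Subtype.ext (hc a a.2 b b.2) }
  obtain ⟨v, hv1, a, hv⟩ := exists_map_eq_pow (p := p) (V := M) (fun v => Subtype.ext (he v v.2)) β
    (aut_ext fun x hx => by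
      have h3 : ∀ n, ∀ x ∈ M, ext (β ^ n) x = ext (α ^ n) x := fun n => by
        induction n with
        | zero => simp
        | succ n ih => exact fun x hx => by rw [pow_succ, pow_succ, ext_mul, ext_mul, ih _ (ext_mem β hx), hβ x hx]
      rw [h3 p x hx, ← Nat.sub_add_cancel hp.out.one_le, pow_succ', ext_mul, h2 α hα x hx, hβ x hx])
  let E : Subgroup Ω :=
    { carrier := {x | x ∈ M ∧ ext α x = x ^ a}
      one_mem' := ⟨M.one_mem, by simp [(homOn_ext α).map_one]⟩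
      mul_mem' := fun {x y} hx hy => ⟨M.mul_mem hx.1 hy.1, by
        rw [Commute.mul_pow (hc x hx.1 y hy.1), ← hx.2, ← hy.2, (homOn_ext α).map_mul (hM hx.1) (hM hy.1)]⟩
      inv_mem' := fun {x} hx => ⟨M.inv_mem hx.1, by rw [inv_pow, ← hx.2, (homOn_ext α).map_inv (hM hx.1)]⟩ }
  have hE : E ≤ M := fun _ h => h.1
  obtain ⟨y, hy, hy'⟩ := h a
  obtain ⟨x, hx, h3⟩ := ih _ (hn ▸ card_lt_of_lt (lt_of_le_of_ne hE fun e => hy' (e.ge hy).2) le_rfl)
    (hE.trans hM) (fun e => hv1 (Subtype.ext (e.le (⟨v.2, by rw [← hβ v v.2, ext_coe, hv]; rfl⟩ : v.1 ∈ E))))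
    (fun γ hγ x hx => ⟨hX γ hγ x hx.1, by rw [h1 α hα γ hγ x hx.1, hx.2, (homOn_ext γ).map_pow (hM hx.1)]⟩)
    (fun x hx y hy => hc x hx.1 y hy.1) (fun x hx => he x hx.1) (fun α hα β hβ x hx => h1 α hα β hβ x hx.1)
    (fun α hα x hx => h2 α hα x hx.1) rfl
  exact ⟨x, hx.1, h3⟩

theorem exists_inv_step [Finite S] (hS : IsPGroup p S) {G : Subgroup (MulAut S)} (hI : Inn S ≤ G)
    (hG : CP p G ⊆ Inn S) (hA : A < S) (hi : Inv (G : Set (MulAut S)) A) :
    ∃ M, A < M ∧ M ≤ S ∧ Inv (G : Set (MulAut S)) M ∧ A.relIndex M ∣ p := by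
  have hn : S ≤ Subgroup.normalizer (A : Set Ω) := Subgroup.le_normalizer_iff.2 fun g hg x hx =>
    ext_conjAut (Subgroup.le_normalizer hg) (hA.le hx) ▸ hi _ (hI (mem_inn_iff.2 ⟨g, hg, fun x hx =>
      ext_conjAut (Subgroup.le_normalizer hg) hx⟩)) x hx
  have := (Subgroup.normal_subgroupOf_iff_le_normalizer hA.le).2 hn
  have h0 := exists_sectionAction G le_rfl inv_self hi
  set T : Subgroup (S ⧸ A.subgroupOf S) := ⊤
  obtain ⟨ρ, hρ⟩ := h0
  have hZ : ∀ x ∈ Om (centralizerIn T T) p, x ∈ centralizerIn T T := fun x hx => Om_le p hx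
  have key : ∀ α : G, α.1 ∈ Inn S → ∀ z ∈ centralizerIn T T, ext (ρ α) z = z := fun α hα z hz => by
    obtain ⟨g, hg, e⟩ := mem_inn_iff.1 hα
    obtain ⟨⟨z, hz'⟩, rfl⟩ := QuotientGroup.mk_surjective z
    rw [hρ, show (⟨ext α.1 z, _⟩ : S) = ⟨g, hg⟩ * ⟨z, hz'⟩ * (⟨g, hg⟩ : S)⁻¹ from Subtype.ext (e z hz'),
      QuotientGroup.mk_mul, QuotientGroup.mk_mul, center_comm hz trivial, QuotientGroup.mk_inv,
      mul_inv_cancel_right]
  have hinv : Inv (Set.range ρ) (centralizerIn T T) := fun α _ x hx =>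
    map_center_eq T ▸ ext_mem_map_of_char _ α ((map_center_eq T).ge hx)
  obtain ⟨x, hx, hxA, hxp, hxc⟩ := exists_central_mod' hS le_rfl hn Subgroup.le_normalizer hA.not_ge
  obtain ⟨v, hv, hv1, h⟩ := exists_eigen (p := p) (X := Set.range ρ) (M := Om (centralizerIn T T) p) le_top
    (fun e => hxA ((QuotientGroup.eq_one_iff (⟨x, hx⟩ : S)).1 (e.le (mem_Om_of (mem_centralizerIn_comm.2
      ⟨trivial, fun y _ => by
        obtain ⟨y, rfl⟩ := QuotientGroup.mk_surjective y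
        exact QuotientGroup.eq.2 (by
          simpa [Subgroup.mem_subgroupOf, mul_assoc] using hxc _ (S.inv_mem y.2))⟩)
      (((QuotientGroup.mk_pow _ _ p).symm.trans ((QuotientGroup.eq_one_iff (⟨x, hx⟩ ^ p : S)).2 hxp)))))))
    (hinv.Om le_top p) (fun x hx y _ => (center_comm (hZ x hx) trivial).symm)
    (fun x hx => ((mem_Om_iff_of_comm fun x hx y hy => (center_comm hx hy.1).symm).1 hx).2)
    (by
      rintro _ ⟨a, rfl⟩ _ ⟨b, rfl⟩ x hx
      have := key ⁅a, b⁆ (hG ⟨a, a.2, b, b.2, Or.inl rfl⟩) _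
        (hinv _ ⟨b, rfl⟩ _ (hinv _ ⟨a, rfl⟩ _ (hZ x hx)))
      rw [← this]
      simp [← ext_mul, commutatorElement_def])
    (by
      rintro _ ⟨a, rfl⟩ x hx
      exact map_pow ρ a _ ▸ key (a ^ (p - 1)) (hG ⟨a, a.2, a, a.2, Or.inr rfl⟩) _ (hZ x hx))
  obtain ⟨⟨y, hy⟩, rfl⟩ := QuotientGroup.mk_surjective v
  refine ⟨A ⊔ Subgroup.zpowers y, left_lt_sup.2 fun e => hv1 ((QuotientGroup.eq_one_iff _).2
    (e (Subgroup.mem_zpowers y))), sup_le hA.le (Subgroup.zpowers_le_of_mem hy), fun α hα z hz => ?_,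
    relIndex_sup_zpowers_dvd (hn hy) ((QuotientGroup.eq_one_iff (⟨y, hy⟩ ^ p : S)).1
      ((QuotientGroup.mk_pow _ _ p).trans
        ((mem_Om_iff_of_comm fun x hx y hy => (center_comm hx hy.1).symm).1 hv).2))⟩
  obtain ⟨a, ha, k, rfl⟩ := (mem_sup_zpowers_iff (hn hy)).1 hz
  obtain ⟨l, hl⟩ := h _ ⟨⟨α, hα⟩, rfl⟩
  rw [hρ, eq_comm] at hl
  have h3 : (ext α y)⁻¹ * y ^ l ∈ A := (QuotientGroup.eq (b := (⟨y, hy⟩ ^ l : S))).1
    (hl.trans (QuotientGroup.mk_zpow _ _ l).symm)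
  rw [(homOn_ext α).map_mul (hA.le ha) (S.zpow_mem hy k), (homOn_ext α).map_zpow hy]
  refine Subgroup.mul_mem _ (Subgroup.mem_sup_left (hi α hα a ha)) (Subgroup.zpow_mem _ ?_ k)
  simpa using Subgroup.mul_mem _ (Subgroup.mem_sup_right (Subgroup.zpow_mem_zpowers y l))
    (Subgroup.mem_sup_left (A.inv_mem h3))

end

/-- Call a saturated fusion system F over a finite p-group S supersoluble when S has a chain of subgroups 1 = S_0 ≤ S_1 ≤ … ≤ S_m = S, each strongly closed in F, with each S_{i+1} generated by S_i together with one further element (cyclic steps). Then every saturated fusion system over S is supersoluble if and only if S is normal in every saturated fusion system over S (S is resistant) and every subgroup of Aut(S) of order prime to p is abelian of exponent dividing p − 1. -/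
theorem result {Ω : Type*} [Group Ω] {S : Subgroup Ω} [Finite S] (p : ℕ) [Fact p.Prime] (hS : IsPGroup p ↥S) : (∀ F : Cfsg.FusionSystem S, F.IsSaturated p → (∃ (m : ℕ) (c : Fin (m + 1) → Subgroup Ω), c 0 = ⊥ ∧ c (Fin.last m) = S ∧ (∀ i : Fin (m + 1), F.StronglyClosed (c i)) ∧ ∀ i : Fin m, c i.castSucc ≤ c i.succ ∧ ∃ x ∈ S, c i.succ = c i.castSucc ⊔ Subgroup.zpowers x)) ↔ (∀ F : Cfsg.FusionSystem S, F.IsSaturated p → F.IsNormal S) ∧ ∀ H : Subgroup (MulAut ↥S), (Nat.card ↥H).Coprime p → IsMulCommutative ↥H ∧ ∀ h ∈ H, h ^ (p - 1) = 1 := by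
  have := finite_mulAut (le_refl S)
  have hN : (Inn S).Normal := ⟨fun β hβ α => H95.conj_mem_inn α hβ⟩
  refine ⟨fun h => ⟨fun F hF => ((ch_iff hS).1 (h F hF)).isNormal hS hF, fun H hH => ?_⟩,
    fun ⟨h1, h2⟩ F hF => (ch_iff hS).2 ?_⟩
  · have hA : H95.Normalizes (Inn S ⊔ H) (innerFusionSystem S) := fun α _ P f hf => by
      obtain ⟨hP, g, hg, e⟩ := mor_inner_iff.1 hf
      refine mor_inner_iff.2 ⟨img_ext_le hP α, ext α g, ext_mem α hg, fun x hx => ?_⟩
      have hx' := (mem_img_ext_iff hP α).1 hx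
      rw [e _ hx', (homOn_ext α).map_conj hg (hP hx'), ext_ext_inv]
    have h3 : (innerFusionSystem S).autGroup S ≤ Inn S ⊔ H := by
      rw [autGroup_inner le_rfl, ← inn_eq_autInducedBy]; exact le_sup_left
    refine of_pt_CP (((ch_iff hS).1 (h _ (H95.saturated_mulFS hS (inner_isSaturated S hS) hA h3
      (sylIn_of_not_dvd_relIndex le_sup_left (isPGroup_inn hS) fun e => ?_)))).pt hS)
      ((H95.autGroup_mulFS hA h3).symm ▸ le_sup_right) hH
    rw [Subgroup.relIndex_sup_left] at e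
    exact (Fact.out : p.Prime).one_lt.ne' (Nat.eq_one_of_dvd_coprimes hH
      (e.trans (Subgroup.relIndex_dvd_card _ _)) dvd_rfl)
  have hs := sylIn_iff_not_dvd_relIndex.1 (sat_sylIn_top hS hF)
  obtain ⟨k, hk⟩ := IsPGroup.iff_card.1 hs.2.1
  have hcop := (Nat.Prime.coprime_iff_not_dvd Fact.out).2 hs.2.2
  obtain ⟨K, hK⟩ := Subgroup.exists_right_complement'_of_coprime (N := (Inn S).subgroupOf (F.autGroup S)) (by
    rw [Nat.card_congr (Subgroup.subgroupOfEquivOfLe hs.1).toEquiv, hk]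
    exact hcop.pow_left k)
  obtain ⟨h3, h4⟩ := h2 (K.map (F.autGroup S).subtype) (by
    rw [Subgroup.card_map_of_injective (Subgroup.subtype_injective _), ← hK.symm.index_eq_card]
    exact hcop.symm)
  have hG : CP p (F.autGroup S) ⊆ Inn S := by
    have key : ∀ a ∈ F.autGroup S, ∃ b ∈ K.map (F.autGroup S).subtype,
        QuotientGroup.mk' (Inn S) a = QuotientGroup.mk' (Inn S) b := fun a ha => by
      obtain ⟨⟨i, b⟩, e, -⟩ := hK.existsUnique ⟨a, ha⟩
      refine ⟨b, ⟨b, b.2, rfl⟩, ?_⟩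
      rw [← show i.1.1 * b.1.1 = a from congrArg Subtype.val e, map_mul, QuotientGroup.mk'_apply,
        (QuotientGroup.eq_one_iff i.1.1).2 i.2, one_mul]
    rintro _ ⟨a, ha, b, hb, h⟩
    obtain ⟨a', ha', e1⟩ := key a ha
    obtain ⟨b', hb', e2⟩ := key b hb
    refine (QuotientGroup.eq_one_iff _).1 (show QuotientGroup.mk' (Inn S) _ = 1 from ?_)
    rcases h with rfl | rfl
    · rw [map_commutatorElement, e1, e2, ← map_commutatorElement, commutatorElement_eq_one_iff_mul_comm.2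
        (congrArg Subtype.val (h3.1.1 ⟨a', ha'⟩ ⟨b', hb'⟩)), map_one]
    · rw [map_pow, e1, ← map_pow, h4 a' ha', map_one]
  refine induction_down (S := S) (fun A => Inv (F.autGroup S : Set (MulAut S)) A → SC F p A → SC F p S)
    (fun A hA ih hi h => ?_) ⊥ bot_le inv_bot SC.bot
  rcases hA.eq_or_lt with rfl | hA
  · exact h
  obtain ⟨M, h5, h6, h7, h8⟩ := exists_inv_step hS hs.1 hG hA hi
  refine ih M h6 (card_lt_of_lt h5 h6) h7 (h.step h5.le (stronglyClosed_iff.2 ⟨h6, fun R f hf x hx hx' => ?_⟩) h8)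
  obtain ⟨g, hg, e, -⟩ := (isNormal_iff.1 (h1 F hF)).2 R f hf
  obtain ⟨α, hα, e'⟩ := (iso_top (hg.mono le_sup_right)).exists_aut
  rw [← e x hx, ← e' x (h6 hx')]
  exact h7 α hα x hx'

end Cfsg.Agent.S5283
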