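import Cfsg.Statements.S5284
import Cfsg.Agent.S5283

set_option autoImplicit false
open Cfsg

namespace Cfsg.Agent.S5284

open Cfsg.Agent.H5 Cfsg.Agent.H97 Cfsg.Agent.H98 Cfsg.Agent.H96 Cfsg.FusionSystem Cfsg.Agent.S5283
open scoped commutatorElement IsMulCommutative

theorem split_two {ι : Type} (M : ι → Type) [∀ k, CommGroup (M k)] {i j : ι} (h : i ≠ j) :
    Nonempty ((∀ k, M k) ≃* (M i × M j) × ∀ k : {k // k ≠ i ∧ k ≠ j}, M k) := by
  classical
  refine ⟨MulEquiv.ofBijective (((Pi.evalMonoidHom M i).prod (Pi.evalMonoidHom M j)).prod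
    (MonoidHom.pi fun k : {k // k ≠ i ∧ k ≠ j} => Pi.evalMonoidHom M k)) ⟨fun x y e => funext fun k => ?_, ?_⟩⟩
  · by_cases h1 : k = i
    · exact h1 ▸ congrArg (·.1.1) e
    by_cases h2 : k = j
    · exact h2 ▸ congrArg (·.1.2) e
    exact congrFun (congrArg (·.2) e) ⟨k, h1, h2⟩
  · rintro ⟨⟨u, v⟩, w⟩
    refine ⟨fun k => if h1 : k = i then h1 ▸ u else if h2 : k = j then h2 ▸ v else w ⟨k, h1, h2⟩, ?_⟩
    ext k
    · simp
    · simp [h.symm]
    · simp [k.2.1, k.2.2]

theorem exists_bad {p : ℕ} [hp : Fact p.Prime] {M H : Type} [CommGroup M] [CommGroup H]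
    [Finite (MulAut ((M × M) × H))] {x : M} (hx : orderOf x = p) :
    ∃ K : Subgroup (MulAut ((M × M) × H)), (Nat.card K).Coprime p ∧
      ¬ (IsMulCommutative K ∧ ∀ h ∈ K, h ^ (p - 1) = 1) := by
  have hx1 : x ≠ 1 := fun e => hp.out.one_lt.ne (by rw [← hx, e, orderOf_one])
  rcases hp.out.eq_two_or_odd' with rfl | h2
  · let a : MulAut ((M × M) × H) :=
      { toFun := fun y => ((y.1.2⁻¹, y.1.1 * y.1.2⁻¹), y.2)
        invFun := fun y => ((y.1.2 * y.1.1⁻¹, y.1.1⁻¹), y.2)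
        left_inv := fun y => by simp
        right_inv := fun y => by simp
        map_mul' := fun y z => by simp [mul_comm, mul_left_comm, mul_assoc] }
    have ha : a ^ 3 = 1 := MulEquiv.ext fun y => by simp [pow_succ, a, mul_comm]
    refine ⟨Subgroup.zpowers a, (by decide : Nat.Coprime 3 2).coprime_dvd_left
      (Nat.card_zpowers a ▸ orderOf_dvd_of_pow_eq_one ha), fun h => hx1 ?_⟩
    simpa [a] using congrArg (fun f : MulAut _ => (f ((x, 1), 1)).1.2) (h.2 a (Subgroup.mem_zpowers a))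
  have : Fact (Nat.Prime 2) := ⟨Nat.prime_two⟩
  let a : MulAut ((M × M) × H) :=
    { toFun := fun y => ((y.1.2⁻¹, y.1.1), y.2)
      invFun := fun y => ((y.1.2, y.1.1⁻¹), y.2)
      left_inv := fun y => by simp
      right_inv := fun y => by simp
      map_mul' := fun y z => by simp [mul_comm] }
  let b : MulAut ((M × M) × H) :=
    { toFun := fun y => ((y.1.2, y.1.1), y.2)
      invFun := fun y => ((y.1.2, y.1.1), y.2)
      left_inv := fun y => by simp
      right_inv := fun y => by simp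
      map_mul' := fun y z => by simp }
  have ha : a ^ 4 = 1 := MulEquiv.ext fun y => by simp [pow_succ, a]
  have hb : b ^ 2 = 1 := MulEquiv.ext fun y => by simp [pow_succ, b]
  have hab : b * a * b⁻¹ = a⁻¹ := MulEquiv.ext fun y => rfl
  have h1 := relIndex_sup_zpowers_dvd (p := 2) (A := Subgroup.zpowers a) (x := b)
    (mem_normalizer_of_conj_mem (by
      rintro _ ⟨k, rfl⟩
      simp only [← conj_zpow, hab]
      exact Subgroup.zpow_mem _ (Subgroup.inv_mem _ (Subgroup.mem_zpowers a)) k)) (hb ▸ one_mem _)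
  refine ⟨Subgroup.zpowers a ⊔ Subgroup.zpowers b, ((Nat.coprime_two_left.2 h2).pow_left 3).coprime_dvd_left
    (by
      rw [← card_mul_relIndex' (le_sup_left : Subgroup.zpowers a ≤ Subgroup.zpowers a ⊔ Subgroup.zpowers b)]
      exact mul_dvd_mul (Nat.card_zpowers a ▸ orderOf_dvd_of_pow_eq_one ha) h1),
    fun h => ?_⟩
  replace h : IsMulCommutative (Subgroup.zpowers a ⊔ Subgroup.zpowers b : Subgroup (MulAut ((M × M) × H))) := h.1
  have h3 := congrArg (fun f : MulAut ((M × M) × H) => (f ((x, 1), 1)).1.1) (congrArg Subtype.val (h.1.1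
    ⟨a, Subgroup.mem_sup_left (Subgroup.mem_zpowers a)⟩ ⟨b, Subgroup.mem_sup_right (Subgroup.mem_zpowers b)⟩))
  have h4 : x ^ 2 = 1 := by simpa [a, b, pow_two, inv_eq_iff_mul_eq_one] using h3
  exact h2.not_two_dvd_nat ((Nat.prime_dvd_prime_iff_eq hp.out Nat.prime_two).1
    (hx ▸ orderOf_dvd_of_pow_eq_one h4)).symm.dvd

/-- Let S be a finite abelian p-group. Every saturated fusion system over S is supersoluble (S has a chain of F-strongly closed subgroups from 1 to S with cyclic steps) if and only if the invariants of S are pairwise distinct, that is, S is not isomorphic to a direct product (Z/p^n × Z/p^n) × H with n ≥ 1. -/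
theorem result {Ω : Type*} [Group Ω] {S : Subgroup Ω} [Finite S] (p : ℕ) [Fact p.Prime] (hS : IsPGroup p ↥S) (hab : IsMulCommutative ↥S) : (∀ F : Cfsg.FusionSystem S, F.IsSaturated p → (∃ (m : ℕ) (c : Fin (m + 1) → Subgroup Ω), c 0 = ⊥ ∧ c (Fin.last m) = S ∧ (∀ i : Fin (m + 1), F.StronglyClosed (c i)) ∧ ∀ i : Fin m, c i.castSucc ≤ c i.succ ∧ ∃ x ∈ S, c i.succ = c i.castSucc ⊔ Subgroup.zpowers x)) ↔ ¬ ∃ (n : ℕ) (H : Type) (_ : CommGroup H), 0 < n ∧ Nonempty (↥S ≃* (Multiplicative (ZMod (p ^ n)) × Multiplicative (ZMod (p ^ n))) × H) := by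
  have := finite_mulAut (le_refl S)
  have hp : p.Prime := Fact.out
  refine (S5283.result p hS).trans ⟨fun ⟨_, h⟩ ⟨n, H, _, hn, ⟨e⟩⟩ => ?_, fun h =>
    ⟨fun F hF => sat_isNormal_of_abelian hS hF (stronglyClosed_top F) fun x hx y hy =>
      congrArg Subtype.val (hab.1.1 ⟨x, hx⟩ ⟨y, hy⟩), fun H hH => ?_⟩⟩
  · have := Finite.of_equiv _ (MulAut.congr e).toEquiv
    have : NeZero (p ^ n) := ⟨(pow_pos hp.pos n).ne'⟩
    obtain ⟨x, hx⟩ := exists_prime_orderOf_dvd_card' (G := Multiplicative (ZMod (p ^ n))) p (by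
      simpa using dvd_pow_self p hn.ne')
    obtain ⟨K, h1, h2⟩ := exists_bad (H := H) hx
    obtain ⟨h3, h4⟩ := h (K.map (MulAut.congr e).symm.toMonoidHom)
      (by rwa [Subgroup.card_map_of_injective (MulEquiv.injective _)])
    exact h2 ⟨⟨⟨fun a b => Subtype.ext ((MulAut.congr e).symm.injective (by
      rw [Subgroup.coe_mul, Subgroup.coe_mul, map_mul, map_mul]
      exact congrArg Subtype.val (h3.1.1 ⟨_, a, a.2, rfl⟩ ⟨_, b, b.2, rfl⟩)))⟩⟩,
      fun a ha => (MulAut.congr e).symm.injective (by rw [map_pow, map_one]; exact h4 _ ⟨a, ha, rfl⟩)⟩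
  obtain ⟨ι, _, n, hn, ⟨e⟩⟩ := CommGroup.equiv_prod_multiplicative_zmod_of_finite S
  obtain ⟨a, rfl⟩ : ∃ a : ι → ℕ, n = fun i => p ^ a i := by
    obtain ⟨k, hk⟩ := IsPGroup.iff_card.1 hS
    have hd : ∀ i, n i ∣ p ^ k := fun i => by
      rw [← hk, ← Nat.card_zmod (n i), ← Nat.card_congr Multiplicative.toAdd]
      exact Subgroup.card_dvd_of_surjective ((Pi.evalMonoidHom _ i).comp e.toMonoidHom)
        ((Function.surjective_eval i).comp e.surjective)
    have : ∀ i, ∃ a, n i = p ^ a := fun i => ((Nat.dvd_prime_pow hp).1 (hd i)).imp fun _ h => h.2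
    choose a ha using this
    exact ⟨a, funext ha⟩
  refine of_pt_CP (PT.of_Om_steps hS fun j => pt_CP hS (sup_le_sup_left (Om_mono (pow_dvd_pow p j.le_succ)) _)
    (sup_le (Phi_le S) (Om_le _)) (inv_Phi_sup_Om _) (inv_Phi_sup_Om _) (relIndex_Om_dvd_of_distinct hS
      (fun i j hij hi => by_contra fun hne => ?_) (e.trans (MulEquiv.piMultiplicative _).symm) j)) le_rfl hH
  obtain ⟨f⟩ := split_two (fun k => Multiplicative (ZMod (p ^ a k))) hne
  exact h ⟨a i, _, inferInstance, Nat.pos_of_ne_zero hi, ⟨(e.trans f).trans (MulEquiv.prodCongr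
    (MulEquiv.prodCongr (MulEquiv.refl _) (hij ▸ MulEquiv.refl _)) (MulEquiv.refl _))⟩⟩

end Cfsg.Agent.S5284
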