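import Cfsg.Statements.S5289
import Cfsg.Agent.H5.Torus
import Cfsg.Agent.S3888
import Cfsg.Agent.S5234

set_option autoImplicit false
open Cfsg

namespace Cfsg.Agent.S5289

open Cfsg.Agent.H5 Cfsg.Agent.H97 Cfsg.Agent.H98 Cfsg.Agent.H96 Cfsg.FusionSystem
open scoped commutatorElement

section

variable {Ω : Type*} [Group Ω] {p : ℕ} [hp : Fact p.Prime] {S B E : Subgroup Ω} {z : Ω}

theorem pow_dvd_of_pow_mem {j k : ℕ} (h1 : z ^ p ^ j ∉ E) (h2 : (z ^ p ^ j) ^ p ∈ E) (h : z ^ k ∈ E) :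
    p ^ (j + 1) ∣ k := by
  induction j generalizing z k with
  | zero => simpa using Int.natCast_dvd_natCast.1 (dvd_of_zpow_mem h1 h2 (i := k) (by simpa using h))
  | succ j ih =>
    obtain ⟨k, rfl⟩ := Int.natCast_dvd_natCast.1 (dvd_of_zpow_mem h1 h2 (i := k) (by
      rw [zpow_natCast, ← pow_mul, mul_comm, pow_mul]; exact E.pow_mem h _))
    rw [pow_succ' p j, pow_mul] at h1 h2
    rw [pow_succ' p (j + 1)]
    exact Nat.mul_dvd_mul_left p (ih h1 h2 (by rwa [← pow_mul]))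

omit hp in
theorem rank_sub (hr : ∀ E : Subgroup Ω, E ≤ S → IsElementaryAbelian p E → Nat.card E ≤ p ^ 2)
    {H : Subgroup Ω} (hH : H ≤ S) (E : Subgroup H) (h : IsElementaryAbelian p E) : Nat.card E ≤ p ^ 2 := by
  have := h.1
  rw [← Subgroup.card_map_of_injective H.subtype_injective]
  refine hr _ ((Subgroup.map_subtype_le _).trans hH) ⟨inferInstance, ?_⟩
  rintro _ ⟨x, hx, rfl⟩
  exact congrArg Subtype.val (h.2 x hx)

structure R2 (p : ℕ) (S B : Subgroup Ω) (z : Ω) : Prop where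
  mem : ∀ x, x ∈ Om S p ↔ x ∈ S ∧ x ^ p = 1
  cardO : Nat.card (Om S p) = p ^ 3
  cardZ : Nat.card (Phi (Om S p)) = p
  center : centralizerIn (Om S p) (Om S p) = Phi (Om S p)
  central : Phi (Om S p) ≤ centralizerIn S S
  le : Phi (Om S p) ≤ B
  le' : B ≤ Om S p
  index : (Phi (Om S p)).relIndex B ∣ p
  comm : ∀ g ∈ S, ∀ y ∈ S, y⁻¹ * (g * y * g⁻¹) ∈ B
  comm' : ∀ g ∈ S, ∀ y ∈ B, y⁻¹ * (g * y * g⁻¹) ∈ Phi (Om S p)
  gen : Om S p ⊔ Subgroup.zpowers z = S
  pow : ∀ g ∈ S, ∀ h ∈ S, (g * h) ^ p = g ^ p * h ^ p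

variable [Finite S] (h5 : 5 ≤ p) (hS : IsPGroup p S)
include h5 hS

theorem mem_Om_iff (hr : ∀ E : Subgroup Ω, E ≤ S → IsElementaryAbelian p E → Nat.card E ≤ p ^ 2)
    (x : Ω) : x ∈ Om S p ↔ x ∈ S ∧ x ^ p = 1 :=
  ⟨fun hx => ⟨Om_le p hx, pow_eq_one_of_mem_Om (fun x hx y hy h1 h2 => congrArg Subtype.val
    (H7.omega_pow_of_rank_two (by omega) hS (rank_sub hr le_rfl) (g := ⟨x, hx⟩ * ⟨y, hy⟩)
      (Subgroup.mul_mem _ (Subgroup.subset_closure (Subtype.ext h1))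
        (Subgroup.subset_closure (Subtype.ext h2))))) hx⟩, fun h => mem_Om_of h.1 h.2⟩

theorem exists_R2 (hr : ∀ E : Subgroup Ω, E ≤ S → IsElementaryAbelian p E → Nat.card E ≤ p ^ 2)
    (hc : Nat.card (Om S p) = p ^ 3) : ∃ B z, R2 p S B z := by
  have hO := mem_Om_iff h5 hS hr
  have hOS : Om S p ≤ S := Om_le p
  set O := Om S p
  have := finite_of_le hOS
  have hOp := hS.to_le hOS
  have hn : S ≤ Subgroup.normalizer (O : Set Ω) := fun g hg => mem_normalizer_of_conj_mem fun x hx =>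
    (hO _).2 ⟨S.mul_mem (S.mul_mem hg (hOS hx)) (S.inv_mem hg), by rw [conj_pow, ((hO x).1 hx).2]; simp⟩
  have hnΦ := hn.trans (normalizer_le_normalizer_Phi O)
  have hx := isExtraspecial_of_card_cube hc fun h => by
    have := hr O hOS ⟨h, fun x hx => ((hO x).1 hx).2⟩
    rw [hc, Nat.pow_le_pow_iff_right hp.out.one_lt] at this
    omega
  have hZ : centralizerIn O O = Phi O := by rw [← map_center_eq, ← hx.1.2.1]
  have hZc : Nat.card (Phi O) = p := by rw [← hZ, card_center_eq, hx.2]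
  have hZS := le_center_of_card_eq hS ((Phi_le O).trans hOS) hZc hnΦ
  have hi : (Phi O).relIndex O = p ^ 2 := by
    have := card_mul_relIndex' (Phi_le O)
    rw [hZc, hc, pow_succ'] at this
    exact Nat.eq_of_mul_eq_mul_left hp.out.pos this
  obtain ⟨b, hb, hbΦ, hbp, hbc⟩ := exists_central_mod' hS hOS hnΦ hn fun h => by
    rw [Subgroup.relIndex_eq_one.2 h] at hi
    exact (Nat.one_lt_pow two_ne_zero hp.out.one_lt).ne hi
  have hBO : Phi O ⊔ Subgroup.zpowers b ≤ O := sup_le (Phi_le O) (Subgroup.zpowers_le_of_mem hb)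
  have h3 : ∀ g ∈ S, ∀ y ∈ Phi O ⊔ Subgroup.zpowers b, y⁻¹ * (g * y * g⁻¹) ∈ Phi O := fun g hg =>
    triv_conj_of_sup ((hBO.trans hOS).trans hnΦ)
      (fun y hy => Subgroup.mul_mem _ (Subgroup.inv_mem _ hy) (nconj (hnΦ hg) hy))
      (triv_conj_of_zpowers (hnΦ (hOS hb)) (hbc g hg))
  have hi' : (Phi O ⊔ Subgroup.zpowers b).relIndex O ∣ p := by
    simpa using relIndex_dvd_of_lt_left hOp (left_lt_sup.2 fun h => hbΦ (h (Subgroup.mem_zpowers b))) hBO
      (k := 1) hi.dvd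
  have hle : Phi O ≤ Phi O ⊔ Subgroup.zpowers b := le_sup_left
  have hib := relIndex_sup_zpowers_dvd (hnΦ (hOS hb)) hbp
  set B := Phi O ⊔ Subgroup.zpowers b
  have := finite_of_le (hBO.trans hOS)
  have hnB : S ≤ Subgroup.normalizer (B : Set Ω) := fun g hg => mem_normalizer_of_conj_mem fun y hy => by
    simpa using B.mul_mem hy (hle (h3 g hg y hy))
  have h2 : ∀ g ∈ S, ∀ y ∈ O, y⁻¹ * (g * y * g⁻¹) ∈ B := fun g hg =>
    conj_triv_of_relIndex_dvd hS hOS hBO hi' hg (fun _ => nconj (hn hg)) fun _ => nconj (hnB hg)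
  have := (Subgroup.normal_subgroupOf_iff_le_normalizer hOS).2 hn
  obtain ⟨n, hn'⟩ := IsPGroup.iff_card.1 hS
  obtain ⟨x, y, z, h1, hx1, hy1⟩ : ∃ x y z : S, Subgroup.closure ({x, y, z} : Set S) = ⊤ ∧ x ^ p = 1 ∧
      y ^ p = 1 := by
    rcases S3888.main (E := O.subgroupOf S) (by omega) hn' (fun A h1 h2 => rank_sub hr le_rfl A ⟨h1, h2⟩)
      ((Nat.card_congr (Subgroup.subgroupOfEquivOfLe hOS).toEquiv).trans hc)
      (fun x hx => Subtype.ext ((hO x).1 hx).2) with ⟨-, x, y, z, h1, h2, h3, -⟩ | ⟨-, -, x, y, z, -, h1, h2, h3, -⟩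
    exacts [⟨x, y, z, h1, h2, h3⟩, ⟨x, y, z, h1, h2, h3⟩]
  have hgen : O ⊔ Subgroup.zpowers (z : Ω) = S := le_antisymm (sup_le hOS (Subgroup.zpowers_le_of_mem z.2))
    fun s hs => (show Subgroup.closure ({x, y, z} : Set S) ≤ (O ⊔ Subgroup.zpowers (z : Ω)).subgroupOf S from
      (Subgroup.closure_le _).2 (by
        rintro _ (rfl | rfl | rfl)
        exacts [Subgroup.mem_sup_left ((hO _).2 ⟨Subtype.prop _, congrArg Subtype.val hx1⟩),
          Subgroup.mem_sup_left ((hO _).2 ⟨Subtype.prop _, congrArg Subtype.val hy1⟩),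
          Subgroup.mem_sup_right (Subgroup.mem_zpowers _)])) (h1.ge (Subgroup.mem_top ⟨s, hs⟩))
  have h4 : ∀ k ∈ S, (z : Ω)⁻¹ * (k * z * k⁻¹) ∈ B → ∀ y ∈ S, y⁻¹ * (k * y * k⁻¹) ∈ B := fun k hk h y hy =>
    triv_conj_of_sup (hgen.le.trans hnB) (h2 k hk) (triv_conj_of_zpowers (hnB z.2) h) y (hgen.ge hy)
  have h6 : ∀ g ∈ S, ∀ y ∈ S, y⁻¹ * (g * y * g⁻¹) ∈ B := fun g hg => h4 g hg (by
    simpa [mul_assoc] using nconj' (hnB z.2) (h4 z z.2 (by simp) _ (S.inv_mem hg)))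
  have h7 : ∀ g h : S, ((⁅g, h⁆ : S) : Ω) ∈ B := fun g h => by
    simpa [commutatorElement_def, mul_assoc] using h6 h h.2 _ (S.inv_mem g.2)
  have h8 : ∀ g h k : S, ((⁅k, ⁅g, h⁆⁆ : S) : Ω) ∈ Phi O := fun g h k => by
    simpa [commutatorElement_def k, mul_assoc, -commutatorElement_inv] using
      Subgroup.inv_mem _ (h3 k k.2 _ (B.inv_mem (h7 g h)))
  refine ⟨B, z, hO, hc, hZc, hZ, hZS, hle, hBO, hib, h6, h3, hgen, fun g hg h hh => congrArg Subtype.val
    (H7.mul_pow_of_class3 (x := (⟨g, hg⟩ : S)) (y := ⟨h, hh⟩) hp.out (by omega)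
      (fun a => Subtype.ext (center_comm (hZS (h8 _ _ _)) a.2))
      (fun a => Subtype.ext (center_comm (hZS (h8 _ _ _)) a.2)) (Subtype.ext ((hO _).1 (hBO (h7 _ _))).2)
      (Subtype.ext ((hO _).1 (Phi_le O (h8 _ _ _))).2) (Subtype.ext ((hO _).1 (Phi_le O (h8 _ _ _))).2))⟩

namespace R2

variable (h : R2 p S B z)
include h

omit h5 hS [Finite S] hp in
theorem pow_center {g : Ω} (hg : g ∈ S) : g ^ p ∈ centralizerIn S S :=
  mem_centralizerIn_comm.2 ⟨S.pow_mem hg p, fun y hy => by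
    have h1 := h.pow _ hg _ (Om_le p (h.le' (h.comm y hy g hg)))
    rw [((h.mem _).1 (h.le' (h.comm y hy g hg))).2, mul_inv_cancel_left, conj_pow, mul_one] at h1
    rw [← mul_inv_eq_iff_eq_mul, h1]⟩

omit h5 hS [Finite S] hp in
theorem mem_Phi {g : Ω} (hg : g ∈ Om S p) (hc : g ∈ centralizerIn S S) : g ∈ Phi (Om S p) :=
  h.center.le (mem_centralizerIn_comm.2 ⟨hg, fun _ hy => center_comm hc (Om_le p hy)⟩)

omit h5 hS [Finite S] hp in
theorem normal {E : Subgroup Ω} (hE : B ≤ E) : S ≤ Subgroup.normalizer (E ⊓ S : Subgroup Ω) :=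
  le_normalizer_of_commutator_mem fun x hx y hy => ⟨hE (by
    simpa [mul_assoc] using B.inv_mem (h.comm x hx _ (S.inv_mem hy.2))),
    S.mul_mem (S.mul_mem (S.mul_mem hx hy.2) (S.inv_mem hx)) (S.inv_mem hy.2)⟩

omit h5 hS hp in
theorem exists_eq {s : Ω} (hs : s ∈ S) : ∃ o ∈ Om S p, ∃ k : ℕ, s = o * z ^ k := by
  have hz : z ∈ S := h.gen.le (Subgroup.mem_sup_right (Subgroup.mem_zpowers z))
  have := h.normal h.le' hz
  rw [inf_of_le_left (Om_le p)] at this
  exact (mem_sup_zpowers_iff_nat this (isOfFinOrder_of_mem hz)).1 (h.gen.ge hs)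

omit h5 hS [Finite S] hp in
theorem pow_mul {o s : Ω} (ho : o ∈ Om S p) (hs : s ∈ S) : (o * s) ^ p = s ^ p := by
  rw [h.pow o (Om_le p ho) s hs, ((h.mem o).1 ho).2, one_mul]

variable {F : FusionSystem S} (hF : F.IsSaturated p)

omit h5 hS [Finite S] hp in
theorem stronglyClosed (F : FusionSystem S) : F.StronglyClosed (Om S p) :=
  stronglyClosed_iff.2 ⟨Om_le p, fun _ f hf x hx hx' =>
    mem_Om_of (hf.mem hx) (by rw [← hf.map_pow hx, ((h.mem x).1 hx').2, hf.map_one])⟩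

omit hS [Finite S] h in
theorem half : 2 * ((p + 1) / 2) ≡ 1 [MOD p] := by
  rw [Nat.mul_div_cancel' (hp.out.odd_of_ne_two (by omega)).add_one.two_dvd]
  exact Nat.add_modEq_left

omit hS [Finite S] h in
theorem mem_of_pow_three {g : Ω} (hg : g ^ p ∈ E) {k : ℕ} (h3 : g ^ (p * k + 3) ∈ E) : g ∈ E := by
  by_contra hn
  have := Int.natCast_dvd_natCast.1 (dvd_of_zpow_mem hn hg (i := (p * k + 3 : ℕ)) (by rwa [zpow_natCast]))
  have := Nat.le_of_dvd three_pos ((Nat.dvd_add_right (dvd_mul_right p k)).1 this)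
  omega

include hF

theorem not_le (hE : F.IsEssential p E) : ¬ Om S p ≤ E := fun hOE => by
  have hES := ess_le hE
  have hz : z ∈ S := h.gen.le (Subgroup.mem_sup_right (Subgroup.mem_zpowers z))
  have hn := h.normal (h.le'.trans hOE)
  rw [inf_of_le_left hES] at hn
  have hzE : z ∉ E := fun hz => (ess_lt_normalizerIn hS hF hE).not_ge
    (H97.normalizerIn_le.trans (h.gen.ge.trans (sup_le hOE (Subgroup.zpowers_le_of_mem hz))))
  obtain ⟨k, hk⟩ := hS ⟨z, hz⟩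
  obtain ⟨j, hgE, hgp⟩ := exists_pow_not_mem hzE (congrArg Subtype.val hk)
  have hg := S.pow_mem hz (p ^ j)
  have hQ : AutInv F E (Om S p) := by
    simpa [inf_of_le_left hOE] using autInv_inf_of_stronglyClosed hES (h.stronglyClosed F)
  have g1 := fun x (hx : x ∈ E) => h.le' (h.comm _ hg x (hES hx))
  obtain ⟨w, hw, -, he, -, -, -, ht⟩ := ess_sec_torus hS hF hE hOE hQ ⟨hg, hn hg⟩ hgE g1 h.le h.le' h.index
    (fun x hx => h.comm _ hg x (Om_le p hx)) (h.comm' _ hg) (half h5)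
  have hgR : z ^ p ^ j ∈ E ⊔ Subgroup.zpowers (z ^ p ^ j) := Subgroup.mem_sup_right (Subgroup.mem_zpowers _)
  obtain ⟨o, ho, m, hm⟩ := h.exists_eq (hES he)
  obtain ⟨m, rfl⟩ := pow_dvd_of_pow_mem hgE hgp (k := m) ((E.mul_mem_cancel_left (hOE ho)).1 (hm ▸ he))
  rw [pow_succ p, mul_assoc (p ^ j), _root_.pow_mul z, mul_inv_eq_iff_eq_mul, mul_assoc, ← pow_add] at hm
  generalize z ^ p ^ j = g at *
  have h1 : w (g ^ p) = (g ^ p) ^ (p * m + 3 + 1) := by
    rw [hw.map_pow hgR, hm, h.pow_mul ho (S.pow_mem hg _), ← _root_.pow_mul, ← _root_.pow_mul, mul_comm]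
    rfl
  have h2 := ht _ E hOE le_rfl hQ (autInv_self F E) g1 _ hgp
  rw [h1, pow_succ', inv_mul_cancel_left] at h2
  have h3 : g ^ p ∈ Om S p := by
    obtain ⟨i, hi⟩ := hS ⟨g ^ p, hES hgp⟩
    by_contra hn
    obtain ⟨l, l1, l2⟩ := exists_pow_not_mem hn (congrArg Subtype.val hi)
    refine l1 (mem_of_pow_three h5 l2 (k := m) ?_)
    rw [← _root_.pow_mul, mul_comm, _root_.pow_mul]
    exact Subgroup.pow_mem _ h2 _
  have h4 := ht ⊥ _ bot_le ((Phi_le _).trans hOE) (autInv_bot F E)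
    (by have := finite_of_le hES; exact hQ.phi hOE)
    (fun x hx => by simp [center_comm (h.central hx) hg]) _ (h.mem_Phi h3 (h.pow_center hg))
  rw [h1, pow_succ', inv_mul_cancel_left] at h4
  exact hgE (hOE ((h.mem g).2 ⟨hg, mem_of_pow_three (E := ⊥) h5 ((h.mem _).1 h3).2 h4⟩))

theorem torus (hE : F.IsEssential p E) {g : Ω} (hgO : g ∈ Om S p) (hg : g ∈ normalizerIn S E)
    (hgE : g ∉ E) : Phi (Om S p) ≤ E ∧ Nat.card E = p ^ 2 ∧ E ≤ Om S p ∧
      ∃ w, Mor F (E ⊔ Subgroup.zpowers g) w ∧ Iso F E E w ∧ w g * (g ^ 4)⁻¹ ∈ E ∧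
      (∀ d ∈ Phi (Om S p), w d = d ^ 2) ∧ ∃ x ∈ E, x ∉ Phi (Om S p) ∧ w x = x ^ ((p + 1) / 2) := by
  have hES := ess_le hE
  have hOS : Om S p ≤ S := Om_le p
  have hZE : Phi (Om S p) ≤ E := h.central.trans (ess_center_le hE)
  have hQ := autInv_inf_of_stronglyClosed hES (h.stronglyClosed F)
  have g1 := sc_comm_mem (h.stronglyClosed F) hES hgO hg
  have hC := sc_centralizer_le hS (h.stronglyClosed F) hE
  set Q := Om S p ⊓ E
  have := finite_of_le hOS
  have := finite_of_le (inf_le_left : Q ≤ Om S p)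
  have hOp := hS.to_le hOS
  have hZQ : Phi (Om S p) < Q := lt_of_le_of_ne (le_inf (Phi_le _) hZE) fun e =>
    hgE (hC (mem_centralizerIn_comm.2 ⟨hgO, fun y hy => (center_comm (h.central (e.ge hy)) hg.1).symm⟩)).2
  have hi : (Phi (Om S p)).relIndex Q ∣ p := by
    have := card_mul_relIndex' (Phi_le (Om S p))
    rw [h.cardZ, h.cardO, pow_succ'] at this
    simpa using relIndex_dvd_of_lt_right hOp hZQ.le (lt_of_le_of_ne inf_le_left fun e => hgE (e.ge hgO).2)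
      (k := 1) (Nat.eq_of_mul_eq_mul_left hp.out.pos this).dvd
  have hQc : Nat.card Q = p ^ 2 := by
    rw [← card_mul_relIndex' hZQ.le, h.cardZ, relIndex_eq_of_dvd_of_not_le (hOp.to_le inf_le_left)
      hZQ.not_ge hi, pow_two]
  obtain ⟨a, ha, haZ⟩ := SetLike.exists_of_lt hZQ
  have hΦ : Phi Q = ⊥ := le_bot_iff.1 (Phi_le_of (p := p) bot_le (fun x hx y hy => by
    have e := sup_zpowers_eq_of_relIndex_dvd hZQ.le hi ha haZ
    rw [abelian_sup_zpowers (fun x hx y hy => center_comm (h.central hy) (hOS (Phi_le _ hx)))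
      (fun x hx => (center_comm (h.central hx) (hOS ha.1)).symm) x (e.ge hx) y (e.ge hy)]
    simp) fun x hx => ((h.mem x).1 hx.1).2)
  have g2 : ∀ x ∈ Q, x⁻¹ * (g * x * g⁻¹) ∈ Phi (Om S p) := fun x hx => by
    simpa [mul_assoc] using comm_mem_Phi hOp (Subgroup.inv_mem _ hx.1) hgO
  obtain ⟨w, hw, hwE, he, w1, ⟨x, hx, hx1, w2⟩, -, ht⟩ := ess_sec_torus hS hF hE inf_le_right hQ hg hgE g1
    (D := Phi (Om S p)) (hΦ.le.trans bot_le) hZQ.le (by rw [hΦ, Subgroup.relIndex_bot_left, h.cardZ]) g2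
    (fun x hx => by simp [center_comm (h.central hx) hg.1]) (half h5)
  rw [hΦ] at w1 w2 hx1
  simp only [Subgroup.mem_bot, inv_mul_eq_one] at w1 w2 hx1
  have hEQ : E ≤ Q := by
    by_contra hn
    obtain ⟨y, hy, hyQ⟩ := SetLike.not_le_iff_exists.1 hn
    obtain ⟨k, hk⟩ := hS ⟨y, hES hy⟩
    obtain ⟨j, hj, hjp⟩ := exists_pow_not_mem hyQ (congrArg Subtype.val hk)
    have hy' := E.pow_mem hy (p ^ j)
    generalize y ^ p ^ j = y at hj hjp hy'
    have h1 := ht Q E inf_le_right le_rfl hQ (autInv_self F E) g1 y hy'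
    have h2 := h.pow _ (hES hy') _ (hOS h1.1)
    rw [mul_inv_cancel_left, ((h.mem _).1 h1.1).2, mul_one, ← hwE.mor.map_pow hy',
      ← w1 _ (h.mem_Phi hjp.1 (h.pow_center (hES hy'))), pow_two, mul_eq_left] at h2
    exact hj ⟨(h.mem y).2 ⟨hES hy', h2⟩, hy'⟩
  refine ⟨hZE, le_antisymm hEQ inf_le_right ▸ hQc, hEQ.trans inf_le_left, w, hw, hwE, he,
    fun d hd => (w1 d hd).symm, x, hx.2, fun hxZ => hx1 (by simp [center_comm (h.central hxZ) hg.1]), w2.symm⟩

theorem not_ess (hne : Om S p ≠ S) : ¬ F.IsEssential p E := fun hE => by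
  have hOS : Om S p ≤ S := Om_le p
  have hn := le_normalizer_of_stronglyClosed (h.stronglyClosed F)
  have hz : z ∈ S := h.gen.le (Subgroup.mem_sup_right (Subgroup.mem_zpowers z))
  have hall : ∀ E, F.IsEssential p E → ∃ g ∈ Om S p, g ∈ normalizerIn S E ∧ g ∉ E ∧ g ^ p ∈ E := fun E hE =>
    exists_normalizer_not_mem hS (ess_le hE) hOS ((ess_le hE).trans hn) (h.not_le h5 hS hF hE)
  obtain ⟨g, hgO, hg, hgE, hgp⟩ := hall E hE
  obtain ⟨hZE, hc, hEO, w, hw, hwE, he, w1, x, hx, hxZ, w2⟩ := h.torus h5 hS hF hE hgO hg hgE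
  have := finite_of_le hOS
  have := finite_of_le hEO
  have hi : E.relIndex (Om S p) ∣ p := by
    have := card_mul_relIndex' hEO
    rw [hc, h.cardO, pow_succ] at this
    exact (Nat.eq_of_mul_eq_mul_left (pow_pos hp.out.pos 2) this).dvd
  have hi' : (Phi (Om S p)).relIndex E ∣ p := by
    have := card_mul_relIndex' hZE
    rw [hc, h.cardZ, pow_two] at this
    exact (Nat.eq_of_mul_eq_mul_left hp.out.pos this).dvd
  have hOE := le_normalizer_of_relIndex_dvd (hS.to_le hOS) hEO hi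
  rw [sup_zpowers_eq_of_relIndex_dvd hEO hi hgO hgE] at hw
  obtain ⟨β, hβ, e⟩ := exists_aut_of_card_lt hS hF (n := p ^ 2) (fun E hE => by
    obtain ⟨g, hgO, hg, hgE, -⟩ := hall E hE
    exact (h.torus h5 hS hF hE hgO hg hgE).2.1.le) _ w hw
    ((Nat.pow_lt_pow_right hp.out.one_lt (by omega)).trans_eq h.cardO.symm)
  have hzO : z ∉ Om S p := fun hz => hne (le_antisymm hOS (h.gen.ge.trans (sup_le le_rfl
    (Subgroup.zpowers_le_of_mem hz))))
  have hnZ := le_normalizer_of_le_center h.central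
  have hzE : z ∉ Subgroup.normalizer (E : Set Ω) := fun hzE => by
    have hSE : S ≤ Subgroup.normalizer (E : Set Ω) :=
      h.gen.ge.trans (sup_le hOE (Subgroup.zpowers_le_of_mem hzE))
    have h1 := ess_relIndex_dvd_of_tv hS hF hE (K := S) (fun s hs => ⟨hs, hSE hs⟩) h.cardZ hZE
      (fun g hg => conj_triv_of_relIndex_dvd hS (ess_le hE) hZE hi' hg (fun _ => nconj (hSE hg))
        fun _ => nconj (hnZ hg)) fun g hg x hx => by simp [center_comm (h.central hx) hg]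
    rcases eq_or_eq_of_relIndex_dvd hEO hOS h1 with h2 | h2
    exacts [hgE (h2.le hgO), hne h2]
  have hxS := ess_le hE hx
  have hcB : ⁅z, x⁆ ∈ B := by
    simpa [commutatorElement_def, mul_assoc] using B.inv_mem (h.comm z hz _ (S.inv_mem hxS))
  have hcE : ⁅z, x⁆ ∉ E := fun hcE => hzE (mem_normalizer_of_conj_mem fun y hy => by
    have e := sup_zpowers_eq_of_relIndex_dvd hZE hi' hx hxZ
    simpa using E.mul_mem hy (triv_conj_of_sup (k := z) (e.le.trans Subgroup.le_normalizer)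
      (fun y hy => by simp [center_comm (h.central hy) hz]) (triv_conj_of_zpowers (Subgroup.le_normalizer hx)
        (by simpa [commutatorElement_def, mul_assoc] using nconj' (Subgroup.le_normalizer hx) hcE)) y (e.ge hy)))
  obtain ⟨o, ho, m, hm⟩ := h.exists_eq (ext_mem β hz)
  obtain ⟨k, hk⟩ := hS ⟨z, hz⟩
  obtain ⟨j, hj, hjp⟩ := exists_pow_not_mem hzO (congrArg Subtype.val hk)
  have hzj := S.pow_mem hz (p ^ j)
  have hm2 : m ≡ 2 [MOD p] := by
    have h1 := w1 _ (h.mem_Phi hjp (h.pow_center hzj))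
    rw [e _ hjp, ← _root_.pow_mul, mul_comm, _root_.pow_mul, (homOn_ext β).map_pow (S.pow_mem hz p),
      (homOn_ext β).map_pow hz, hm, h.pow_mul ho (S.pow_mem hz m), ← _root_.pow_mul z m, mul_comm m,
      _root_.pow_mul z, ← _root_.pow_mul _ m, mul_comm m, _root_.pow_mul, pow_eq_pow_iff_modEq,
      ← _root_.pow_mul, mul_comm, _root_.pow_mul, orderOf_eq_prime ((h.mem _).1 hjp).2
        fun h1 => hj ((h.mem _).2 ⟨hzj, h1⟩)] at h1
    exact h1
  have : ((Phi (Om S p)).subgroupOf S).Normal :=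
    (Subgroup.normal_subgroupOf_iff_le_normalizer ((Phi_le _).trans hOS)).2 hnZ
  let π := QuotientGroup.mk' ((Phi (Om S p)).subgroupOf S)
  have key : ∀ a b : S, π a = π b ↔ (a : Ω)⁻¹ * b ∈ Phi (Om S p) := fun a b => QuotientGroup.eq
  have hcm : ∀ a b c : S, Commute (π a) ⁅π b, π c⁆ := fun a b c => by
    rw [← map_commutatorElement, commute_iff_eq, ← map_mul, ← map_mul, key]
    have h1 : ((⁅b, c⁆ : S) : Ω) ∈ B := by
      simpa [commutatorElement_def, mul_assoc] using B.inv_mem (h.comm b b.2 _ (S.inv_mem c.2))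
    simpa [mul_assoc, -commutatorElement_inv] using h.comm' _ (S.inv_mem a.2) _ h1
  have h1 : π ⁅(⟨o, hOS ho⟩ * ⟨z, hz⟩ ^ m : S), (⟨x, hxS⟩ : S) ^ ((p + 1) / 2)⁆ =
      π ⁅(⟨z, hz⟩ : S), (⟨x, hxS⟩ : S)⁆ := by
    have h2 : π ⁅(⟨o, hOS ho⟩ : S), (⟨x, hxS⟩ : S) ^ ((p + 1) / 2)⁆ = 1 := (QuotientGroup.eq_one_iff _).2
      (comm_mem_Phi (hS.to_le hOS) ho (Subgroup.pow_mem _ (hEO hx) _))
    rw [map_commutatorElement, map_pow] at h2
    rw [map_commutatorElement, map_mul, map_pow, map_pow, H7.comm_mul_left (by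
      rw [← map_pow, ← map_pow]; exact hcm _ _ _), h2, mul_one, H7.comm_pow_left (by
      rw [← map_pow]; exact hcm _ _ _), H7.comm_pow_right (hcm _ _ _), ← _root_.pow_mul,
      ← map_commutatorElement, ← map_pow]
    exact congrArg π (pow_eq_self_of_modEq (mul_comm m _ ▸ (hm2.mul_right _).trans (half h5))
      (Subtype.ext ((h.mem _).1 (h.le' hcB)).2))
  have h2 : (w ⁅z, x⁆)⁻¹ * ⁅z, x⁆ ∈ Phi (Om S p) := by
    have h3 := (key _ _).1 h1
    rw [e _ (h.le' hcB), commutatorElement_def z, (homOn_ext β).map_mul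
      (S.mul_mem (S.mul_mem hz hxS) (S.inv_mem hz)) (S.inv_mem hxS), (homOn_ext β).map_mul
      (S.mul_mem hz hxS) (S.inv_mem hz), (homOn_ext β).map_mul hz hxS, (homOn_ext β).map_inv hz,
      (homOn_ext β).map_inv hxS, hm, ← e x (hEO hx), w2]
    exact h3
  obtain ⟨y, hy, i, hgi⟩ := (mem_sup_zpowers_iff_nat (hOE (h.le' hcB)) (isOfFinOrder_of_mem (h.le' hcB))).1
    ((sup_zpowers_eq_of_relIndex_dvd hEO hi (h.le' hcB) hcE).ge hgO)
  have h3 : w g * g⁻¹ ∈ E := by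
    have hcO := h.le' hcB
    have h4 := inv_pow_mul_mul_pow_mem (hOE (mem_of_stronglyClosed (h.stronglyClosed F) hw hcO hcO)) (hZE h2) i
    rw [hgi, hw.map_mul (hEO hy) (Subgroup.pow_mem _ hcO i), hw.map_pow hcO]
    simpa [mul_assoc] using E.mul_mem (E.mul_mem (hwE.mem y hy)
      (nconj (hOE (Subgroup.pow_mem _ hcO i)) (E.inv_mem h4))) (E.inv_mem hy)
  exact hgE (mem_of_pow_three h5 hgp (k := 0) (by
    simpa [pow_succ, mul_assoc] using E.mul_mem (E.inv_mem he) h3))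

end R2

end

/-- Let p ≥ 5 be a prime and S a finite p-group of p-rank two (it has an elementary abelian subgroup of order p² and none of order p³) which is not the extraspecial group of order p³ and exponent p. Then S is resistant: for every saturated fusion system F over S, S is normal in F, that is, every map of F extends to an F-automorphism of S. -/
theorem result {Ω : Type*} [Group Ω] {S : Subgroup Ω} [Finite S] (p : ℕ) [Fact p.Prime] (hS : IsPGroup p S)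
    (F : Cfsg.FusionSystem S) (hF : F.IsSaturated p)
    (hp : 5 ≤ p)
    (hrank2 : ∃ E : Subgroup Ω, E ≤ S ∧ Cfsg.IsElementaryAbelian p E ∧ Nat.card E = p ^ 2)
    (hrank3 : ∀ E : Subgroup Ω, E ≤ S → Cfsg.IsElementaryAbelian p E → Nat.card E ≤ p ^ 2)
    (hnotE : ¬ (Nat.card S = p ^ 3 ∧ Monoid.exponent ↥S = p)) : F.IsNormal S := by
  have hO := mem_Om_iff hp hS hrank3
  have := finite_of_le (Om_le p : Om S p ≤ S)
  have h1 := H7.card_le_cube_of_rank_two (G := Om S p) (fun x => Subtype.ext ((hO x).1 x.2).2)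
    (rank_sub hrank3 (Om_le p))
  obtain ⟨k, hk⟩ := IsPGroup.iff_card.1 (hS.to_le (Om_le p : Om S p ≤ S))
  by_cases h2 : k ≤ 2
  · exact S5234.result p hS F hF S (stronglyClosed_top F) (by omega)
      (H71.metacyclic_of_card_om1_le (by omega) hS (by
        rw [H71.om1_top, ← H71.card_om1]
        exact hk.le.trans (Nat.pow_le_pow_right (Fact.out : p.Prime).pos h2)))
  rw [hk, Nat.pow_le_pow_iff_right (Fact.out : p.Prime).one_lt] at h1
  obtain rfl : k = 3 := by omega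
  obtain ⟨B, z, h⟩ := exists_R2 hp hS hrank3 hk
  refine sat_isNormal_of_stronglyClosed hS hF (stronglyClosed_top F) fun E hE =>
    (h.not_ess hp hS hF (fun e => hnotE ⟨e ▸ hk, ?_⟩) hE).elim
  have : Nontrivial S := Finite.one_lt_card_iff_nontrivial.1
    (by rw [← e, hk]; exact Nat.one_lt_pow three_ne_zero (Fact.out : p.Prime).one_lt)
  exact (Monoid.exponent_eq_prime_iff Fact.out).2 fun g hg =>
    orderOf_eq_prime (Subtype.ext ((hO g).1 (e.ge g.2)).2) hg

end Cfsg.Agent.S5289
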