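import Cfsg.Statements.S5295
import Cfsg.Agent.S5193
import Cfsg.Agent.S5294

set_option autoImplicit false
universe u
open Cfsg

namespace Cfsg.Agent.S5295

/-- Let F be a saturated fusion system over a finite p-group S with p odd. Then the centre Z(F) of F is a direct factor of Z(S): there is a subgroup K of Z(S) with Z(F) ∩ K = 1 and Z(F)K = Z(S). (At the prime 2 this can fail.) -/
theorem result {Ω : Type u} [Group Ω] {S : Subgroup Ω} [Finite S] (p : ℕ) [Fact p.Prime] (hp : p ≠ 2) (hS : IsPGroup p S)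
    (F : Cfsg.FusionSystem S) (hF : F.IsSaturated p) :
    ∃ K : Subgroup Ω, K ≤ (S ⊓ Subgroup.centralizer (S : Set Ω)) ∧ F.center ⊓ K = ⊥ ∧ F.center ⊔ K = (S ⊓ Subgroup.centralizer (S : Set Ω)) := by
  have hJ : thompsonSubgroupAOf S ≤ S := H99.wf_le (@thompsonSubgroupA) S
  have hn : S ≤ Subgroup.normalizer (thompsonSubgroupAOf S : Set Ω) :=
    H99.le_normalizer_wf (H99.map_thompsonA p) hS
  obtain ⟨N, hN⟩ := H97.exists_normalizerSystem F hJ
  have h1 := (S5193.result p hS F hF N hN).2 (Or.inl hp)
  have h2 := S5294.result p (H99.isPGroup_normalizerIn hS _) N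
    (H97.normalizerSystem_saturated hS hF (H96.fullyNormalized_of_le_normalizer F hJ hn) hN)
  have h3 := H97.le_core (H99.nsys_isNormal hN hJ)
  rw [h1] at h2
  generalize N.core = C at h2 h3
  rw [H99.normalizerIn_eq_self hn] at h2
  exact h2 (((H51.center_le_centerThompsonAOf S).trans inf_le_left).trans h3)

end Cfsg.Agent.S5295
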