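import Cfsg.Statements.S5316
import Cfsg.Agent.H5.PE7

set_option autoImplicit false
open Cfsg

namespace Cfsg.Agent.S5316

/-- Let p ≥ 5 be a prime, S a finite p-group of maximal class of order p^n with n ≥ 5 (nilpotency class n − 1), F a saturated fusion system over S, and E an F-essential subgroup that is not a pearl (not elementary abelian of order p² and not extraspecial of order p³ and exponent p). Then E has order at least p⁴. -/
theorem result {Ω : Type*} [Group Ω] {S : Subgroup Ω} [Finite S] (p : ℕ) [Fact p.Prime] (hp : 5 ≤ p) (hS : IsPGroup p ↥S) (n : ℕ) (hn : Nat.card S = p ^ n) (h5 : 5 ≤ n)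
    (hmax : Subgroup.lowerCentralSeries S (n - 2) ≠ ⊥) (F : Cfsg.FusionSystem S) (hF : F.IsSaturated p)
    (E : Subgroup Ω) (hE : F.IsEssential p E)
    (hnp : ¬ ((Nat.card ↥E = p ^ 2 ∧ Cfsg.IsElementaryAbelian p E) ∨ (Nat.card ↥E = p ^ 3 ∧ Cfsg.IsExtraspecial p ↥E ∧ Monoid.exponent ↥E = p))) :
    p ^ 4 ≤ Nat.card ↥E := by
  have h : H5.PE.MX p S (n - 2) := ⟨H5.MxC.of hn (by omega) hmax, by omega⟩
  have key : p ^ 4 ≤ p ^ (n - 2 + 1) := Nat.pow_le_pow_right (by omega) (by omega)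
  rcases h.tri hF hE with ⟨x, h1, h2⟩ | rfl | rfl
  · exact (hnp (((⟨h, hF, hE⟩ : H5.PE.EX p F E _).pearl h1 h2).imp_right fun e => ⟨e.1, e.2.1, e.2.2.1 (by omega)⟩)).elim
  · exact key.trans (h.card_PP (i := 0) (by omega)).ge
  · exact key.trans h.card_Q.ge

end Cfsg.Agent.S5316
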