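import Cfsg.Statements.S5382
import Cfsg.Agent.H70.HJP2
-- import your own Cfsg.Agent.* helpers here

set_option autoImplicit false
open Cfsg

namespace Cfsg.Agent.S5382

/-- Let G be a finite group of Hall–Janko type: it has more than one class of involutions and an involution z whose centralizer C has generalized Fitting subgroup Q extraspecial of order 32 with C/Q isomorphic to the commutator subgroup of the isometry group of the elliptic quadratic form in dimension 4 over the field with two elements (the alternating group of degree 5), with z not weakly closed in Q. Then for every involution t not conjugate to z, the centralizer of t is isomorphic to the direct product of an elementary abelian group of order 4 and the alternating group of degree 5, and the normalizer of the largest normal 2-subgroup of that centralizer is isomorphic to the direct product of the alternating groups of degrees 4 and 5. -/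
theorem result {G : Type*} [Group G] [Finite G] (z : G) (hz : orderOf z = 2) (Q : Subgroup (Subgroup.centralizer ({z} : Set G))) [Q.Normal] (hF : Cfsg.generalizedFittingSubgroup (Subgroup.centralizer ({z} : Set G)) = Q) (hQ : Cfsg.IsExtraspecial 2 Q) (hcard : Nat.card Q = 2 ^ 5) (e : (Subgroup.centralizer ({z} : Set G)) ⧸ Q ≃* Cfsg.Omega (ZMod 2) (Cfsg.quadFormMinus 1 (ZMod 2) 1 1)) (hnwc : ∃ g : G, (∃ hq : g * z * g⁻¹ ∈ Subgroup.centralizer ({z} : Set G), (⟨g * z * g⁻¹, hq⟩ : Subgroup.centralizer ({z} : Set G)) ∈ Q) ∧ g * z * g⁻¹ ≠ z) (hcl : ∃ x y : G, orderOf x = 2 ∧ orderOf y = 2 ∧ ¬ IsConj x y) (t : G) (ht : orderOf t = 2) (htz : ¬ IsConj t z) : Nonempty (↥(Subgroup.centralizer ({t} : Set G)) ≃* (Multiplicative (ZMod 2) × Multiplicative (ZMod 2)) × alternatingGroup (Fin 5)) ∧ Nonempty (↥(Subgroup.normalizer (((Cfsg.pCore 2 ↥(Subgroup.centralizer ({t} : Set G))).map (Subgroup.subtype (Subgroup.centralizer ({t} : Set G))) : Subgroup G) : Set G)) ≃* alternatingGroup (Fin 4) × alternatingGroup (Fin 5)) := by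
  obtain ⟨δ, h⟩ := H70.IsoJ2.exists_J2T (H70.isoJ2_of_fstar hz Q hF hQ hcard e hnwc hcl)
  have t2 : ∀ i < 21, 2 = H43.nthN H47.J2P.ht_os i → i = 1 ∨ i = 2 := by decide +kernel
  obtain ⟨i, hi, ci, h1, -⟩ := h.exists_info t
  obtain ⟨j, hj, cj, h2, h3⟩ := h.exists_info z
  rw [← Q.card_mul_index, hcard, Subgroup.index_eq_card, Nat.card_congr e.toEquiv,
    H70.card_omega] at h3
  rcases t2 j hj (hz ▸ h2) with rfl | rfl
  · rcases t2 i hi (ht ▸ h1) with rfl | rfl
    · exact absurd (ci.symm.trans cj) htz
    · obtain ⟨g, rfl⟩ := isConj_iff.1 ci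
      exact (h.map (MulAut.conj g)).twoB
  · exact absurd h3 (by decide +kernel)

end Cfsg.Agent.S5382
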