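import Cfsg.Statements.S5392
import Cfsg.Agent.H48.Order

set_option autoImplicit false
open Cfsg

namespace Cfsg.Agent.S5392

open Cfsg.Agent.H48

/-- The Leech lattice modulo twice itself is a faithful irreducible module for the first Conway group: an automorphism of the rank-24 lattice built from the length-24 code that moves every lattice vector only by twice a lattice vector lies in the centre of the automorphism group (the centre consists of ±1, which act trivially there, so the kernel is exactly the centre), and an additive subgroup lying between twice the lattice and the lattice that is invariant under all lattice automorphisms is one of the two. -/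
theorem result : (∀ g : ↥Cfsg.Co0, (∀ v : ↥Cfsg.leechLattice, ∃ w : ↥Cfsg.leechLattice, ((g • v : ↥Cfsg.leechLattice) : Cfsg.GolayPt → ℤ) - (v : Cfsg.GolayPt → ℤ) = 2 • (w : Cfsg.GolayPt → ℤ)) → g ∈ Subgroup.center ↥Cfsg.Co0) ∧ ∀ M : AddSubgroup (Cfsg.GolayPt → ℤ), (∀ v ∈ Cfsg.leechLattice, (2 : ℤ) • v ∈ M) → M ≤ Cfsg.leechLattice → (∀ g : ↥Cfsg.Co0, ∀ v : ↥Cfsg.leechLattice, (v : Cfsg.GolayPt → ℤ) ∈ M → ((g • v : ↥Cfsg.leechLattice) : Cfsg.GolayPt → ℤ) ∈ M) → (∀ x ∈ M, ∃ w ∈ Cfsg.leechLattice, x = (2 : ℤ) • w) ∨ M = Cfsg.leechLattice := by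
  refine ⟨fun g hg => ?_, fun M h2 hM hinv => ?_⟩
  · rw [mem_center_iff]
    apply eq_pm_of_min
    intro v hv
    obtain ⟨w, hw⟩ := hg v
    have h1 := co_sqNorm g v
    rcases short_mod_two' (x := g • v) (y := v) (by omega) (by omega)
      (mem_twoLam.2 ⟨w, Subtype.ext hw⟩) with h | h | h
    · exact Or.inl h
    · exact Or.inr h
    · omega
  · by_cases h : ∀ x ∈ M, ∃ w ∈ Cfsg.leechLattice, x = (2 : ℤ) • w
    · exact Or.inl h
    right
    push Not at h
    obtain ⟨x, hx, hx2⟩ := h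
    obtain ⟨y, hy, h3⟩ := exists_short ⟨x, hM hx⟩
    obtain ⟨z, hz⟩ := mem_twoLam.1 h3
    have hz' : x - y.1 = (2 : ℤ) • z.1 := by
      rw [two_zsmul, ← two_nsmul]; exact congrArg Subtype.val hz
    have hyM : y.1 ∈ M := by
      rw [show y.1 = x - (x - y.1) by abel, hz']
      exact sub_mem hx (h2 _ z.2)
    have key : ∀ v : Lam, Cfsg.sqNorm v.1 = 32 → v.1 ∈ M → M = Cfsg.leechLattice := by
      intro v hv hvM
      have h4 := eq_top_of_min (M.addSubgroupOf Cfsg.leechLattice) (fun w hw => by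
        obtain ⟨g, rfl⟩ := trans32 hv hw
        exact hinv g v hvM)
      refine le_antisymm hM fun w hw => ?_
      have h5 : (⟨w, hw⟩ : Lam) ∈ (⊤ : AddSubgroup Lam) := trivial
      rw [← h4] at h5
      exact h5
    rcases norm_cases y.2 hy with h0 | h0 | h0 | h0
    · exact absurd (by rw [← hz', h0, sub_zero]) (hx2 z.1 z.2)
    · exact key y h0 hyM
    · let a : Lam := lam [1, 1, 1, 1, 1, 1, 1, 1, 1, 1, 1, 1, 1, 1, 1, 1, 1, 1, 1, 1, 1, 1, 1, 5]
        (by decide +kernel)
      let b : Lam := lam [5, 1, 1, 1, 1, 1, 1, 1, 1, 1, 1, 1, 1, 1, 1, 1, 1, 1, 1, 1, 1, 1, 1, 1]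
        (by decide +kernel)
      obtain ⟨g, hg⟩ := trans48 (y := a) h0 (by decide +kernel)
      obtain ⟨g', hg'⟩ := trans48 (y := b) h0 (by decide +kernel)
      exact key (a - b) (by decide +kernel) (sub_mem (hg ▸ hinv g y hyM) (hg' ▸ hinv g' y hyM))
    · let a : Lam := lam [4, 4, 4, 4, 0, 0, 0, 0, 0, 0, 0, 0, 0, 0, 0, 0, 0, 0, 0, 0, 0, 0, 0, 0]
        (by decide +kernel)
      let b : Lam := lam [4, 4, 4, 0, 4, 0, 0, 0, 0, 0, 0, 0, 0, 0, 0, 0, 0, 0, 0, 0, 0, 0, 0, 0]
        (by decide +kernel)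
      obtain ⟨g, hg⟩ := trans64 (y := a) h0 (by decide +kernel)
      obtain ⟨g', hg'⟩ := trans64 (y := b) h0 (by decide +kernel)
      exact key (a - b) (by decide +kernel) (sub_mem (hg ▸ hinv g y hyM) (hg' ▸ hinv g' y hyM))

end Cfsg.Agent.S5392
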