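import Cfsg.Statements.S5472
import Cfsg.Agent.H27.SympSimple
import Cfsg.Agent.H41.Transfer
import Cfsg.Agent.H45.FiE22
import Cfsg.Agent.H45.FiI22
import Cfsg.Agent.H45.FiU22
import Cfsg.Agent.H55.Sp6Lift

set_option autoImplicit false
open Cfsg

namespace Cfsg.Agent.S5472

set_option maxRecDepth 1000000
set_option Elab.async false

open Cfsg.Agent.H41 Cfsg.Agent.H42 Cfsg.Agent.H45 Cfsg.Agent.H55.Sp6 Equiv Subgroup
open scoped Matrix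

/-- The action of the symplectic group on vectors. -/
def spPerm : Sp →* Perm V :=
  @MulAction.toPermHom _ _ _
    { smul := fun g v => spToMat 3 (ZMod 2) g *ᵥ v
      one_smul := fun v => Matrix.one_mulVec v
      mul_smul := fun g h v => (Matrix.mulVec_mulVec v g.1 h.1).symm }

/-- The non-zero codes. -/
def T7 : ℕ := 0xfffffffffffffffe

theorem dec_inj : ∀ u < 64, (T7.testBit u = true ↔ H55.Sp6.dec u ≠ 0) ∧
    ∀ v < 64, H55.Sp6.dec u = H55.Sp6.dec v → u = v := by decide +kernel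

theorem labS {Γ X : Type*} [Group Γ] (φ : Γ →* Perm X) {m : ℕ → X}
    (hm : ∀ c < 64, T7.testBit c = true → ∀ d < 64, T7.testBit d = true → m c = m d → c = d) {N : Subgroup Γ}
    (hg : ∀ i < 7, ∃ g ∈ N, ∀ c < 64, T7.testBit c = true → φ g (m c) = m (mv (rs (i + 1)) c)) :
    ∃ (N0 : Subgroup Γ) (θ : N0 →* Sp), N0 ≤ N ∧ Function.Surjective θ ∧
      ∀ g ∈ N, (∀ c < 64, T7.testBit c = true → φ g (m c) = m c) → ∃ h : g ∈ N0, θ ⟨g, h⟩ = 1 := by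
  choose enc e1 e2 using dec_surj
  have e3 : ∀ v, v ≠ 0 → T7.testBit (enc v) = true := fun v hv => (dec_inj _ (e1 v)).1.mpr (by rwa [e2])
  obtain ⟨P, ρ, -, h2⟩ := exists_lab φ spPerm (A := {v | v ≠ 0}) (μ := fun v => m (enc v))
    (fun a v hv h => hv ((spPerm a).injective (h.trans (Matrix.mulVec_zero a.1).symm)))
    (fun u hu v hv h => by rw [← e2 u, hm _ (e1 u) (e3 u hu) _ (e1 v) (e3 v hv) h, e2])
    fun a ha => toMat_inj (H47.matrix_ext_mulVec fun x => by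
      rw [map_one, Matrix.one_mulVec]
      by_cases h : x = 0
      exacts [h ▸ Matrix.mulVec_zero _, ha x h])
  refine ⟨P ⊓ N, ρ.comp (inclusion inf_le_left), inf_le_right, MonoidHom.range_eq_top.mp ?_, fun g h1 h => ?_⟩
  · rw [eq_top_iff, ← gen_top, H44.gen_le]
    intro x a1 a2
    obtain ⟨i, rfl⟩ := Nat.exists_eq_add_of_le' a1
    obtain ⟨g, h1, h5⟩ := hg i a2
    have a3 : rs (i + 1) < 64 := (by decide : ∀ i < 7, rs (i + 1) < 64) i a2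
    obtain ⟨h6, h7⟩ := h2 g (H55.Sp6.g (rs (i + 1))) fun v hv => by
      rw [h5 _ (e1 v) (e3 v hv)]
      refine congrArg m ((dec_inj _ (dec_mv _ a3 _ (e1 v)).1).2 _ (e1 _) ?_)
      rw [e2, ← g_mulVec a3 (e1 v), e2]
      rfl
    exact ⟨⟨g, h6, h1⟩, h7⟩
  · obtain ⟨h6, h7⟩ := h2 g 1 fun v hv => by rw [map_one, Perm.one_apply, h _ (e1 v) (e3 v hv)]
    exact ⟨⟨h6, h1⟩, h7⟩

theorem psp : Nonempty (Sp ≃* PSp 3 (ZMod 2)) :=
  ⟨((QuotientGroup.quotientMulEquivOfEq (eq_bot_of_card_eq _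
    (H27.card_center_sp.trans (if_pos (by decide))))).trans QuotientGroup.quotientBot).symm⟩

theorem two_prod {H K : Type*} [Group H] [Finite H] [Group K] (χ : H →* ℤˣ) (θ : H →* K) {a : H} (ha : χ a = -1)
    (h2 : a * a = 1) (hk : θ.ker ≤ zpowers a) (hc : Nat.card H = 2 * Nat.card K) :
    Nonempty (H ≃* Multiplicative (ZMod 2) × K) := by
  have h3 : Nat.card ℤˣ = 2 := by simp
  have h4 : Function.Injective (χ.prod θ) := (injective_iff_map_eq_one _).mpr fun g hg => by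
    obtain ⟨k, rfl⟩ := hk (congrArg Prod.snd hg)
    have h5 : χ (a ^ k) = 1 := congrArg Prod.fst hg
    obtain ⟨j, rfl | rfl⟩ := k.even_or_odd'
    · exact (zpow_mul a 2 j).trans (by rw [zpow_two, h2, one_zpow])
    · simp [zpow_add, zpow_mul, ha] at h5
  have : Finite K := Nat.finite_of_card_ne_zero fun h => Nat.card_pos.ne' (by rw [hc, h])
  exact ⟨(MulEquiv.ofBijective _ ((Nat.bijective_iff_injective_and_card _).mpr
    ⟨h4, by rw [Nat.card_prod, h3, hc]⟩)).trans (MulEquiv.prodCongr (mulEquivOfPrimeCardEq h3 (by simp)) (.refl K))⟩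

theorem elem_closure {G : Type*} [Group G] {S : Set G} (h1 : ∀ x ∈ S, ∀ y ∈ S, x * y = y * x)
    (h2 : ∀ x ∈ S, x ^ 2 = 1) : IsElementaryAbelian 2 (closure S) := by
  have h := isMulCommutative_closure h1
  refine ⟨h, fun a ha => ?_⟩
  induction ha using closure_induction with
  | mem x hx => exact h2 x hx
  | one => exact one_pow 2
  | mul x y hx hy a b => rw [Commute.mul_pow (setLike_mul_comm hx hy), a, b, mul_one]
  | inv x _ a => rw [inv_pow, a, inv_one]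

theorem fxa : ∀ g ∈ stb πx L22.F ⟨[[9, 6]], [], [], []⟩, g 693 = 693 :=
  mdx.fix_of_no (mdx.noL (prog0 := [.fix 0]) (W0 := []) (W0' := []) (prog := [.cl 0 0, .and 1 0, .cnt 0])
    (W := [[]]) (qs := [(0, [[3, 2, 4, 3, 5, 4, 6, 5]]), (1, [[2, 4, 3, 5, 4, 6, 5]]), (14, [[2, 4, 5, 6, 7, 3, 4, 5]]), (15, [[4, 5, 6, 7, 3, 4, 5]]), (16, [[4, 3, 5, 4, 6, 5]]), (17, [[2, 4, 5, 6, 8, 7, 3, 4, 5]]), (18, [[4, 5, 6, 8, 7, 3, 4, 5]]), (19, [[3, 4, 5, 6, 8, 7, 3, 4, 5]]), (20, [[3, 4, 5, 6, 7, 3, 4, 5]]), (52, [[7, 3, 4, 5, 6, 8, 7, 3, 4, 5]]), (78, [[5, 4, 3, 2, 8, 13, 3, 4, 5]]), (88, [[2, 3, 5, 6, 7, 13, 3, 2, 8, 13, 3, 4, 5]]), (95, [[5, 6, 7, 13, 3, 2, 8, 13, 3, 4, 5]]), (96, [[5, 6, 13, 3, 2, 8, 13, 3, 4, 5]]), (101, [[1, 0, 2, 1, 3, 2, 4, 5, 6, 7, 13, 3, 4, 5]]), (105, [[7, 13, 3, 2, 4, 5, 6, 8, 7, 13, 3, 4, 5]]), (108, [[5, 4, 3, 2, 13, 3, 4, 5]]), (113,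 [[2, 5, 6, 13, 3, 7, 8, 13, 3, 4, 5]]), (115, [[5, 6, 13, 3, 7, 8, 13, 3, 4, 5]]), (116, [[5, 4, 7, 3, 2, 8, 13, 3, 4, 5]]), (117, [[13, 3, 2, 4, 5, 6, 8, 7, 13, 3, 4, 5]]), (118, [[2, 4, 3, 5, 4, 7, 3, 2, 8, 7, 3, 4, 5]]), (119, [[4, 3, 5, 4, 7, 3, 2, 8, 7, 3, 4, 5]]), (128, [[3, 5, 6, 7, 13, 3, 2, 8, 13, 3, 4, 5]]), (129, [[3, 5, 6, 8, 7, 13, 3, 2, 8, 13, 3, 4, 5]]), (130, [[5, 6, 8, 7, 13, 3, 2, 8, 13, 3, 4, 5]]), (170, [[2, 5, 6, 7, 3, 8, 7, 13, 3, 2, 8, 13, 3, 4, 5]]), (175, [[3, 2, 5, 6, 7, 3, 8, 7, 13, 3, 2, 8, 13, 3, 4, 5]]), (176, [[2, 3, 5, 6, 8, 7, 13, 3, 2, 8, 13, 3, 4, 5]]), (177, [[5, 6, 7, 3, 8, 7, 13, 3, 2, 8, 13, 3, 4, 5]]), (180, [[1, 0, 2, 1, 3, 2, 4, 3, 5, 4, 6, 5]]), (198, [[0, 1, 2, 3, 5, 4, 7, 3, 8, 7, 13, 3, 4, 5]]), (208, [[1, 2, 1, 3, 5, 4, 7, 3, 2, 8, 7, 3, 4, 5]]), (209, [[1, 0, 2, 1, 3, 5, 6, 7, 3, 2, 8, 13, 3, 4, 5]]), (222,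 [[1, 0, 2, 1, 3, 2, 5, 6, 7, 8, 7, 13, 3, 4, 5]]), (233, [[1, 0, 2, 1, 3, 2, 5, 6, 7, 8, 13, 3, 4, 5]]), (336, [[0, 1, 2, 3, 5, 4, 7, 3, 2, 8, 7, 3, 4, 5]]), (337, [[0, 1, 2, 3, 4, 5, 6, 7, 8, 13, 3, 4, 5]]), (338, [[0, 1, 2, 3, 2, 4, 5, 6, 7, 8, 13, 3, 4, 5]]), (347, [[2, 1, 3, 2, 4, 5, 6, 13, 8, 7, 3, 4, 5]]), (348, [[1, 3, 2, 4, 5, 6, 13, 8, 7, 3, 4, 5]]), (361, [[1, 2, 4, 5, 6, 13, 8, 7, 3, 4, 5]]), (386, [[3, 2, 1, 4, 3, 5, 4, 13, 3, 2, 8, 13, 3, 4, 5]]), (387, [[2, 1, 4, 3, 5, 4, 13, 3, 2, 8, 13, 3, 4, 5]]), (403, [[1, 4, 3, 5, 4, 13, 3, 2, 8, 13, 3, 4, 5]]), (423, [[1, 2, 3, 7, 3, 4, 5, 6, 8, 13, 3, 4, 5]]), (427, [[0, 1, 2, 1, 3, 2, 4, 5, 6, 7, 8, 13, 3, 4, 5]]), (454, [[1, 2, 3, 5, 4, 7, 3, 8, 7, 13, 3, 4, 5]]), (464, [[0, 1, 2, 1, 3, 5, 4, 7, 3, 2, 8, 7, 3, 4, 5]]), (465, [[0, 1, 0, 2, 1, 3, 5, 6, 7, 3, 2, 8, 13, 3, 4, 5]]), (478, [[0, 1, 0, 2,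 1, 3, 2, 5, 6, 7, 8, 7, 13, 3, 4, 5]]), (489, [[0, 1, 0, 2, 1, 3, 2, 5, 6, 7, 8, 13, 3, 4, 5]]), (592, [[1, 2, 3, 5, 4, 7, 3, 2, 8, 7, 3, 4, 5]]), (593, [[1, 2, 3, 4, 5, 6, 7, 8, 13, 3, 4, 5]]), (594, [[1, 2, 3, 2, 4, 5, 6, 7, 8, 13, 3, 4, 5]]), (603, [[0, 2, 1, 3, 2, 4, 5, 6, 13, 8, 7, 3, 4, 5]]), (604, [[0, 1, 3, 2, 4, 5, 6, 13, 8, 7, 3, 4, 5]]), (617, [[0, 1, 2, 4, 5, 6, 13, 8, 7, 3, 4, 5]]), (642, [[0, 3, 2, 1, 4, 3, 5, 4, 13, 3, 2, 8, 13, 3, 4, 5]]), (643, [[0, 2, 1, 4, 3, 5, 4, 13, 3, 2, 8, 13, 3, 4, 5]]), (659, [[0, 1, 4, 3, 5, 4, 13, 3, 2, 8, 13, 3, 4, 5]]), (679, [[0, 1, 2, 3, 7, 3, 4, 5, 6, 8, 13, 3, 4, 5]]), (683, [[1, 2, 1, 3, 2, 4, 5, 6, 7, 8, 13, 3, 4, 5]])])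
    (by decide +kernel)) (prog := [.fix 0]) (W := []) (by decide +kernel)

theorem fxb : ∀ g ∈ stb πx L22.F ⟨[[9, 0]], [], [], []⟩, g 180 = 180 :=
  mdx.fix_of_no (mdx.noL (prog0 := [.fix 0]) (W0 := []) (W0' := []) (prog := [.cl 0 0, .and 1 0, .cnt 0])
    (W := [[1, 0, 2, 1, 3, 2, 4, 3, 5, 4, 6, 5]]) (qs := [(0, [[3, 2, 4, 3, 5, 4, 6, 5]]), (1, [[2, 4, 3, 5, 4, 6, 5]]), (14, [[2, 4, 5, 6, 7, 3, 4, 5]]), (15, [[4, 5, 6, 7, 3, 4, 5]]), (16, [[4, 3, 5, 4, 6, 5]]), (17, [[2, 4, 5, 6, 8, 7, 3, 4, 5]]), (18, [[4, 5, 6, 8, 7, 3, 4, 5]]), (19, [[3, 4, 5, 6, 8, 7, 3, 4, 5]]), (20, [[3, 4, 5, 6, 7, 3, 4, 5]]), (52, [[7, 3, 4, 5, 6, 8, 7, 3, 4, 5]]), (78, [[5, 4, 3, 2, 8, 13, 3, 4, 5]]), (88, [[2, 3, 5, 6, 7, 13, 3, 2, 8, 13, 3, 4, 5]]), (95, [[5, 6, 7, 13, 3, 2, 8, 13, 3, 4, 5]]), (96, [[5, 6, 13, 3, 2, 8, 13, 3, 4, 5]]), (101, [[1, 0, 2, 1, 3, 2, 4, 5, 6, 7, 13,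 3, 4, 5]]), (105, [[7, 13, 3, 2, 4, 5, 6, 8, 7, 13, 3, 4, 5]]), (108, [[5, 4, 3, 2, 13, 3, 4, 5]]), (113, [[2, 5, 6, 13, 3, 7, 8, 13, 3, 4, 5]]), (115, [[5, 6, 13, 3, 7, 8, 13, 3, 4, 5]]), (116, [[5, 4, 7, 3, 2, 8, 13, 3, 4, 5]]), (117, [[13, 3, 2, 4, 5, 6, 8, 7, 13, 3, 4, 5]]), (118, [[2, 4, 3, 5, 4, 7, 3, 2, 8, 7, 3, 4, 5]]), (119, [[4, 3, 5, 4, 7, 3, 2, 8, 7, 3, 4, 5]]), (128, [[3, 5, 6, 7, 13, 3, 2, 8, 13, 3, 4, 5]]), (129, [[3, 5, 6, 8, 7, 13, 3, 2, 8, 13, 3, 4, 5]]), (130, [[5, 6, 8, 7, 13, 3, 2, 8, 13, 3, 4, 5]]), (170, [[2, 5, 6, 7, 3, 8, 7, 13, 3, 2, 8, 13, 3, 4, 5]]), (175, [[3, 2, 5, 6, 7, 3, 8, 7, 13, 3, 2, 8, 13, 3, 4, 5]]), (176, [[2, 3, 5, 6, 8, 7, 13, 3, 2, 8, 13, 3, 4, 5]]), (177, [[5, 6, 7, 3, 8, 7, 13, 3, 2, 8, 13, 3, 4, 5]]), (693, [[]]), (737, [[4, 3, 2, 8, 13, 3, 4, 5]]), (781, [[4, 3, 2, 13, 3, 4, 5]]), (825, [[6, 5]]), (840, [[3,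 7, 13, 3, 2, 8, 13, 3, 4, 5]]), (841, [[7, 13, 3, 2, 8, 13, 3, 4, 5]]), (895, [[3, 2, 13, 3, 7, 8, 13, 3, 4, 5]]), (1153, [[13, 3, 7, 8, 13, 3, 4, 5]]), (1170, [[2, 13, 3, 7, 8, 13, 3, 4, 5]]), (1178, [[3, 2, 7, 3, 8, 7, 13, 3, 2, 8, 13, 3, 4, 5]]), (1179, [[2, 7, 3, 8, 7, 13, 3, 2, 8, 13, 3, 4, 5]]), (1180, [[2, 3, 8, 7, 13, 3, 2, 8, 13, 3, 4, 5]]), (1181, [[2, 3, 7, 13, 3, 2, 8, 13, 3, 4, 5]]), (1890, [[6, 8, 7, 13, 3, 2, 8, 13, 3, 4, 5]]), (1916, [[13, 3, 2, 8, 13, 3, 4, 5]]), (1953, [[3, 6, 8, 7, 13, 3, 2, 8, 13, 3, 4, 5]]), (2081, [[7, 3, 8, 7, 13, 3, 2, 8, 13, 3, 4, 5]]), (2145, [[4, 3, 2, 6, 8, 13, 3, 4, 5]]), (2189, [[4, 3, 2, 6, 13, 3, 4, 5]]), (2233, [[5]]), (2248, [[3, 6, 7, 13, 3, 2, 8, 13, 3, 4, 5]]), (2249, [[6, 7, 13, 3, 2, 8, 13, 3, 4, 5]]), (2303, [[4, 7, 3, 2, 8, 13, 3, 4, 5]]), (2561, [[6, 13, 3, 7, 8, 13, 3, 4, 5]]), (2578, [[2, 6, 13,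 3, 7, 8, 13, 3, 4, 5]]), (2586, [[3, 2, 6, 7, 3, 8, 7, 13, 3, 2, 8, 13, 3, 4, 5]]), (2587, [[2, 6, 7, 3, 8, 7, 13, 3, 2, 8, 13, 3, 4, 5]]), (2588, [[2, 3, 6, 8, 7, 13, 3, 2, 8, 13, 3, 4, 5]]), (2589, [[2, 3, 6, 7, 13, 3, 2, 8, 13, 3, 4, 5]]), (3298, [[8, 7, 13, 3, 2, 8, 13, 3, 4, 5]]), (3324, [[6, 13, 3, 2, 8, 13, 3, 4, 5]]), (3361, [[3, 8, 7, 13, 3, 2, 8, 13, 3, 4, 5]]), (3489, [[6, 7, 3, 8, 7, 13, 3, 2, 8, 13, 3, 4, 5]])])
    (by decide +kernel)) (prog := [.fix 0]) (W := []) (by decide +kernel)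

/-- The points fixed by the third involution. -/
def fl : List ℕ := [0, 1, 14, 15, 16, 17, 18, 19, 20, 52, 78, 88, 95, 96, 101, 105, 108, 113, 115, 116, 117, 118, 119, 128, 129, 130, 170, 175, 176, 177, 180, 693, 755, 756, 757, 758, 788, 793, 794, 809, 810, 831, 835, 836, 900, 1169, 1524, 1547, 1548, 1552, 1553, 1975, 2163, 2164, 2165, 2166, 2196, 2201, 2202, 2217, 2218, 2239, 2243, 2244, 2308, 2577, 2932, 2955, 2956, 2960, 2961, 3383]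

theorem fxc : ∀ q : Fin 3510, wp πx [9, 6, 0] q = q ↔ (q : ℕ) ∈ fl := mdx.fix_iff (by decide +kernel)

/-- The labelled points. -/
def pl6 : List ℕ := [0, 180, 130, 20, 101, 108, 0, 175, 423, 679, 337, 593, 489, 233, 209, 465, 16, 177, 129, 15, 176, 14, 1, 170, 592, 336, 338, 594, 427, 683, 208, 464, 115, 119, 128, 18, 88, 17, 113, 118, 403, 659, 604, 348, 603, 347, 387, 643, 52, 96, 95, 19, 105, 78, 116, 117, 454, 198, 617, 361, 478, 222, 386, 642]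

/-- Words for the transvections. -/
def w7 : List (List ℕ) := [[0], [1, 2, 3, 7, 8, 13, 8, 7, 3, 2, 1], [7], [3], [2], [13, 3, 4, 7, 3, 8, 13, 8, 3, 7, 4, 3, 13], [8]]

theorem pl6_inj : ∀ c < 64, T7.testBit c = true → ∀ d < 64, T7.testBit d = true → nthD pl6 0 c = nthD pl6 0 d →
    c = d := by decide +kernel

theorem w7_b : ∀ i < 7, ptsB cf22.pp pl6 T7 64 (mv (rs (i + 1))) (nth w7 i) = true := by decide +kernel

theorem w7_c : ∀ i < 7, (9 ∉ nth w7 i ∧ relP cfx (cct (nth w7 i) [9]) (cct [9] (nth w7 i)) = true) ∧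
    relP cf22 (cct (nth w7 i) [6]) (cct [6] (nth w7 i)) = true := by decide +kernel

theorem a_b : ptsB cf22.pp pl6 T7 64 id [6] = true := by decide +kernel

/-- The blocks. -/
noncomputable def bk2 : List ℕ := List.map setL [[], [], [], [], [], [52, 96], [], [180, 693], [], [], [2196, 2308], [20, 130], [], [788, 900], [19, 95], [], [115, 119], [809, 3383], [16, 177], [1552, 2218], [810, 2960], [], [1975, 2217], [], [1547, 2961], [15, 129], [], [], [18, 128], [], [], [1553, 2955], [0, 175], [758, 2201], [116, 117], [835, 2163], [755, 2243], [], [793, 2166], [], [831, 1169], [78, 105], [], [], [101, 108], [], [], [2239, 2577], [113, 118], [836, 2164], [1, 170], [757, 2202], [794, 2165], [], [756, 2244], [], [1524, 1548], [14, 176], [], [], [17, 88], [], [], [2932, 2956]]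

/-- Points of the blocks. -/
def bp2 : List ℕ := [0, 0, 0, 0, 0, 52, 0, 180, 0, 0, 2196, 20, 0, 788, 19, 0, 115, 809, 16, 1552, 810, 0, 1975, 0, 1547, 15, 0, 0, 18, 0, 0, 1553, 0, 758, 116, 835, 755, 0, 793, 0, 831, 78, 0, 0, 101, 0, 0, 2239, 113, 836, 1, 757, 794, 0, 756, 0, 1524, 14, 0, 0, 17, 0, 0, 2932]

/-- Elements acting as reflections. -/
def gw2 : List (List ℕ) := [[8], [7], [3], [1, 2, 4, 3, 5, 13, 3, 4, 8, 7, 3, 13, 3, 7, 8, 4, 3, 13, 5, 3, 4, 2, 1], [0], [2]]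

/-- A stabiliser chain of the kernel. -/
def ch : List (ℕ × ℕ × ℕ × List (List ℕ)) := [(181, 1, 64, [[1, 0, 2, 1, 3, 2, 4, 3, 5, 4, 6, 5, 3, 2, 1, 0, 4, 3, 2, 1, 13, 3, 8, 13, 7, 3, 2, 13, 8, 4, 3, 7, 4, 3, 13, 8, 4, 3, 7, 3, 13], [7, 8, 13, 3, 2, 4, 3, 8, 13, 8, 3, 4, 2, 3, 13, 7], [13, 3, 7, 8, 13, 3, 2, 4, 3, 13, 8, 7, 3, 13], [8, 13, 3, 2, 4, 3, 8, 13, 8, 3, 4, 2, 3, 13], [2, 3, 13, 4, 3, 2, 3, 4, 13, 3, 4, 13, 6], [0, 6]])]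

theorem low : 64 ≤ Nat.card (closW N22.π (chW ch)) := N22.act.chP_le (d := 8) (l := ch) (by decide +kernel)

theorem bk2_inj : ∀ c < 64, T6.testBit c = true → nthD bp2 0 c < 3510 ∧
    ∀ d < 64, T6.testBit d = true → ((nthD bk2 0 d).testBit (nthD bp2 0 c) = true ↔ c = d) := by decide +kernel

theorem gw2_c : ∀ i < 6, 9 ∉ nth gw2 i ∧
    relP cfx (cct (nth gw2 i) [9, 6, 0]) (cct [9, 6, 0] (nth gw2 i)) = true := by decide +kernel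

theorem gw2_b : ∀ i < 6, blkB cf22.ap bk2 T6 64 (rfC T6 (nthD ws6 0 i)) (nth gw2 i) = true := by decide +kernel

theorem ch_c : ∀ u ∈ chW ch, (9 ∉ u ∧ relP cfx (cct u [9, 6, 0]) (cct [9, 6, 0] u) = true) ∧
    relP cf22 (H45.rep 2 u) [] = true ∧ ∀ v ∈ chW ch, relP cf22 (cct u v) (cct v u) = true := by decide +kernel

theorem ch_b : allL (blkB cf22.ap bk2 T6 64 id) (chW ch) = true := by decide +kernel

theorem nf1 : H60.nfix (wp πx [9]) = 360 := H60.nfix_wp actx (K := 12) (by norm_num) (d := 8) (by decide +kernel)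

theorem nf2 : H60.nfix (wp πx [9, 6]) = 64 := H60.nfix_wp actx (K := 12) (by norm_num) (d := 8) (by decide +kernel)

theorem nf3 : H60.nfix (wp πx [9, 6, 0]) = 72 := H60.nfix_wp actx (K := 12) (by norm_num) (d := 8) (by decide +kernel)

theorem fix_mul {G : Type*} [Group G] {s : MulAut G} {a g : G} (h : g * a = a * g) :
    (s * MulAut.conj a) g = s g := by rw [MulAut.mul_apply, MulAut.conj_apply, ← h, mul_inv_cancel_right]

section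
variable {G : Type*} [Group G] [Finite G] {D : Set G} (R : Rp cf22 N22.π L22.F G D)

theorem va : R.rx.v [9, 6] = R.rx.v [9] * MulAut.conj (R.t 693) := by
  rw [R.t_a, ← R.rx_w (by decide), ← R.rx.v_cct]; rfl

theorem vb : R.rx.v [9, 0] = R.rx.v [9] * MulAut.conj (R.t 180) := by
  rw [R.t_b, ← R.rx_w (by decide), ← R.rx.v_cct]; rfl

theorem vab : R.rx.v [9, 6, 0] = R.rx.v [9] * MulAut.conj (R.t 693 * R.t 180) := by
  rw [R.t_ab, ← R.rx_w (by decide), ← R.rx.v_cct]; rfl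

theorem nc {u v : List ℕ} (h : H60.nfix (wp πx u) ≠ H60.nfix (wp πx v)) : ¬ IsConj (R.rx.v u) (R.rx.v v) := fun h1 => by
  obtain ⟨c, hc⟩ := isConj_iff.mp h1
  exact h (by rw [← R.rx.ψ_v, ← R.rx.ψ_v, ← hc, map_mul, map_mul, map_inv, H60.nfix_conj])

theorem fix_pt {u : List ℕ} {p : Fin 3510} (h : ∀ g ∈ stb πx L22.F ⟨[u], [], [], []⟩, g p = p) {g : G}
    (hg : R.rx.v u g = g) : g * R.t p = R.t p * g :=
  R.comm_t.mpr (h _ (R.mem_gstx (fun _ hu => List.mem_singleton.mp hu ▸ hg) (by simp)).2)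

theorem ca : Nonempty (↥(fixS (R.rx.v [9]) ⊓ centralizer {R.t 693}) ≃* Multiplicative (ZMod 2) × PSp 3 (ZMod 2)) := by
  have hL := nthD_lt (n := 3510) (L := pl6) (by norm_num) (by decide +kernel)
  have ha : R.t 693 ∈ fixS (R.rx.v [9]) ⊓ centralizer {R.t 693} :=
    ⟨R.t_a ▸ R.w_fix (by decide +kernel), mem_centralizer_singleton_iff.mpr rfl⟩
  obtain ⟨N0, θ, a1, a2, a3⟩ := labS R.φ (m := fun c => ⟨_, hL c⟩)
    (fun c hc h d hd h' e => pl6_inj c hc h d hd h' (congrArg Fin.val e))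
    (N := fixS (R.rx.v [9]) ⊓ centralizer {R.t 693}) fun i hi => ⟨_, ⟨R.w_fix (w7_c i hi).1,
      mem_centralizer_singleton_iff.mpr (R.t_a ▸ R.w_comm (w7_c i hi).2)⟩, R.ra.pts hL (w7_b i hi)⟩
  have h1 : Nat.card (zpowers (R.t 693)) = 2 :=
    R.card_t (R.t_a ▸ R.w_nil ▸ R.w_ne (b := 2616) (by norm_num) (by decide +kernel))
  obtain ⟨b1, -, θ', b2, b3⟩ := onto_of_card θ a1 a2 (Q := zpowers (R.t 693)) (fun g hg => a3 g (zpowers_le.mpr ha hg)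
    fun c hc h => fix_closure R.φ (S := {R.t 693}) (fun _ e => Set.mem_singleton_iff.mp e ▸ R.t_a ▸ R.ra.pts hL a_b c hc h) g ((zpowers_eq_closure _).le hg)) h1.ge
    (card_Sp ▸ (R.card_fix inf_le_left fun g hg p hp => (Fin.ext (List.mem_singleton.mp hp) : p = 693) ▸
      R.comm_t.mp (mem_centralizer_singleton_iff.mp hg.2)).trans gx1)
  obtain ⟨χ, hχ⟩ := R.i22.2.2
  obtain ⟨f⟩ := psp
  refine (two_prod (χ.comp (inclusion inf_le_left)) θ' (a := ⟨_, ha⟩) (hχ _) (Subtype.ext (R.t_sq _))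
    (fun g hg => ?_) ?_).map fun e => e.trans (MulEquiv.prodCongr (.refl _) f)
  · obtain ⟨k, hk⟩ := b3.ge hg
    exact ⟨k, Subtype.ext hk⟩
  · rw [← H47.card_ker_mul θ', MonoidHom.range_eq_top.mpr b2, card_top, ← b3,
      Nat.card_congr (subgroupOfEquivOfLe b1).toEquiv, h1]

theorem cab : Nat.card (fixS (R.rx.v [9, 6, 0])) ≤ 64 * 51840 := by
  refine (R.card_orbit 693 (l := fl.map (Fin.ofNat 3510)) (fun g hg => ?_) (b := 46080) fun K hK => ?_).trans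
    (by simp [fl])
  · have h := (mt_self_iff.mp (R.mem_gstx (E := [[9, 6, 0]]) (P := []) (fun _ hu => List.mem_singleton.mp hu ▸ hg)
      (by simp)).2.2).1 _ List.mem_cons_self
    refine List.mem_map.mpr ⟨_, (fxc (R.φ g 693)).mp ?_, Fin.ofNat_val_eq_self _⟩
    rw [← Perm.mul_apply, ← h, Perm.mul_apply, (fxc 693).mpr (by decide)]
  · have h : ∀ g ∈ K, g * R.t 180 = R.t 180 * g ∧ R.rx.v [9] g = g := fun g hg => by
      have h1 : R.rx.v [9, 0] g = g := by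
        rw [R.rx.v_rel (w := cct [9, 6, 0] [6]) (by decide +kernel), R.rx.v_cct, R.rx_w (u := [6]) (by decide), ← R.t_a,
          fix_mul (R.comm_t.mpr (hK g hg).2)]
        exact (hK g hg).1
      have h2 := fix_pt R fxb h1
      exact ⟨h2, by rwa [vb, fix_mul h2] at h1⟩
    refine (R.card_fix (fun g hg => (h g hg).2) fun g hg p hp => ?_).trans gx2
    rcases List.mem_pair.mp hp with hp | hp
    exacts [(Fin.ext hp : p = 180) ▸ R.comm_t.mp (h g hg).1, (Fin.ext hp : p = 693) ▸ (hK g hg).2]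

end

/-- Let G be a finite group with trivial centre generated by a conjugation-invariant set D of 3-transpositions on which it acts primitively, such that for some d in D the subgroup generated by the members of D other than d commuting with d has central largest normal 2- and 3-subgroups, and suppose G with D is of type M(22). Then G has a non-inner automorphism s of order 2 whose fixed-point subgroup is isomorphic to the full automorphism group of Ω⁺(8, 2) (the commutator subgroup of the isometry group of the hyperbolic quadratic form in dimension 8 over the field with two elements), together with distinct commuting members a, b of D fixed by s such that: s, s composed with conjugation by a, and s composed with conjugation by a b represent the three classes (under the automorphism group) of non-inner automorphisms of order 2; the elements fixed by the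 automorphism s composed with conjugation by a are exactly those fixed by s and commuting with a, and they form a group isomorphic to the direct product of a group of order 2 and the symplectic group of dimension 6 over the field with two elements; and the elements fixed by the automorphism s composed with conjugation by a b form a group whose largest normal 2-subgroup is elementary abelian of order 64 with quotient isomorphic to the full isometry group of the elliptic quadratic form in dimension 6 over the field with two elements. -/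
theorem result {G : Type*} [Group G] [Finite G] {D : Set G} (hD : Cfsg.IsThreeTranspositionGroup D) (hprim : Cfsg.IsPrimitiveUnderConj D) (d₀ : G) (hd₀ : d₀ ∈ D) (h3 : Cfsg.pCore 3 ↥(Subgroup.closure {y : G | y ∈ D ∧ y ≠ d₀ ∧ Commute d₀ y}) ≤ Subgroup.center ↥(Subgroup.closure {y : G | y ∈ D ∧ y ≠ d₀ ∧ Commute d₀ y})) (h2 : Cfsg.pCore 2 ↥(Subgroup.closure {y : G | y ∈ D ∧ y ≠ d₀ ∧ Commute d₀ y}) ≤ Subgroup.center ↥(Subgroup.closure {y : G | y ∈ D ∧ y ≠ d₀ ∧ Commute d₀ y})) (h22 : Cfsg.IsOfTypeM22 G D) : ∃ (s : MulAut G) (a b : G) (Cs : Subgroup G), orderOf s = 2 ∧ s ∉ (MulAut.conj : G →* MulAut G).range ∧ (∀ g : G, g ∈ Cs ↔ s g = g) ∧ Nonempty (↥Cs ≃* MulAut (Cfsg.Omega (ZMod 2) (Cfsg.quadFormPlus 4 (ZMod 2)))) ∧ a ∈ D ∧ b ∈ D ∧ a ≠ b ∧ Commute a b ∧ s a = a ∧ s b = b ∧ (∀ t : MulAut G, orderOf t = 2 → t ∉ (MulAut.conj : G →* MulAut G).range → (IsConj t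 s ∨ IsConj t (s * MulAut.conj a) ∨ IsConj t (s * MulAut.conj (a * b)))) ∧ ¬ IsConj s (s * MulAut.conj a) ∧ ¬ IsConj s (s * MulAut.conj (a * b)) ∧ ¬ IsConj (s * MulAut.conj a) (s * MulAut.conj (a * b)) ∧ (∀ g : G, (s * MulAut.conj a) g = g ↔ g ∈ Cs ⊓ Subgroup.centralizer ({a} : Set G)) ∧ Nonempty (↥(Cs ⊓ Subgroup.centralizer ({a} : Set G)) ≃* Multiplicative (ZMod 2) × Cfsg.PSp 3 (ZMod 2)) ∧ ∃ Csab O : Subgroup G, (∀ g : G, g ∈ Csab ↔ (s * MulAut.conj (a * b)) g = g) ∧ O = (Cfsg.pCore 2 ↥Csab).map Csab.subtype ∧ Cfsg.IsElementaryAbelian 2 O ∧ Nat.card O = 64 ∧ ∃ _ : (O.subgroupOf Csab).Normal, Nonempty (↥Csab ⧸ O.subgroupOf Csab ≃* Cfsg.isometryGroup (ZMod 2) (Cfsg.quadFormMinus 2 (ZMod 2) 1 1)) := by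
  obtain ⟨e, he⟩ := transfer22 hD h22
  let R : Rp cf22 N22.π L22.F G D := ⟨md22, mem22, e, he⟩
  have cl := H60.Clq.nb clq_ab 180 List.mem_cons_self
  obtain ⟨a1, a2, θ, a3, a4⟩ := R.ra.blk6 bk2_inj (N := fixS (R.rx.v [9, 6, 0])) (fun i hi => R.w_fix (gw2_c i hi)) gw2_b
    (fun u hu => R.w_fix (ch_c u hu).1) ch_b le_rfl
    (low.trans (R.card_closW_le fun u hu => subset_closure ⟨u, hu, rfl⟩)) (cab R)
  have a5 := core6 a3 a4 ((IsPGroup.of_card (n := 6) a2).of_equiv (subgroupOfEquivOfLe a1).symm)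
  have hn : ((closure (R.ra.v '' {u | u ∈ chW ch})).subgroupOf (fixS (R.rx.v [9, 6, 0]))).Normal := a4 ▸ inferInstance
  refine ⟨R.rx.v [9], R.t 693, R.t 180, fixS (R.rx.v [9]), orderOf_eq_prime (R.rx.v_pow (by decide +kernel))
    fun h => R.sg_out (h ▸ one_mem _), R.sg_out, fun _ => Iff.rfl, R.i22.2.1, R.t_mem _, R.t_mem _,
    R.t_inj.ne (by decide), R.t_comm_t.mpr cl.2, R.t_a ▸ R.w_fix (by decide +kernel), R.t_b ▸ R.w_fix (by decide +kernel),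
    fun t h1 h2 => va R ▸ vab R ▸ R.out (by rw [← pow_two, ← h1, pow_orderOf_eq_one]) h2,
    va R ▸ nc R (by rw [nf1, nf2]; decide), vab R ▸ nc R (by rw [nf1, nf3]; decide), va R ▸ vab R ▸ nc R (by rw [nf2, nf3]; decide),
    fun g => ⟨fun h => ?_, fun h => (fix_mul (mem_centralizer_singleton_iff.mp h.2)).trans h.1⟩, ca R,
    fixS (R.rx.v [9, 6, 0]), _, fun g => vab R ▸ Iff.rfl, by rw [a5, map_subgroupOf_eq_of_le a1], elem_closure ?_ ?_, a2,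
    hn, H60.quot_of_ker a3 a4.symm⟩
  · have h1 := fix_pt R fxa ((congrArg (· g) (va R)).trans h)
    exact ⟨(fix_mul h1).symm.trans h, mem_centralizer_singleton_iff.mpr h1⟩
  · rintro _ ⟨u, hu, rfl⟩ _ ⟨v, hv, rfl⟩
    exact R.w_comm ((ch_c u hu).2.2 v hv)
  · rintro _ ⟨u, hu, rfl⟩
    exact R.w_pow (ch_c u hu).2.1

end Cfsg.Agent.S5472
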