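import Cfsg.Statements.S5522
import Cfsg.Agent.H42.Cls

set_option autoImplicit false
set_option maxRecDepth 1000000
open Cfsg

namespace Cfsg.Agent.S5522

open Cfsg.Agent.H42

/-- The Mathieu group M₁₁, realised as the stabiliser of one point of the dodecad of squares inside the stabiliser M₁₂ of that dodecad in M₂₄, acts on the twelve coordinate positions outside the dodecad of squares (its 3-transitive action of degree 12); in this action every element of prime order fixes a point, i.e. the action is elusive. -/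
theorem result (g : Equiv.Perm Cfsg.GolayPt) (hg : g ∈ Cfsg.Spor.M11) (hord : (orderOf g).Prime) :
    ∃ x : Cfsg.GolayPt, x ∉ Cfsg.Spor.squareDodecad ∧ g x = x := by
  have h1 : (⟨g, hg.1.1⟩ : M24) ∈ gen gens11 := by
    rw [← G11_eq, G11, toSet_dod0]
    exact ⟨hg.1.2, hg.2⟩
  obtain ⟨y, hy, e, h⟩ := forall_gen inM_gens11 (fuel := 8000) (p := fun y =>
    Bool.or (anyB (fun i => Bool.and (!tb dod0 i) (Nat.beq (app y i) i)) 24)
      (force (pmul y y) fun s => Bool.and (!Nat.beq s pid) (Nat.beq (ppow s 4) pid)))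
    (by decide +kernel) h1
  simp only [Bool.or_eq_true, anyB_iff, Bool.and_eq_true, Bool.not_eq_true', beq_iff, force_eq,
    beq_false_iff] at h
  rcases h with ⟨i, hi, h2, h3⟩ | ⟨h2, h3⟩
  · refine ⟨pt i, toSet_dod0 ▸ pt_notMem_dod0 hi h2, ?_⟩
    show (⟨g, hg.1.1⟩ : M24) • pt i = pt i
    rw [← e, toM_smul_pt hy hi, h3]
  · rw [← pow_toM_eq_one_iff (inM_pmul hy hy), toM_pmul hy hy, ← pow_two, ← pow_mul,
      ← orderOf_dvd_iff_pow_eq_one, e, orderOf_mk_M24] at h3
    rw [ne_eq, ← toM_eq_one_iff (inM_pmul hy hy), toM_pmul hy hy, ← pow_two,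
      ← orderOf_dvd_iff_pow_eq_one, e, orderOf_mk_M24] at h2
    exact absurd (hord.dvd_of_dvd_pow (show _ ∣ 2 ^ 3 from h3)) h2

end Cfsg.Agent.S5522
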