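import Cfsg.Statements.S5528
import Cfsg.Agent.H97.MinD
import Cfsg.Agent.S1705
import Cfsg.Agent.S5542
-- import your own Cfsg.Agent.* helpers here

set_option autoImplicit false
open Cfsg

namespace Cfsg.Agent.S5528

/-- Every faithful complex matrix representation of the Monster (the finitely presented group of the definitions) has degree at least 196883: an injective homomorphism from the Monster into GL_n(ℂ) forces n ≥ 196883. -/
theorem result (n : ℕ) (ρ : Cfsg.Spor.Monster →* GL (Fin n) ℂ) (hρ : Function.Injective ρ) : 196883 ≤ n := by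
  have : Finite Spor.Monster := Nat.finite_of_card_ne_zero (by rw [S1705.result.2]; norm_num)
  obtain ⟨Q, S, z, s, θ, R, h⟩ := H49.exists_MS S5542.result
  have := H97.Min.le_finrank h
    ((Matrix.toLinAlgEquiv' (R := ℂ) (n := Fin n)).toMonoidHom.comp ((Units.coeHom _).comp ρ))
    fun e => h.hQ.ne (hρ (Units.ext ((Matrix.toLinAlgEquiv' (R := ℂ) (n := Fin n)).injective
      (e.trans (by simp)))))
  rwa [Module.finrank_fin_fun] at this

end Cfsg.Agent.S5528
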