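import Cfsg.Statements.S5533
import Cfsg.Agent.H97.YtMain

set_option autoImplicit false
open Cfsg

namespace Cfsg.Agent.S5533

open Cfsg.Agent.H97

/-- The Monster (realised inside the presented Bimonster) has a Klein four-subgroup E whose normalizer N has a normal subgroup K containing E such that K/E is isomorphic to the twisted group ²E₆(2) (realised over the field with four elements, as in the definitions), N/K is isomorphic to the symmetric group of degree 3, and E has no complement in K. -/
theorem result : ∃ (E N : Subgroup Cfsg.Spor.Monster) (K : Subgroup ↥N), IsKleinFour ↥E ∧ N = Subgroup.normalizer (E : Set Cfsg.Spor.Monster) ∧ E.subgroupOf N ≤ K ∧ (∃ (F : Type) (_ : Field F) (_ : Fintype F), Fintype.card F = 4 ∧ ∃ _ : ((E.subgroupOf N).subgroupOf K).Normal, Nonempty (↥K ⧸ (E.subgroupOf N).subgroupOf K ≃* ↥(Cfsg.Lie.twistedE6 F 2))) ∧ (∃ _ : K.Normal, Nonempty (↥N ⧸ K ≃* Equiv.Perm (Fin 3))) ∧ ∀ L : Subgroup ↥K, ¬ ((E.subgroupOf N).subgroupOf K).IsComplement' L := by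
  obtain ⟨e⟩ := Yt.mEquiv
  obtain ⟨_, _, h⟩ := H80.T.exists_tup
  exact Yt.four_of_equiv e h.rel h.f3 (h.mem 1 (by decide))
    (h.mul 1 (by decide) 3 (by decide) (by decide) rfl)

end Cfsg.Agent.S5533
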