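import Cfsg.Statements.S5539
import Cfsg.Agent.H48.M2Asm
import Cfsg.Agent.H48.M2Ak0
import Cfsg.Agent.H48.M2Tr
import Cfsg.Agent.H49.M2Tm
import Cfsg.Agent.H3.M2Gm
import Cfsg.Agent.H85.M2Pf
import Cfsg.Agent.H84.M2Ch
import Cfsg.Agent.H92.M2H2
import Cfsg.Agent.H41.M2H1
import Cfsg.Agent.H39.M2Usm
import Cfsg.Agent.H28.M2Tr5
import Cfsg.Agent.H29.M2Bn
import Cfsg.Agent.H99.M2Bu
import Cfsg.Agent.H96.M2Nr
import Cfsg.Agent.H8.M2St
import Cfsg.Agent.H1.M2Ac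
import Cfsg.Agent.H52.M2Form
import Cfsg.Agent.H57.M2Xe
import Cfsg.Agent.H59.M2Qa
import Cfsg.Agent.H88.M2Idx
import Cfsg.Agent.H10.M2Tr0
import Cfsg.Agent.H20.M2Bc
import Cfsg.Agent.H80.M2Bd
import Cfsg.Agent.H27.M2Bw
import Cfsg.Agent.H36.M2B5
import Cfsg.Agent.H24.M2Bm
import Cfsg.Agent.H31.M2Bl
import Cfsg.Agent.H61.M2Bi
import Cfsg.Agent.H90.M2Bf0
import Cfsg.Agent.H5.M2Bf1
import Cfsg.Agent.H7.M2Bf2
import Cfsg.Agent.H15.M2Bf3
import Cfsg.Agent.H32.M2Cc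
import Cfsg.Agent.H18.M2H3
import Cfsg.Agent.H69.M2Aa

set_option autoImplicit false
open Cfsg

namespace Cfsg.Agent.S5539

/-- In the Monster (realised inside the presented Bimonster) there are seven 2-local subgroups (normalizers of non-trivial 2-subgroups) such that every maximal 2-local subgroup is conjugate to one of them. -/
theorem result : ∃ S : Finset (Subgroup Cfsg.Spor.Monster), S.card = 7 ∧ (∀ H ∈ S, Cfsg.IsTwoLocal H) ∧ ∀ H : Subgroup Cfsg.Spor.Monster, Cfsg.IsMaximalTwoLocal H → ∃ H₀ ∈ S, ∃ g : Cfsg.Spor.Monster, H = H₀.map (MulAut.conj g).toMonoidHom := by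
  have st := H48.M2.st_of H48.M2.ak0_of
  have ak := H48.M2.ak_of H48.M2.ak0_of
  have ta := H48.M2.ta_of H48.M2.ak0_of
  have fo := H48.M2.form_of st
  have pf := H48.M2.pf_of st ta
  have qa := H48.M2.qa_of pf
  have ix := H88.M2Idx.idx_of fo pf
  have gm := H48.M2.gm_of (H49.Tm.tm H48.M2.xe_of) st pf
  have us := H48.M2.usm_of qa pf fo
  have t1 := H48.M2.tr1_of gm us qa pf fo
  have t2 := H48.M2.tr2_of gm us pf
  have t3 := H48.M2.tr3_of gm us pf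
  have t4 := H48.M2.tr4_of gm us pf
  have t5 := H48.M2.tr5_of gm us qa pf fo
  have t0 := H48.M2.tr0_of pf t1 t5
  have bu := H48.M2.bu_of ta ak fo t1 ix pf
  have bc := H48.M2.bc_of bu ix
  have bd := H48.M2.bd_of bu ta ak pf
  have bw := H48.M2.bw_of bu ta t1 t2 t3
  have bn := H48.M2.bn_of bu bc bd ta t2 t4 ix fo pf
  have b5 := H48.M2.b5_of bu bc bw bn ak ix pf
  have bm := H48.M2.bm_of bu bw b5 t1 qa ta
  have bl := H31.M2Bl.bl bu bc bw b5 pf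
  have bi := H48.M2.bi_of bu bd ta
  have f0 := H48.M2.bf0_of bu bd bi ix pf ta
  have f1 := H48.M2.bf1_of bu bw b5 bi ix
  have f2 := H48.M2.bf2_of bu bw b5 bl bi
  have f3 := H15.M2Bf3.bf3_of bu bw bm f2
  have h1 := H48.M2.h1_of ak pf t1 t4 t5
  have h2 := H48.M2.h2_of fo (H48.M2.nr_of st)
  have h3 := H48.M2.h3_of ak pf h1 h2 t0
  exact H48.M2.fin_of H48.M2.ch_of H48.M2.aa_of (H48.M2.mn_of ta f0 f1 f3 H32.M2Cc.cc_of h3)
    (H48.M2.sg_of H48.M2.ak0_of) (H48.M2.ac_of H48.M2.ak0_of) pf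

end Cfsg.Agent.S5539
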