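import Cfsg.Statements.S5552
import Cfsg.Agent.H48.Order

set_option autoImplicit false
open Cfsg

namespace Cfsg.Agent.S5552

open Cfsg.Agent.H48

/-- On the Leech lattice of the definitions, let Q be a function to the field with two elements that is constant on cosets of twice the lattice, is a quadratic form there (Q(u+v+w) + Q(u) + Q(v) + Q(w) = Q(u+v) + Q(u+w) + Q(v+w) for all u, v, w), is invariant under every lattice automorphism, and is not identically zero. Then Q(v) is the squared length of v divided by 16, reduced modulo 2, for every lattice vector v (squared lengths of lattice vectors are multiples of 16). -/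
theorem result (Q : ↥Cfsg.leechLattice → ZMod 2) (hcoset : ∀ v w : ↥Cfsg.leechLattice, Q (v + (w + w)) = Q v) (hquad : ∀ u v w : ↥Cfsg.leechLattice, Q (u + v + w) + Q u + Q v + Q w = Q (u + v) + Q (u + w) + Q (v + w)) (hinv : ∀ (g : ↥Cfsg.Co0) (v : ↥Cfsg.leechLattice), Q (g • v) = Q v) (hne : ∃ v : ↥Cfsg.leechLattice, Q v ≠ 0) (v : ↥Cfsg.leechLattice) : Q v = ((Cfsg.sqNorm (v : Cfsg.GolayPt → ℤ) / 16 : ℤ) : ZMod 2) := by
  have h0 : Q 0 = 0 := by
    have := hquad 0 0 0
    simp only [add_zero] at this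
    linear_combination this
  have h64 : ∀ x y : Lam, Cfsg.sqNorm x.1 = 64 → Cfsg.sqNorm y.1 = 64 → Q x = Q y := by
    intro x y hx hy
    obtain ⟨g, rfl⟩ := trans64 hx hy
    exact (hinv g x).symm
  have h48 : ∀ x y : Lam, Cfsg.sqNorm x.1 = 48 → Cfsg.sqNorm y.1 = 48 → Q x = Q y := by
    intro x y hx hy
    obtain ⟨g, rfl⟩ := trans48 hx hy
    exact (hinv g x).symm
  have h32 : ∀ x y : Lam, Cfsg.sqNorm x.1 = 32 → Cfsg.sqNorm y.1 = 32 → Q x = Q y := by
    intro x y hx hy
    obtain ⟨g, rfl⟩ := trans32 hx hy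
    exact (hinv g x).symm
  have two : ∀ a : ZMod 2, a + a = 0 := by decide
  have c64 : Q (e8 none) = 0 := by
    let a : Lam := lam [-4, 4, 0, 0, 0, 0, 0, 0, 0, 0, 0, 0, 0, 0, 0, 0, 0, 0, 0, 0, 0, 0, 0, 0]
      (by decide +kernel)
    let b : Lam := lam [4, 0, 4, 0, 0, 0, 0, 0, 0, 0, 0, 0, 0, 0, 0, 0, 0, 0, 0, 0, 0, 0, 0, 0]
      (by decide +kernel)
    let c : Lam := lam [4, 0, 0, 4, 0, 0, 0, 0, 0, 0, 0, 0, 0, 0, 0, 0, 0, 0, 0, 0, 0, 0, 0, 0]
      (by decide +kernel)
    have h := hquad a b c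
    have h1 : Q (b + c) = Q (b - c) := by rw [← hcoset (b - c) c]; congr 1; abel
    rw [h1, h64 (a + b + c) (e8 none) (by decide +kernel) (sqNorm_e8 _),
      h32 b a (by decide +kernel) (by decide +kernel),
      h32 c a (by decide +kernel) (by decide +kernel),
      h32 (a + b) a (by decide +kernel) (by decide +kernel),
      h32 (a + c) a (by decide +kernel) (by decide +kernel),
      h32 (b - c) a (by decide +kernel) (by decide +kernel)] at h
    linear_combination h
  have c32 : Q Cfsg.Spor.leechU = 0 := by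
    let a : Lam := lam [4, 4, 0, 0, 0, 0, 0, 0, 0, 0, 0, 0, 0, 0, 0, 0, 0, 0, 0, 0, 0, 0, 0, 0]
      (by decide +kernel)
    let b : Lam := lam [0, 0, 4, 4, 0, 0, 0, 0, 0, 0, 0, 0, 0, 0, 0, 0, 0, 0, 0, 0, 0, 0, 0, 0]
      (by decide +kernel)
    let c : Lam := lam [0, 0, 0, 0, 4, 4, 0, 0, 0, 0, 0, 0, 0, 0, 0, 0, 0, 0, 0, 0, 0, 0, 0, 0]
      (by decide +kernel)
    let o : Lam := lam [2, 2, 2, 2, 2, 0, 0, 2, 0, 0, 2, 0, 2, 0, 0, 0, 0, 0, 0, 0, 0, 0, 0, 0]
      (by decide +kernel)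
    have h := hquad a b c
    have h1 : Q (a + b + c) = Q (a + b + c - (o + o)) := by
      rw [← hcoset (a + b + c - (o + o)) o]; congr 1; abel
    rw [h1, h64 (a + b + c - (o + o)) (e8 none) (by decide +kernel) (sqNorm_e8 _),
      h32 a _ (by decide +kernel) sqNorm_leechU,
      h32 b _ (by decide +kernel) sqNorm_leechU,
      h32 c _ (by decide +kernel) sqNorm_leechU,
      h64 (a + b) (e8 none) (by decide +kernel) (sqNorm_e8 _),
      h64 (a + c) (e8 none) (by decide +kernel) (sqNorm_e8 _),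
      h64 (b + c) (e8 none) (by decide +kernel) (sqNorm_e8 _), c64] at h
    linear_combination h - two (Q Cfsg.Spor.leechU)
  have key : ∀ v : Lam, Q v = ((Cfsg.sqNorm v.1 / 16 : ℤ) : ZMod 2) * Q Cfsg.Spor.leechV := by
    intro v
    obtain ⟨y, hy, h⟩ := exists_short v
    obtain ⟨z, hz⟩ := mem_twoLam.1 h
    have h1 : v = y + (z + z) := by rw [← two_nsmul, ← hz]; abel
    have h2 : ((Cfsg.sqNorm v.1 / 16 : ℤ) : ZMod 2) = ((Cfsg.sqNorm y.1 / 16 : ℤ) : ZMod 2) := by
      apply (ZMod.intCast_eq_intCast_iff' _ _ 2).2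
      have h3 : Cfsg.sqNorm v.1 = Cfsg.sqNorm y.1 + 4 * Cfsg.sqNorm z.1 +
          4 * Cfsg.dotInt y.1 z.1 := by
        rw [h1, AddSubgroup.coe_add, AddSubgroup.coe_add, sqNorm_add, dotInt_add_right,
          ← two_nsmul, sqNorm_two_nsmul]
        ring
      have := sixteen_dvd_sqNorm z.2
      have := sixteen_dvd_sqNorm y.2
      have := eight_dvd_dot y.2 z.2
      omega
    rw [h2, h1, hcoset]
    rcases norm_cases y.2 hy with h4 | h4 | h4 | h4
    · rw [show y = 0 from Subtype.ext h4, h0]; simp [Cfsg.sqNorm]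
    · rw [h32 y _ h4 sqNorm_leechU, c32, h4]
      exact (mul_eq_zero_of_left (by decide) _).symm
    · rw [h48 y _ h4 sqNorm_leechV, h4, show ((48 / 16 : ℤ) : ZMod 2) = 1 by decide, one_mul]
    · rw [h64 y _ h4 (sqNorm_e8 none), c64, h4]
      exact (mul_eq_zero_of_left (by decide) _).symm
  obtain ⟨u, hu⟩ := hne
  have h1 : Q Cfsg.Spor.leechV = 1 := by
    rcases zmod2_cases (Q Cfsg.Spor.leechV) with h | h
    · rw [key u, h, mul_zero] at hu; exact absurd rfl hu
    · exact h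
  rw [key v, h1, mul_one]

end Cfsg.Agent.S5552
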