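import Cfsg.Statements.S5712
import Cfsg.Agent.H26.SpXC
import Cfsg.Agent.H30.OrthMatrix
import Cfsg.Agent.H27.SympBasic
import Cfsg.Agent.H3.Cores
import Cfsg.Agent.S0247

set_option autoImplicit false
open Cfsg

namespace Cfsg.Agent.S5712

/-- Let F be a finite field of characteristic two, n ≥ 2, V = F^{2n} with the non-degenerate alternating form f(u, v) = Σ (u_i v_{n+i} + u_{n+i} v_i), and G the group of invertible matrices preserving f. Let a ≠ 0 be a vector, H its stabilizer in G, and X a subgroup of O₂(H) of order |F|^{2n−2} no element of which is a transvection (no element g has g − 1 of rank one). If L is a subgroup of G containing X that acts irreducibly on V (no proper non-zero L-invariant subspace), then L = G, or, for some quadratic form Q on V whose polar form is f, L is the isometry group of Q or its subgroup of the isometries g for which g − 1 has even rank, or |F| = 2, n = 2 and L is isomorphic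 to the alternating group of degree 6 or to the symmetric group of degree 5. -/
theorem result {F : Type*} [Field F] [Fintype F] [CharP F 2] {n : ℕ} (hn : 2 ≤ n) (a : (Fin n ⊕ Fin n → F)) (ha : a ≠ 0)
    (X : Subgroup (GL (Fin n ⊕ Fin n) F)) (hXG : X ≤ Cfsg.preserving (Units.coeHom (Matrix (Fin n ⊕ Fin n) (Fin n ⊕ Fin n) F)) (fun u v : (Fin n ⊕ Fin n → F) => ∑ i : Fin n, (u (Sum.inl i) * v (Sum.inr i) + u (Sum.inr i) * v (Sum.inl i))))
    (hXO : ∀ H : Subgroup (GL (Fin n ⊕ Fin n) F),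
      (∀ g : GL (Fin n ⊕ Fin n) F, g ∈ H ↔ (g ∈ Cfsg.preserving (Units.coeHom (Matrix (Fin n ⊕ Fin n) (Fin n ⊕ Fin n) F)) (fun u v : (Fin n ⊕ Fin n → F) => ∑ i : Fin n, (u (Sum.inl i) * v (Sum.inr i) + u (Sum.inr i) * v (Sum.inl i))) ∧ Matrix.mulVec (g : Matrix (Fin n ⊕ Fin n) (Fin n ⊕ Fin n) F) a = a)) →
      X ≤ (Cfsg.pCore 2 ↥H).map H.subtype)
    (hcard : Nat.card ↥X = Fintype.card F ^ (2 * n - 2))
    (hntv : ∀ x ∈ X, ((x : Matrix (Fin n ⊕ Fin n) (Fin n ⊕ Fin n) F) - 1).rank ≠ 1)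
    (L : Subgroup (GL (Fin n ⊕ Fin n) F)) (hXL : X ≤ L) (hLG : L ≤ Cfsg.preserving (Units.coeHom (Matrix (Fin n ⊕ Fin n) (Fin n ⊕ Fin n) F)) (fun u v : (Fin n ⊕ Fin n → F) => ∑ i : Fin n, (u (Sum.inl i) * v (Sum.inr i) + u (Sum.inr i) * v (Sum.inl i))))
    (hirr : ∀ W : Submodule F (Fin n ⊕ Fin n → F), (∀ g ∈ L, ∀ w ∈ W, Matrix.mulVec (g : Matrix (Fin n ⊕ Fin n) (Fin n ⊕ Fin n) F) w ∈ W) → W = ⊥ ∨ W = ⊤) :
    L = Cfsg.preserving (Units.coeHom (Matrix (Fin n ⊕ Fin n) (Fin n ⊕ Fin n) F)) (fun u v : (Fin n ⊕ Fin n → F) => ∑ i : Fin n, (u (Sum.inl i) * v (Sum.inr i) + u (Sum.inr i) * v (Sum.inl i))) ∨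
    (∃ Q : QuadraticForm F (Fin n ⊕ Fin n → F), (∀ u v, QuadraticMap.polar ⇑Q u v = (fun u v : (Fin n ⊕ Fin n → F) => ∑ i : Fin n, (u (Sum.inl i) * v (Sum.inr i) + u (Sum.inr i) * v (Sum.inl i))) u v) ∧
      (L = Cfsg.isometryGroup F ⇑Q ∨
        ∀ g : GL (Fin n ⊕ Fin n) F, g ∈ L ↔ (g ∈ Cfsg.isometryGroup F ⇑Q ∧ Even ((g : Matrix (Fin n ⊕ Fin n) (Fin n ⊕ Fin n) F) - 1).rank))) ∨
    (Fintype.card F = 2 ∧ n = 2 ∧ (Nonempty (↥L ≃* ↥(alternatingGroup (Fin 6))) ∨ Nonempty (↥L ≃* Equiv.Perm (Fin 5)))) := by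
  have h2 : (2 : F) = 0 := CharTwo.two_eq_zero
  let E := H30.glEquiv (Fin n ⊕ Fin n) F
  let B := H27.jBilin (Fin n) F
  have hB : ∀ u v, B u v = ∑ i : Fin n, (u (Sum.inl i) * v (Sum.inr i) + u (Sum.inr i) * v (Sum.inl i)) :=
    fun u v => by
      rw [H27.jBilin_apply_sum]
      exact Finset.sum_congr rfl fun i _ => by rw [CharTwo.sub_eq_add, add_comm]
  generalize hG : Cfsg.preserving (Units.coeHom (Matrix (Fin n ⊕ Fin n) (Fin n ⊕ Fin n) F)) (fun u v : (Fin n ⊕ Fin n → F) => ∑ i : Fin n, (u (Sum.inl i) * v (Sum.inr i) + u (Sum.inr i) * v (Sum.inl i))) = G at *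
  have hmem : ∀ g, g ∈ G ↔ E g ∈ H27.isomGroup B := fun g => by
    rw [← hG, H27.mem_isomGroup]
    simp only [hB]
    rfl
  have hL : ∀ g, E g ∈ L.map E.toMonoidHom ↔ g ∈ L := fun g =>
    Subgroup.mem_map_iff_mem E.injective
  have hS : H26.SpX B (L.map E.toMonoidHom) :=
    ⟨h2, H27.jBilin_isAlt, H27.jBilin_nondegenerate, by
      rintro _ ⟨g, hg, rfl⟩
      exact (hmem g).1 (hLG hg)⟩
  have hd : Module.finrank F (Fin n ⊕ Fin n → F) = 2 * n := by simp [two_mul]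
  have hrk : ∀ g : GL (Fin n ⊕ Fin n) F, ((g : Matrix (Fin n ⊕ Fin n) (Fin n ⊕ Fin n) F) - 1).rank =
      Module.finrank F (LinearMap.range ((E g : (Fin n ⊕ Fin n → F) →ₗ[F] (Fin n ⊕ Fin n → F)) -
        LinearMap.id)) := fun g => by
    have : ((g : Matrix (Fin n ⊕ Fin n) (Fin n ⊕ Fin n) F) - 1).mulVecLin =
        (E g : (Fin n ⊕ Fin n → F) →ₗ[F] (Fin n ⊕ Fin n → F)) - LinearMap.id :=
      LinearMap.ext fun v => by
        rw [Matrix.mulVecLin_apply, Matrix.sub_mulVec, Matrix.one_mulVec]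
        rfl
    rw [Matrix.rank, this]
  let H : Subgroup (GL (Fin n ⊕ Fin n) F) :=
    G ⊓ (MulAction.stabilizer _ a).comap E.toMonoidHom
  have hfull : H26.SFull B (L.map E.toMonoidHom) a := by
    refine hS.full_of_card ha (by omega) (((Cfsg.pCore 2 H).map H.subtype).map E.toMonoidHom)
      (((H3.pCore_isPGroup 2 H).map _).map _) ?_ ?_ (X.map E.toMonoidHom)
      (Subgroup.map_mono (hXO H fun g => Iff.rfl)) (Subgroup.map_mono hXL) ?_ ?_
    · rintro _ ⟨_, ⟨g, -, rfl⟩, rfl⟩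
      exact ⟨(hmem _).1 g.2.1, g.2.2⟩
    · rintro k hk hka _ ⟨_, ⟨g, hg, rfl⟩, rfl⟩
      obtain ⟨k, rfl⟩ := E.surjective k
      exact ⟨_, ⟨_, (Cfsg.pCore_normal 2 H).conj_mem' g hg ⟨k, (hmem k).2 hk, hka⟩, rfl⟩, by simp⟩
    · rw [Subgroup.card_map_of_injective E.injective, hcard, hd, Nat.card_eq_fintype_card]
    · rintro _ ⟨g, hg, rfl⟩
      exact hrk g ▸ hntv g hg
  have htop : L.map E.toMonoidHom = H27.isomGroup B → L = G := fun h =>
    Subgroup.ext fun g => by rw [← hL, h, hmem]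
  rcases hS.main ha hfull (by omega) (fun W hW => hirr W fun g hg => hW _ ((hL g).2 hg)) with
    h | ⟨Q, hQ, h⟩ | ⟨hF, h4, hc⟩
  · exact Or.inl (htop h)
  · have hO : ∀ g, g ∈ Cfsg.isometryGroup F ⇑Q ↔ E g ∈ H30.O Q := fun g =>
      ⟨fun hg v => hg v v, fun hg v _ => hg v⟩
    refine Or.inr (Or.inl ⟨Q, fun u v => (hQ u v).trans (hB u v), h.imp (fun h => ?_) fun h g => ?_⟩)
    · exact Subgroup.ext fun g => by rw [← hL, h, hO]
    · rw [← hL, h, hO, hrk]
  · have hq : Fintype.card F = 2 := by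
      rw [← Nat.card_eq_fintype_card]
      exact (Nat.card_eq_two_iff' 0).2 ⟨1, one_ne_zero, hF⟩
    obtain rfl : n = 2 := by omega
    obtain ⟨e⟩ := S0247.result hq
    let e' : H27.isomGroup B ≃* Equiv.Perm (Fin 6) := (H27.spEquiv (Fin 2) F).symm.trans e
    let i : L ≃* ((L.map E.toMonoidHom).subgroupOf (H27.isomGroup B)).map e'.toMonoidHom :=
      ((E.subgroupMap L).trans (Subgroup.subgroupOfEquivOfLe hS.le).symm).trans (e'.subgroupMap _)
    rcases H26.spx_six _ (by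
      rw [← Nat.card_congr i.toEquiv, ← Subgroup.card_map_of_injective (f := E.toMonoidHom) E.injective]
      exact hc) with h | h | h
    · refine Or.inl (htop (le_antisymm hS.le fun g hg => ?_))
      have : e' ⟨g, hg⟩ ∈ ((L.map E.toMonoidHom).subgroupOf (H27.isomGroup B)).map e'.toMonoidHom :=
        h ▸ Subgroup.mem_top _
      have := (Subgroup.mem_map_iff_mem (f := e'.toMonoidHom) e'.injective).1 this
      exact this
    · exact Or.inr (Or.inr ⟨hq, rfl, Or.inl ⟨i.trans h.some⟩⟩)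
    · exact Or.inr (Or.inr ⟨hq, rfl, Or.inr ⟨i.trans h.some⟩⟩)

end Cfsg.Agent.S5712
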