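import Cfsg.Statements.S5727
import Cfsg.Agent.S5726

set_option autoImplicit false
open Cfsg

namespace Cfsg.Agent.S5727

/-- If a finite group acts faithfully and transitively on a set with m·p elements, where p is a prime and 1 ≤ m ≤ p, then some element of order p fixes no point. -/
theorem result {G Ω : Type*} [Group G] [Finite G] [MulAction G Ω] [FaithfulSMul G Ω] [Fintype Ω] (htr : MulAction.IsPretransitive G Ω)
    (p m : ℕ) (hp : p.Prime) (hm : 1 ≤ m) (hmp : m ≤ p) (hΩ : Fintype.card Ω = m * p) :
    ∃ g : G, orderOf g = p ∧ ∀ ω : Ω, g • ω ≠ ω := by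
  classical
  rcases hmp.eq_or_lt with rfl | hlt
  · exact S5726.result htr m 2 hp (by norm_num) (by rw [hΩ, sq])
  haveI : Fact p.Prime := ⟨hp⟩
  obtain ⟨P⟩ : Nonempty (Sylow p G) := inferInstance
  haveI : Fintype (P : Subgroup G) := Fintype.ofFinite _
  -- every point stabiliser in `P` has index `p`
  have hidx : ∀ ω : Ω, (MulAction.stabilizer (P : Subgroup G) ω).index = p := by
    intro ω
    have h1 : (MulAction.stabilizer G ω).index = m * p := by
      rw [MulAction.index_stabilizer_of_transitive, Nat.card_eq_fintype_card, hΩ]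
    have h2 : (MulAction.stabilizer (P : Subgroup G) ω).index =
        (MulAction.orbit (P : Subgroup G) ω).ncard := MulAction.index_stabilizer _ ω
    have h3 : (MulAction.orbit (P : Subgroup G) ω).ncard ≤ m * p := by
      rw [← hΩ, ← Nat.card_eq_fintype_card]
      exact Set.ncard_le_card _
    obtain ⟨k, hk⟩ := P.isPGroup'.index (MulAction.stabilizer (P : Subgroup G) ω)
    have hk0 : k ≠ 0 := by
      rintro rfl
      rw [pow_zero, Subgroup.index_eq_one] at hk
      have hle : (P : Subgroup G) ≤ MulAction.stabilizer G ω := by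
        intro g hg
        have : (⟨g, hg⟩ : (P : Subgroup G)) ∈ MulAction.stabilizer (P : Subgroup G) ω :=
          hk ▸ Subgroup.mem_top _
        exact this
      have := Subgroup.index_dvd_of_le hle
      rw [h1] at this
      exact P.not_dvd_index ((dvd_mul_left p m).trans this)
    have hk2 : k < 2 := by
      rw [← h2, hk] at h3
      have : p ^ k < p ^ 2 := lt_of_le_of_lt h3 (by rw [sq]; exact Nat.mul_lt_mul_of_pos_right hlt hp.pos)
      exact (Nat.pow_lt_pow_iff_right hp.one_lt).1 this
    have : k = 1 := by omega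
    rw [hk, this, pow_one]
  have hnormal : ∀ ω : Ω, (MulAction.stabilizer (P : Subgroup G) ω).Normal := by
    intro ω
    apply Subgroup.normal_of_index_eq_minFac_card
    rw [hidx]
    obtain ⟨k, hk⟩ := IsPGroup.iff_card.1 P.isPGroup'
    have hk0 : k ≠ 0 := by
      rintro rfl
      have := (MulAction.stabilizer (P : Subgroup G) ω).index_dvd_card
      rw [hidx, hk, pow_zero] at this
      exact hp.one_lt.ne' (Nat.dvd_one.1 this)
    rw [hk, hp.pow_minFac hk0]
  -- some element of `P` has no fixed point
  have hex : ∃ g : (P : Subgroup G), ∀ ω : Ω, g • ω ≠ ω := by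
    by_contra hcon
    push Not at hcon
    have hfix : ∀ g : (P : Subgroup G), p ≤ (Finset.univ.filter fun ω : Ω => g • ω = ω).card := by
      intro g
      obtain ⟨ω, hω⟩ := hcon g
      have h2 : (MulAction.orbit (P : Subgroup G) ω).ncard = p := by
        rw [← MulAction.index_stabilizer, hidx]
      refine h2.symm.le.trans ?_
      rw [← Set.ncard_coe_finset]
      apply Set.ncard_le_ncard _ (Set.toFinite _)
      rintro _ ⟨h, rfl⟩
      have h3 : h⁻¹ * g * h⁻¹⁻¹ ∈ MulAction.stabilizer (P : Subgroup G) ω := (hnormal ω).conj_mem g hω h⁻¹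
      rw [MulAction.mem_stabilizer_iff, inv_inv, mul_smul, mul_smul, inv_smul_eq_iff] at h3
      simpa using h3
    have hstab : ∀ ω : Ω, (Finset.univ.filter fun g : (P : Subgroup G) => g • ω = ω).card * p =
        Fintype.card (P : Subgroup G) := by
      intro ω
      have := (MulAction.stabilizer (P : Subgroup G) ω).card_mul_index
      rw [hidx, Nat.card_eq_fintype_card, Nat.card_eq_fintype_card, Fintype.card_subtype] at this
      rw [← this]
      rfl
    have hsum : ∑ g : (P : Subgroup G), (Finset.univ.filter fun ω : Ω => g • ω = ω).card =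
        ∑ ω : Ω, (Finset.univ.filter fun g : (P : Subgroup G) => g • ω = ω).card := by
      simp only [Finset.card_filter]
      exact Finset.sum_comm
    have h1 : Fintype.card (P : Subgroup G) * p ≤
        ∑ g : (P : Subgroup G), (Finset.univ.filter fun ω : Ω => g • ω = ω).card := by
      have := Finset.card_nsmul_le_sum Finset.univ _ p (fun g _ => hfix g)
      simpa using this
    have h2 : (∑ ω : Ω, (Finset.univ.filter fun g : (P : Subgroup G) => g • ω = ω).card) * p =
        m * p * Fintype.card (P : Subgroup G) := by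
      rw [Finset.sum_mul]
      simp only [hstab]
      rw [Finset.sum_const, Finset.card_univ, hΩ, smul_eq_mul]
    rw [hsum] at h1
    have h3 : Fintype.card (P : Subgroup G) * p * p ≤ m * p * Fintype.card (P : Subgroup G) :=
      h2 ▸ Nat.mul_le_mul_right p h1
    have h4 : 0 < Fintype.card (P : Subgroup G) * p := Nat.mul_pos Fintype.card_pos hp.pos
    have h5 : Fintype.card (P : Subgroup G) * p * p ≤ Fintype.card (P : Subgroup G) * p * m := by
      calc _ ≤ _ := h3
        _ = _ := by ring
    have := Nat.le_of_mul_le_mul_left h5 h4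
    omega
  obtain ⟨g, hg⟩ := hex
  refine ⟨g, ?_, hg⟩
  have hne : Nonempty Ω := by
    rw [← Fintype.card_pos_iff, hΩ]; exact Nat.mul_pos hm hp.pos
  obtain ⟨ω₀⟩ := hne
  apply orderOf_eq_prime
  · apply FaithfulSMul.eq_of_smul_eq_smul (α := Ω)
    intro ω
    haveI := hnormal ω
    have := Subgroup.pow_index_mem (MulAction.stabilizer (P : Subgroup G) ω) g
    rw [hidx] at this
    rw [one_smul]
    exact this
  · intro h
    apply hg ω₀
    change (g : G) • ω₀ = ω₀
    rw [h, one_smul]

end Cfsg.Agent.S5727
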