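import Cfsg.Statements.S5728

set_option autoImplicit false
open Cfsg

namespace Cfsg.Agent.S5728

/-- An elusive transitive action. Let p = 2^s − 1 be a prime and let F be the field with p² elements. Inside the group of affine maps x ↦ a·x + b of F (a ≠ 0), consider the subgroup of maps with both coefficients in the prime field. Then every element of prime order of the affine group is conjugate, within the affine group, to an element of that subgroup; equivalently, in the transitive action of the affine group on the cosets of that subgroup (of degree p(p + 1)) every element of prime order fixes a point. -/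
theorem result (p s : ℕ) [Fact p.Prime] (hs : p = 2 ^ s - 1)
    (g : Equiv.Perm (GaloisField p 2)) (hg : g ∈ Cfsg.affineGroup (GaloisField p 2)) (hord : (orderOf g).Prime) :
    ∃ x ∈ Cfsg.affineGroup (GaloisField p 2), ∃ a b : ZMod p, a ≠ 0 ∧
      ∀ y : GaloisField p 2, (x * g * x⁻¹) y = algebraMap (ZMod p) (GaloisField p 2) a * y + algebraMap (ZMod p) (GaloisField p 2) b := by
  classical
  have hp : p.Prime := Fact.out
  obtain ⟨a, b, hab⟩ := hg
  by_cases ha : (a : (GaloisField p 2)) = 1
  · -- translation
    have hb : b ≠ 0 := by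
      intro hb
      have : g = 1 := by ext y; simp [hab, ha, hb]
      rw [this, orderOf_one] at hord
      exact Nat.not_prime_one hord
    refine ⟨Equiv.mulLeft₀ b⁻¹ (inv_ne_zero hb), ⟨Units.mk0 b⁻¹ (inv_ne_zero hb), 0, fun x => by simp⟩,
      1, 1, one_ne_zero, fun y => ?_⟩
    simp only [Equiv.Perm.coe_mul, Function.comp_apply, hab, ha, Equiv.Perm.coe_inv, map_one]
    simp [Equiv.mulLeft₀]
    field_simp
  · have ha1 : (a : (GaloisField p 2)) - 1 ≠ 0 := sub_ne_zero.2 ha
    set c : (GaloisField p 2) := b / ((a : (GaloisField p 2)) - 1) with hc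
    have hconj : ∀ y, (Equiv.addRight c * g * (Equiv.addRight c)⁻¹) y = (a : (GaloisField p 2)) * y := by
      intro y
      simp only [Equiv.Perm.coe_mul, Function.comp_apply, hab, Equiv.Perm.coe_inv]
      simp only [Equiv.addRight_symm, Equiv.coe_addRight, hc]
      field_simp
      ring
    have hpow : ∀ n : ℕ, ∀ y, ((Equiv.addRight c * g * (Equiv.addRight c)⁻¹) ^ n) y = (a : (GaloisField p 2)) ^ n * y := by
      intro n
      induction n with
      | zero => simp
      | succ n ih => intro y; rw [pow_succ', Equiv.Perm.mul_apply, ih, hconj]; ring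
    have har : (a : (GaloisField p 2)) ^ orderOf g = 1 := by
      have := hpow (orderOf g) 1
      rw [conj_pow, pow_orderOf_eq_one] at this
      simpa using this.symm
    have hao : orderOf (a : (GaloisField p 2)) = orderOf g := by
      haveI := Fact.mk hord
      exact orderOf_eq_prime har ha
    haveI : Fintype (GaloisField p 2) := Fintype.ofFinite (GaloisField p 2)
    have hcard : Fintype.card (GaloisField p 2) = p ^ 2 := by
      rw [← Nat.card_eq_fintype_card]; exact GaloisField.card p 2 two_ne_zero
    have hdvd : orderOf g ∣ p ^ 2 - 1 := by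
      rw [← hao, ← hcard]
      exact orderOf_dvd_of_pow_eq_one (FiniteField.pow_card_sub_one_eq_one _ a.ne_zero)
    have hs1 : p + 1 = 2 ^ s := by
      have : 0 < 2 ^ s := by positivity
      omega
    have hs0 : s ≠ 0 := by
      rintro rfl
      have := hp.two_le
      omega
    have hfac : p ^ 2 - 1 = (p + 1) * (p - 1) := by
      have := Nat.sq_sub_sq p 1
      simpa using this
    have hdvd' : orderOf g ∣ p - 1 := by
      rw [hfac] at hdvd
      rcases (Nat.Prime.dvd_mul hord).1 hdvd with h | h
      · rw [hs1] at h
        have h2 := (Nat.prime_dvd_prime_iff_eq hord Nat.prime_two).1 (hord.dvd_of_dvd_pow h)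
        rw [h2]
        have : 2 ∣ p + 1 := hs1 ▸ dvd_pow_self 2 hs0
        have := hp.two_le
        omega
      · exact h
    have hap : (a : (GaloisField p 2)) ^ p = a := by
      have h1 : (a : (GaloisField p 2)) ^ (p - 1) = 1 := orderOf_dvd_iff_pow_eq_one.1 (hao ▸ hdvd')
      calc (a : (GaloisField p 2)) ^ p = (a : (GaloisField p 2)) ^ (p - 1) * a := by rw [← pow_succ, Nat.sub_add_cancel hp.one_le]
        _ = a := by rw [h1, one_mul]
    have hmem : (a : (GaloisField p 2)) ∈ (⊥ : Subfield (GaloisField p 2)) := (Subfield.mem_bot_iff_pow_eq_self (GaloisField p 2) p).2 hap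
    have : ∃ a' : ZMod p, algebraMap (ZMod p) (GaloisField p 2) a' = a := by
      have h2 : (⊥ : Subfield (GaloisField p 2)) ≤ (algebraMap (ZMod p) (GaloisField p 2)).fieldRange := bot_le
      exact h2 hmem
    obtain ⟨a', ha'⟩ := this
    refine ⟨Equiv.addRight c, ⟨1, c, fun x => by simp⟩, a', 0, ?_, fun y => ?_⟩
    · rintro rfl
      exact a.ne_zero (by rw [← ha', map_zero])
    · rw [hconj, ha', map_zero, add_zero]

end Cfsg.Agent.S5728
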