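import Cfsg.Statements.S5735
import Cfsg.Agent.H94.BinaryOne

set_option autoImplicit false
open Cfsg

namespace Cfsg.Agent.S5735

/-- Let G be a finite simple group with exactly one conjugacy class of involutions, and let H be a proper subgroup of even order. Then the action of G on the cosets of H is binary if and only if one of the following holds: G ≅ SL₂(2^a) with a ≥ 2 and H is a Sylow 2-subgroup; G is a Suzuki group Sz(2^(2a+1)) with a ≥ 1 and H is the centre of a Sylow 2-subgroup; G ≅ PSU₃(2^a) with a ≥ 2 and H is the centre of a Sylow 2-subgroup. Here an action is binary (relational complexity 2) when, for every n ≥ 2 and all n-tuples I, J of points, if for every pair of positions some group element carries the corresponding pair of entries of I to those of J, then a single group element carries I to J. -/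
theorem result {G : Type*} [Group G] [Finite G] [IsSimpleGroup G] (hinv : ∃ s : G, orderOf s = 2)
    (hone : ∀ s t : G, orderOf s = 2 → orderOf t = 2 → IsConj s t)
    (H : Subgroup G) (hH : H ≠ ⊤) (heven : Even (Nat.card H)) :
    (∀ (n : ℕ) (I J : Fin n → G ⧸ H), 2 ≤ n →
        (∀ i j : Fin n, i ≠ j → ∃ g : G, g • I i = J i ∧ g • I j = J j) → ∃ g : G, ∀ i, g • I i = J i) ↔
      (((∃ (F : Type) (_ : Field F) (_ : Fintype F) (a : ℕ), 2 ≤ a ∧ Fintype.card F = 2 ^ a ∧ Nonempty (G ≃* Matrix.SpecialLinearGroup (Fin 2) F)) ∧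
          ∃ P : Sylow 2 G, H = P) ∨
        (Cfsg.Lie.IsoSuzuki G ∧ ∃ P : Sylow 2 G, H = (Subgroup.center (P : Subgroup G)).map (P : Subgroup G).subtype) ∨
        ((∃ (F : Type) (_ : Field F) (_ : Fintype F) (a : ℕ), 2 ≤ a ∧ Fintype.card F = (2 ^ a) ^ 2 ∧ Nonempty (G ≃* Cfsg.PSU 3 F (2 ^ a))) ∧
          ∃ P : Sylow 2 G, H = (Subgroup.center (P : Subgroup G)).map (P : Subgroup G).subtype)) := by
  change H29.IsBinary G (G ⧸ H) ↔ _
  have hsz : Cfsg.Lie.IsoSuzuki G → (H29.IsBinary G (G ⧸ H) ↔ H = ⊥ ∨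
      ∃ P : Sylow 2 G, H = (Subgroup.center (P : Subgroup G)).map (P : Subgroup G).subtype) := by
    rintro ⟨F, _, _, m, hm, hF, ⟨e⟩⟩
    have := H39.szField_of_card hm hF
    exact H94.sz_isBinary_iff ((H39.lieModel hF).comap e) hH
  have hbot : H ≠ ⊥ := by
    rintro rfl
    simp at heven
  constructor
  · intro h
    obtain ⟨s, hs, hs2⟩ := H10.even_card_iff.1 heven
    obtain ⟨M, hM⟩ := H94.exists_stronglyEmbedded_of_closed hone hH hs hs2
      fun a ha b a2 b2 hab => H94.bin_inv h (H94.hconj_of hone) ha (H10.ne_one_of_orderOf_two a2)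
        (H10.mul_self_of_orderOf_two a2) (H10.mul_self_of_orderOf_two b2) hab
    have hna : ∃ a b : G, a * b ≠ b * a := by
      by_contra! hc
      have : H.Normal := ⟨fun x hx g => by rwa [hc g, mul_inv_cancel_right]⟩
      exact (this.eq_bot_or_eq_top).elim hbot hH
    rcases H94.bender_simple_iso hna M hM with ⟨F, _, _, ⟨n, hn, hF⟩, ⟨e⟩⟩ | hS |
      ⟨F, _, _, n, hn, hF, ⟨e⟩⟩
    · have := H87.two_eq_zero_of_card hF
      have : CharP F 2 := CharTwo.of_one_ne_zero_of_two_eq_zero one_ne_zero this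
      obtain ⟨e'⟩ := H94.nonempty_psl_equiv_sl F
      refine Or.inl ⟨⟨F, inferInstance, inferInstance, n, hn, hF, ⟨e.trans e'⟩⟩, ?_⟩
      have h4 := Nat.pow_le_pow_right (n := 2) (by norm_num) hn
      have h2 : 2 ∣ 2 ^ n := dvd_pow_self 2 (by omega)
      have hc : Nat.card (H.comap e.symm.toMonoidHom) = Nat.card H := by
        rw [MulEquiv.toMonoidHom_eq_coe, ← Subgroup.map_equiv_eq_comap_symm,
          Subgroup.card_map_of_injective e.injective]
      have hH' : H = (H.comap e.symm.toMonoidHom).map e.symm.toMonoidHom :=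
        (Subgroup.map_comap_eq_self_of_surjective e.symm.surjective H).symm
      rcases (S5736.result (F := F) (by omega) (by omega) (H.comap e.symm.toMonoidHom)
        (fun h' => hH (by rw [hH', h', Subgroup.map_top_of_surjective _ e.symm.surjective]))).1
        (H94.isBinary_comap h e.symm.surjective) with h1 | ⟨-, P, h1⟩ | ⟨-, h1⟩
      · exact absurd (by rw [hH', h1, Subgroup.map_bot]) hbot
      · have : Finite (Matrix.ProjectiveSpecialLinearGroup (Fin 2) F) :=
          Finite.of_equiv _ e.toEquiv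
        exact ⟨P.mapSurjective (f := e.symm.toMonoidHom) e.symm.surjective, by
          rw [hH', h1]; rfl⟩
      · rw [← hc, h1] at heven
        exact absurd heven (by decide)
    · exact Or.inr (Or.inl ⟨hS, ((hsz hS).1 h).resolve_left hbot⟩)
    · refine Or.inr (Or.inr ⟨⟨F, inferInstance, inferInstance, n, hn, hF, ⟨e⟩⟩, ?_⟩)
      have hsq := H94.sq_of_psu3 hn hF e h hH heven
      obtain ⟨P, h1, h2⟩ := H94.eq_of_sq hone h heven hsq
      exact ⟨P, le_antisymm (fun x hx => (H94.omega_psu3 hF e P x).2 ⟨h1 hx, hsq x hx⟩)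
        fun x hx => h2 x hx ((H94.omega_psu3 hF e P x).1 hx).2⟩
  · rintro (⟨⟨F, _, _, n, hn, hF, ⟨e⟩⟩, P, rfl⟩ | ⟨hS, hP⟩ | ⟨⟨F, _, _, n, hn, hF, ⟨e⟩⟩, P, rfl⟩)
    · have := H87.two_eq_zero_of_card hF
      have : CharP F 2 := CharTwo.of_one_ne_zero_of_two_eq_zero one_ne_zero this
      obtain ⟨e'⟩ := H94.nonempty_psl_equiv_sl F
      have : Finite (Matrix.ProjectiveSpecialLinearGroup (Fin 2) F) :=
        Finite.of_equiv _ (e.trans e'.symm).toEquiv
      obtain ⟨h1, h2⟩ := H87.psl2_even (F := F)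
      exact H94.isBinary_of_omega (h1.of_equiv (e.trans e'.symm)) P fun x =>
        ⟨fun hx => ⟨hx, by rw [← sq]; exact (h2.of_equiv (e.trans e'.symm)).sq P x hx⟩,
          fun hx => hx.1⟩
    · exact (hsz hS).2 (Or.inr hP)
    · have : Finite (PSU 3 F (2 ^ n)) := Finite.of_equiv _ e.toEquiv
      exact H94.isBinary_of_omega ((H87.psu3_data hF).1.of_equiv e) P (H94.omega_psu3 hF e P)

end Cfsg.Agent.S5735
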