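import Cfsg.Statements.S5740
import Cfsg.Agent.H34.TwE6Loc

set_option autoImplicit false
open Cfsg

namespace Cfsg.Agent.S5740

/-- In the simple group ²E₆(2) (the twisted group of type E₆ over the field with 4 elements), for every prime p > 5 no p-local subgroup is maximal: the normaliser of a non-trivial p-subgroup is never a maximal subgroup. -/
theorem result {K : Type*} [Field K] [Fintype K] (hK : Fintype.card K = 4) (p : ℕ) (hp : p.Prime) (h5 : 5 < p)
    (P : Subgroup (Cfsg.Lie.twistedE6 K 2)) (hP : IsPGroup p P) (hP1 : P ≠ ⊥) :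
    ¬ IsCoatom (Subgroup.normalizer (P : Set (Cfsg.Lie.twistedE6 K 2))) := by
  have := Fact.mk hp
  have := H34.finite_twE6_two hK
  have h1 : p ∣ 2 ^ 36 * 3 ^ 9 * 5 ^ 2 * 7 ^ 2 * 11 * 13 * 17 * 19 := by
    obtain ⟨n, hn⟩ := hP.exists_card_eq
    rw [← H34.card_twE6_two hK]
    refine (dvd_pow_self p ?_).trans (hn ▸ Subgroup.card_subgroup_dvd_card P)
    rintro rfl
    exact hP1 (Subgroup.card_eq_one.1 hn)
  simp only [hp.dvd_mul, or_assoc] at h1
  have h2 : ∀ {q n : ℕ}, q.Prime → p ∣ q ^ n → p = q := fun hq h =>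
    (Nat.prime_dvd_prime_iff_eq hp hq).1 (hp.dvd_of_dvd_pow h)
  have h3 : ∀ {q : ℕ}, q.Prime → p ∣ q → p = q := fun hq => (Nat.prime_dvd_prime_iff_eq hp hq).1
  rcases h1 with h | h | h | h | h | h | h | h
  · have := h2 (by norm_num) h; omega
  · have := h2 (by norm_num) h; omega
  · have := h2 (by norm_num) h; omega
  · obtain rfl := h2 (by norm_num) h; exact H34.loc7 hK hP hP1
  · obtain rfl := h3 (by norm_num) h; exact H34.loc11 hK hP hP1
  · obtain rfl := h3 (by norm_num) h; exact H34.loc13 hK hP hP1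
  · obtain rfl := h3 (by norm_num) h; exact H34.loc17 hK hP hP1
  · obtain rfl := h3 (by norm_num) h; exact H34.loc19 hK hP hP1


end Cfsg.Agent.S5740
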