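import Cfsg.Statements.S5744
import Cfsg.Agent.H37.Y333
import Cfsg.Agent.H37.ThreeCl
import Cfsg.Agent.S2604
import Cfsg.Agent.H47.O7Main

set_option autoImplicit false
open Cfsg

namespace Cfsg.Agent.S5744

/-- The simple group ²E₆(2) (the twisted group of type E₆ over the field with 4 elements) contains at least three pairwise non-conjugate subgroups isomorphic to the orthogonal group Ω₇(3) (the commutator subgroup of the isometry group of x₀² + x₁y₁ + x₂y₂ + x₃y₃ over the field with 3 elements). -/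
theorem result {K : Type*} [Field K] [Fintype K] (hK : Fintype.card K = 4) :
    ∃ H : Fin 3 → Subgroup (Cfsg.Lie.twistedE6 K 2),
      (∀ i, Nonempty ((H i) ≃* Cfsg.Omega (ZMod 3) (Cfsg.quadFormOdd 3 (ZMod 3)))) ∧
      (∀ i j, i ≠ j → ∀ g : (Cfsg.Lie.twistedE6 K 2), (H i).map (MulAut.conj g).toMonoidHom ≠ H j) := by
  obtain ⟨ω, h2, hω, -⟩ := H37.Y3.exists_omega hK
  obtain ⟨e⟩ := H47.O7.gen_equiv_pomega (H47.O7.sat_shift ((H37.Y3.nd_sat h2 hω).mono fun _ => List.mem_append_left _))
    (H37.Y3.nd_ne h2 hω (by norm_num) (by norm_num))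
  obtain ⟨f⟩ := S2604.result (F := ZMod 3) (p := 3) (m := 3) le_rfl (by simp) (by norm_num) le_rfl
  obtain ⟨H, h3, h4⟩ := H37.three_classes hK (by simpa using Nat.card_congr f.toEquiv)
    (Ψ := (Subgroup.subtype _).comp e.symm.toMonoidHom) (Subtype.val_injective.comp e.symm.injective)
    fun P hP => H37.Y3.commutant h2 hω fun x h1 h3 => by
      simpa [H37.Y3.coe_nd hω] using hP (e ⟨_, H44.mem_gen _ h1 h3⟩)
  have h5 : (2 : ZMod 3) ≠ 0 := by decide
  have hQ := H30.qOdd_nondegenerate h5 3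
  have h6 : Subgroup.center (Omega (ZMod 3) (H30.qOdd (ZMod 3) 3)) = ⊥ := eq_bot_iff.2 fun g hg => by
    rcases (H30.mem_center_Omega_iff hQ (H30.not_isExc_of_two h5) (by simp) g).1 hg with h | h
    · exact Subtype.ext (Subtype.ext (Units.ext h))
    · have h7 := ((H30.mem_kerDS hQ).1 ((H30.mem_Omega_iff_kerDS hQ (H30.not_isExc_of_two h5) _).1 g.2)).1
      rw [← H30.det_eq_one_iff_dickson hQ h5, H30.det_isoEquiv, h, Matrix.det_neg, Matrix.det_one] at h7
      exact absurd h7 (by decide)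
  exact ⟨H, fun i => (h3 i).map (·.trans ((QuotientGroup.quotientMulEquivOfEq h6).trans QuotientGroup.quotientBot)), h4⟩

end Cfsg.Agent.S5744
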