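import Cfsg.Statements.S5748
import Cfsg.Agent.H11.AbCent
import Cfsg.Agent.S0183
import Cfsg.Agent.H77.PSL2
import Cfsg.Agent.H89.SylowSmall

set_option autoImplicit false
open Cfsg

namespace Cfsg.Agent.S5748

open Cfsg.Agent.H11

/-- A finite non-abelian simple group in which commuting is a transitive relation on the non-identity elements (equivalently, every non-identity element has abelian centraliser) is isomorphic to PSL₂ over a field with 2^f elements for some f ≥ 2; conversely these groups have that property. -/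
theorem result {G : Type*} [Group G] [Finite G] [IsSimpleGroup G] (hG : ¬ IsMulCommutative G) :
    (∀ a b c : G, a ≠ 1 → b ≠ 1 → c ≠ 1 → Commute a b → Commute b c → Commute a c) ↔
    ∃ (F : Type) (_ : Field F) (_ : Fintype F) (f : ℕ), 2 ≤ f ∧ Fintype.card F = 2 ^ f ∧ Nonempty (G ≃* Matrix.ProjectiveSpecialLinearGroup (Fin 2) F) := by
  constructor
  · intro h
    have hc : ∀ t a b : G, t ≠ 1 → Commute a t → Commute b t → Commute a b := by
      intro t a b ht ha hb
      by_cases ha1 : a = 1
      · exact ha1 ▸ Commute.one_left b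
      by_cases hb1 : b = 1
      · exact hb1 ▸ Commute.one_right a
      exact h a t b ha1 ht hb1 ha hb.symm
    have hA : AC G := fun t a b ht => hc t a b (H10.ne_one_of_orderOf_two ht)
    have he : 2 ∣ Nat.card G := even_iff_two_dvd.1 (Nat.not_odd_iff_even.1 fun ho =>
      (fun hs => hG ⟨⟨IsSimpleGroup.comm_iff_isSolvable.2 hs⟩⟩) (Cfsg.Agent.S0183.result ho fun g hg => by
        let _ : CommGroup (Subgroup.centralizer ({g} : Set G)) :=
          ⟨fun a b => Subtype.ext (hc g a b hg (Subgroup.mem_centralizer_singleton_iff.1 a.2)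
            (Subgroup.mem_centralizer_singleton_iff.1 b.2))⟩
        infer_instance))
    obtain ⟨T⟩ : Nonempty (Sylow 2 G) := inferInstance
    have hT := H89.not_isCyclic_sylow_two hG he T
    rcases hA.structure (hA.rk2 T hT) with h2 | ⟨F, _, _, A, h2, h3, -, h4, ⟨e⟩⟩
    · rcases (hA.normal_of_commute h2 T).eq_bot_or_eq_top with h3 | h3
      · exact (hT (h3 ▸ inferInstance)).elim
      · exact (hG ⟨⟨fun a b => hA.sylow_comm T (h3 ▸ trivial) (h3 ▸ trivial)⟩⟩).elim
    · have h5 : A = ⊥ := le_bot_iff.1 (h4.trans (((Subgroup.Normal.eq_bot_or_eq_top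
        inferInstance).resolve_right fun h5 => hG ⟨⟨fun a b =>
          Subgroup.mem_center_iff.1 (h5 ▸ trivial) a⟩⟩).le))
      subst h5
      obtain ⟨n, -, hn⟩ := FiniteField.card F 2
      refine ⟨F, inferInstance, inferInstance, n, ?_, hn,
        ⟨e.trans (MulEquiv.prodUnique.trans (H57.psl2EquivSL2 F).symm)⟩⟩
      by_contra h5
      have : 2 ^ (n : ℕ) ≤ 2 ^ 1 := Nat.pow_le_pow_right two_pos (by omega)
      omega
  · rintro ⟨F, _, _, f, -, hF, ⟨e⟩⟩ a b c ha hb hc hab hbc
    have : CharP F 2 := charP_of_card_eq_prime_pow hF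
    let e' := e.trans (H57.psl2EquivSL2 F)
    have key : ∀ x : G, x ≠ 1 → ¬ H77.IsScal ((e' x : H77.SL2 F) : H77.M2 F) := fun x hx h1 => by
      have h2 := H77.pm_eq_one_iff.2 h1
      rw [← map_one (H77.pm F)] at h2
      exact hx (e'.map_eq_one_iff.1 (H77.pm_injective (CharP.cast_eq_zero F 2) h2))
    have h1 := H77.sl_cent_eq_of_mem (key b hb) (key a ha)
      (Subgroup.mem_centralizer_singleton_iff.2 (hab.map e'))
    have h2 : e' c ∈ Subgroup.centralizer {e' a} :=
      h1 ▸ Subgroup.mem_centralizer_singleton_iff.2 (hbc.map e').symm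
    exact e'.injective (by
      rw [map_mul, map_mul, Subgroup.mem_centralizer_singleton_iff.1 h2])

end Cfsg.Agent.S5748
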