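import Cfsg.Statements.S5823
import Cfsg.Agent.H25.SmallES
import Cfsg.Agent.H25.SpMax
-- import your own Cfsg.Agent.* helpers here

set_option autoImplicit false
open Cfsg

namespace Cfsg.Agent.S5823

/-- Every maximal subgroup of Sp_8(q) is of one of the listed geometric types or lies in the residual class. Let F be a finite field with q elements, f the standard alternating form on F^8 (coordinates Fin 4 ⊕ Fin 4), and H a maximal subgroup of Sp_8(F) (inside GL_8(F)). Then H is the intersection with Sp_8(F) of one of: the stabiliser of a non-zero totally isotropic subspace; the stabiliser of a non-degenerate 2-space; for q ≥ 3, the stabiliser of a decomposition into four mutually orthogonal non-degenerate 2-spaces; of a decomposition into two orthogonal non-degenerate 4-spaces; for q odd, of a decomposition into two totally isotropic 4-spaces; the normaliser of a degree-2 subfield K,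 self-adjoint with f(k v, v) = 0; for q odd, the normaliser of a degree-2 subfield closed under adjoints but not self-adjoint; for q odd, the stabiliser of a tensor decomposition of f into an alternating form on F^2 and a minus-type symmetric form on F^4; a subfield group (|F| = |F₀|^r, r prime) whose F₀-structure carries a non-zero multiple of f; for q = p an odd prime, the normaliser of an absolutely irreducible extraspecial group 2_-^(1+6) of exponent 4 inside the similarity group of f; for q odd, q ≥ 5, the stabiliser of a tensor decomposition of f as a third tensor power of an alternating form on F^2; for q even, the similarity group of a non-degenerate quadratic form polarising to f — or else H lies in the residual class of the symplectic case. -/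
theorem result {F : Type*} [Field F] [Fintype F] (H : Subgroup (Matrix.GeneralLinearGroup (Fin 4 ⊕ Fin 4) F)) (hH : Cfsg.Geo.IsMaximalIn (Cfsg.spGL 4 F) H) :
    (∃ W : Submodule F (Fin 4 ⊕ Fin 4 → F), W ≠ ⊥ ∧ Cfsg.Geo.IsTotallySingularFor (Cfsg.sympForm 4 F) W ∧ H = Cfsg.Geo.subspaceStabilizer W ⊓ Cfsg.spGL 4 F) ∨
    (∃ W : Submodule F (Fin 4 ⊕ Fin 4 → F), W ≠ ⊥ ∧ Cfsg.Geo.IsNondegenerateOn (Cfsg.sympForm 4 F) W ∧ Module.finrank F W < 4 ∧ H = Cfsg.Geo.subspaceStabilizer W ⊓ Cfsg.spGL 4 F) ∨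
    (3 ≤ Fintype.card F ∧ ∃ D : Fin 4 → Submodule F (Fin 4 ⊕ Fin 4 → F), Cfsg.Geo.IsNondegenerateMDecomposition (Cfsg.sympForm 4 F) 2 D ∧ H = Cfsg.Geo.decompositionStabilizer D ⊓ Cfsg.spGL 4 F) ∨
    (∃ D : Fin 2 → Submodule F (Fin 4 ⊕ Fin 4 → F), Cfsg.Geo.IsNondegenerateMDecomposition (Cfsg.sympForm 4 F) 4 D ∧ H = Cfsg.Geo.decompositionStabilizer D ⊓ Cfsg.spGL 4 F) ∨
    (Odd (Fintype.card F) ∧ ∃ D : Fin 2 → Submodule F (Fin 4 ⊕ Fin 4 → F), Cfsg.Geo.IsMDecomposition 4 D ∧ (∀ i, Cfsg.Geo.IsTotallySingularFor (Cfsg.sympForm 4 F) (D i)) ∧ H = Cfsg.Geo.decompositionStabilizer D ⊓ Cfsg.spGL 4 F) ∨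
    (∃ K : Subalgebra F (Matrix (Fin 4 ⊕ Fin 4) (Fin 4 ⊕ Fin 4) F), Cfsg.Geo.IsFieldSubalgebra 2 K ∧ Cfsg.Geo.IsSelfAdjointFor (Cfsg.sympForm 4 F) K ∧ (∀ k ∈ K, ∀ v : (Fin 4 ⊕ Fin 4 → F), (Cfsg.sympForm 4 F) (Matrix.mulVec k v) v = 0) ∧ H = Cfsg.Geo.subalgebraNormalizer K ⊓ Cfsg.spGL 4 F) ∨
    (Odd (Fintype.card F) ∧ ∃ K : Subalgebra F (Matrix (Fin 4 ⊕ Fin 4) (Fin 4 ⊕ Fin 4) F), Cfsg.Geo.IsFieldSubalgebra 2 K ∧ Cfsg.Geo.IsAdjointClosedFor (Cfsg.sympForm 4 F) K ∧ ¬ Cfsg.Geo.IsSelfAdjointFor (Cfsg.sympForm 4 F) K ∧ H = Cfsg.Geo.subalgebraNormalizer K ⊓ Cfsg.spGL 4 F) ∨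
    (Odd (Fintype.card F) ∧ ∃ (e : (Fin 4 ⊕ Fin 4) ≃ Fin 2 × Fin 4) (P : Matrix.GeneralLinearGroup (Fin 4 ⊕ Fin 4) F) (f₁ : (Fin 2 → F) → (Fin 2 → F) → F) (f₂ : (Fin 4 → F) → (Fin 4 → F) → F), Cfsg.Geo.IsSymplecticForm f₁ ∧ Cfsg.Geo.IsSymmetricForm f₂ ∧ ¬ Cfsg.Geo.IsPlusTypeOn (fun v : Fin 4 → F => f₂ v v) ⊤ ∧ Cfsg.Geo.IsTensorFormStructure id (Cfsg.sympForm 4 F) f₁ f₂ e P ∧ H = Cfsg.Geo.tensorProductSubgroup 2 4 e P ⊓ Cfsg.spGL 4 F) ∨
    (∃ (F₀ : Subfield F) (r : ℕ) (P : Matrix.GeneralLinearGroup (Fin 4 ⊕ Fin 4) F) (ζ : F), r.Prime ∧ Fintype.card F = Nat.card F₀ ^ r ∧ ζ ≠ 0 ∧ Cfsg.Geo.IsFormRationalStructure (Cfsg.sympForm 4 F) F₀ ζ P ∧ H = Cfsg.Geo.subfieldSubgroup F₀ P ⊓ Cfsg.spGL 4 F) ∨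
    (∃ (p : ℕ) (R : Subgroup (Matrix.GeneralLinearGroup (Fin 4 ⊕ Fin 4) F)), p.Prime ∧ Odd p ∧ Fintype.card F = p ∧ Cfsg.Geo.IsSymplecticTypeGroup 2 R ∧ Cfsg.Geo.ActsAbsolutelyIrreducibly (Cfsg.Geo.matrixSet R) ∧ R ≤ Cfsg.Geo.similarityGroup (Cfsg.sympForm 4 F) ∧ Nat.card R = 128 ∧ Nat.card (Subgroup.center R) = 2 ∧ Cfsg.Geo.IsOfMinusType 3 R ∧ H = Cfsg.Geo.subgroupNormalizer R ⊓ Cfsg.spGL 4 F) ∨
    (Odd (Fintype.card F) ∧ 5 ≤ Fintype.card F ∧ ∃ (e : (Fin 4 ⊕ Fin 4) ≃ (Fin 3 → Fin 2)) (P : Matrix.GeneralLinearGroup (Fin 4 ⊕ Fin 4) F) (f₁ : (Fin 2 → F) → (Fin 2 → F) → F), Cfsg.Geo.IsSymplecticForm f₁ ∧ Cfsg.Geo.IsTensorPowerFormStructure id (Cfsg.sympForm 4 F) f₁ e P ∧ H = Cfsg.Geo.tensorWreathSubgroup 2 3 e P ⊓ Cfsg.spGL 4 F) ∨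
    (¬ Odd (Fintype.card F) ∧ ∃ Q : (Fin 4 ⊕ Fin 4 → F) → F, Cfsg.Geo.IsNondegenerateQuadraticForm Q ∧ (∀ u v : (Fin 4 ⊕ Fin 4 → F), QuadraticMap.polar Q u v = (Cfsg.sympForm 4 F) u v) ∧ H = Cfsg.Geo.quadSimilarityGroup Q ⊓ Cfsg.spGL 4 F) ∨
    Cfsg.Geo.InSymplecticResidualClass H := by
  have hc := H25.card_sum_self 4
  have hqs := H25.qs_spGL (F := F) (m := 4) (by omega)
  have hf := H25.sq_of_symplectic (H27.isSymplecticForm_sympForm (F := F) 4)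
  rcases H25.sp_max (by omega) (by omega) hH with
    ⟨W, h1, h2, h3⟩ | ⟨W, h1, h2, h3, h4, h5, h6⟩ | ⟨t, k, D, h1, h2, h3, h4, h5, h6, h7⟩ |
    ⟨k, D, h1, h2, h3, h4, h5⟩ |
    ⟨F₀, r, P, ζ, h1, h2, h3, h4, h5⟩ | ⟨R, k, h1, h2, h3, h4, h5, h6, h7, h8, h9, h10⟩ |
    ⟨Q, h1, h2, h3, h4⟩ | ⟨r, K, h1, h2, h3, h4, h5, h6⟩ | ⟨K, h1, h2, h3, h4, h5⟩ |
    ⟨a, b, e, P, f₁, f₂, h1, h2, h3, h4, h5, h6, h7, h8, h9, h10, h11⟩ |
    ⟨e, P, f₁, h1, h2, h3, h4, h5, h6⟩ | h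
  · exact Or.inl ⟨W, h1, h2, h3⟩
  · exact Or.inr (Or.inl ⟨W, h1, h2, by omega, h6⟩)
  · rw [hc] at h5
    have ht : t ≤ 8 := by nlinarith
    obtain ⟨rfl, rfl⟩ | ⟨rfl, rfl⟩ : (t = 4 ∧ k = 2) ∨ (t = 2 ∧ k = 4) := by
      obtain ⟨j, rfl⟩ := h4
      interval_cases t <;> omega
    · iterate 2 right
      exact Or.inl ⟨h6 rfl, D, h1, h7⟩
    · iterate 3 right
      exact Or.inl ⟨D, h1, h7⟩
  · obtain rfl : k = 4 := by omega
    iterate 4 right
    exact Or.inl ⟨h1, D, h3, h4, h5⟩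
  · iterate 8 right
    exact Or.inl ⟨F₀, r, P, ζ, h1, h2, h3, h4, h5⟩
  · obtain rfl : k = 3 := Nat.pow_right_injective (le_refl 2) (h3.symm.trans hc)
    iterate 9 right
    exact Or.inl ⟨_, R, h5, h6, rfl, h4, H25.absIrr_of_galg_eq_top h1, h2.trans H25.isom_le_sim,
      h7, h8, h9, h10⟩
  · iterate 11 right
    exact Or.inl ⟨h1, Q, h2, h3, h4⟩
  · rw [hc] at h2
    obtain rfl : r = 2 := (Nat.prime_dvd_prime_iff_eq h1 Nat.prime_two).1
      (h1.dvd_of_dvd_pow (n := 2) (Nat.dvd_of_mul_dvd_mul_left two_pos h2))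
    iterate 5 right
    exact Or.inl ⟨K, h3, h4, h5, h6⟩
  · iterate 6 right
    exact Or.inl ⟨h1, K, h2, h3, h4, h5⟩
  · rw [hc] at h5
    have ha : a ≤ 2 := by nlinarith
    obtain rfl : a = 2 := by omega
    obtain rfl : b = 4 := by omega
    by_cases hp : Cfsg.Geo.IsPlusTypeOn (fun v : Fin 4 → F => f₂ v v) ⊤
    swap
    · iterate 7 right
      exact Or.inl ⟨h1, e, P, f₁, f₂, h8, h9, hp, h10, h11⟩
    have hTD := H25.tensorData_of hf (H25.sq_of_symplectic h8) (H25.sq_of_symmetric h9)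
      (Or.inr ⟨rfl, rfl⟩) (Or.inl rfl) h10
    have hT := H25.presT_of_le_tensor (h11.le.trans inf_le_left)
    have hS := hH.1.le.trans H25.isom_le_sim
    by_cases h3 : Fintype.card F = 3
    · obtain ⟨R, hR, hN, hI⟩ := hTD.exists_ES_three h3 hf hp hT hS
      have hZ := ((hR.card_center_two (by omega)).resolve_left (by omega)).2
      have hst := hR.isSymplecticTypeGroup_two (by omega)
      iterate 9 right
      refine Or.inl ⟨3, R, Nat.prime_three, by decide, h3, hst,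
        H25.absIrr_of_galg_eq_top hR.galg_top, hI.trans H25.isom_le_sim, ?_, hZ,
        hR.isOfMinusType (by omega) hf (H27.isSymplecticForm_sympForm 4).alternating le_rfl hI hc,
        H25.eq_inf_of_max hH hN.le_normalizer
          (hqs.not_le_normalizer_p hR.galg_top hst (H25.nb_of_le hI))⟩
      rw [hR.card_eq, hZ, hc]
      norm_num
    · obtain ⟨e', P', h12, h13⟩ := hTD.exists_cube (H25.two_ne_zero_of_odd h1) hf hp hT hS
      iterate 10 right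
      exact Or.inl ⟨h1, H25.five_le_of_odd h1 h3, e', P', _, H25.isSymplecticForm_det2, h12,
        H25.eq_inf_of_max hH h13 (hqs.not_le_wreath le_rfl (by omega) (by omega) (by omega))⟩
  · iterate 10 right
    exact Or.inl ⟨h1, h2, e, P, f₁, h4, h5, h6⟩
  · iterate 12 right
    exact h

end Cfsg.Agent.S5823
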