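import Cfsg.Statements.S5847
import Cfsg.Agent.H25.OMax
-- import your own Cfsg.Agent.* helpers here

set_option autoImplicit false
open Cfsg

namespace Cfsg.Agent.S5847

/-- Every maximal subgroup of Ω_10^+(q) is of one of the listed geometric types or lies in the residual class. Let F be a finite field with q elements (characteristic p), Q a non-degenerate quadratic form on F^10 of plus type (Witt index 5: some totally singular 5-space), Ω the commutator subgroup of its isometry group, and H a maximal subgroup of Ω (inside GL_10(F)). Then H is the intersection with Ω of one of: the stabiliser of a non-zero totally singular subspace of dimension ≠ 4; for q odd, the stabiliser of a non-degenerate subspace of odd dimension ≠ 5; the stabiliser of a non-degenerate 2-space of minus type; for q ≥ 4, the stabiliser of a non-degenerate 2-space of plus type; the stabiliser of a non-degenerate 4-space; for q even, the stabiliser of the span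 of a non-singular vector; for q = p prime with p ≡ 1 mod 4, the stabiliser of a decomposition into 10 pairwise orthogonal, pairwise isometric non-degenerate 1-spaces; for q ≥ 7, the stabiliser of a decomposition into 5 pairwise orthogonal, pairwise isometric non-degenerate 2-spaces; for q ≡ 1 mod 4, the stabiliser of a decomposition into 2 pairwise orthogonal, pairwise isometric non-degenerate 5-spaces; for q ≡ 3 mod 4, the stabiliser of a decomposition into two orthogonal, non-isometric non-degenerate 5-spaces; for q odd, the normaliser of a degree-2 subfield of the matrix algebra, self-adjoint for the polar form; a subfield group (|F| = |F₀|^r, r prime) whose F₀-structure carries a non-zero multiple of Q — or else H lies in the residual class of the orthogonal case (modulo scalars H is almost simple, with absolutely irreducible perfect socle preimage realisable over no proper subfield and fixing no non-degenerate unitary form).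 -/
theorem result {F : Type*} [Field F] [Fintype F] (Q : (Fin 10 → F) → F) (hQ : Cfsg.Geo.IsNondegenerateQuadraticForm Q) (hplus : Cfsg.Geo.IsPlusTypeOn Q ⊤) (H : Subgroup (Matrix.GeneralLinearGroup (Fin 10) F)) (hH : Cfsg.Geo.IsMaximalIn (Cfsg.Geo.omegaGL Q) H) :
    (∃ W : Submodule F (Fin 10 → F), W ≠ ⊥ ∧ Cfsg.Geo.IsTotallySingularQuad Q W ∧ Module.finrank F W ≠ 4 ∧ H = Cfsg.Geo.subspaceStabilizer W ⊓ Cfsg.Geo.omegaGL Q) ∨
    (Odd (Fintype.card F) ∧ ∃ W : Submodule F (Fin 10 → F), W ≠ ⊥ ∧ W ≠ ⊤ ∧ Odd (Module.finrank F W) ∧ 2 * Module.finrank F W ≠ 10 ∧ Cfsg.Geo.IsNondegenerateOn (QuadraticMap.polar Q) W ∧ H = Cfsg.Geo.subspaceStabilizer W ⊓ Cfsg.Geo.omegaGL Q) ∨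
    (∃ W : Submodule F (Fin 10 → F), Module.finrank F W = 2 ∧ Cfsg.Geo.IsNondegenerateOn (QuadraticMap.polar Q) W ∧ ¬ Cfsg.Geo.IsPlusTypeOn Q W ∧ H = Cfsg.Geo.subspaceStabilizer W ⊓ Cfsg.Geo.omegaGL Q) ∨
    (4 ≤ Fintype.card F ∧ ∃ W : Submodule F (Fin 10 → F), Module.finrank F W = 2 ∧ Cfsg.Geo.IsNondegenerateOn (QuadraticMap.polar Q) W ∧ Cfsg.Geo.IsPlusTypeOn Q W ∧ H = Cfsg.Geo.subspaceStabilizer W ⊓ Cfsg.Geo.omegaGL Q) ∨
    (∃ W : Submodule F (Fin 10 → F), Module.finrank F W = 4 ∧ Cfsg.Geo.IsNondegenerateOn (QuadraticMap.polar Q) W ∧ H = Cfsg.Geo.subspaceStabilizer W ⊓ Cfsg.Geo.omegaGL Q) ∨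
    (¬ Odd (Fintype.card F) ∧ ∃ v : (Fin 10 → F), Q v ≠ 0 ∧ H = Cfsg.Geo.subspaceStabilizer (Submodule.span F {v}) ⊓ Cfsg.Geo.omegaGL Q) ∨
    ((∃ p : ℕ, p.Prime ∧ Fintype.card F = p ∧ (p % 4 = 1)) ∧ ∃ D : Fin 10 → Submodule F (Fin 10 → F), Cfsg.Geo.IsOrthogonalMDecomposition Q 1 D ∧ H = Cfsg.Geo.decompositionStabilizer D ⊓ Cfsg.Geo.omegaGL Q) ∨
    (7 ≤ Fintype.card F ∧ ∃ D : Fin 5 → Submodule F (Fin 10 → F), Cfsg.Geo.IsOrthogonalMDecomposition Q 2 D ∧ H = Cfsg.Geo.decompositionStabilizer D ⊓ Cfsg.Geo.omegaGL Q) ∨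
    (Fintype.card F % 4 = 1 ∧ ∃ D : Fin 2 → Submodule F (Fin 10 → F), Cfsg.Geo.IsOrthogonalMDecomposition Q 5 D ∧ H = Cfsg.Geo.decompositionStabilizer D ⊓ Cfsg.Geo.omegaGL Q) ∨
    (Fintype.card F % 4 = 3 ∧ ∃ D : Fin 2 → Submodule F (Fin 10 → F), Cfsg.Geo.IsNondegenerateMDecomposition (QuadraticMap.polar Q) 5 D ∧ ¬ Cfsg.Geo.AreIsometricFor Q (D 0) (D 1) ∧ H = Cfsg.Geo.decompositionStabilizer D ⊓ Cfsg.Geo.omegaGL Q) ∨
    (Odd (Fintype.card F) ∧ ∃ K : Subalgebra F (Matrix (Fin 10) (Fin 10) F), Cfsg.Geo.IsFieldSubalgebra 2 K ∧ Cfsg.Geo.IsSelfAdjointFor (QuadraticMap.polar Q) K ∧ H = Cfsg.Geo.subalgebraNormalizer K ⊓ Cfsg.Geo.omegaGL Q) ∨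
    (∃ (F₀ : Subfield F) (r : ℕ) (P : Matrix.GeneralLinearGroup (Fin 10) F) (ζ : F), r.Prime ∧ Fintype.card F = Nat.card F₀ ^ r ∧ ζ ≠ 0 ∧ Cfsg.Geo.IsQuadFormRationalStructure (fun v : Fin 10 → F => ζ * Q v) F₀ P ∧ H = Cfsg.Geo.subfieldSubgroup F₀ P ⊓ Cfsg.Geo.omegaGL Q) ∨
    Cfsg.Geo.InOrthogonalResidualClass H := by
  have hc : Fintype.card (Fin 10) = 10 := Fintype.card_fin _
  have hn : Even (Fintype.card (Fin 10)) := by rw [hc]; decide
  rcases H25.o_max hQ (by omega) (by omega) (by omega) hH with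
    ⟨W, h1, h2, h3, h4⟩ | ⟨W, h1, h2, h3, h4, h5, h6, h7, h8, h9⟩ |
    ⟨k, D, h1, h2, h3, h4, h5, h6, h7⟩ | ⟨v, h1, h2, h3⟩ |
    ⟨t, k, D, h1, h2, h3, h4, h5, h6, h7, h8, h9, h10, h11⟩ | ⟨k, D, h1, h2, h3, h4, h5, h6⟩ |
    ⟨F₀, r, P, ζ, h1, h2, h3, h4, h5, h6⟩ | ⟨r, K, h1, h2, h3, h4, h5, h6, h7, h8⟩ |
    ⟨K, h1, h2, h3, h4, h5, h6, h7⟩ | ⟨e, P, f₁, f₂, h1, h2, h3, h4, h5, h6, h7, h8, h9⟩ |
    ⟨e, P, f₁, f₂, h1, h2, h3, h4, h5, h6, h7, h8⟩ | ⟨e, P, f₁, h1, h2, h3, h4, h5⟩ | h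
  · exact Or.inl ⟨W, h1, h2, fun h0 => h3 hplus (by omega), h4⟩
  · rw [hc] at h5 h8
    rcases Nat.even_or_odd (Module.finrank F W) with he | ho
    swap
    · refine Or.inr (Or.inl ⟨h6 ho, W, h1, h2, ho, fun h0 => ?_, h3, h9⟩)
      exact Nat.not_even_iff_odd.2 ho (h8 h0).1
    obtain ⟨j, hj⟩ := he
    by_cases hd : Module.finrank F W = 2
    · by_cases hp : Cfsg.Geo.IsPlusTypeOn Q W
      · iterate 3 right
        exact Or.inl ⟨h7 hd hp, W, hd, h3, hp, h9⟩
      · iterate 2 right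
        exact Or.inl ⟨W, hd, h3, hp, h9⟩
    iterate 4 right
    exact Or.inl ⟨W, by omega, h3, h9⟩
  · obtain rfl : k = 5 := by omega
    have := Nat.odd_iff.1 h2
    iterate 9 right
    exact Or.inl ⟨by have := h6.1 hplus; omega, D, h4, h5, h7⟩
  · iterate 5 right
    exact Or.inl ⟨h1, v, h2, h3⟩
  · rw [hc] at h4
    have ht : t ≤ 10 := by nlinarith
    have key : Odd k → Even t → Fintype.card F % 4 = 1 := fun hk he => by
      have hq := h6 hk
      have HH := (H25.plus_iff_of_even hQ (H25.two_ne_zero_of_odd hq) h1 he (m := 5) hc).trans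
        (H25.isSquare_neg_one_iff_of_odd hq (by decide))
      exact (HH.1 hplus)
    obtain ⟨rfl, rfl⟩ | ⟨rfl, rfl⟩ | ⟨rfl, rfl⟩ :
        (t = 10 ∧ k = 1) ∨ (t = 5 ∧ k = 2) ∨ (t = 2 ∧ k = 5) := by
      interval_cases t <;> omega
    · iterate 6 right
      exact Or.inl ⟨⟨_, h5 rfl, rfl, key (by decide) (by decide)⟩, D, h1, h11⟩
    · iterate 7 right
      exact Or.inl ⟨h8 rfl fun i => (H25.plus_iff_of_odd hQ h1 (by decide) (by decide) i).1 hplus,
        D, h1, h11⟩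
    · iterate 8 right
      exact Or.inl ⟨key (by decide) (by decide), D, h1, h11⟩
  · obtain ⟨j, hj⟩ := h1
    omega
  · iterate 11 right
    exact Or.inl ⟨F₀, r, P, ζ, h1, h2, h3, h5, h6⟩
  · rw [hc] at h2 h4 h5
    obtain rfl : r = 2 := by
      rcases (h1.dvd_mul (m := 2) (n := 5)).1 h2 with h0 | h0
      · exact (Nat.prime_dvd_prime_iff_eq h1 Nat.prime_two).1 h0
      · have := (Nat.prime_dvd_prime_iff_eq h1 Nat.prime_five).1 h0
        omega
    iterate 10 right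
    exact Or.inl ⟨by_contra fun h0 => by have := h5 h0; omega, K, h6, h7, h8⟩
  · have := h1.1 hplus
    omega
  · omega
  · omega
  · omega
  · iterate 12 right
    exact h

end Cfsg.Agent.S5847
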