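import Cfsg.Statements.S5852
import Cfsg.Agent.H32.TensMain
import Cfsg.Agent.H32.MonomialSL
import Cfsg.Agent.H26.PC8
import Cfsg.Agent.H26.SL5
import Cfsg.Agent.H32.PwGeo
import Cfsg.Agent.H77.SgMain
import Cfsg.Agent.H25.C6Fin

set_option autoImplicit false
open Cfsg

namespace Cfsg.Agent.S5852

/-- Maximal subgroups of SL_11(q) of geometric type, for a finite field F with q elements (any q); p denotes the characteristic. Each of the following subgroups of GL_11(F), intersected with SL_11(F), is a maximal subgroup of SL_11(F): (1) the stabiliser of any proper non-zero subspace of F^11; (2) for q ≥ 5, the stabiliser of any decomposition of F^11 into 11 independent 1-spaces; (3) the normaliser of any degree-11 subfield of the 11 × 11 matrix algebra over F (a commutative subalgebra of dimension 11 in which every non-zero element is invertible); (4) every subfield group (a conjugate of GL_11(F₀) times the scalars of F) for a subfield F₀ with |F| = |F₀|^r, r prime; (5) for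 q = p prime with p ≡ 1 mod 11, or q = p⁵ with p ≡ 3, 4, 5 or 9 mod 11, the normaliser of any absolutely irreducible 11-subgroup R of exponent 11 and order 11^(1+2m) with centre of order 11, all of whose characteristic abelian subgroups are cyclic, F being the smallest field of characteristic p containing the eleventh roots of unity (here R is extraspecial of order 11³); (6) for q odd, the group of similarities of any non-degenerate quadratic form on F^11; (7) the group of similarities of any non-degenerate unitary form on F^11 (these exist exactly when q is a square). -/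
theorem result {F : Type*} [Field F] [Fintype F] :
    (∀ W : Submodule F (Fin 11 → F), W ≠ ⊥ → W ≠ ⊤ → Cfsg.Geo.IsMaximalIn (Cfsg.Geo.specialLinear (Fin 11) F) (Cfsg.Geo.subspaceStabilizer W ⊓ Cfsg.Geo.specialLinear (Fin 11) F)) ∧
    (5 ≤ Fintype.card F → ∀ D : Fin 11 → Submodule F (Fin 11 → F), Cfsg.Geo.IsMDecomposition 1 D → Cfsg.Geo.IsMaximalIn (Cfsg.Geo.specialLinear (Fin 11) F) (Cfsg.Geo.decompositionStabilizer D ⊓ Cfsg.Geo.specialLinear (Fin 11) F)) ∧
    (∀ K : Subalgebra F (Matrix (Fin 11) (Fin 11) F), Cfsg.Geo.IsFieldSubalgebra 11 K → Cfsg.Geo.IsMaximalIn (Cfsg.Geo.specialLinear (Fin 11) F) (Cfsg.Geo.subalgebraNormalizer K ⊓ Cfsg.Geo.specialLinear (Fin 11) F)) ∧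
    (∀ (F₀ : Subfield F) (r : ℕ) (P : Matrix.GeneralLinearGroup (Fin 11) F), r.Prime → Fintype.card F = Nat.card F₀ ^ r → Cfsg.Geo.IsMaximalIn (Cfsg.Geo.specialLinear (Fin 11) F) (Cfsg.Geo.subfieldSubgroup F₀ P ⊓ Cfsg.Geo.specialLinear (Fin 11) F)) ∧
    ((∃ p : ℕ, p.Prime ∧ CharP F p ∧ ((Fintype.card F = p ∧ p % 11 = 1) ∨ (Fintype.card F = p ^ 5 ∧ (p % 11 = 3 ∨ p % 11 = 4 ∨ p % 11 = 5 ∨ p % 11 = 9)))) → ∀ R : Subgroup (Matrix.GeneralLinearGroup (Fin 11) F), Cfsg.Geo.IsLinearSymplecticTypeData 11 R → Cfsg.Geo.IsMaximalIn (Cfsg.Geo.specialLinear (Fin 11) F) (Cfsg.Geo.subgroupNormalizer R ⊓ Cfsg.Geo.specialLinear (Fin 11) F)) ∧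
    (Odd (Fintype.card F) → ∀ Q : (Fin 11 → F) → F, Cfsg.Geo.IsNondegenerateQuadraticForm Q → Cfsg.Geo.IsMaximalIn (Cfsg.Geo.specialLinear (Fin 11) F) (Cfsg.Geo.quadSimilarityGroup Q ⊓ Cfsg.Geo.specialLinear (Fin 11) F)) ∧
    (∀ (σ : F ≃+* F) (f : (Fin 11 → F) → (Fin 11 → F) → F), Cfsg.Geo.IsUnitaryForm σ f → Cfsg.Geo.IsMaximalIn (Cfsg.Geo.specialLinear (Fin 11) F) (Cfsg.Geo.similarityGroup f ⊓ Cfsg.Geo.specialLinear (Fin 11) F)) := by
  exact ⟨fun _ h0 h1 => H32.isMaximalIn_subspaceStabilizer_specialLinear h0 h1,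
    fun hq D hD => H32.isMaximalIn_decompositionStabilizer_one D hD (by simp) hq,
    fun _ hK => H77.Sg.field_max (by simp) (by norm_num) hK,
    fun F₀ r P hr hF => H26.sl_c5 (by simp) (H26.subalgebra_eq_bot_or_top hr hF)
      (H26.exists_notMem_subfield hr hF) P,
    fun ⟨p, hp, hc, h⟩ R hR => H25.C6.pieces.c6 (n := 5) (p := p) (fun ω hω =>
      ⟨Or.inr ⟨rfl, rfl⟩, hp, hc, h.imp_right (And.imp_right fun e => Or.inr ⟨rfl, e⟩), hω⟩)
      (Or.inr rfl) hR,
    fun hq _ hQ => H26.sl_c8_o (H30.two_ne_zero_iff_odd_card.2 hq) hQ (by simp),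
    fun _ _ hf => H26.sl_c8_su hf (by simp)⟩

end Cfsg.Agent.S5852
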