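import Cfsg.Statements.S5883
import Cfsg.Agent.H99.FiMax

set_option autoImplicit false
open Cfsg

namespace Cfsg.Agent.S5883

/-- The constant 10 in the statement that H⁽¹⁰⁾ is perfect for every maximal subgroup H of a finite almost simple group cannot be lowered to 9: there exist a finite almost simple group G (with a non-abelian simple normal subgroup of trivial centralizer) and a maximal subgroup H of G whose ninth derived subgroup H⁽⁹⁾ is not perfect, i.e. H⁽¹⁰⁾ ≠ H⁽⁹⁾. (A solvable maximal subgroup of derived length 10 in the Fischer group Fi₂₃ is such an example.) -/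
theorem result :
    ∃ (G : Type) (_ : Group G) (_ : Finite G) (S H : Subgroup G), S.Normal ∧ IsSimpleGroup S ∧ ¬ IsMulCommutative S ∧
      Subgroup.centralizer (S : Set G) = ⊥ ∧ IsCoatom H ∧ derivedSeries H 10 ≠ derivedSeries H 9 := by
  have := H41.simple23
  let e := Subgroup.subgroupOfEquivOfLe (inf_le_left : H99.HB.NZ ≤ H41.L23.F.grp)
  have hc : Subgroup.center H41.L23.F.grp ≠ ⊤ := fun h => by
    have h1 : ∀ x y : H99.HB.NZ, Commute x y := fun x y => Subtype.ext
      (congrArg (fun g : H41.L23.F.grp => g.1) (Subgroup.mem_center_iff.1 (h.ge (Subgroup.mem_top ⟨y.1, y.2.1⟩)) ⟨x.1, x.2.1⟩))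
    exact H99.HB.q_nc 0 (h1 _ _)
  refine ⟨H41.L23.F.grp, inferInstance, inferInstance, ⊤, H99.HB.NZ.subgroupOf _, inferInstance,
    Subgroup.topEquiv.isSimpleGroup, fun h => hc (eq_top_iff.2 fun x _ => Subgroup.mem_center_iff.2 fun y =>
      congrArg Subtype.val (h.is_comm.comm ⟨y, trivial⟩ ⟨x, trivial⟩)), ?_, H99.HB.isCoatom_NZ, fun h => ?_⟩
  · rw [Subgroup.coe_top, Subgroup.centralizer_univ]
    exact (Subgroup.Normal.eq_bot_or_eq_top inferInstance).resolve_right hc
  · exact H99.HB.derived_ne (by
      rw [← map_derivedSeries_eq (f := e.toMonoidHom) e.surjective, h, map_derivedSeries_eq e.surjective])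

end Cfsg.Agent.S5883
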