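import Cfsg.Statements.S5904

set_option autoImplicit false
open scoped Pointwise
open Cfsg

namespace Cfsg.Agent.S5904

/-- Let Ω be a finite set with more than two elements and O ⊆ Ω a subset with exactly as many elements as its complement. Then the setwise stabilizer of O in the symmetric group on Ω is not a maximal subgroup (it is properly contained in the stabilizer of the partition {O, Ω ∖ O}, which is proper). -/
theorem result {Ω : Type*} [Fintype Ω] [DecidableEq Ω] (hΩ : 2 < Fintype.card Ω)
    (O : Set Ω) (hO : Nat.card O = Nat.card ↥Oᶜ) :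
    ¬ IsCoatom (MulAction.stabilizer (Equiv.Perm Ω) O) := by
  intro hco
  classical
  obtain ⟨e⟩ : Nonempty (O ≃ ↥Oᶜ) := Finite.card_eq.1 hO
  -- the stabiliser of the partition
  let K : Subgroup (Equiv.Perm Ω) :=
    { carrier := {g | (∀ x, g x ∈ O ↔ x ∈ O) ∨ (∀ x, g x ∈ O ↔ x ∉ O)}
      one_mem' := Or.inl fun x => Iff.rfl
      mul_mem' := by
        rintro a b (ha | ha) (hb | hb)
        · exact Or.inl fun x => by rw [Equiv.Perm.mul_apply, ha, hb]
        · exact Or.inr fun x => by rw [Equiv.Perm.mul_apply, ha, hb]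
        · exact Or.inr fun x => by rw [Equiv.Perm.mul_apply, ha, hb]
        · exact Or.inl fun x => by rw [Equiv.Perm.mul_apply, ha, hb, not_not]
      inv_mem' := by
        rintro a (ha | ha)
        · exact Or.inl fun x => by rw [← ha (a⁻¹ x)]; simp
        · refine Or.inr fun x => ?_
          have := ha (a⁻¹ x)
          simp only [Equiv.Perm.coe_inv, Equiv.apply_symm_apply] at this ⊢
          tauto }
  have hmem : ∀ g : Equiv.Perm Ω, g ∈ MulAction.stabilizer (Equiv.Perm Ω) O ↔ ∀ x, g x ∈ O ↔ x ∈ O := by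
    intro g
    rw [MulAction.mem_stabilizer_set]
    rfl
  have hcard : Nat.card O + Nat.card ↥Oᶜ = Fintype.card Ω := by
    rw [← Nat.card_eq_fintype_card, Nat.card_coe_set_eq, Nat.card_coe_set_eq, Set.ncard_add_ncard_compl]
  have hO2 : 1 < O.ncard := by
    rw [← Nat.card_coe_set_eq]; omega
  have hOc : 0 < Oᶜ.ncard := by
    rw [← Nat.card_coe_set_eq]; omega
  obtain ⟨a, a', ha, ha', haa⟩ := (Set.one_lt_ncard_iff (Set.toFinite O)).1 hO2
  obtain ⟨b, hb⟩ := (Set.ncard_pos (Set.toFinite Oᶜ)).1 hOc
  have hlt : MulAction.stabilizer (Equiv.Perm Ω) O < K := by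
    refine lt_of_le_of_ne (fun g hg => Or.inl ((hmem g).1 hg)) ?_
    intro h
    let e' : {x // x ∈ O} ≃ {x // x ∉ O} := e
    have hg : e'.extendSubtype ∈ K := by
      refine Or.inr fun x => ⟨fun h1 h2 => e'.extendSubtype_mem x h2 h1, fun h2 => ?_⟩
      simpa using e'.extendSubtype_not_mem x h2
    rw [← h, hmem] at hg
    exact e'.extendSubtype_mem a ha ((hg a).2 ha)
  have htop := hco.2 K hlt
  have hs : Equiv.swap a b ∈ K := htop ▸ Subgroup.mem_top _
  rcases hs with hs | hs
  · have := (hs a).2 ha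
    rw [Equiv.swap_apply_left] at this
    exact hb this
  · have hab : a' ≠ b := fun h => hb (h ▸ ha')
    have := (hs a').1 (by rw [Equiv.swap_apply_of_ne_of_ne haa.symm hab]; exact ha')
    exact this ha'

end Cfsg.Agent.S5904
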