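import Cfsg.Statements.S5894
import Cfsg.Agent.H33.PermBasic
import Cfsg.Agent.S5904

set_option autoImplicit false
open Cfsg

namespace Cfsg.Agent.S5894

open scoped Pointwise

/-- For every m ≥ 2 the symmetric group on 2m letters has a maximal subgroup M of index 2m together with a maximal subgroup H of M that is not second maximal: some maximal subgroup K of the symmetric group contains H without H being maximal in K. (One may take M the stabiliser of a letter, H ≅ S_m × S_{m−1} inside it, and K ≅ S_m ≀ S₂ the stabiliser of a partition into two m-sets, with H < S_m × S_m < K.) So the prime-index hypothesis in the second-maximality criterion cannot be relaxed to any even index ≥ 4. -/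
theorem result (m : ℕ) (hm : 2 ≤ m) :
    ∃ M H K : Subgroup (Equiv.Perm (Fin (2 * m))), IsCoatom M ∧ M.index = 2 * m ∧ H ≤ M ∧ IsCoatom (H.subgroupOf M) ∧
      IsCoatom K ∧ H ≤ K ∧ ¬ IsCoatom (H.subgroupOf K) := by
  classical
  have hcard : Fintype.card (Fin (2 * m)) = 2 * m := Fintype.card_fin _
  let a : Fin (2 * m) := ⟨2 * m - 1, by omega⟩
  let a' : Fin (2 * m) := ⟨2 * m - 2, by omega⟩
  let b : Fin (2 * m) := ⟨0, by omega⟩
  let O : Set (Fin (2 * m)) := {x | x.1 < m}
  have haO : a ∉ O := by simp [a, O]; omega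
  have haO' : a' ∉ O := by simp [a', O]; omega
  have haa : a ≠ a' := by simp [a, a', Fin.ext_iff]; omega
  have hbO : b ∈ O := by simp [b, O]; omega
  have hOcard : O.ncard = m := by
    have : O = (Finset.Iio (⟨m, by omega⟩ : Fin (2 * m)) : Set (Fin (2 * m))) := by
      ext x; simp [O, Fin.lt_def]
    rw [this, Set.ncard_coe_finset, Fin.card_Iio]
  have hOc : Oᶜ.ncard = m := by
    have := Set.ncard_add_ncard_compl O
    rw [hOcard, Nat.card_eq_fintype_card, hcard] at this
    omega
  have hnc : ¬ IsCoatom (MulAction.stabilizer (Equiv.Perm (Fin (2 * m))) O) :=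
    S5904.result (by omega) O (by rw [Nat.card_coe_set_eq, Nat.card_coe_set_eq, hOcard, hOc])
  have hne : MulAction.stabilizer (Equiv.Perm (Fin (2 * m))) O ≠ ⊤ :=
    Equiv.Perm.stabilizer_ne_top_of_nonempty_of_nonempty_compl ⟨b, hbO⟩ ⟨a, haO⟩
  obtain ⟨K, hK, hOK⟩ := (eq_top_or_exists_le_coatom _).resolve_left hne
  haveI : Nontrivial (Fin (2 * m)) := ⟨a, a', haa⟩
  refine ⟨MulAction.stabilizer _ a, MulAction.stabilizer _ O ⊓ MulAction.stabilizer _ a, K,
    MulAction.IsPreprimitive.isCoatom_stabilizer_of_isPreprimitive _ a, ?_, inf_le_right, ?_, hK,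
    inf_le_left.trans hOK, ?_⟩
  · rw [MulAction.index_stabilizer_of_transitive, Nat.card_eq_fintype_card, hcard]
  · rw [← H33.isCoatom_comap_mulEquiv (H33.permStabilizerEquiv a)]
    let O' : Set {x // x ≠ a} := Subtype.val ⁻¹' O
    have hO'card : O'.ncard = m := by
      refine Eq.trans ?_ hOcard
      apply Set.ncard_preimage_of_injective_subset_range Subtype.val_injective
      intro x hx
      exact ⟨⟨x, fun h => haO (h ▸ hx)⟩, rfl⟩
    have : ((MulAction.stabilizer _ O ⊓ MulAction.stabilizer _ a).subgroupOf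
        (MulAction.stabilizer (Equiv.Perm (Fin (2 * m))) a)).comap
          (H33.permStabilizerEquiv a).toMonoidHom = MulAction.stabilizer _ O' := by
      ext g
      rw [Subgroup.mem_comap, Subgroup.mem_subgroupOf, Subgroup.mem_inf, H33.mem_stabilizer_perm_set,
        H33.mem_stabilizer_perm_set]
      constructor
      · rintro ⟨h, -⟩ x
        have := h x
        rwa [MulEquiv.coe_toMonoidHom, H33.permStabilizerEquiv_apply_coe] at this
      · intro h
        refine ⟨fun x => ?_, SetLike.coe_mem _⟩
        by_cases hx : x = a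
        · rw [hx, MulEquiv.coe_toMonoidHom, H33.permStabilizerEquiv_apply_self]
        · have := H33.permStabilizerEquiv_apply_coe a g ⟨x, hx⟩
          rw [MulEquiv.coe_toMonoidHom, this]
          exact h ⟨x, hx⟩
    rw [this]
    apply Equiv.Perm.isCoatom_stabilizer
    · exact ⟨⟨b, fun h => haO (h ▸ hbO)⟩, hbO⟩
    · exact ⟨⟨a', haa.symm⟩, haO'⟩
    · rw [hO'card, Nat.card_eq_fintype_card, Fintype.card_subtype_compl, Fintype.card_subtype_eq, hcard]
      omega
  · rw [H33.isCoatom_subgroupOf_iff (inf_le_left.trans hOK)]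
    rintro ⟨-, h⟩
    apply hnc
    rw [h (MulAction.stabilizer _ O) _ hOK]
    · exact hK
    · refine lt_of_le_of_ne inf_le_left fun h' => ?_
      have h1 : Equiv.swap a a' ∈ MulAction.stabilizer (Equiv.Perm (Fin (2 * m))) O := by
        rw [← stabilizer_compl]
        exact Equiv.Perm.swap_mem_stabilizer haO haO'
      rw [← h'] at h1
      have h2 : Equiv.swap a a' a = a := h1.2
      rw [Equiv.swap_apply_left] at h2
      exact haa h2.symm

end Cfsg.Agent.S5894
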