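import Cfsg.Statements.S5918
import Cfsg.Agent.H50.E83Asm
import Cfsg.Agent.H50.E83Mu
import Cfsg.Agent.H50.E83Nact
import Cfsg.Agent.H5.E83T1
import Cfsg.Agent.H44.E83Inv11
import Cfsg.Agent.H4.E83Lam
import Cfsg.Agent.H24.E83EmbS
import Cfsg.Agent.H43.E83EmbU
import Cfsg.Agent.H28.E83EmbL
import Cfsg.Agent.H9.E83Br
import Cfsg.Agent.H70.E83S4
import Cfsg.Agent.H16.E83Tor
import Cfsg.Agent.H12.E83Lat2
import Cfsg.Agent.H40.E83Fin
import Cfsg.Agent.H36.E83Cnt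
import Cfsg.Agent.H80.E83Rep1a
import Cfsg.Agent.H52.E83Rep1b
import Cfsg.Agent.H92.E83L32
import Cfsg.Agent.H84.E83C41
import Cfsg.Agent.H62.E83T1a
import Cfsg.Agent.H64.E83SW
import Cfsg.Agent.H19.E83Not2A
import Cfsg.Agent.H68.E83Rep2
import Cfsg.Agent.H67.E83Tr4
import Cfsg.Agent.H86.E83Nf
import Cfsg.Agent.H69.E83C11
import Cfsg.Agent.H33.E83Fix3
import Cfsg.Agent.H23.E83Uni
import Cfsg.Agent.H30.E83T0
import Cfsg.Agent.H60.E83Lat
import Cfsg.Agent.H21.E83Lift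
import Cfsg.Agent.H90.E83Tor2
import Cfsg.Agent.H95.E83Tsk
import Cfsg.Agent.H10.E83Lb
import Cfsg.Agent.H44.E83S3
import Cfsg.Agent.H19.E83LamD
import Cfsg.Agent.H69.E83Div4

set_option autoImplicit false
open Cfsg

namespace Cfsg.Agent.S5918

/-- Let G be the Chevalley group of type E₈ over the field with three elements (generated by its root elements in the 248-dimensional adjoint representation; it is the simple group E₈(3)). Then G has no subgroup isomorphic to any of PSL₂(41), PSL₂(32), PSU₄(3) or PSp₆(3). Here F₄₁, F₃₂, F₉ denote fields with 41, 32 and 9 elements (PSU₄(3) is realised over F₉), and PSp₆(3) is the quotient of the symplectic group of 6 × 6 matrices over the field with three elements by its centre. -/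
theorem result
    {F₄₁ F₃₂ F₉ : Type*} [Field F₄₁] [Fintype F₄₁] (h41 : Fintype.card F₄₁ = 41) [Field F₃₂] [Fintype F₃₂] (h32 : Fintype.card F₃₂ = 32)
    [Field F₉] [Fintype F₉] (h9 : Fintype.card F₉ = 9) (H : Subgroup ↥(Cfsg.Lie.chevE8.group (ZMod 3))) :
    IsEmpty (↥H ≃* Matrix.ProjectiveSpecialLinearGroup (Fin 2) F₄₁) ∧ IsEmpty (↥H ≃* Matrix.ProjectiveSpecialLinearGroup (Fin 2) F₃₂) ∧
    IsEmpty (↥H ≃* Cfsg.PSU 4 F₉ 3) ∧ IsEmpty (↥H ≃* Cfsg.PSp 3 (ZMod 3)) := by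
  have mu := H50.E83.muStmt
  have na := H50.E83.nact
  have ng := H50.E83.negW
  have ss := H50.E83.ss
  have br := H9.E83B.br
  have tr := H67.E83Tr4.tr4Stmt mu ss
  have t0 := H30.E83T0.t0
  have t1 := H5.E83T1.t1 t0 H62.E83T1a.t1a
  have lb := H10.E83Lb.lb na
  have st := H69.E83C11.st11
  have inv0 := H90.E83Tor2.inv0 mu t1 H86.E83.nf1
  have tor2 := H90.E83Tor2.tor2 mu t1 H86.E83.nf1 H86.E83.nf2 H64.E83SW.s2w
  have s3 := H44.E83S3.s3 mu na lb H64.E83SW.s3w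
  have s4 := H70.E83S4.s4 mu na lb
  have tor := H16.E83Tor.tor mu br t1 tor2 s3 s4
  have lat := H50.E83.H60Lat.lat mu t0 (H12.E83L.lat2 H86.E83.z2)
  have nL := H92.E83L32.l32 mu br tr (H69.E83C11.c11 ss ng) (H33.E83Fix3.fix3 mu st H23.E83U.uni)
    (H44.E83Inv11.inv11 mu na ng st)
  have lift := H21.E83Lift.lift mu inv0 H80.E83Rep1a.rep1a (H52.E83Rep1b.rep1b mu) H68.E83.rep2
    H68.E83.uniq H95.E83T.tskS
  have fin := H40.E83Fin.fin (H4.E83Lam.lam H19.E83L.lamD) H69.E83Div4.div4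
  exact H50.E83.final h41 H H84.E83C41.c41 (H28.E83EmbL.embL F₃₂ h32) nL (H43.E83U.embU F₉ h9)
    (H50.E83.noU mu tr (H19.E83N.not2A mu br tr) tor lat) H24.E83s.embS
    (H50.E83.noS (H36.E83Cnt.cnt mu br tr) lift fin)

end Cfsg.Agent.S5918
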