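import Cfsg.Statements.S5921
import Cfsg.Agent.H50.L81Asm
import Cfsg.Agent.H10.L81Twe
import Cfsg.Agent.H12.L81CaseZ
import Cfsg.Agent.H13.L81G2a
import Cfsg.Agent.H15.L81Zel
import Cfsg.Agent.H16.L81F3
import Cfsg.Agent.H19.L81Ne
import Cfsg.Agent.H20.L81Sup
import Cfsg.Agent.H23.L81Comb
import Cfsg.Agent.H24.L81Aop
import Cfsg.Agent.H25.L81Add
import Cfsg.Agent.H27.L81Qf
import Cfsg.Agent.H28.L81N7
import Cfsg.Agent.H29.L81Perp
import Cfsg.Agent.H3.L81Eigx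
import Cfsg.Agent.H30.L81Stw
import Cfsg.Agent.H31.L81Ch1
import Cfsg.Agent.H36.L81Enum
import Cfsg.Agent.H38.L81Mono
import Cfsg.Agent.H39.L81Bt1
import Cfsg.Agent.H4.L81Fr
import Cfsg.Agent.H40.L81Y40
import Cfsg.Agent.H43.L81N7a
import Cfsg.Agent.H44.L81Nfx
import Cfsg.Agent.H47.L81Prs
import Cfsg.Agent.H49.L81Datz
import Cfsg.Agent.H5.L81Gen
import Cfsg.Agent.H51.L81Fixne
import Cfsg.Agent.H52.L81Wst
import Cfsg.Agent.H53.L81X41
import Cfsg.Agent.H54.L81G1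
import Cfsg.Agent.H55.L81Mult
import Cfsg.Agent.H59.L81Top
import Cfsg.Agent.H6.L81Good
import Cfsg.Agent.H60.L81Date
import Cfsg.Agent.H61.L81Ch2
import Cfsg.Agent.H62.L81Ne0
import Cfsg.Agent.H64.L81Ng
import Cfsg.Agent.H65.L81Frame
import Cfsg.Agent.H66.L81Ch
import Cfsg.Agent.H67.L81Kit
import Cfsg.Agent.H69.L81Y4
import Cfsg.Agent.H7.L81Cf
import Cfsg.Agent.H70.L81Ser
import Cfsg.Agent.H71.L81Red
import Cfsg.Agent.H72.L81Gwa
import Cfsg.Agent.H73.L81Mona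
import Cfsg.Agent.H74.L81N7c
import Cfsg.Agent.H74.L81Par
import Cfsg.Agent.H75.L81G2
import Cfsg.Agent.H76.L81Uni
import Cfsg.Agent.H77.L81Ind
import Cfsg.Agent.H79.L81Coc
import Cfsg.Agent.H8.L81Pr1
import Cfsg.Agent.H80.L81Char
import Cfsg.Agent.H81.L81Bt2
import Cfsg.Agent.H82.L81CaseE
import Cfsg.Agent.H83.L81Nrm
import Cfsg.Agent.H86.L81Hw
import Cfsg.Agent.H88.L81Bfix
import Cfsg.Agent.H9.L81Zz
import Cfsg.Agent.H90.L81Pol
import Cfsg.Agent.H92.L81CaseA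
import Cfsg.Agent.H94.L81Lin
import Cfsg.Agent.H95.L81Z1
import Cfsg.Agent.H98.L81Eigt
import Cfsg.Agent.H99.L81Exc

set_option autoImplicit false
open Cfsg

namespace Cfsg.Agent.S5921

/-- Let G be the Chevalley group of type E₈ over the field with three elements (generated by its root elements in the 248-dimensional adjoint representation; it is the simple group E₈(3)), let n ∈ {4, 5, 6, 7}, and let H be a subgroup of G whose generalized Fitting subgroup F*(H) is isomorphic to PSL₂(3ⁿ). Then H is not a maximal subgroup of G. Here F denotes a field with 3ⁿ elements. (The case n = 3 is not covered.) -/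
theorem result
    {F : Type*} [Field F] [Fintype F] (n : ℕ) (hn : n = 4 ∨ n = 5 ∨ n = 6 ∨ n = 7) (hF : Fintype.card F = 3 ^ n)
    (H : Subgroup ↥(Cfsg.Lie.chevE8.group (ZMod 3))) (hH : Nonempty (↥(Cfsg.generalizedFittingSubgroup ↥H) ≃* Matrix.ProjectiveSpecialLinearGroup (Fin 2) F)) :
    ¬ IsCoatom H := by
  have hParStmt := H74.L81Par.par
  have hSerStmt := H70.L81Ser.ser
  have hEigxStmt := H50.L81.eigx hParStmt
  have hMonoStmt := H38.L81Mono.mono_stmt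
  have hMonaStmt := H73.L81Mona.mona
  have hEigtStmt := H98.L81Eigt.eigt hParStmt hMonoStmt hMonaStmt
  have hMultStmt := H55.L81Mult.mult hParStmt hEigxStmt hEigtStmt
  have hUniStmt := H76.L81Uni.uni
  have hFrStmt := H4.L81Fr.frS hParStmt hUniStmt
  have hKitStmt := H67.L81Kit.kit
  have hQfStmt := H27.L81Qf.qfs
  have hX41Stmt := H53.L81X41.x41 hQfStmt
  have hY4Stmt := H69.L81Y4.y4
  have hY40Stmt := H40.L81Y40.y40 hQfStmt
  have hEnumStmt := H36.L81Enum.enum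
  have hCharStmt := H80.L81Char.char hParStmt hSerStmt hMultStmt hUniStmt hFrStmt hKitStmt hX41Stmt hY4Stmt hY40Stmt hEnumStmt
  have hFrameStmt := H65.L81Frame.frame
  have hZelStmt := H15.L81Zel.zel
  have hNrmStmt := H83.L81Nrm.nrm
  have hTopStmt := H59.L81Top.top
  have hHwStmt := H86.L81Hw.hw hParStmt hMonoStmt hMonaStmt
  have hBt1Stmt := H39.L81Bt1.bt1
  have hBt2Stmt := H81.L81Bt2.bt2
  have hSupStmt := H20.L81Sup.sup
  have hWstStmt := H52.L81Wst.wst hZelStmt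
  have hAddStmt := H25.L81Add.add
  have hCfStmt := H7.L81Cf.cf
  have hExcStmt := H99.L81Exc.exc hAddStmt hCfStmt
  have hPolStmt := H90.L81Pol.pol
  have hIndStmt := H77.L81Ind.ind hKitStmt hAddStmt hExcStmt hPolStmt
  have hGoodStmt := H6.L81Good.good hParStmt hSerStmt hKitStmt hHwStmt hZelStmt hBt1Stmt hBt2Stmt hSupStmt hWstStmt hTopStmt hIndStmt
  have hCombStmt0 := H23.L81Comb.comb0
  have hCombStmt1 := H23.L81Comb.comb1
  have hCombStmt2 := H23.L81Comb.comb2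
  have hCOMBALL : ∀ i < 3, H50.L81.CombStmt i := fun i hi => by
    interval_cases i
    exacts [hCombStmt0, hCombStmt1, hCombStmt2]
  have hStwStmt := H30.L81Stw.stw
  have hNgStmt := H64.L81Ng.ng hStwStmt
  have hCaseaStmt := H92.L81CaseA.casea hParStmt hFrameStmt hZelStmt hNrmStmt hTopStmt hGoodStmt hCOMBALL hStwStmt hNgStmt
  have hAopStmt := H24.L81Aop.aop
  have hBfixStmt := H88.L81Bfix.bfix hParStmt hMonoStmt hMonaStmt hSerStmt hAopStmt
  have hCocStmt := H79.L81Coc.coc hParStmt hMonoStmt hMonaStmt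
  have hZ1Stmt := H50.L81.Z1.z1 hCocStmt
  have hZzStmt := H9.L81Zz.zz hSerStmt hMultStmt hAopStmt hZ1Stmt
  have hPerpStmt := H29.L81Perp.perp hParStmt hUniStmt
  have hNfxStmt := H44.L81Nfx.nfx hParStmt hMonoStmt hMonaStmt
  have hPr1Stmt := H8.L81Pr1.pr1 hParStmt
  have hPrsStmt := H47.L81Prs.prs hMonoStmt hSerStmt hMultStmt hUniStmt hFrStmt hPerpStmt hZzStmt hNfxStmt hPr1Stmt
  have hGenStmt := H5.L81Gen.gen hParStmt hAopStmt
  have hG1Stmt := H54.L81G1.g1 hAopStmt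
  have hG2aStmt := H13.L81G2a.g2a hSerStmt hMultStmt hAopStmt hZzStmt hHwStmt hG1Stmt
  have hG2Stmt := H75.L81G2.g2 hAopStmt hGenStmt hG2aStmt
  have hFixneStmt := H51.L81Fixne.fixne hSerStmt hMultStmt hBfixStmt hZzStmt hPrsStmt hG2Stmt
  have hCh1Stmt := H31.L81Ch1.ch1
  have hCh2Stmt := H61.L81Ch2.ch2 hParStmt hCh1Stmt
  have hChStmt := H66.L81Ch.ch hParStmt hCh2Stmt
  have hDatzStmt := H49.L81Datz.datz
  have hCasezStmt := H12.L81CaseZ.casez hKitStmt hFixneStmt hFrameStmt hZelStmt hChStmt hNrmStmt hDatzStmt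
  have hDateStmt := H60.L81Date.date
  have hNe0Stmt := H62.L81Ne0.ne0 hDateStmt
  have hGwaStmt := H72.L81Gwa.gwa hDateStmt hKitStmt
  have hF3Stmt := H16.L81F3.f3
  have hNeStmt := H19.L81Ne.ne hDateStmt hGwaStmt
  have hLinStmt := H94.L81Lin.lin hZelStmt hGwaStmt
  have hTweStmt := H10.L81Twe.twe hNe0Stmt hGwaStmt hF3Stmt hNeStmt hLinStmt
  have hCaseeStmt := H82.L81CaseE.casee hParStmt hSerStmt hKitStmt hNfxStmt hFixneStmt hFrameStmt hZelStmt hChStmt hNrmStmt hTweStmt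
  have hN7aStmt := H43.L81N7a.n7a
  have hN7cStmt := H74.L81N7c.n7c
  exact H50.L81.fin_of H71.L81Red.red hParStmt hCharStmt hCaseaStmt hCasezStmt hCaseeStmt (H28.L81N7.n7 hN7aStmt hN7cStmt) n hn hF H hH

end Cfsg.Agent.S5921
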