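import Cfsg.Statements.S5935
import Cfsg.Agent.H50.E72Asm2
import Cfsg.Agent.H3.E72Num
import Cfsg.Agent.H31.E72Emb19
import Cfsg.Agent.H39.Emb27
import Cfsg.Agent.H15.E72D27
import Cfsg.Agent.H81.E72Sum
import Cfsg.Agent.H80.E72Span
import Cfsg.Agent.H29.E72L43a
import Cfsg.Agent.H69.E72L43b
import Cfsg.Agent.H72.E72L43c
import Cfsg.Agent.H64.E72L43
import Cfsg.Agent.H7.E72EmbO
import Cfsg.Agent.H61.E72NoQ
import Cfsg.Agent.H36.E72NoG
import Cfsg.Agent.H68.E72A1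
import Cfsg.Agent.H26.E72EmbA2
import Cfsg.Agent.H51.E72A13a
import Cfsg.Agent.H94.E72A13
import Cfsg.Agent.H60.E72EmbJ
import Cfsg.Agent.H53.E72Syl5
import Cfsg.Agent.H49.E72NoJ
import Cfsg.Agent.H37.E72Emb8
import Cfsg.Agent.H33.E72No8
import Cfsg.Agent.H59.E72EmbG
import Cfsg.Agent.H83.E72EmbU

set_option autoImplicit false
open Cfsg

namespace Cfsg.Agent.S5935

/-- The Chevalley group of type E₇ over the field with two elements (generated by its root elements in the adjoint representation; the simple group E₇(2)) has no maximal subgroup H whose generalized Fitting subgroup F*(H) is isomorphic to any of: PSL₂(19), PSL₂(27), PSL₄(3), PSU₄(3), Ω₇(3) (commutator subgroup of the isometry group of a non-degenerate quadratic form in dimension 7 over the field with three elements), the Chevalley group G₂(3), the alternating group of degree 13, the Hall–Janko sporadic group J₂, or the Chevalley group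 G₂(8). Here F₁₉, F₂₇, F₉, F₈ denote fields with 19, 27, 9 and 8 elements (PSU₄(3) is realised over F₉). -/
theorem result
    {F₁₉ F₂₇ F₉ F₈ : Type*} [Field F₁₉] [Fintype F₁₉] (h19 : Fintype.card F₁₉ = 19) [Field F₂₇] [Fintype F₂₇] (h27 : Fintype.card F₂₇ = 27)
    [Field F₉] [Fintype F₉] (h9 : Fintype.card F₉ = 9) [Field F₈] [Fintype F₈] (h8 : Fintype.card F₈ = 8) (H : Subgroup ↥(Cfsg.Lie.chevE7.group (ZMod 2))) (hH : IsCoatom H) :
    IsEmpty (↥(Cfsg.generalizedFittingSubgroup ↥H) ≃* Matrix.ProjectiveSpecialLinearGroup (Fin 2) F₁₉) ∧ IsEmpty (↥(Cfsg.generalizedFittingSubgroup ↥H) ≃* Matrix.ProjectiveSpecialLinearGroup (Fin 2) F₂₇) ∧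
    IsEmpty (↥(Cfsg.generalizedFittingSubgroup ↥H) ≃* Matrix.ProjectiveSpecialLinearGroup (Fin 4) (ZMod 3)) ∧ IsEmpty (↥(Cfsg.generalizedFittingSubgroup ↥H) ≃* Cfsg.PSU 4 F₉ 3) ∧
    IsEmpty (↥(Cfsg.generalizedFittingSubgroup ↥H) ≃* ↥(Cfsg.Omega (ZMod 3) (Cfsg.quadFormOdd 3 (ZMod 3)))) ∧ IsEmpty (↥(Cfsg.generalizedFittingSubgroup ↥H) ≃* ↥(Cfsg.Lie.chevG2.group (ZMod 3))) ∧
    IsEmpty (↥(Cfsg.generalizedFittingSubgroup ↥H) ≃* ↥(alternatingGroup (Fin 13))) ∧ ¬ Cfsg.Spor.IsoJ2 ↥(Cfsg.generalizedFittingSubgroup ↥H) ∧ IsEmpty (↥(Cfsg.generalizedFittingSubgroup ↥H) ≃* ↥(Cfsg.Lie.chevG2.group F₈)) := by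
  have kit := H30.E72Kit.kit
  have wt := H10.E72Wt.wts
  have fr := H90.E72Frob.frob
  have c3 := H85.E72C.c3
  have sc := H79.E72Lin.scott
  have cnt := H50.E72.cnt'
  have gd := H50.E72.good'
  have lb := H69.E72L43b.l43b wt kit
  have la := H50.E72.l43a c3 cnt kit
  have eU := H83.E72EmbU.embU F₉ h9
  have eG := H59.E72EmbG.embG
  obtain ⟨n1, n3, nA⟩ := H50.E72.noMax3 H50.E72.finA' H50.E72.finA' H3.E72Num.num h19
    (H50.E72.fix19 kit sc H50.E72.c5' H31.E72Emb19.emb19 F₁₉ h19)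
    (H64.E72L43.l43 la lb (H72.E72L43c.l43c lb))
    (H94.E72A13.a13 (H51.E72A13a.a13a c3 cnt kit) (H94.E72A13.a13b fr) H68.E72A1.embA1
      H26.E72EmbA2.embA2 sc H50.E72.p13' kit)
  exact H50.E72.final H hH n1
    (H50.E72.finB' F₂₇ h27 (H50.E72.fix27 (H15.E72D27.d27 c3 cnt wt fr kit H50.E72.p13')
      H81.E72Sum.sum27 H80.E72Span.span27 H81.E72Sum.end27 H39.Emb27.emb27 F₂₇ h27))
    n3 eU H7.E72O.embO (H61.E72NoQ.noQ gd c3 cnt kit) eG
    (H36.E72NoG.noG gd c3 cnt wt H79.E72Lin.div3 kit) nA H60.E72J.embJ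
    (H49.E72NoJ.noJ H53.E72Syl5.syl5 H49.E72NoJ.inv5) (H37.E72Emb8.emb8 F₈ h8)
    (H33.E72No8.no8 gd H50.E72.c9' wt kit fr)

end Cfsg.Agent.S5935
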